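import Mathlib

set_option autoImplicit false

namespace Cfsg.Agent.Helper2

section
variable {G : Type*} [Group G]

theorem mul_self_of_orderOf_two {x : G} (hx : orderOf x = 2) : x * x = 1 := by
  have := pow_orderOf_eq_one x
  rwa [hx, pow_two] at this

theorem inv_eq_self_of_orderOf_two {x : G} (hx : orderOf x = 2) : x⁻¹ = x :=
  inv_eq_of_mul_eq_one_right (mul_self_of_orderOf_two hx)

theorem ne_one_of_orderOf_two {x : G} (hx : orderOf x = 2) : x ≠ 1 := by
  rintro rfl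
  simp at hx

theorem orderOf_two_iff {x : G} : orderOf x = 2 ↔ x * x = 1 ∧ x ≠ 1 := by
  constructor
  · intro h
    exact ⟨mul_self_of_orderOf_two h, ne_one_of_orderOf_two h⟩
  · rintro ⟨h1, h2⟩
    have : Fact (Nat.Prime 2) := ⟨Nat.prime_two⟩
    apply orderOf_eq_prime
    · rwa [pow_two]
    · exact h2

/-- x inverts z = x*y by conjugation -/
theorem invol_conj_mul {x y : G} (hx : x * x = 1) (hy : y * y = 1) :
    x * (x * y) * x⁻¹ = (x * y)⁻¹ := by
  have hxinv : x⁻¹ = x := inv_eq_of_mul_eq_one_right hx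
  have hyinv : y⁻¹ = y := inv_eq_of_mul_eq_one_right hy
  rw [mul_inv_rev, hxinv, hyinv, ← mul_assoc, hx, one_mul]

theorem invol_conj_zpow {x y : G} (hx : x * x = 1) (hy : y * y = 1) (j : ℤ) :
    x * (x * y) ^ j * x⁻¹ = (x * y) ^ (-j) := by
  rw [← conj_zpow, invol_conj_mul hx hy, inv_zpow, zpow_neg]

theorem invol_mul_zpow {x y : G} (hx : x * x = 1) (hy : y * y = 1) (j : ℤ) :
    x * (x * y) ^ j = (x * y) ^ (-j) * x := by
  rw [← invol_conj_zpow hx hy j, inv_mul_cancel_right]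

theorem invol_y_eq {x y : G} (hy : y * y = 1) :
    y = (x * y) ^ (-1 : ℤ) * x := by
  have hyinv : y⁻¹ = y := inv_eq_of_mul_eq_one_right hy
  rw [zpow_neg, zpow_one, mul_inv_rev, inv_mul_cancel_right, hyinv]

/-- Every element of the subgroup generated by two involutions is `z^j` or `z^j * x`. -/
theorem invol_closure_form {x y : G} (hx : x * x = 1) (hy : y * y = 1) {d : G}
    (hd : d ∈ Subgroup.closure ({x, y} : Set G)) :
    ∃ j : ℤ, d = (x * y) ^ j ∨ d = (x * y) ^ j * x := by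
  have hxinv : x⁻¹ = x := inv_eq_of_mul_eq_one_right hx
  induction hd using Subgroup.closure_induction with
  | mem a ha =>
    rcases ha with rfl | rfl
    · exact ⟨0, Or.inr (by simp)⟩
    · exact ⟨-1, Or.inr (invol_y_eq hy)⟩
  | one => exact ⟨0, Or.inl (by simp)⟩
  | mul a b _ _ iha ihb =>
    obtain ⟨j, rfl | rfl⟩ := iha <;> obtain ⟨k, rfl | rfl⟩ := ihb
    · exact ⟨j + k, Or.inl (by rw [zpow_add])⟩
    · exact ⟨j + k, Or.inr (by rw [zpow_add, mul_assoc])⟩
    · refine ⟨j - k, Or.inr ?_⟩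
      rw [mul_assoc, invol_mul_zpow hx hy, ← mul_assoc, ← zpow_add, sub_eq_add_neg]
    · refine ⟨j - k, Or.inl ?_⟩
      rw [mul_assoc, ← mul_assoc x, invol_mul_zpow hx hy, mul_assoc, hx, mul_one, ← zpow_add,
        sub_eq_add_neg]
  | inv a _ iha =>
    obtain ⟨j, rfl | rfl⟩ := iha
    · exact ⟨-j, Or.inl (by rw [zpow_neg])⟩
    · refine ⟨j, Or.inr ?_⟩
      rw [mul_inv_rev, hxinv, ← zpow_neg, invol_mul_zpow hx hy, neg_neg]

/-- All conjugates of `x` under the subgroup generated by `x, y` have the form `z^(2j) x`. -/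
theorem invol_closure_conj {x y : G} (hx : x * x = 1) (hy : y * y = 1) {d : G}
    (hd : d ∈ Subgroup.closure ({x, y} : Set G)) :
    ∃ j : ℤ, d * x * d⁻¹ = (x * y) ^ (2 * j) * x := by
  have hxinv : x⁻¹ = x := inv_eq_of_mul_eq_one_right hx
  obtain ⟨j, rfl | rfl⟩ := invol_closure_form hx hy hd
  · refine ⟨j, ?_⟩
    rw [mul_assoc, ← zpow_neg, invol_mul_zpow hx hy, neg_neg, ← mul_assoc, ← zpow_add, two_mul]
  · refine ⟨j, ?_⟩
    rw [mul_inv_rev, hxinv, mul_assoc ((x * y) ^ j), hx, mul_one, ← mul_assoc, mul_assoc,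
      ← zpow_neg, invol_mul_zpow hx hy, neg_neg, ← mul_assoc, ← zpow_add, two_mul]

theorem invol_zpow_mem_closure {x y : G} (j : ℤ) :
    (x * y) ^ j ∈ Subgroup.closure ({x, y} : Set G) :=
  Subgroup.zpow_mem _ (Subgroup.mul_mem _ (Subgroup.subset_closure (by simp))
    (Subgroup.subset_closure (by simp))) j

theorem invol_conj_by_zpow {x y : G} (hx : x * x = 1) (hy : y * y = 1) (j : ℤ) :
    (x * y) ^ j * x * ((x * y) ^ j)⁻¹ = (x * y) ^ (2 * j) * x := by
  rw [mul_assoc, ← zpow_neg, invol_mul_zpow hx hy, neg_neg, ← mul_assoc, ← zpow_add, two_mul]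


theorem invol_conj_mul' {x y : G} (hx : x * x = 1) (hy : y * y = 1) :
    y * (x * y) * y⁻¹ = (x * y)⁻¹ := by
  have hxinv : x⁻¹ = x := inv_eq_of_mul_eq_one_right hx
  have hyinv : y⁻¹ = y := inv_eq_of_mul_eq_one_right hy
  rw [mul_inv_rev, hxinv, hyinv, mul_assoc, mul_assoc, hy, mul_one]

theorem invol_conj_zpow' {x y : G} (hx : x * x = 1) (hy : y * y = 1) (j : ℤ) :
    y * (x * y) ^ j * y⁻¹ = (x * y) ^ (-j) := by
  rw [← conj_zpow, invol_conj_mul' hx hy, inv_zpow, zpow_neg]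

/-- the central involution `z = (xy)^(n/2)` -/
theorem invol_half_pow {x y : G} (hx : x * x = 1) (hy : y * y = 1)
    (hpos : 0 < orderOf (x * y)) (heven : Even (orderOf (x * y))) :
    orderOf ((x * y) ^ (orderOf (x * y) / 2)) = 2 ∧
      Commute ((x * y) ^ (orderOf (x * y) / 2)) x ∧
      Commute ((x * y) ^ (orderOf (x * y) / 2)) y := by
  obtain ⟨m, hm⟩ := heven
  have hm' : orderOf (x * y) = 2 * m := by omega
  have hmpos : 0 < m := by omega
  have hdiv : orderOf (x * y) / 2 = m := by omega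
  rw [hdiv]
  have hord : orderOf ((x * y) ^ m) = 2 := by
    rw [orderOf_pow' _ hmpos.ne', hm', Nat.gcd_eq_right (Dvd.intro_left 2 rfl)]
    exact Nat.mul_div_cancel _ hmpos
  have hz2 := mul_self_of_orderOf_two hord
  have hzinv := inv_eq_self_of_orderOf_two hord
  refine ⟨hord, ?_, ?_⟩
  · have h := invol_conj_zpow hx hy (m : ℤ)
    rw [zpow_neg, zpow_natCast, hzinv] at h
    have : x * (x * y) ^ m = (x * y) ^ m * x := by
      conv_rhs => rw [← h, inv_mul_cancel_right]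
    exact this.symm
  · have h := invol_conj_zpow' hx hy (m : ℤ)
    rw [zpow_neg, zpow_natCast, hzinv] at h
    have : y * (x * y) ^ m = (x * y) ^ m * y := by
      conv_rhs => rw [← h, inv_mul_cancel_right]
    exact this.symm


/-- if `g` inverts `x` then `g^2` centralizes `x` -/
theorem inverting_sq_commute {g x : G} (h : g * x * g⁻¹ = x⁻¹) : Commute (g ^ 2) x := by
  have h2 : g * x⁻¹ * g⁻¹ = x := by
    have e : g * x⁻¹ * g⁻¹ = (g * x * g⁻¹)⁻¹ := by simp [mul_assoc]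
    rw [e, h, inv_inv]
  show g ^ 2 * x = x * g ^ 2
  calc g ^ 2 * x = g * (g * x * g⁻¹) * g := by simp [pow_two, mul_assoc]
    _ = g * x⁻¹ * g⁻¹ * g ^ 2 := by rw [h]; simp [pow_two, mul_assoc]
    _ = x * g ^ 2 := by rw [h2]

theorem inverting_even_pow {g x : G} (h : g * x * g⁻¹ = x⁻¹) (k : ℕ) :
    Commute (g ^ (2 * k)) x := by
  rw [pow_mul]
  exact (inverting_sq_commute h).pow_left k

theorem inverting_odd_pow {g x : G} (h : g * x * g⁻¹ = x⁻¹) (k : ℕ) :
    g ^ (2 * k + 1) * x * (g ^ (2 * k + 1))⁻¹ = x⁻¹ := by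
  have hc := (inverting_even_pow h k).eq
  rw [pow_succ, mul_inv_rev]
  calc g ^ (2 * k) * g * x * (g⁻¹ * (g ^ (2 * k))⁻¹)
      = g ^ (2 * k) * (g * x * g⁻¹) * (g ^ (2 * k))⁻¹ := by group
    _ = g ^ (2 * k) * x⁻¹ * (g ^ (2 * k))⁻¹ := by rw [h]
    _ = x⁻¹ := by
      rw [mul_inv_eq_iff_eq_mul]
      have := (inverting_even_pow h k).inv_right.eq
      exact this

end

end Cfsg.Agent.Helper2
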