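import Mathlib
import Cfsg.Agent.Helper11.DihedralLift

/-!
Homomorphisms out of `QuaternionGroup n` from a pair `a, b` with `a ^ (2n) = 1`, `b * b = a ^ n`,
`b * a * b⁻¹ = a⁻¹`, and a recognition criterion for (generalised) quaternion groups.
-/

set_option autoImplicit false

namespace Cfsg.Agent.Helper2.QLift

open Cfsg.Agent.Helper11

variable {H : Type*} [Group H]

/-- shorthand: `a ^ i` for `i : ZMod (2n)` -/
noncomputable def zp (n : ℕ) (a : H) (ha : a ^ (2 * n) = 1) (i : ZMod (2 * n)) : H :=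
  (zmodPow (2 * n) a ha i).toMul

theorem zp_eq_zpow (n : ℕ) (a : H) (ha : a ^ (2 * n) = 1) (i : ZMod (2 * n)) :
    zp n a ha i = a ^ (ZMod.cast i : ℤ) := zmodPow_eq_zpow _ a ha i

theorem zp_mem_zpowers (n : ℕ) (a : H) (ha : a ^ (2 * n) = 1) (i : ZMod (2 * n)) :
    zp n a ha i ∈ Subgroup.zpowers a := by
  rw [zp_eq_zpow]; exact Subgroup.zpow_mem_zpowers a _

theorem zp_add (n : ℕ) (a : H) (ha : a ^ (2 * n) = 1) (i j : ZMod (2 * n)) :
    zp n a ha (i + j) = zp n a ha i * zp n a ha j := zmodPow_add _ a ha i j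

theorem zp_zero (n : ℕ) (a : H) (ha : a ^ (2 * n) = 1) : zp n a ha 0 = 1 := zmodPow_zero _ a ha

theorem zp_neg (n : ℕ) (a : H) (ha : a ^ (2 * n) = 1) (i : ZMod (2 * n)) :
    zp n a ha (-i) = (zp n a ha i)⁻¹ := zmodPow_neg _ a ha i

theorem zp_comm (n : ℕ) (a : H) (ha : a ^ (2 * n) = 1) (i j : ZMod (2 * n)) :
    zp n a ha i * zp n a ha j = zp n a ha j * zp n a ha i := by
  rw [← zp_add, ← zp_add, add_comm]

theorem zp_natCast (n : ℕ) (a : H) (ha : a ^ (2 * n) = 1) (k : ℕ) :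
    zp n a ha (k : ZMod (2 * n)) = a ^ k := by
  have := zmodPow_intCast (2 * n) a ha (k : ℤ)
  rw [Int.cast_natCast, zpow_natCast] at this
  exact this

theorem conj_zp (n : ℕ) (a b : H) (ha : a ^ (2 * n) = 1) (hab : b * a * b⁻¹ = a⁻¹)
    (i : ZMod (2 * n)) : b * zp n a ha i * b⁻¹ = (zp n a ha i)⁻¹ := by
  rw [zp_eq_zpow]
  have h1 : b * a ^ (ZMod.cast i : ℤ) * b⁻¹ = (b * a * b⁻¹) ^ (ZMod.cast i : ℤ) := by
    rw [conj_zpow]
  rw [hab, inv_zpow] at h1
  exact h1

theorem zp_mul_b (n : ℕ) (a b : H) (ha : a ^ (2 * n) = 1) (hab : b * a * b⁻¹ = a⁻¹)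
    (i : ZMod (2 * n)) : zp n a ha i * b = b * (zp n a ha i)⁻¹ := by
  have h := conj_zp n a b ha hab (-i)
  rw [zp_neg, inv_inv] at h
  calc zp n a ha i * b = (b * (zp n a ha i)⁻¹ * b⁻¹) * b := by rw [h]
    _ = b * (zp n a ha i)⁻¹ := by group

/-- The homomorphism `QuaternionGroup n →* H` with `a i ↦ a ^ i`, `xa i ↦ b * a ^ i`. -/
noncomputable def quaternionLift (n : ℕ) (a b : H) (ha : a ^ (2 * n) = 1) (hb : b * b = a ^ n)
    (hab : b * a * b⁻¹ = a⁻¹) : QuaternionGroup n →* H where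
  toFun x := match x with
    | .a i => zp n a ha i
    | .xa i => b * zp n a ha i
  map_one' := by
    rw [QuaternionGroup.one_def]
    exact zp_zero n a ha
  map_mul' := by
    rintro (i | i) (j | j)
    · rw [QuaternionGroup.a_mul_a]
      exact zp_add n a ha i j
    · rw [QuaternionGroup.a_mul_xa]
      change b * zp n a ha (j - i) = zp n a ha i * (b * zp n a ha j)
      rw [← mul_assoc, zp_mul_b n a b ha hab, sub_eq_neg_add, zp_add, zp_neg, mul_assoc]
    · rw [QuaternionGroup.xa_mul_a]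
      change b * zp n a ha (i + j) = b * zp n a ha i * zp n a ha j
      rw [zp_add, mul_assoc]
    · rw [QuaternionGroup.xa_mul_xa]
      change zp n a ha ((n : ZMod (2 * n)) + j - i) = b * zp n a ha i * (b * zp n a ha j)
      have h1 : b * zp n a ha i * (b * zp n a ha j) =
          b * (zp n a ha i * b) * zp n a ha j := by group
      rw [h1, zp_mul_b n a b ha hab, ← mul_assoc, hb, ← zp_natCast n a ha n, sub_eq_add_neg,
        zp_add, zp_add, zp_neg, mul_assoc, mul_assoc]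
      congr 1
      rw [← zp_neg, zp_comm]

theorem quaternionLift_a (n : ℕ) (a b : H) (ha : a ^ (2 * n) = 1) (hb : b * b = a ^ n)
    (hab : b * a * b⁻¹ = a⁻¹) (i : ZMod (2 * n)) :
    quaternionLift n a b ha hb hab (QuaternionGroup.a i) = zp n a ha i := rfl

theorem quaternionLift_xa (n : ℕ) (a b : H) (ha : a ^ (2 * n) = 1) (hb : b * b = a ^ n)
    (hab : b * a * b⁻¹ = a⁻¹) (i : ZMod (2 * n)) :
    quaternionLift n a b ha hb hab (QuaternionGroup.xa i) = b * zp n a ha i := rfl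

theorem range_le (n : ℕ) (a b : H) (ha : a ^ (2 * n) = 1) (hb : b * b = a ^ n)
    (hab : b * a * b⁻¹ = a⁻¹) (K : Subgroup H) (haK : a ∈ K) (hbK : b ∈ K) :
    (quaternionLift n a b ha hb hab).range ≤ K := by
  rintro _ ⟨x, rfl⟩
  have hz : ∀ i, zp n a ha i ∈ K := fun i =>
    (Subgroup.zpowers_le.mpr haK) (zp_mem_zpowers n a ha i)
  rcases x with i | i
  · exact hz i
  · exact K.mul_mem hbK (hz i)

theorem a_mem_range (n : ℕ) (a b : H) (ha : a ^ (2 * n) = 1) (hb : b * b = a ^ n)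
    (hab : b * a * b⁻¹ = a⁻¹) : a ∈ (quaternionLift n a b ha hb hab).range := by
  refine ⟨QuaternionGroup.a 1, ?_⟩
  rw [quaternionLift_a]
  have := zp_natCast n a ha 1
  rw [Nat.cast_one, pow_one] at this
  exact this

theorem b_mem_range (n : ℕ) (a b : H) (ha : a ^ (2 * n) = 1) (hb : b * b = a ^ n)
    (hab : b * a * b⁻¹ = a⁻¹) : b ∈ (quaternionLift n a b ha hb hab).range := by
  refine ⟨QuaternionGroup.xa 0, ?_⟩
  rw [quaternionLift_xa, zp_zero, mul_one]

/-- If moreover `orderOf a = 2n` and `b ∉ ⟨a⟩` then the lift is injective. -/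
theorem quaternionLift_injective (n : ℕ) (a b : H) (ha : a ^ (2 * n) = 1) (hb : b * b = a ^ n)
    (hab : b * a * b⁻¹ = a⁻¹) (hn : orderOf a = 2 * n) (hba : b ∉ Subgroup.zpowers a) :
    Function.Injective (quaternionLift n a b ha hb hab) := by
  rw [injective_iff_map_eq_one]
  rintro (i | i) hx
  · rw [quaternionLift_a, zp_eq_zpow] at hx
    have h1 : (orderOf a : ℤ) ∣ (ZMod.cast i : ℤ) := orderOf_dvd_iff_zpow_eq_one.2 hx
    rw [hn] at h1
    have h2 : ((ZMod.cast i : ℤ) : ZMod (2 * n)) = 0 :=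
      (ZMod.intCast_zmod_eq_zero_iff_dvd _ (2 * n)).2 h1
    rw [ZMod.intCast_zmod_cast] at h2
    rw [h2, QuaternionGroup.one_def]
  · exfalso
    rw [quaternionLift_xa] at hx
    apply hba
    have h1 : b = (zp n a ha i)⁻¹ := eq_inv_of_mul_eq_one_left hx
    rw [h1]
    exact (Subgroup.zpowers a).inv_mem (zp_mem_zpowers n a ha i)

/-- Recognition: a group of order `4n` containing `a` of order `2n` and `b ∉ ⟨a⟩` with
`b² = a ^ n`, `b a b⁻¹ = a⁻¹` is isomorphic to `QuaternionGroup n`. -/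
theorem nonempty_mulEquiv_quaternionGroup [Finite H] (n : ℕ) [NeZero n]
    (hcard : Nat.card H = 4 * n) (a b : H)
    (hn : orderOf a = 2 * n) (hb : b * b = a ^ n) (hab : b * a * b⁻¹ = a⁻¹)
    (hba : b ∉ Subgroup.zpowers a) :
    Nonempty (H ≃* QuaternionGroup n) := by
  have ha : a ^ (2 * n) = 1 := by rw [← hn]; exact pow_orderOf_eq_one a
  have hinj := quaternionLift_injective n a b ha hb hab hn hba
  have hbij : Function.Bijective (quaternionLift n a b ha hb hab) :=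
    hinj.bijective_of_nat_card_le (by
      rw [hcard, Nat.card_eq_fintype_card, QuaternionGroup.card])
  exact ⟨(MulEquiv.ofBijective _ hbij).symm⟩

/-- `b ∉ ⟨a⟩` follows when `a² ≠ 1`. -/
theorem not_mem_zpowers_of_sq_ne (a b : H) (hab : b * a * b⁻¹ = a⁻¹) (h2 : a ^ 2 ≠ 1) :
    b ∉ Subgroup.zpowers a := by
  intro hb
  obtain ⟨k, rfl⟩ := Subgroup.mem_zpowers_iff.mp hb
  apply h2
  have h1 : a ^ k * a * (a ^ k)⁻¹ = a := by
    rw [← zpow_add_one, ← zpow_neg, ← zpow_add]; simp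
  rw [h1] at hab
  calc a ^ 2 = a * a := pow_two a
    _ = a * a⁻¹ := by rw [← hab]
    _ = 1 := mul_inv_cancel a

end Cfsg.Agent.Helper2.QLift
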