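import Cfsg.Agent.Helper2.GL2Sylow
import Cfsg.Agent.S0263

/-! Sylow `p`-subgroups of `GL₂(q)` in the defining characteristic: conjugacy to the unitriangular
group and consequences. -/

namespace Cfsg.Agent.Helper2.GL2

open Matrix
open scoped Pointwise

variable {F : Type*} [Field F] [Fintype F] (p : ℕ) [Fact p.Prime] [CharP F p]

theorem exists_sylow_eq_U : ∃ P0 : Sylow p (GL (Fin 2) F), (P0 : Subgroup (GL (Fin 2) F)) = U := by
  obtain ⟨P⟩ : Nonempty (Sylow p (GL (Fin 2) F)) := inferInstance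
  have h1 := Cfsg.Agent.S0263.result (F := F) rfl p 2 P
  have h2 := Sylow.card_eq_multiplicity P
  have h3 : Nat.card (U : Subgroup (GL (Fin 2) F)) =
      p ^ (Nat.card (GL (Fin 2) F)).factorization p := by
    rw [card_U, Nat.card_eq_fintype_card, ← h2, h1]; norm_num
  exact ⟨Sylow.ofCard U h3, rfl⟩

omit [Fact (Nat.Prime p)] in
theorem mem_smul_sylow_iff {G : Type*} [Group G] [Finite G] (P0 : Sylow p G) (g h : G) :
    h ∈ g • P0 ↔ g⁻¹ * h * g ∈ P0 := by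
  show h ∈ MulAut.conj g • (P0 : Subgroup G) ↔ g⁻¹ * h * g ∈ (P0 : Subgroup G)
  rw [Subgroup.mem_pointwise_smul_iff_inv_smul_mem]
  simp [MulAut.smul_def]

theorem exists_conj (P : Sylow p (GL (Fin 2) F)) :
    ∃ g : GL (Fin 2) F, ∀ h, h ∈ P ↔ g⁻¹ * h * g ∈ (U : Subgroup (GL (Fin 2) F)) := by
  obtain ⟨P0, hP0⟩ := exists_sylow_eq_U (F := F) p
  obtain ⟨g, rfl⟩ := MulAction.exists_smul_eq (GL (Fin 2) F) P0 P
  refine ⟨g, fun h => ?_⟩
  rw [mem_smul_sylow_iff, ← hP0]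
  rfl

theorem card_normalizer_sylow (P : Sylow p (GL (Fin 2) F)) :
    Nat.card (Subgroup.normalizer ((P : Subgroup (GL (Fin 2) F)) : Set (GL (Fin 2) F))) =
      Fintype.card F * (Fintype.card F - 1) ^ 2 := by
  obtain ⟨P0, hP0⟩ := exists_sylow_eq_U (F := F) p
  have h1 : Nat.card (Sylow p (GL (Fin 2) F)) = (Subgroup.normalizer
      ((P : Subgroup (GL (Fin 2) F)) : Set (GL (Fin 2) F))).index := Sylow.card_eq_index_normalizer P
  have h2 : Nat.card (Sylow p (GL (Fin 2) F)) = (Subgroup.normalizer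
      ((P0 : Subgroup (GL (Fin 2) F)) : Set (GL (Fin 2) F))).index :=
    Sylow.card_eq_index_normalizer P0
  have h3 := Subgroup.card_mul_index
    (Subgroup.normalizer ((P : Subgroup (GL (Fin 2) F)) : Set (GL (Fin 2) F)))
  have h4 := Subgroup.card_mul_index
    (Subgroup.normalizer ((P0 : Subgroup (GL (Fin 2) F)) : Set (GL (Fin 2) F)))
  rw [← h1] at h3
  rw [← h2, ← h3] at h4
  have hpos : 0 < Nat.card (Sylow p (GL (Fin 2) F)) := Nat.card_pos
  have h5 := Nat.eq_of_mul_eq_mul_right hpos h4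
  rw [← h5, hP0, card_normalizer_U]

theorem card_GL2 : Nat.card (GL (Fin 2) F) =
    (Fintype.card F ^ 2 - 1) * (Fintype.card F ^ 2 - Fintype.card F) := by
  rw [Matrix.card_GL_field, Fin.prod_univ_two]
  simp

theorem card_sylow_GL2 : Nat.card (Sylow p (GL (Fin 2) F)) = Fintype.card F + 1 := by
  obtain ⟨P⟩ : Nonempty (Sylow p (GL (Fin 2) F)) := inferInstance
  have h1 : Nat.card (Sylow p (GL (Fin 2) F)) = (Subgroup.normalizer
      ((P : Subgroup (GL (Fin 2) F)) : Set (GL (Fin 2) F))).index := Sylow.card_eq_index_normalizer P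
  have h3 := Subgroup.card_mul_index
    (Subgroup.normalizer ((P : Subgroup (GL (Fin 2) F)) : Set (GL (Fin 2) F)))
  rw [← h1, card_normalizer_sylow, card_GL2] at h3
  have hq : 2 ≤ Fintype.card F := Fintype.one_lt_card
  obtain ⟨k, hk⟩ : ∃ k, Fintype.card F = k + 2 := ⟨Fintype.card F - 2, by omega⟩
  rw [hk] at h3 ⊢
  have e1 : (k + 2) ^ 2 - 1 = (k + 1) * (k + 3) := by
    have : (k + 2) ^ 2 = (k + 1) * (k + 3) + 1 := by ring
    omega
  have e2 : (k + 2) ^ 2 - (k + 2) = (k + 2) * (k + 1) := by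
    have : (k + 2) ^ 2 = (k + 2) * (k + 1) + (k + 2) := by ring
    omega
  have e3 : k + 2 - 1 = k + 1 := by omega
  rw [e1, e2, e3] at h3
  have hpos : 0 < (k + 2) * (k + 1) ^ 2 := by positivity
  have : (k + 2) * (k + 1) ^ 2 * Nat.card (Sylow p (GL (Fin 2) F)) =
      (k + 2) * (k + 1) ^ 2 * (k + 2 + 1) := by
    rw [h3]; ring
  exact Nat.eq_of_mul_eq_mul_left hpos this

theorem card_centralizer_of_mem (P : Sylow p (GL (Fin 2) F)) {a : GL (Fin 2) F} (ha : a ∈ P)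
    (ha1 : a ≠ 1) : Nat.card (Subgroup.centralizer ({a} : Set (GL (Fin 2) F))) =
      Fintype.card F * (Fintype.card F - 1) := by
  obtain ⟨g, hg⟩ := exists_conj p P
  obtain ⟨x, hx⟩ := mem_U_iff.mp ((hg a).mp ha)
  have hx0 : x ≠ 0 := by
    rintro rfl
    rw [u_zero] at hx
    apply ha1
    have : a = g * (g⁻¹ * a * g) * g⁻¹ := by group
    rw [this, ← hx]; group
  rw [← card_centralizer_u hx0]
  apply Nat.card_congr
  refine Equiv.subtypeEquiv (MulAut.conj g⁻¹).toEquiv (fun h => ?_)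
  rw [Subgroup.mem_centralizer_singleton_iff, Subgroup.mem_centralizer_singleton_iff, hx]
  simp only [MulEquiv.toEquiv_eq_coe, EquivLike.coe_coe, MulAut.conj_apply, inv_inv]
  constructor
  · intro h1
    have : g⁻¹ * h * g * (g⁻¹ * a * g) = g⁻¹ * (h * a) * g := by group
    rw [this, h1]; group
  · intro h1
    have e1 : h * a = g * (g⁻¹ * h * g * (g⁻¹ * a * g)) * g⁻¹ := by group
    rw [e1, h1]; group

theorem inf_eq_bot_of_ne (P Q : Sylow p (GL (Fin 2) F)) (hPQ : P ≠ Q) :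
    (P : Subgroup (GL (Fin 2) F)) ⊓ (Q : Subgroup (GL (Fin 2) F)) = ⊥ := by
  rw [eq_bot_iff]
  intro h hh
  rw [Subgroup.mem_bot]
  by_contra hne
  obtain ⟨hP, hQ⟩ := Subgroup.mem_inf.mp hh
  obtain ⟨g1, hg1⟩ := exists_conj p P
  obtain ⟨g2, hg2⟩ := exists_conj p Q
  obtain ⟨x, hx⟩ := mem_U_iff.mp ((hg1 h).mp hP)
  obtain ⟨y, hy⟩ := mem_U_iff.mp ((hg2 h).mp hQ)
  have hx0 : x ≠ 0 := by
    rintro rfl
    rw [u_zero] at hx
    apply hne
    have : h = g1 * (g1⁻¹ * h * g1) * g1⁻¹ := by group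
    rw [this, ← hx]; group
  have hk : u x * (g1⁻¹ * g2) = (g1⁻¹ * g2) * u y := by
    rw [hx, hy]; group
  have hk10 := tri_of_u_mul hx0 hk
  have hkN := mem_normalizer_U_iff.mpr hk10
  rw [Subgroup.mem_normalizer_iff] at hkN
  apply hPQ
  apply Sylow.ext
  ext h'
  show h' ∈ P ↔ h' ∈ Q
  rw [hg1, hg2, hkN (g2⁻¹ * h' * g2)]
  have e : g1⁻¹ * g2 * (g2⁻¹ * h' * g2) * (g1⁻¹ * g2)⁻¹ = g1⁻¹ * h' * g1 := by group
  rw [e]

end Cfsg.Agent.Helper2.GL2
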