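import Mathlib

set_option autoImplicit false

namespace Cfsg.Agent.Helper2

open Matrix

section
variable {ι : Type*} [Fintype ι] [DecidableEq ι] {F : Type*} [Field F]

theorem range_toGL_eq_ker_det :
    (SpecialLinearGroup.toGL : SpecialLinearGroup ι F →* GL ι F).range =
      (GeneralLinearGroup.det : GL ι F →* Fˣ).ker := by
  ext x
  rw [MonoidHom.mem_range, MonoidHom.mem_ker]
  have := Set.ext_iff.mp (SpecialLinearGroup.range_toGL (n := ι) (A := F)) x
  simpa using this

theorem card_SL_eq_card_ker_det :
    Nat.card (SpecialLinearGroup ι F) = Nat.card (GeneralLinearGroup.det : GL ι F →* Fˣ).ker := by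
  rw [← range_toGL_eq_ker_det]
  exact Nat.card_congr (MonoidHom.ofInjective SpecialLinearGroup.toGL_injective).toEquiv

theorem card_SL_mul_card_units [Nonempty ι] :
    Nat.card (SpecialLinearGroup ι F) * Nat.card Fˣ = Nat.card (GL ι F) := by
  rw [card_SL_eq_card_ker_det, ← Subgroup.card_mul_index (GeneralLinearGroup.det : GL ι F →* Fˣ).ker,
    Subgroup.index_ker, MonoidHom.range_eq_top.mpr GeneralLinearGroup.det_surjective]
  congr 1
  exact (Nat.card_congr Subgroup.topEquiv.toEquiv).symm

end


theorem card_rootsOfUnity_field {F : Type*} [Field F] [Finite F] (k : ℕ) :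
    Nat.card (rootsOfUnity k F) = Nat.gcd (Nat.card Fˣ) k := by
  rw [rootsOfUnity_eq_ker]
  exact IsCyclic.card_powMonoidHom_ker Fˣ k

theorem card_center_SL {F : Type*} [Field F] [Finite F] (n : ℕ) (hn : 1 ≤ n) :
    Nat.card (Subgroup.center (SpecialLinearGroup (Fin n) F)) = Nat.gcd n (Nat.card Fˣ) := by
  rw [Nat.card_congr (SpecialLinearGroup.center_equiv_rootsOfUnity (n := Fin n) (R := F)).toEquiv,
    card_rootsOfUnity_field, Fintype.card_fin, max_eq_left hn, Nat.gcd_comm]

theorem card_units_field {F : Type*} [Field F] [Fintype F] : Nat.card Fˣ = Fintype.card F - 1 := by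
  have := Nat.card_eq_card_units_add_one F
  rw [Nat.card_eq_fintype_card] at this
  omega

end Cfsg.Agent.Helper2
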