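import Cfsg.Agent.Helper2.Transvec
import Cfsg.Agent.Helper2.SLCard
import Cfsg.Agent.Helper2.GL2SylowThm

/-! Sylow `p`-subgroups of `SL₂(q)` in the defining characteristic. -/

set_option linter.unusedSectionVars false

namespace Cfsg.Agent.Helper2.SL2

open Matrix SpecialLinearGroup
open scoped Pointwise

variable {F : Type*} [Field F]

/-- upper unitriangular element -/
def u (x : F) : SpecialLinearGroup (Fin 2) F :=
  transvection (show (0 : Fin 2) ≠ 1 by decide) x

/-- lower unitriangular element -/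
def lo (x : F) : SpecialLinearGroup (Fin 2) F :=
  transvection (show (1 : Fin 2) ≠ 0 by decide) x

theorem sl_ext {g h : SpecialLinearGroup (Fin 2) F} (h00 : g 0 0 = h 0 0) (h01 : g 0 1 = h 0 1)
    (h10 : g 1 0 = h 1 0) (h11 : g 1 1 = h 1 1) : g = h := by
  apply Subtype.ext
  ext i j
  fin_cases i <;> fin_cases j <;> assumption

theorem mul_apply' (g h : SpecialLinearGroup (Fin 2) F) (i j : Fin 2) :
    (g * h) i j = g i 0 * h 0 j + g i 1 * h 1 j := by
  change (g.1 * h.1) i j = g.1 i 0 * h.1 0 j + g.1 i 1 * h.1 1 j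
  rw [Matrix.mul_apply, Fin.sum_univ_two]

@[simp] theorem u_00 (x : F) : (u x) 0 0 = 1 := by
  change (Matrix.transvection (0 : Fin 2) 1 x) 0 0 = 1
  simp [Matrix.transvection, Matrix.single]
@[simp] theorem u_01 (x : F) : (u x) 0 1 = x := by
  change (Matrix.transvection (0 : Fin 2) 1 x) 0 1 = x
  simp [Matrix.transvection, Matrix.single]
@[simp] theorem u_10 (x : F) : (u x) 1 0 = 0 := by
  change (Matrix.transvection (0 : Fin 2) 1 x) 1 0 = 0
  simp [Matrix.transvection, Matrix.single]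
@[simp] theorem u_11 (x : F) : (u x) 1 1 = 1 := by
  change (Matrix.transvection (0 : Fin 2) 1 x) 1 1 = 1
  simp [Matrix.transvection, Matrix.single]
@[simp] theorem lo_00 (x : F) : (lo x) 0 0 = 1 := by
  change (Matrix.transvection (1 : Fin 2) 0 x) 0 0 = 1
  simp [Matrix.transvection, Matrix.single]
@[simp] theorem lo_01 (x : F) : (lo x) 0 1 = 0 := by
  change (Matrix.transvection (1 : Fin 2) 0 x) 0 1 = 0
  simp [Matrix.transvection, Matrix.single]
@[simp] theorem lo_10 (x : F) : (lo x) 1 0 = x := by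
  change (Matrix.transvection (1 : Fin 2) 0 x) 1 0 = x
  simp [Matrix.transvection, Matrix.single]
@[simp] theorem lo_11 (x : F) : (lo x) 1 1 = 1 := by
  change (Matrix.transvection (1 : Fin 2) 0 x) 1 1 = 1
  simp [Matrix.transvection, Matrix.single]

theorem det_eq' (g : SpecialLinearGroup (Fin 2) F) : g 0 0 * g 1 1 - g 0 1 * g 1 0 = 1 := by
  rw [← Matrix.det_fin_two]; exact g.2

theorem inv_apply' (g : SpecialLinearGroup (Fin 2) F) :
    (g⁻¹) 0 0 = g 1 1 ∧ (g⁻¹) 0 1 = - g 0 1 ∧ (g⁻¹) 1 0 = - g 1 0 ∧ (g⁻¹) 1 1 = g 0 0 := by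
  change (Matrix.adjugate g.1) 0 0 = g.1 1 1 ∧ (Matrix.adjugate g.1) 0 1 = - g.1 0 1 ∧
    (Matrix.adjugate g.1) 1 0 = - g.1 1 0 ∧ (Matrix.adjugate g.1) 1 1 = g.1 0 0
  rw [Matrix.adjugate_fin_two]
  simp

theorem u_add (x y : F) : u (x + y) = u x * u y := by
  apply sl_ext <;> simp [mul_apply']
  ring

theorem u_zero : u (0 : F) = 1 := by
  apply sl_ext <;> simp

theorem u_injective : Function.Injective (u : F → SpecialLinearGroup (Fin 2) F) := by
  intro x y h
  have := congrArg (fun g : SpecialLinearGroup (Fin 2) F => g 0 1) h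
  simpa using this

/-- `u` as a homomorphism -/
def uHom : Multiplicative F →* SpecialLinearGroup (Fin 2) F where
  toFun x := u (Multiplicative.toAdd x)
  map_one' := u_zero
  map_mul' _ _ := u_add _ _

/-- the upper unitriangular subgroup -/
def U : Subgroup (SpecialLinearGroup (Fin 2) F) :=
  (uHom : Multiplicative F →* SpecialLinearGroup (Fin 2) F).range

theorem mem_U_iff {g : SpecialLinearGroup (Fin 2) F} : g ∈ U (F := F) ↔ ∃ x : F, u x = g := by
  constructor
  · rintro ⟨x, rfl⟩; exact ⟨Multiplicative.toAdd x, rfl⟩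
  · rintro ⟨x, rfl⟩; exact ⟨Multiplicative.ofAdd x, rfl⟩

theorem u_mem_U (x : F) : u x ∈ U (F := F) := mem_U_iff.mpr ⟨x, rfl⟩

theorem card_U [Finite F] : Nat.card (U (F := F)) = Nat.card F := by
  have hinj : Function.Injective (uHom : Multiplicative F →* SpecialLinearGroup (Fin 2) F) :=
    fun x y h => Multiplicative.toAdd.injective
      (u_injective (F := F) (a₁ := Multiplicative.toAdd x) (a₂ := Multiplicative.toAdd y) h)
  exact (Nat.card_congr (MonoidHom.ofInjective hinj).toEquiv).symm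

theorem diag_ne_zero {g : SpecialLinearGroup (Fin 2) F} (h : g 1 0 = 0) :
    g 0 0 ≠ 0 ∧ g 1 1 ≠ 0 := by
  have := det_eq' g
  rw [h, mul_zero, sub_zero] at this
  have h1 : g 0 0 * g 1 1 ≠ 0 := by rw [this]; exact one_ne_zero
  exact ⟨left_ne_zero_of_mul h1, right_ne_zero_of_mul h1⟩

theorem mul_u_of_tri {g : SpecialLinearGroup (Fin 2) F} (h : g 1 0 = 0) (y : F) :
    g * u y = u (g 0 0 * y / g 1 1) * g := by
  obtain ⟨ha, hd⟩ := diag_ne_zero h
  apply sl_ext <;> simp [mul_apply', h]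
  field_simp
  ring

/-- conjugating `u z` by `k` and then by a suitable `u x` gives a lower unitriangular matrix -/
theorem conj_eq_lo {k : SpecialLinearGroup (Fin 2) F} (hc : k 1 0 ≠ 0) (z : F) :
    u (-(k 0 0 / k 1 0)) * (k * u z * k⁻¹) * u (k 0 0 / k 1 0) = lo (-(k 1 0) ^ 2 * z) := by
  obtain ⟨i00, i01, i10, i11⟩ := inv_apply' k
  have hdet := det_eq' k
  apply sl_ext <;> simp [mul_apply', i00, i01, i10, i11] <;> field_simp <;>
    first | ring1 | linear_combination hdet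


/-- a subgroup containing `U` and a conjugate `k U k⁻¹` with `k` not upper triangular is
everything -/
theorem eq_top_of_U_le {H : Subgroup (SpecialLinearGroup (Fin 2) F)} (hU : U ≤ H)
    {k : SpecialLinearGroup (Fin 2) F} (hc : k 1 0 ≠ 0) (hk : ∀ z, k * u z * k⁻¹ ∈ H) :
    H = ⊤ := by
  have hlo : ∀ t, lo t ∈ H := by
    intro t
    have h1 := conj_eq_lo hc (-t / (k 1 0) ^ 2)
    have e : -(k 1 0) ^ 2 * (-t / (k 1 0) ^ 2) = t := by field_simp
    rw [e] at h1
    rw [← h1]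
    exact H.mul_mem (H.mul_mem (hU (u_mem_U _)) (hk _)) (hU (u_mem_U _))
  rw [eq_top_iff]
  intro g _
  refine SL_transvection_induction (fun g => g ∈ H) ?_ (fun A B hA hB => H.mul_mem hA hB) g
  intro i j hij c
  fin_cases i <;> fin_cases j
  · exact absurd rfl hij
  · exact hU (u_mem_U c)
  · exact hlo c
  · exact absurd rfl hij

section Sylow

variable [Fintype F] (p : ℕ) [Fact p.Prime] [CharP F p]

theorem card_SL2 : Nat.card (SpecialLinearGroup (Fin 2) F) =
    Fintype.card F * (Fintype.card F ^ 2 - 1) := by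
  have h1 := card_SL_mul_card_units (ι := Fin 2) (F := F)
  rw [GL2.card_GL2, card_units_field] at h1
  have hq : 2 ≤ Fintype.card F := Fintype.one_lt_card
  have h2 : Fintype.card F ^ 2 - Fintype.card F = Fintype.card F * (Fintype.card F - 1) := by
    rw [Nat.mul_sub, mul_one, sq]
  rw [h2] at h1
  have hpos : 0 < Fintype.card F - 1 := by omega
  apply Nat.eq_of_mul_eq_mul_right hpos
  rw [h1]; ring

theorem exists_sylow_eq_U :
    ∃ P0 : Sylow p (SpecialLinearGroup (Fin 2) F),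
      (P0 : Subgroup (SpecialLinearGroup (Fin 2) F)) = U := by
  have hp : p.Prime := Fact.out
  obtain ⟨f, _, hq⟩ := FiniteField.card F p
  have hndvd : ¬ p ∣ Fintype.card F ^ 2 - 1 := by
    intro h
    have h2 : p ∣ Fintype.card F ^ 2 := by
      rw [hq, ← pow_mul]; exact dvd_pow_self p (by positivity)
    have h3 : 1 ≤ Fintype.card F ^ 2 := Nat.one_le_pow _ _ Fintype.card_pos
    have h4 : p ∣ 1 := by
      have := Nat.dvd_sub h2 h
      rwa [Nat.sub_sub_self h3] at this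
    exact hp.one_lt.ne' (Nat.dvd_one.mp h4)
  have hne : Fintype.card F ^ 2 - 1 ≠ 0 := fun h => hndvd (h ▸ dvd_zero p)
  have h3 : Nat.card (U : Subgroup (SpecialLinearGroup (Fin 2) F)) =
      p ^ (Nat.card (SpecialLinearGroup (Fin 2) F)).factorization p := by
    rw [card_U, card_SL2, Nat.factorization_mul Fintype.card_ne_zero hne, Finsupp.add_apply,
      Nat.factorization_eq_zero_of_not_dvd hndvd, add_zero, Nat.card_eq_fintype_card]
    conv_rhs => rw [hq, Nat.Prime.factorization_pow hp, Finsupp.single_eq_same]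
    exact hq
  exact ⟨Sylow.ofCard U h3, rfl⟩

theorem exists_conj (P : Sylow p (SpecialLinearGroup (Fin 2) F)) :
    ∃ g : SpecialLinearGroup (Fin 2) F, ∀ h, h ∈ P ↔ g⁻¹ * h * g ∈
      (U : Subgroup (SpecialLinearGroup (Fin 2) F)) := by
  obtain ⟨P0, hP0⟩ := exists_sylow_eq_U (F := F) p
  obtain ⟨g, rfl⟩ := MulAction.exists_smul_eq (SpecialLinearGroup (Fin 2) F) P0 P
  refine ⟨g, fun h => ?_⟩
  rw [GL2.mem_smul_sylow_iff, ← hP0]
  rfl

theorem sup_eq_top_of_ne (P Q : Sylow p (SpecialLinearGroup (Fin 2) F)) (hPQ : P ≠ Q) :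
    (P : Subgroup (SpecialLinearGroup (Fin 2) F)) ⊔ (Q : Subgroup (SpecialLinearGroup (Fin 2) F)) =
      ⊤ := by
  obtain ⟨g1, hg1⟩ := exists_conj p P
  obtain ⟨g2, hg2⟩ := exists_conj p Q
  have hc : (g1⁻¹ * g2) 1 0 ≠ 0 := by
    intro h10
    apply hPQ
    apply Sylow.ext
    ext h'
    show h' ∈ P ↔ h' ∈ Q
    rw [hg1, hg2]
    obtain ⟨ha, hd⟩ := diag_ne_zero h10
    constructor
    · intro hh
      obtain ⟨x, hx⟩ := mem_U_iff.mp hh
      -- g2⁻¹ h' g2 = k⁻¹ (g1⁻¹ h' g1) k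
      have h1 := mul_u_of_tri h10 (x * (g1⁻¹ * g2) 1 1 / (g1⁻¹ * g2) 0 0)
      have e : (g1⁻¹ * g2) 0 0 * (x * (g1⁻¹ * g2) 1 1 / (g1⁻¹ * g2) 0 0) / (g1⁻¹ * g2) 1 1 = x := by
        field_simp
      rw [e, hx] at h1
      have h2 : g2⁻¹ * h' * g2 = u (x * (g1⁻¹ * g2) 1 1 / (g1⁻¹ * g2) 0 0) := by
        have h3 : (g1⁻¹ * g2) * u (x * (g1⁻¹ * g2) 1 1 / (g1⁻¹ * g2) 0 0) =
            (g1⁻¹ * g2) * (g2⁻¹ * h' * g2) := by rw [h1]; group
        exact (mul_left_cancel h3).symm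
      rw [h2]; exact u_mem_U _
    · intro hh
      obtain ⟨y, hy⟩ := mem_U_iff.mp hh
      have h1 := mul_u_of_tri h10 y
      rw [hy] at h1
      have h2 : g1⁻¹ * h' * g1 = u ((g1⁻¹ * g2) 0 0 * y / (g1⁻¹ * g2) 1 1) := by
        have h3 : g1⁻¹ * h' * g1 * (g1⁻¹ * g2) =
            u ((g1⁻¹ * g2) 0 0 * y / (g1⁻¹ * g2) 1 1) * (g1⁻¹ * g2) := by rw [← h1]; group
        exact mul_right_cancel h3
      rw [h2]; exact u_mem_U _
  -- the pulled-back subgroup
  have hH : ((P : Subgroup (SpecialLinearGroup (Fin 2) F)) ⊔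
      (Q : Subgroup (SpecialLinearGroup (Fin 2) F))).comap (MulAut.conj g1).toMonoidHom = ⊤ := by
    apply eq_top_of_U_le _ hc
    · intro z
      rw [Subgroup.mem_comap]
      apply Subgroup.mem_sup_right
      show _ ∈ Q
      rw [hg2]
      simp only [MulEquiv.coe_toMonoidHom, MulAut.conj_apply]
      have e : g2⁻¹ * (g1 * (g1⁻¹ * g2 * u z * (g1⁻¹ * g2)⁻¹) * g1⁻¹) * g2 = u z := by group
      rw [e]; exact u_mem_U z
    · intro h hh
      obtain ⟨x, rfl⟩ := mem_U_iff.mp hh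
      rw [Subgroup.mem_comap]
      apply Subgroup.mem_sup_left
      show _ ∈ P
      rw [hg1]
      simp only [MulEquiv.coe_toMonoidHom, MulAut.conj_apply]
      have e : g1⁻¹ * (g1 * u x * g1⁻¹) * g1 = u x := by group
      rw [e]; exact u_mem_U x
  rw [eq_top_iff]
  intro g _
  have h1 : g1⁻¹ * g * g1 ∈ ((P : Subgroup (SpecialLinearGroup (Fin 2) F)) ⊔
      (Q : Subgroup (SpecialLinearGroup (Fin 2) F))).comap (MulAut.conj g1).toMonoidHom := by
    rw [hH]; exact Subgroup.mem_top _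
  rw [Subgroup.mem_comap] at h1
  simp only [MulEquiv.coe_toMonoidHom, MulAut.conj_apply] at h1
  have e : g1 * (g1⁻¹ * g * g1) * g1⁻¹ = g := by group
  rwa [e] at h1

end Sylow

end Cfsg.Agent.Helper2.SL2
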