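import Mathlib
import Cfsg.Agent.Helper2.QuaternionLift
import Cfsg.Agent.Helper2.SL2Sylow

/-! `SL₂(3)` has a normal quaternion subgroup of index 3. -/

set_option autoImplicit false

namespace Cfsg.Agent.Helper2.SL23

open Matrix Cfsg.Agent.Helper2.QLift

abbrev G3 := SpecialLinearGroup (Fin 2) (ZMod 3)

def A3 : G3 := ⟨!![0, 1; -1, 0], by decide⟩
def B3 : G3 := ⟨!![1, 1; 1, -1], by decide⟩
def u3 : G3 := ⟨!![1, 1; 0, 1], by decide⟩
def l3 : G3 := ⟨!![1, 0; 1, 1], by decide⟩

theorem hA : A3 ^ (2 * 2) = 1 := by decide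
theorem hB : B3 * B3 = A3 ^ 2 := by decide
theorem hAB : B3 * A3 * B3⁻¹ = A3⁻¹ := by decide

/-- the quaternion subgroup -/
noncomputable def Q3 : Subgroup G3 := (quaternionLift 2 A3 B3 hA hB hAB).range

theorem A3_mem : A3 ∈ Q3 := a_mem_range 2 A3 B3 hA hB hAB
theorem B3_mem : B3 ∈ Q3 := b_mem_range 2 A3 B3 hA hB hAB

theorem orderOf_A3 : orderOf A3 = 2 * 2 := by
  have := orderOf_eq_prime_pow (x := A3) (p := 2) (n := 1) (by decide) (by decide)
  rw [this]; norm_num

theorem lift_injective : Function.Injective (quaternionLift 2 A3 B3 hA hB hAB) :=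
  quaternionLift_injective 2 A3 B3 hA hB hAB orderOf_A3
    (not_mem_zpowers_of_sq_ne A3 B3 hAB (by decide))

theorem card_Q3 : Nat.card Q3 = 8 := by
  have e : QuaternionGroup 2 ≃* Q3 := MonoidHom.ofInjective lift_injective
  rw [← Nat.card_congr e.toEquiv, Nat.card_eq_fintype_card, QuaternionGroup.card]

theorem conj_mem (g : G3) (h1 : g * A3 * g⁻¹ ∈ Q3) (h2 : g * B3 * g⁻¹ ∈ Q3) :
    ∀ h ∈ Q3, g * h * g⁻¹ ∈ Q3 := by
  have : Q3 ≤ Q3.comap (MulAut.conj g).toMonoidHom := by
    apply range_le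
    · exact h1
    · exact h2
  intro h hh
  exact this hh

theorem mem_normalizer_of_pow_three (g : G3) (hg : g ^ 3 = 1) (h1 : g * A3 * g⁻¹ ∈ Q3)
    (h2 : g * B3 * g⁻¹ ∈ Q3) : g ∈ Subgroup.normalizer (Q3 : Set G3) := by
  rw [Subgroup.mem_normalizer_iff]
  intro h
  constructor
  · exact conj_mem g h1 h2 h
  · intro hh
    have h3 := conj_mem g h1 h2 _ (conj_mem g h1 h2 _ hh)
    have e : g ^ 3 * h * (g ^ 3)⁻¹ = g * (g * (g * h * g⁻¹) * g⁻¹) * g⁻¹ := by
      simp only [pow_succ, pow_zero, one_mul, _root_.mul_inv_rev, mul_assoc]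
    rw [← e, hg] at h3
    simpa using h3

theorem u3_mem : u3 ∈ Subgroup.normalizer (Q3 : Set G3) := by
  apply mem_normalizer_of_pow_three u3 (by decide)
  · have : u3 * A3 * u3⁻¹ = A3 * A3 * B3 := by decide
    rw [this]
    exact Q3.mul_mem (Q3.mul_mem A3_mem A3_mem) B3_mem
  · have : u3 * B3 * u3⁻¹ = B3 * A3 := by decide
    rw [this]
    exact Q3.mul_mem B3_mem A3_mem

theorem l3_mem : l3 ∈ Subgroup.normalizer (Q3 : Set G3) := by
  apply mem_normalizer_of_pow_three l3 (by decide)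
  · have : l3 * A3 * l3⁻¹ = B3 * A3 := by decide
    rw [this]
    exact Q3.mul_mem B3_mem A3_mem
  · have : l3 * B3 * l3⁻¹ = A3 := by decide
    rw [this]
    exact A3_mem

theorem normalizer_eq_top : Subgroup.normalizer (Q3 : Set G3) = ⊤ := by
  rw [eq_top_iff]
  intro g _
  refine SL_transvection_induction (fun g => g ∈ Subgroup.normalizer (Q3 : Set G3)) ?_
    (fun A B hA hB => Subgroup.mul_mem _ hA hB) g
  intro i j hij c
  have hu : ∀ k : ℕ, u3 ^ k ∈ Subgroup.normalizer (Q3 : Set G3) :=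
    fun k => Subgroup.pow_mem _ u3_mem k
  have hl : ∀ k : ℕ, l3 ^ k ∈ Subgroup.normalizer (Q3 : Set G3) :=
    fun k => Subgroup.pow_mem _ l3_mem k
  have ku : ∀ c : ZMod 3, (Matrix.transvection (0 : Fin 2) 1 c) = (u3 ^ c.val).1 := by decide
  have kl : ∀ c : ZMod 3, (Matrix.transvection (1 : Fin 2) 0 c) = (l3 ^ c.val).1 := by decide
  fin_cases i <;> fin_cases j
  · exact absurd rfl hij
  · have : SpecialLinearGroup.transvection hij c = u3 ^ c.val := Subtype.ext (ku c)
    rw [this]; exact hu _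
  · have : SpecialLinearGroup.transvection hij c = l3 ^ c.val := Subtype.ext (kl c)
    rw [this]; exact hl _
  · exact absurd rfl hij

theorem Q3_normal : Q3.Normal := Subgroup.normalizer_eq_top_iff.mp normalizer_eq_top

theorem Q3_index : Q3.index = 3 := by
  have h := Q3.card_mul_index
  rw [card_Q3, SL2.card_SL2, ZMod.card] at h
  omega

/-- transport of `SL₂` along a ring isomorphism -/
noncomputable def slCongr {R S : Type*} [CommRing R] [CommRing S] (e : R ≃+* S) :
    SpecialLinearGroup (Fin 2) R ≃* SpecialLinearGroup (Fin 2) S where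
  toFun := SpecialLinearGroup.map e.toRingHom
  invFun := SpecialLinearGroup.map e.symm.toRingHom
  left_inv g := by
    apply Subtype.ext
    ext i j
    simp [SpecialLinearGroup.map_apply_coe]
  right_inv g := by
    apply Subtype.ext
    ext i j
    simp [SpecialLinearGroup.map_apply_coe]
  map_mul' := map_mul _

theorem exists_quaternion {F : Type*} [Field F] [Fintype F] (hF : Fintype.card F = 3) :
    ∃ Q : Subgroup (SpecialLinearGroup (Fin 2) F), Q.Normal ∧ Q.index = 3 ∧
      Nonempty (Q ≃* QuaternionGroup 2) := by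
  let e : ZMod 3 ≃+* F := ZMod.ringEquivOfPrime F Nat.prime_three hF
  let E : G3 ≃* SpecialLinearGroup (Fin 2) F := slCongr e
  refine ⟨Q3.map E.toMonoidHom, ?_, ?_, ⟨?_⟩⟩
  · exact Subgroup.Normal.map Q3_normal _ E.surjective
  · have := Subgroup.index_map_of_bijective (f := E.toMonoidHom) E.bijective Q3
    rw [this, Q3_index]
  · exact (E.subgroupMap Q3).symm.trans (MonoidHom.ofInjective lift_injective).symm

theorem card_center {F : Type*} [Field F] [Fintype F] (hF : Fintype.card F = 3) :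
    Nat.card (Subgroup.center (SpecialLinearGroup (Fin 2) F)) = 2 := by
  rw [card_center_SL 2 (by norm_num), card_units_field, hF]
  rfl

end Cfsg.Agent.Helper2.SL23
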