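import Mathlib

/-! Convolution with the hyperbolic plane: counting tools for quadratic forms over finite fields. -/

set_option autoImplicit false
set_option linter.unusedSectionVars false
set_option linter.unusedVariables false

namespace Cfsg.Agent.Helper2.Quad

open Finset

variable {F : Type*} [Field F] [Fintype F]

/-- convolution with the counting function of the hyperbolic plane -/
def S1 (f : F → ℕ) (x : F) : ℕ := ∑ p : F × F, f (x - p.1 * p.2)

theorem S1_eq (f : F → ℕ) (x : F) :
    S1 f x + ∑ y, f y = Fintype.card F * f x + Fintype.card F * ∑ y, f y := by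
  classical
  unfold S1
  rw [Fintype.sum_prod_type]
  have h1 : ∀ a : F, ∑ b : F, f (x - a * b) = if a = 0 then Fintype.card F * f x else ∑ y, f y := by
    intro a
    by_cases ha : a = 0
    · rw [if_pos ha, ha]
      simp
    · rw [if_neg ha]
      apply Fintype.sum_equiv ((Equiv.mulLeft₀ a ha).trans (Equiv.subLeft x))
      intro b
      simp
  rw [← Finset.add_sum_erase _ _ (Finset.mem_univ (0 : F)), h1 0, if_pos rfl]
  have h2 : ∑ a ∈ Finset.univ.erase (0 : F), ∑ b : F, f (x - a * b) =
      ∑ a ∈ Finset.univ.erase (0 : F), ∑ y, f y := by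
    apply Finset.sum_congr rfl
    intro a ha
    rw [h1 a, if_neg (Finset.ne_of_mem_erase ha)]
  rw [h2, Finset.sum_const, Finset.card_erase_of_mem (Finset.mem_univ _), Finset.card_univ,
    smul_eq_mul]
  have hq : 1 ≤ Fintype.card F := Fintype.card_pos
  obtain ⟨k, hk⟩ : ∃ k, Fintype.card F = k + 1 := ⟨Fintype.card F - 1, by omega⟩
  rw [hk, Nat.add_sub_cancel]
  ring

theorem sum_S1 (f : F → ℕ) : ∑ x, S1 f x = Fintype.card F ^ 2 * ∑ y, f y := by
  unfold S1
  rw [Finset.sum_comm]
  have : ∀ p : F × F, ∑ x, f (x - p.1 * p.2) = ∑ y, f y := by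
    intro p
    apply Fintype.sum_equiv (Equiv.subRight (p.1 * p.2))
    intro x; rfl
  rw [Finset.sum_congr rfl (fun p _ => this p), Finset.sum_const, Finset.card_univ,
    Fintype.card_prod, smul_eq_mul, sq]

theorem S1_injective (f g : F → ℕ) (h : ∀ x, S1 f x = S1 g x) : f = g := by
  have hq : 1 ≤ Fintype.card F := Fintype.card_pos
  have hs : ∑ y, f y = ∑ y, g y := by
    have h1 := sum_S1 f
    have h2 := sum_S1 g
    rw [Finset.sum_congr rfl (fun x _ => h x)] at h1
    rw [h1] at h2
    exact Nat.eq_of_mul_eq_mul_left (by positivity) h2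
  funext x
  have h1 := S1_eq f x
  have h2 := S1_eq g x
  rw [h x, hs] at h1
  have h3 : Fintype.card F * f x = Fintype.card F * g x := by omega
  exact Nat.eq_of_mul_eq_mul_left (by omega) h3

/-- the `k`-fold convolution -/
def Sk (k : ℕ) (f : F → ℕ) (x : F) : ℕ := ∑ p : Fin k → F × F, f (x - ∑ j, (p j).1 * (p j).2)

theorem Sk_zero (f : F → ℕ) (x : F) : Sk 0 f x = f x := by
  unfold Sk
  simp

theorem Sk_succ (k : ℕ) (f : F → ℕ) (x : F) : Sk (k + 1) f x = S1 (Sk k f) x := by
  unfold Sk S1
  rw [← Fintype.sum_prod_type']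
  apply Fintype.sum_equiv (Fin.consEquiv (fun _ => F × F)).symm
  intro v
  obtain ⟨⟨a, w⟩, rfl⟩ := (Fin.consEquiv (fun _ : Fin (k + 1) => F × F)).surjective v
  rw [Equiv.symm_apply_apply]
  simp only [Fin.consEquiv_apply, Fin.sum_univ_succ, Fin.cons_zero, Fin.cons_succ]
  congr 1
  ring

theorem Sk_injective (k : ℕ) (f g : F → ℕ) (h : ∀ x, Sk k f x = Sk k g x) : f = g := by
  induction k with
  | zero =>
    funext x
    have := h x
    rwa [Sk_zero, Sk_zero] at this
  | succ k ih =>
    apply ih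
    intro x
    have h1 : Sk k f = Sk k g := by
      apply S1_injective
      intro x
      have := h x
      rwa [Sk_succ, Sk_succ] at this
    rw [h1]

theorem Sk_add (j k : ℕ) (f : F → ℕ) : Sk (j + k) f = Sk k (Sk j f) := by
  induction k with
  | zero => funext x; rw [Sk_zero]; rfl
  | succ k ih =>
    funext x
    rw [← add_assoc, Sk_succ, Sk_succ, ih]

theorem sum_Sk (k : ℕ) (f : F → ℕ) : ∑ x, Sk k f x = Fintype.card F ^ (2 * k) * ∑ y, f y := by
  induction k with
  | zero => simp [Sk_zero]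
  | succ k ih =>
    rw [Finset.sum_congr rfl (fun x _ => Sk_succ k f x), sum_S1, ih]
    ring

theorem Sk_succ_zero (j : ℕ) (f : F → ℕ) :
    Sk (j + 1) f 0 + Fintype.card F ^ (2 * j) * ∑ y, f y =
      Fintype.card F * Sk j f 0 + Fintype.card F * (Fintype.card F ^ (2 * j) * ∑ y, f y) := by
  have e := S1_eq (Sk j f) 0
  rw [← Sk_succ, sum_Sk] at e
  exact e

/-- number of singular vectors, plus type -/
theorem Sk_zero_plus (f : F → ℕ) (h0 : f 0 = 1) (hs : ∑ y, f y = 1) (j : ℕ) :
    Sk j f 0 * Fintype.card F + Fintype.card F ^ j =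
      Fintype.card F ^ (2 * j) + Fintype.card F ^ (j + 1) := by
  induction j with
  | zero => rw [Sk_zero, h0]; simp; ring
  | succ j ih =>
    have e := Sk_succ_zero j f
    rw [hs] at e
    zify at e ih ⊢
    have e2 : ((Fintype.card F : ℤ)) ^ (2 * (j + 1)) = (Fintype.card F : ℤ) ^ 2 *
        (Fintype.card F : ℤ) ^ (2 * j) := by ring
    rw [e2]
    linear_combination (Fintype.card F : ℤ) * e + (Fintype.card F : ℤ) * ih

/-- number of singular vectors, odd-dimensional type -/
theorem Sk_zero_odd (f : F → ℕ) (h0 : f 0 = 1) (hs : ∑ y, f y = Fintype.card F) (j : ℕ) :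
    Sk j f 0 = Fintype.card F ^ (2 * j) := by
  induction j with
  | zero => rw [Sk_zero, h0]; simp
  | succ j ih =>
    have e := Sk_succ_zero j f
    rw [hs, ih] at e
    zify at e ⊢
    have e2 : ((Fintype.card F : ℤ)) ^ (2 * (j + 1)) = (Fintype.card F : ℤ) ^ 2 *
        (Fintype.card F : ℤ) ^ (2 * j) := by ring
    rw [e2]
    linear_combination e

/-- number of singular vectors, minus type -/
theorem Sk_zero_minus (f : F → ℕ) (h0 : f 0 = 1) (hs : ∑ y, f y = Fintype.card F ^ 2) (j : ℕ) :
    Sk j f 0 + Fintype.card F ^ (j + 1) = Fintype.card F ^ (2 * j + 1) + Fintype.card F ^ j := by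
  induction j with
  | zero => rw [Sk_zero, h0]; simp; ring
  | succ j ih =>
    have e := Sk_succ_zero j f
    rw [hs] at e
    zify at e ih ⊢
    have e2 : ((Fintype.card F : ℤ)) ^ (2 * (j + 1) + 1) = (Fintype.card F : ℤ) ^ 3 *
        (Fintype.card F : ℤ) ^ (2 * j) := by ring
    have e3 : ((Fintype.card F : ℤ)) ^ (2 * j + 1) = (Fintype.card F : ℤ) *
        (Fintype.card F : ℤ) ^ (2 * j) := by ring
    rw [e2]
    rw [e3] at ih
    linear_combination e + (Fintype.card F : ℤ) * ih

end Cfsg.Agent.Helper2.Quad
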