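import Mathlib
import Cfsg.Agent.Helper2.QuadCount

/-! Hyperbolic frames in a quadratic space over a finite field. -/

set_option autoImplicit false
set_option linter.unusedSectionVars false
set_option linter.unusedVariables false

namespace Cfsg.Agent.Helper2.Quad

open Finset QuadraticMap

variable {F : Type*} [Field F] {V : Type*} [AddCommGroup V] [Module F V]
  (Q : QuadraticForm F V)

theorem polar_sum_left {ι : Type*} (s : Finset ι) (f : ι → V) (y : V) :
    polar Q (∑ i ∈ s, f i) y = ∑ i ∈ s, polar Q (f i) y := by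
  classical
  induction s using Finset.induction_on with
  | empty => simp [polar_zero_left]
  | insert a s ha ih => rw [Finset.sum_insert ha, Finset.sum_insert ha, polar_add_left, ih]

theorem polar_sum_right {ι : Type*} (s : Finset ι) (x : V) (f : ι → V) :
    polar Q x (∑ i ∈ s, f i) = ∑ i ∈ s, polar Q x (f i) := by
  rw [polar_comm, polar_sum_left]
  exact Finset.sum_congr rfl (fun i _ => polar_comm _ _ _)

/-- a system of `k` mutually orthogonal hyperbolic pairs -/
structure IsHyp {k : ℕ} (c : Fin k → V × V) : Prop where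
  qe : ∀ i, Q (c i).1 = 0
  qf : ∀ i, Q (c i).2 = 0
  ee : ∀ i j, polar Q (c i).1 (c j).1 = 0
  ff : ∀ i j, polar Q (c i).2 (c j).2 = 0
  ef : ∀ i j, polar Q (c i).1 (c j).2 = if i = j then 1 else 0

variable {Q}

theorem IsHyp.fe {k : ℕ} {c : Fin k → V × V} (hc : IsHyp Q c) (i j : Fin k) :
    polar Q (c i).2 (c j).1 = if i = j then 1 else 0 := by
  rw [polar_comm, hc.ef j i]
  by_cases h : i = j
  · rw [if_pos h, if_pos h.symm]
  · rw [if_neg h, if_neg (Ne.symm h)]

variable (Q)

/-- the orthogonal complement of a frame -/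
def Perp {k : ℕ} (c : Fin k → V × V) : Submodule F V where
  carrier := {w | ∀ i, polar Q w (c i).1 = 0 ∧ polar Q w (c i).2 = 0}
  add_mem' {a b} ha hb i := by
    rw [polar_add_left, polar_add_left, (ha i).1, (ha i).2, (hb i).1, (hb i).2]
    simp
  zero_mem' i := by simp [polar_zero_left]
  smul_mem' a x hx i := by
    rw [polar_smul_left, polar_smul_left, (hx i).1, (hx i).2]
    simp

theorem mem_Perp {k : ℕ} (c : Fin k → V × V) (w : V) :
    w ∈ Perp Q c ↔ ∀ i, polar Q w (c i).1 = 0 ∧ polar Q w (c i).2 = 0 := Iff.rfl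

/-- linear combinations of a frame -/
def comb {k : ℕ} (c : Fin k → V × V) (p : Fin k → F × F) : V :=
  ∑ j, ((p j).1 • (c j).1 + (p j).2 • (c j).2)

variable {Q}

theorem polar_comb_e {k : ℕ} {c : Fin k → V × V} (hc : IsHyp Q c) (p : Fin k → F × F)
    (i : Fin k) : polar Q (comb c p) (c i).1 = (p i).2 := by
  unfold comb
  rw [polar_sum_left, Finset.sum_eq_single i]
  · rw [polar_add_left, polar_smul_left, polar_smul_left, hc.ee, hc.fe, if_pos rfl]
    simp
  · intro j _ hji
    rw [polar_add_left, polar_smul_left, polar_smul_left, hc.ee, hc.fe, if_neg hji]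
    simp
  · intro h; exact absurd (Finset.mem_univ i) h

theorem polar_comb_f {k : ℕ} {c : Fin k → V × V} (hc : IsHyp Q c) (p : Fin k → F × F)
    (i : Fin k) : polar Q (comb c p) (c i).2 = (p i).1 := by
  unfold comb
  rw [polar_sum_left, Finset.sum_eq_single i]
  · rw [polar_add_left, polar_smul_left, polar_smul_left, hc.ef, hc.ff, if_pos rfl]
    simp
  · intro j _ hji
    rw [polar_add_left, polar_smul_left, polar_smul_left, hc.ef, hc.ff, if_neg hji]
    simp
  · intro h; exact absurd (Finset.mem_univ i) h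

theorem Q_pair {k : ℕ} {c : Fin k → V × V} (hc : IsHyp Q c) (a b : F) (i : Fin k) :
    Q (a • (c i).1 + b • (c i).2) = a * b := by
  rw [QuadraticMap.map_add Q, QuadraticMap.map_smul, QuadraticMap.map_smul, hc.qe, hc.qf,
    polar_smul_left, polar_smul_right, hc.ef, if_pos rfl]
  simp

theorem Q_comb {k : ℕ} {c : Fin k → V × V} (hc : IsHyp Q c) (p : Fin k → F × F) :
    Q (comb c p) = ∑ j, (p j).1 * (p j).2 := by
  classical
  unfold comb
  have key : ∀ s : Finset (Fin k), Q (∑ j ∈ s, ((p j).1 • (c j).1 + (p j).2 • (c j).2)) =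
      ∑ j ∈ s, (p j).1 * (p j).2 := by
    intro s
    induction s using Finset.induction_on with
    | empty => simp
    | insert a s ha ih =>
      rw [Finset.sum_insert ha, Finset.sum_insert ha, QuadraticMap.map_add Q, ih, Q_pair hc,
        polar_sum_right]
      have : ∑ j ∈ s, polar Q ((p a).1 • (c a).1 + (p a).2 • (c a).2)
          ((p j).1 • (c j).1 + (p j).2 • (c j).2) = 0 := by
        apply Finset.sum_eq_zero
        intro j hj
        have hja : a ≠ j := fun h => ha (h ▸ hj)
        simp only [polar_add_left, polar_add_right, polar_smul_left, polar_smul_right,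
          hc.ee, hc.ff, hc.ef, hc.fe, if_neg hja]
        simp
      rw [this, add_zero]
  exact key Finset.univ

theorem polar_comb_perp {k : ℕ} {c : Fin k → V × V} (p : Fin k → F × F) {w : V}
    (hw : w ∈ Perp Q c) : polar Q (comb c p) w = 0 := by
  unfold comb
  rw [polar_sum_left]
  apply Finset.sum_eq_zero
  intro j _
  rw [polar_add_left, polar_smul_left, polar_smul_left, polar_comm _ _ w, polar_comm _ _ w,
    (hw j).1, (hw j).2]
  simp

theorem Q_decomp {k : ℕ} {c : Fin k → V × V} (hc : IsHyp Q c) (p : Fin k → F × F) {w : V}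
    (hw : w ∈ Perp Q c) : Q (comb c p + w) = ∑ j, (p j).1 * (p j).2 + Q w := by
  rw [QuadraticMap.map_add Q, Q_comb hc, polar_comb_perp p hw, add_zero]

theorem sub_comb_mem {k : ℕ} {c : Fin k → V × V} (hc : IsHyp Q c) (v : V) :
    v - comb c (fun j => (polar Q v (c j).2, polar Q v (c j).1)) ∈ Perp Q c := by
  intro i
  rw [polar_sub_left, polar_sub_left, polar_comb_e hc, polar_comb_f hc]
  simp

/-- orthogonal decomposition along a frame -/
def decompEquiv {k : ℕ} {c : Fin k → V × V} (hc : IsHyp Q c) :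
    V ≃ (Fin k → F × F) × Perp Q c where
  toFun v := (fun j => (polar Q v (c j).2, polar Q v (c j).1),
    ⟨v - comb c (fun j => (polar Q v (c j).2, polar Q v (c j).1)), sub_comb_mem hc v⟩)
  invFun p := comb c p.1 + p.2.1
  left_inv v := by simp
  right_inv p := by
    obtain ⟨a, w, hw⟩ := p
    have h1 : (fun j => (polar Q (comb c a + w) (c j).2, polar Q (comb c a + w) (c j).1)) = a := by
      funext j
      rw [polar_add_left, polar_add_left, polar_comb_e hc, polar_comb_f hc, (hw j).1, (hw j).2]
      simp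
    apply Prod.ext
    · exact h1
    · apply Subtype.ext
      simp only
      rw [h1]
      abel

section count

variable [Fintype F] [Finite V] (Q)

/-- the counting function of the whole space -/
noncomputable def NV (x : F) : ℕ := Nat.card {v : V // Q v = x}

/-- the counting function of the complement of a frame -/
noncomputable def NW {k : ℕ} (c : Fin k → V × V) (x : F) : ℕ :=
  Nat.card {w : Perp Q c // Q w.1 = x}

variable {Q}

theorem NV_eq_Sk {k : ℕ} {c : Fin k → V × V} (hc : IsHyp Q c) (x : F) :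
    NV Q x = Sk k (NW Q c) x := by
  classical
  unfold NV
  have E1 : {v : V // Q v = x} ≃
      {p : (Fin k → F × F) × Perp Q c // ∑ j, (p.1 j).1 * (p.1 j).2 + Q p.2.1 = x} := by
    refine (decompEquiv hc).subtypeEquiv ?_
    intro v
    have hv : v = (decompEquiv hc).symm ((decompEquiv hc) v) := by simp
    conv_lhs => rw [hv]
    change Q (comb c ((decompEquiv hc) v).1 + ((decompEquiv hc) v).2.1) = x ↔ _
    rw [Q_decomp hc _ ((decompEquiv hc) v).2.2]
  have E2 := Equiv.subtypeProdEquivSigmaSubtype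
    (fun (a : Fin k → F × F) (w : Perp Q c) => ∑ j, (a j).1 * (a j).2 + Q w.1 = x)
  rw [Nat.card_congr (E1.trans E2), Nat.card_sigma]
  unfold Sk NW
  apply Finset.sum_congr rfl
  intro a _
  apply Nat.card_congr
  apply Equiv.subtypeEquivRight
  intro w
  constructor
  · intro h; rw [← h]; ring
  · intro h; rw [h]; ring

theorem card_eq_mul_card_perp {k : ℕ} {c : Fin k → V × V} (hc : IsHyp Q c) :
    Nat.card V = Fintype.card F ^ (2 * k) * Nat.card (Perp Q c) := by
  rw [Nat.card_congr (decompEquiv hc), Nat.card_prod, Nat.card_pi]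
  simp only [Nat.card_eq_fintype_card, Finset.prod_const, Finset.card_univ,
    Fintype.card_fin, Fintype.card_prod]
  ring

theorem NW_eq {k j : ℕ} {c : Fin k → V × V} (hc : IsHyp Q c) (g : F → ℕ)
    (hg : NV Q = Sk (j + k) g) : NW Q c = Sk j g := by
  apply Sk_injective k
  intro x
  rw [← NV_eq_Sk hc, hg, Sk_add]

theorem sum_NW {k : ℕ} (c : Fin k → V × V) : ∑ x, NW Q c x = Nat.card (Perp Q c) := by
  classical
  unfold NW
  rw [← Nat.card_sigma]
  exact Nat.card_congr (Equiv.sigmaFiberEquiv (fun w : Perp Q c => Q w.1))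

end count

section pairs

/-- the non-singularity hypothesis: no non-zero singular vector in the radical -/
def NonSing (Q : QuadraticForm F V) : Prop := ∀ v, Q v = 0 → (∀ w, polar Q v w = 0) → v = 0

theorem exists_partner (hND : NonSing Q) {k : ℕ} {c : Fin k → V × V} (hc : IsHyp Q c) {e : V}
    (he : e ∈ Perp Q c) (he0 : e ≠ 0) (hqe : Q e = 0) :
    ∃ f ∈ Perp Q c, Q f = 0 ∧ polar Q e f = 1 := by
  have : ∃ v, polar Q e v ≠ 0 := by
    by_contra h
    push_neg at h
    exact he0 (hND e hqe h)
  obtain ⟨v, hv⟩ := this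
  obtain ⟨w, hw, hew⟩ : ∃ w ∈ Perp Q c, polar Q e w ≠ 0 := by
    refine ⟨_, sub_comb_mem hc v, ?_⟩
    rw [polar_sub_right, polar_comm _ e (comb c _), polar_comb_perp _ he, sub_zero]
    exact hv
  obtain ⟨w', hw', hew'⟩ : ∃ w ∈ Perp Q c, polar Q e w = 1 := by
    refine ⟨(polar Q e w)⁻¹ • w, (Perp Q c).smul_mem _ hw, ?_⟩
    rw [polar_smul_right, smul_eq_mul, inv_mul_cancel₀ hew]
  have hee : polar Q e e = 0 := by rw [polar_self, hqe]; simp
  refine ⟨w' - Q w' • e, (Perp Q c).sub_mem hw' ((Perp Q c).smul_mem _ he), ?_, ?_⟩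
  · rw [sub_eq_add_neg, QuadraticMap.map_add Q, QuadraticMap.map_neg, QuadraticMap.map_smul, hqe,
      polar_neg_right, polar_smul_right, polar_comm _ w' e, hew']
    simp
  · rw [polar_sub_right, polar_smul_right, hee, hew']
    simp

/-- counting the partners of a singular vector -/
theorem card_partner [Fintype F] [Finite V] (hND : NonSing Q) {k : ℕ} {c : Fin k → V × V}
    (hc : IsHyp Q c) {e : V} (he : e ∈ Perp Q c) (he0 : e ≠ 0) (hqe : Q e = 0) :
    Nat.card {f : Perp Q c // Q f.1 = 0 ∧ polar Q e f.1 = 1} * Fintype.card F ^ 2 =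
      Nat.card (Perp Q c) := by
  obtain ⟨f₀, hf₀, hqf₀, hef₀⟩ := exists_partner hND hc he he0 hqe
  have hee : polar Q e e = 0 := by rw [polar_self, hqe]; simp
  have E : Perp Q c ≃ F × F × {f : Perp Q c // Q f.1 = 0 ∧ polar Q e f.1 = 1} :=
    { toFun := fun w =>
        (polar Q e w.1, Q (w.1 - (polar Q e w.1 - 1) • f₀),
          ⟨⟨w.1 - (polar Q e w.1 - 1) • f₀ - Q (w.1 - (polar Q e w.1 - 1) • f₀) • e,
            (Perp Q c).sub_mem ((Perp Q c).sub_mem w.2 ((Perp Q c).smul_mem _ hf₀))
              ((Perp Q c).smul_mem _ he)⟩, by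
            obtain ⟨w, hw⟩ := w
            simp only
            obtain ⟨f', hf'⟩ : ∃ f', f' = w - (polar Q e w - 1) • f₀ := ⟨_, rfl⟩
            rw [← hf']
            have h1 : polar Q e f' = 1 := by
              rw [hf', polar_sub_right, polar_smul_right, hef₀]
              simp
            constructor
            · rw [sub_eq_add_neg, QuadraticMap.map_add Q, QuadraticMap.map_neg,
                QuadraticMap.map_smul, hqe, polar_neg_right, polar_smul_right, polar_comm _ f' e, h1]
              simp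
            · rw [polar_sub_right, polar_smul_right, hee, h1]
              simp⟩)
      invFun := fun p => ⟨p.2.2.1.1 + p.2.1 • e + (p.1 - 1) • f₀,
        (Perp Q c).add_mem ((Perp Q c).add_mem p.2.2.1.2 ((Perp Q c).smul_mem _ he))
          ((Perp Q c).smul_mem _ hf₀)⟩
      left_inv := by
        rintro ⟨w, hw⟩
        apply Subtype.ext
        simp
      right_inv := by
        rintro ⟨s, t, ⟨⟨f, hf⟩, hqf, hef⟩⟩
        simp only at hqf hef
        have h1 : polar Q e (f + t • e + (s - 1) • f₀) = s := by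
          rw [polar_add_right, polar_add_right, polar_smul_right, polar_smul_right, hee, hef, hef₀]
          simp
        have h2 : f + t • e + (s - 1) • f₀ - (s - 1) • f₀ = f + t • e := by abel
        have h3 : Q (f + t • e) = t := by
          rw [QuadraticMap.map_add Q, QuadraticMap.map_smul, hqe, hqf, polar_smul_right,
            polar_comm _ f e, hef]
          simp
        refine Prod.ext ?_ (Prod.ext ?_ ?_)
        · exact h1
        · simp only
          rw [h1, h2, h3]
        · apply Subtype.ext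
          apply Subtype.ext
          simp only
          rw [h1, h2, h3]
          abel }
  rw [Nat.card_congr E, Nat.card_prod, Nat.card_prod, Nat.card_eq_fintype_card (α := F)]
  ring

/-- hyperbolic pairs in the complement of a frame -/
def HP (Q : QuadraticForm F V) {k : ℕ} (c : Fin k → V × V) : Type _ :=
  {p : Perp Q c × Perp Q c // Q p.1.1 = 0 ∧ Q p.2.1 = 0 ∧ polar Q p.1.1 p.2.1 = 1}

theorem card_sing [Fintype F] [Finite V] {k : ℕ} (c : Fin k → V × V) :
    Nat.card {e : Perp Q c // Q e.1 = 0 ∧ e.1 ≠ 0} + 1 = NW Q c 0 := by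
  classical
  unfold NW
  have E : {w : Perp Q c // Q w.1 = 0} ≃ Option {e : Perp Q c // Q e.1 = 0 ∧ e.1 ≠ 0} :=
    { toFun := fun w => if h : w.1.1 = 0 then none else some ⟨w.1, w.2, h⟩
      invFun := fun o => match o with
        | none => ⟨0, by simp⟩
        | some e => ⟨e.1, e.2.1⟩
      left_inv := by
        rintro ⟨⟨w, hw⟩, hqw⟩
        by_cases h : w = 0
        · subst h
          apply Subtype.ext
          apply Subtype.ext
          simp
        · simp [h]
      right_inv := by
        rintro (_ | ⟨⟨e, he⟩, hqe, he0⟩)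
        · simp
        · simp only at he0
          simp [he0] }
  rw [Nat.card_congr E, Finite.card_option]

theorem card_HP [Fintype F] [Finite V] (hND : NonSing Q) {k : ℕ} {c : Fin k → V × V}
    (hc : IsHyp Q c) :
    Nat.card (HP Q c) * Fintype.card F ^ 2 =
      Nat.card {e : Perp Q c // Q e.1 = 0 ∧ e.1 ≠ 0} * Nat.card (Perp Q c) := by
  classical
  have E : HP Q c ≃ Σ e : {e : Perp Q c // Q e.1 = 0 ∧ e.1 ≠ 0},
      {f : Perp Q c // Q f.1 = 0 ∧ polar Q e.1.1 f.1 = 1} :=
    { toFun := fun p => ⟨⟨p.1.1, p.2.1, by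
          intro h0
          have := p.2.2.2
          rw [h0, polar_zero_left] at this
          exact zero_ne_one this⟩, ⟨p.1.2, p.2.2.1, p.2.2.2⟩⟩
      invFun := fun x => ⟨(x.1.1, x.2.1), x.1.2.1, x.2.2.1, x.2.2.2⟩
      left_inv := by
        rintro ⟨⟨e, f⟩, h1, h2, h3⟩
        rfl
      right_inv := by
        rintro ⟨⟨e, h1, h0⟩, ⟨f, h2, h3⟩⟩
        rfl }
  haveI : Fintype {e : Perp Q c // Q e.1 = 0 ∧ e.1 ≠ 0} := Fintype.ofFinite _
  rw [Nat.card_congr E, Nat.card_sigma, Finset.sum_mul]
  rw [Finset.sum_congr rfl (fun e _ => card_partner hND hc e.1.2 e.2.2 e.2.1), Finset.sum_const,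
    Finset.card_univ, smul_eq_mul, ← Nat.card_eq_fintype_card]

theorem isHyp_cons {k : ℕ} (c : Fin k → V × V) (e f : V) :
    IsHyp Q (Fin.cons (e, f) c : Fin (k + 1) → V × V) ↔
      IsHyp Q c ∧ e ∈ Perp Q c ∧ f ∈ Perp Q c ∧ Q e = 0 ∧ Q f = 0 ∧ polar Q e f = 1 := by
  constructor
  · intro h
    refine ⟨⟨?_, ?_, ?_, ?_, ?_⟩, ?_, ?_, ?_, ?_, ?_⟩
    · intro i; simpa using h.qe i.succ
    · intro i; simpa using h.qf i.succ
    · intro i j; simpa using h.ee i.succ j.succ
    · intro i j; simpa using h.ff i.succ j.succ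
    · intro i j; simpa using h.ef i.succ j.succ
    · intro i
      constructor
      · simpa using h.ee 0 i.succ
      · have := h.ef 0 i.succ
        simpa [(Fin.succ_ne_zero i).symm] using this
    · intro i
      constructor
      · have := h.fe 0 i.succ
        simpa [(Fin.succ_ne_zero i).symm] using this
      · simpa using h.ff 0 i.succ
    · simpa using h.qe 0
    · simpa using h.qf 0
    · simpa using h.ef 0 0
  · rintro ⟨hc, he, hf, hqe, hqf, hef⟩
    have hee : polar Q e e = 0 := by rw [polar_self, hqe]; simp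
    have hff : polar Q f f = 0 := by rw [polar_self, hqf]; simp
    refine ⟨?_, ?_, ?_, ?_, ?_⟩
    · intro i
      refine Fin.cases ?_ (fun i' => ?_) i
      · simpa using hqe
      · simpa using hc.qe i'
    · intro i
      refine Fin.cases ?_ (fun i' => ?_) i
      · simpa using hqf
      · simpa using hc.qf i'
    · intro i j
      refine Fin.cases ?_ (fun i' => ?_) i <;> refine Fin.cases ?_ (fun j' => ?_) j
      · simpa using hee
      · simpa using (he j').1
      · simp only [Fin.cons_succ, Fin.cons_zero]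
        rw [polar_comm]; exact (he i').1
      · simpa using hc.ee i' j'
    · intro i j
      refine Fin.cases ?_ (fun i' => ?_) i <;> refine Fin.cases ?_ (fun j' => ?_) j
      · simpa using hff
      · simpa using (hf j').2
      · simp only [Fin.cons_succ, Fin.cons_zero]
        rw [polar_comm]; exact (hf i').2
      · simpa using hc.ff i' j'
    · intro i j
      refine Fin.cases ?_ (fun i' => ?_) i <;> refine Fin.cases ?_ (fun j' => ?_) j
      · simpa using hef
      · simp only [Fin.cons_succ, Fin.cons_zero]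
        rw [(he j').2, if_neg (Fin.succ_ne_zero j').symm]
      · simp only [Fin.cons_succ, Fin.cons_zero]
        rw [polar_comm, (hf i').1, if_neg (Fin.succ_ne_zero i')]
      · simp only [Fin.cons_succ, Fin.succ_inj]
        exact hc.ef i' j'

/-- the type of hyperbolic `k`-frames -/
def Frames (Q : QuadraticForm F V) (k : ℕ) : Type _ := {c : Fin k → V × V // IsHyp Q c}

/-- extending a frame by a hyperbolic pair of its complement -/
def framesSuccEquiv (Q : QuadraticForm F V) (k : ℕ) :
    Frames Q (k + 1) ≃ Σ c : Frames Q k, HP Q c.1 where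
  toFun c' :=
    have h := (isHyp_cons (Q := Q) (Fin.tail c'.1) (c'.1 0).1 (c'.1 0).2).mp (by
      have : (Fin.cons ((c'.1 0).1, (c'.1 0).2) (Fin.tail c'.1) : Fin (k + 1) → V × V) = c'.1 :=
        Fin.cons_self_tail c'.1
      rw [this]; exact c'.2)
    ⟨⟨Fin.tail c'.1, h.1⟩, ⟨(⟨(c'.1 0).1, h.2.1⟩, ⟨(c'.1 0).2, h.2.2.1⟩),
      h.2.2.2.1, h.2.2.2.2.1, h.2.2.2.2.2⟩⟩
  invFun x := ⟨Fin.cons (x.2.1.1.1, x.2.1.2.1) x.1.1,
    (isHyp_cons x.1.1 _ _).mpr ⟨x.1.2, x.2.1.1.2, x.2.1.2.2, x.2.2.1, x.2.2.2.1, x.2.2.2.2⟩⟩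
  left_inv := by
    rintro ⟨c', hc'⟩
    apply Subtype.ext
    exact Fin.cons_self_tail c'
  right_inv := by
    rintro ⟨⟨c, hc⟩, ⟨⟨⟨e, he⟩, ⟨f, hf⟩⟩, h1, h2, h3⟩⟩
    rfl

instance [Finite V] (k : ℕ) : Finite (Frames Q k) := by
  unfold Frames
  infer_instance

instance [Finite V] {k : ℕ} (c : Fin k → V × V) : Finite (HP Q c) := by
  unfold HP
  infer_instance

theorem card_HP' [Fintype F] [Finite V] (hND : NonSing Q) {k j : ℕ} {c : Fin k → V × V}
    (hc : IsHyp Q c) (g : F → ℕ) (hg : NV Q = Sk (j + k) g) :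
    Nat.card (HP Q c) * Fintype.card F ^ (2 * k + 2) = (Sk j g 0 - 1) * Nat.card V := by
  have h1 := card_HP hND hc
  have h2 := card_sing (Q := Q) c
  rw [NW_eq hc g hg] at h2
  have h3 := card_eq_mul_card_perp hc
  have h4 : Nat.card {e : Perp Q c // Q e.1 = 0 ∧ e.1 ≠ 0} = Sk j g 0 - 1 := by omega
  rw [h4] at h1
  rw [h3, pow_add]
  calc Nat.card (HP Q c) * (Fintype.card F ^ (2 * k) * Fintype.card F ^ 2)
      = (Nat.card (HP Q c) * Fintype.card F ^ 2) * Fintype.card F ^ (2 * k) := by ring
    _ = _ := by rw [h1]; ring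

theorem card_frames_succ [Fintype F] [Finite V] (hND : NonSing Q) {k j : ℕ} (g : F → ℕ)
    (hg : NV Q = Sk (j + k) g) :
    Nat.card (Frames Q (k + 1)) * Fintype.card F ^ (2 * k + 2) =
      Nat.card (Frames Q k) * ((Sk j g 0 - 1) * Nat.card V) := by
  classical
  haveI : Fintype (Frames Q k) := Fintype.ofFinite _
  rw [Nat.card_congr (framesSuccEquiv Q k), Nat.card_sigma, Finset.sum_mul,
    Finset.sum_congr rfl (fun c _ => card_HP' hND c.2 g hg), Finset.sum_const, Finset.card_univ,
    smul_eq_mul, ← Nat.card_eq_fintype_card]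

theorem card_frames_zero [Finite V] : Nat.card (Frames Q 0) = 1 := by
  have : Unique (Frames Q 0) :=
    { default := ⟨fun i => i.elim0, ⟨fun i => i.elim0, fun i => i.elim0, fun i => i.elim0,
        fun i => i.elim0, fun i => i.elim0⟩⟩
      uniq := by
        rintro ⟨c, hc⟩
        apply Subtype.ext
        funext i
        exact i.elim0 }
  exact Nat.card_unique

theorem card_frames_aux [Fintype F] [Finite V] (hND : NonSing Q) (m : ℕ) (g : F → ℕ)
    (hg : NV Q = Sk m g) (k : ℕ) (hk : k ≤ m) :
    Nat.card (Frames Q k) * Fintype.card F ^ (k * (k + 1)) =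
      Nat.card V ^ k * ∏ i ∈ Finset.range k, (Sk (m - i) g 0 - 1) := by
  induction k with
  | zero => simp [card_frames_zero]
  | succ k ih =>
    have h1 := card_frames_succ hND (k := k) (j := m - k) g (by rw [hg]; congr 1; omega)
    have h2 := ih (by omega)
    rw [Finset.prod_range_succ, pow_succ]
    have e : (k + 1) * (k + 1 + 1) = (2 * k + 2) + k * (k + 1) := by ring
    rw [e, pow_add]
    calc Nat.card (Frames Q (k + 1)) * (Fintype.card F ^ (2 * k + 2) * Fintype.card F ^ (k * (k + 1)))
        = (Nat.card (Frames Q (k + 1)) * Fintype.card F ^ (2 * k + 2)) *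
            Fintype.card F ^ (k * (k + 1)) := by ring
      _ = (Nat.card (Frames Q k) * Fintype.card F ^ (k * (k + 1))) *
            ((Sk (m - k) g 0 - 1) * Nat.card V) := by rw [h1]; ring
      _ = _ := by rw [h2]; ring

theorem card_frames [Fintype F] [Finite V] (hND : NonSing Q) (m : ℕ) (g : F → ℕ)
    (hg : NV Q = Sk m g) :
    Nat.card (Frames Q m) * Fintype.card F ^ (m * (m + 1)) =
      Nat.card V ^ m * ∏ i ∈ Finset.range m, (Sk (i + 1) g 0 - 1) := by
  rw [card_frames_aux hND m g hg m le_rfl, ← Finset.prod_range_reflect]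
  congr 1
  apply Finset.prod_congr rfl
  intro i hi
  rw [Finset.mem_range] at hi
  congr 2
  omega

end pairs

end Cfsg.Agent.Helper2.Quad
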