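import Mathlib
import Cfsg.Agent.Helper2.QuadFrame
import Cfsg.Prelude.Def_Classical

/-! Orders of the finite orthogonal groups: isometries and full frames. -/

set_option autoImplicit false
set_option linter.unusedSectionVars false
set_option linter.unusedVariables false

namespace Cfsg.Agent.Helper2.Quad

open Finset QuadraticMap Matrix

/-- a quadratic form in standard shape: hyperbolic planes plus an anisotropic kernel -/
structure Model (F : Type*) [Field F] (m : ℕ) (κ : Type) [Fintype κ] (ι : Type) where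
  σ : (Fin m ⊕ Fin m) ⊕ κ ≃ ι
  Q : QuadraticForm F (ι → F)
  Q₀ : QuadraticForm F (κ → F)
  hQ : ∀ v, Q v = ∑ i, v (σ (Sum.inl (Sum.inl i))) * v (σ (Sum.inl (Sum.inr i))) +
    Q₀ (fun j => v (σ (Sum.inr j)))
  aniso : ∀ z, Q₀ z = 0 → z = 0

variable {F : Type*} [Field F] {m : ℕ} {κ : Type} [Fintype κ] [DecidableEq κ]
  {ι : Type} [Fintype ι] [DecidableEq ι] (M : Model F m κ ι)

namespace Model

/-- first hyperbolic coordinates -/
def av (v : ι → F) (i : Fin m) : F := v (M.σ (Sum.inl (Sum.inl i)))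
/-- second hyperbolic coordinates -/
def bv (v : ι → F) (i : Fin m) : F := v (M.σ (Sum.inl (Sum.inr i)))
/-- anisotropic coordinates -/
def zv (v : ι → F) (j : κ) : F := v (M.σ (Sum.inr j))

theorem Q_eq (v : ι → F) : M.Q v = ∑ i, M.av v i * M.bv v i + M.Q₀ (M.zv v) := M.hQ v

theorem av_add (u v : ι → F) : M.av (u + v) = M.av u + M.av v := rfl
theorem bv_add (u v : ι → F) : M.bv (u + v) = M.bv u + M.bv v := rfl
theorem zv_add (u v : ι → F) : M.zv (u + v) = M.zv u + M.zv v := rfl

theorem polar_eq (u v : ι → F) :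
    polar M.Q u v = ∑ i, (M.av u i * M.bv v i + M.av v i * M.bv u i) +
      polar M.Q₀ (M.zv u) (M.zv v) := by
  unfold polar
  rw [M.Q_eq, M.Q_eq, M.Q_eq, av_add, bv_add, zv_add]
  have : ∑ i, (M.av u + M.av v) i * (M.bv u + M.bv v) i =
      ∑ i, M.av u i * M.bv u i + ∑ i, M.av v i * M.bv v i +
      ∑ i, (M.av u i * M.bv v i + M.av v i * M.bv u i) := by
    rw [← Finset.sum_add_distrib, ← Finset.sum_add_distrib]
    apply Finset.sum_congr rfl
    intro i _
    simp only [Pi.add_apply]
    ring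
  rw [this]
  ring

/-- the vector with given coordinates -/
def vec (a b : Fin m → F) (z : κ → F) : ι → F :=
  fun y => Sum.elim (Sum.elim a b) z (M.σ.symm y)

@[simp] theorem av_vec (a b : Fin m → F) (z : κ → F) : M.av (M.vec a b z) = a := by
  funext i; simp [av, vec]
@[simp] theorem bv_vec (a b : Fin m → F) (z : κ → F) : M.bv (M.vec a b z) = b := by
  funext i; simp [bv, vec]
@[simp] theorem zv_vec (a b : Fin m → F) (z : κ → F) : M.zv (M.vec a b z) = z := by
  funext i; simp [zv, vec]

theorem vec_coords (v : ι → F) : M.vec (M.av v) (M.bv v) (M.zv v) = v := by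
  funext y
  obtain ⟨x, rfl⟩ := M.σ.surjective y
  rcases x with (i | i) | j <;> simp [vec, av, bv, zv]

theorem ext_coords {u v : ι → F} (ha : M.av u = M.av v) (hb : M.bv u = M.bv v)
    (hz : M.zv u = M.zv v) : u = v := by
  rw [← M.vec_coords u, ← M.vec_coords v, ha, hb, hz]

/-- non-singularity of the model form -/
theorem nonSing : NonSing M.Q := by
  classical
  intro v hv hrad
  have ha : M.av v = 0 := by
    funext i
    have := hrad (M.vec 0 (Pi.single i 1) 0)
    rw [M.polar_eq] at this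
    simpa [polar_zero_right, Pi.single_apply] using this
  have hb : M.bv v = 0 := by
    funext i
    have := hrad (M.vec (Pi.single i 1) 0 0)
    rw [M.polar_eq] at this
    simpa [polar_zero_right, Pi.single_apply] using this
  have hz : M.zv v = 0 := by
    apply M.aniso
    rw [M.Q_eq, ha, hb] at hv
    simpa using hv
  apply M.ext_coords
  · rw [ha]; rfl
  · rw [hb]; rfl
  · rw [hz]; rfl

/-- the standard hyperbolic frame -/
def stdFrame : Fin m → (ι → F) × (ι → F) :=
  fun i => (M.vec (Pi.single i 1) 0 0, M.vec 0 (Pi.single i 1) 0)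

theorem polar_std_e (w : ι → F) (i : Fin m) : polar M.Q w (M.stdFrame i).1 = M.bv w i := by
  classical
  rw [M.polar_eq]
  simp [stdFrame, polar_zero_right, Pi.single_apply]

theorem polar_std_f (w : ι → F) (i : Fin m) : polar M.Q w (M.stdFrame i).2 = M.av w i := by
  classical
  rw [M.polar_eq]
  simp [stdFrame, polar_zero_right, Pi.single_apply]

theorem isHyp_std : IsHyp M.Q M.stdFrame := by
  classical
  refine ⟨?_, ?_, ?_, ?_, ?_⟩
  · intro i
    rw [M.Q_eq]; simp [stdFrame]
  · intro i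
    rw [M.Q_eq]; simp [stdFrame]
  · intro i j
    rw [polar_std_e]; simp [stdFrame]
  · intro i j
    rw [polar_std_f]; simp [stdFrame]
  · intro i j
    rw [polar_std_f]
    simp only [stdFrame, av_vec, Pi.single_apply]
    by_cases h : i = j
    · rw [if_pos h, if_pos h.symm]
    · rw [if_neg h, if_neg (Ne.symm h)]

theorem mem_perp_std (w : ι → F) : w ∈ Perp M.Q M.stdFrame ↔ M.av w = 0 ∧ M.bv w = 0 := by
  rw [mem_Perp]
  constructor
  · intro h
    constructor
    · funext i; rw [← polar_std_f]; exact (h i).2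
    · funext i; rw [← polar_std_e]; exact (h i).1
  · rintro ⟨ha, hb⟩ i
    rw [polar_std_e, polar_std_f, ha, hb]
    exact ⟨rfl, rfl⟩

/-- the counting function of the anisotropic kernel -/
noncomputable def N₀ (x : F) : ℕ := Nat.card {z : κ → F // M.Q₀ z = x}

theorem NW_std [Fintype F] : NW M.Q M.stdFrame = M.N₀ := by
  funext x
  unfold NW N₀
  apply Nat.card_congr
  refine
    { toFun := fun w => ⟨M.zv w.1.1, ?_⟩
      invFun := fun z => ⟨⟨M.vec 0 0 z.1, ?_⟩, ?_⟩
      left_inv := ?_
      right_inv := ?_ }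
  · have h := (M.mem_perp_std w.1.1).mp w.1.2
    have := w.2
    rw [M.Q_eq, h.1, h.2] at this
    simpa using this
  · rw [mem_perp_std]; simp
  · simp only
    rw [M.Q_eq]; simpa using z.2
  · rintro ⟨⟨w, hw⟩, hqw⟩
    apply Subtype.ext
    apply Subtype.ext
    simp only
    have h := (M.mem_perp_std w).mp hw
    apply M.ext_coords
    · rw [av_vec, h.1]
    · rw [bv_vec, h.2]
    · rw [zv_vec]
  · rintro ⟨z, hz⟩
    apply Subtype.ext
    simp

theorem NV_eq [Fintype F] : NV M.Q = Sk m M.N₀ := by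
  funext x
  rw [NV_eq_Sk M.isHyp_std, NW_std]

/-- the linear map with prescribed images of the standard basis vectors -/
def lin (φ : ι → (ι → F)) (v : ι → F) : ι → F := ∑ y, v y • φ y

theorem lin_add (φ : ι → (ι → F)) (u v : ι → F) : lin φ (u + v) = lin φ u + lin φ v := by
  unfold lin
  rw [← Finset.sum_add_distrib]
  exact Finset.sum_congr rfl (fun y _ => by rw [Pi.add_apply, add_smul])

theorem lin_single (φ : ι → (ι → F)) (y : ι) : lin φ (Pi.single y 1) = φ y := by
  classical
  unfold lin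
  rw [Finset.sum_eq_single y]
  · simp
  · intro y' _ h
    simp [Pi.single_apply, h]
  · intro h; exact absurd (Finset.mem_univ y) h

theorem mulVec_eq_lin (g : Matrix ι ι F) (v : ι → F) : g *ᵥ v = lin (fun y x => g x y) v := by
  funext x
  simp [lin, Matrix.mulVec, dotProduct, mul_comm]

/-- the frame part of a family of vectors -/
def frameOf (φ : ι → (ι → F)) : Fin m → (ι → F) × (ι → F) :=
  fun i => (φ (M.σ (Sum.inl (Sum.inl i))), φ (M.σ (Sum.inl (Sum.inr i))))

/-- the anisotropic part of a family of vectors -/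
def tailOf (φ : ι → (ι → F)) : κ → (ι → F) := fun j => φ (M.σ (Sum.inr j))

theorem lin_decomp (φ : ι → (ι → F)) (v : ι → F) :
    lin φ v = comb (M.frameOf φ) (fun i => (M.av v i, M.bv v i)) +
      ∑ j, M.zv v j • M.tailOf φ j := by
  unfold lin comb
  rw [← Equiv.sum_comp M.σ, Fintype.sum_sum_type, Fintype.sum_sum_type, Finset.sum_add_distrib]
  rfl

/-- a family of vectors whose linear map preserves the form -/
def Pres (φ : ι → (ι → F)) : Prop := ∀ v, M.Q (lin φ v) = M.Q v

theorem pres_of_frame {φ : ι → (ι → F)} (hc : IsHyp M.Q (M.frameOf φ))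
    (ht : ∀ j, M.tailOf φ j ∈ Perp M.Q (M.frameOf φ))
    (hz : ∀ z : κ → F, M.Q (∑ j, z j • M.tailOf φ j) = M.Q₀ z) : M.Pres φ := by
  intro v
  have hmem : ∑ j, M.zv v j • M.tailOf φ j ∈ Perp M.Q (M.frameOf φ) :=
    (Perp M.Q (M.frameOf φ)).sum_mem (fun j _ => (Perp M.Q (M.frameOf φ)).smul_mem _ (ht j))
  rw [M.lin_decomp, Q_decomp hc _ hmem, hz, M.Q_eq]

theorem vec_single_a (i : Fin m) :
    M.vec (Pi.single i 1) 0 0 = Pi.single (M.σ (Sum.inl (Sum.inl i))) 1 := by
  classical
  funext y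
  obtain ⟨x, rfl⟩ := M.σ.surjective y
  rcases x with (i' | i') | j <;> simp [vec, Pi.single_apply]

theorem vec_single_b (i : Fin m) :
    M.vec 0 (Pi.single i 1) 0 = Pi.single (M.σ (Sum.inl (Sum.inr i))) 1 := by
  classical
  funext y
  obtain ⟨x, rfl⟩ := M.σ.surjective y
  rcases x with (i' | i') | j <;> simp [vec, Pi.single_apply]

theorem vec_single_z (j : κ) :
    M.vec 0 0 (Pi.single j 1) = Pi.single (M.σ (Sum.inr j)) 1 := by
  classical
  funext y
  obtain ⟨x, rfl⟩ := M.σ.surjective y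
  rcases x with (i' | i') | j' <;> simp [vec, Pi.single_apply]

theorem polar_pres {φ : ι → (ι → F)} (h : M.Pres φ) (u v : ι → F) :
    polar M.Q (lin φ u) (lin φ v) = polar M.Q u v := by
  unfold polar
  rw [← lin_add, h, h, h]

theorem frame_of_pres {φ : ι → (ι → F)} (h : M.Pres φ) :
    IsHyp M.Q (M.frameOf φ) ∧ (∀ j, M.tailOf φ j ∈ Perp M.Q (M.frameOf φ)) ∧
      ∀ z : κ → F, M.Q (∑ j, z j • M.tailOf φ j) = M.Q₀ z := by
  classical
  have he : ∀ i, (M.frameOf φ i).1 = lin φ (M.stdFrame i).1 := by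
    intro i
    simp only [stdFrame, frameOf]
    rw [vec_single_a, lin_single]
  have hf : ∀ i, (M.frameOf φ i).2 = lin φ (M.stdFrame i).2 := by
    intro i
    simp only [stdFrame, frameOf]
    rw [vec_single_b, lin_single]
  have ht : ∀ j, M.tailOf φ j = lin φ (M.vec 0 0 (Pi.single j 1)) := by
    intro j
    rw [vec_single_z, lin_single]
    rfl
  have hstd := M.isHyp_std
  refine ⟨⟨?_, ?_, ?_, ?_, ?_⟩, ?_, ?_⟩
  · intro i; rw [he, h]; exact hstd.qe i
  · intro i; rw [hf, h]; exact hstd.qf i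
  · intro i j; rw [he, he, M.polar_pres h]; exact hstd.ee i j
  · intro i j; rw [hf, hf, M.polar_pres h]; exact hstd.ff i j
  · intro i j; rw [he, hf, M.polar_pres h]; exact hstd.ef i j
  · intro j i
    rw [ht, he, hf, M.polar_pres h, M.polar_pres h, polar_std_e, polar_std_f]
    simp
  · intro z
    have : ∑ j, z j • M.tailOf φ j = lin φ (M.vec 0 0 z) := by
      rw [M.lin_decomp]
      simp [comb]
    rw [this, h, M.Q_eq]
    simp

theorem det_ne_zero_of_pres {φ : ι → (ι → F)} (h : M.Pres φ) :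
    (Matrix.of (fun x y => φ y x) : Matrix ι ι F).det ≠ 0 := by
  intro hdet
  obtain ⟨v, hv0, hv⟩ := Matrix.exists_mulVec_eq_zero_iff.mpr hdet
  rw [mulVec_eq_lin] at hv
  have hv' : lin φ v = 0 := hv
  apply hv0
  apply M.nonSing v
  · rw [← h v, hv', map_zero]
  · intro w
    rw [← M.polar_pres h, hv', polar_zero_left]

/-- isometries correspond to form-preserving families of vectors -/
noncomputable def goEquiv :
    Cfsg.isometryGroup F (fun v => M.Q v) ≃ {φ : ι → (ι → F) // M.Pres φ} where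
  toFun g := ⟨fun y x => (g.1 : Matrix ι ι F) x y, by
    intro v
    rw [← mulVec_eq_lin]
    exact g.2 v v⟩
  invFun φ := ⟨Matrix.GeneralLinearGroup.mkOfDetNeZero _ (M.det_ne_zero_of_pres φ.2), by
    intro u v
    change M.Q ((Matrix.of (fun x y => φ.1 y x) : Matrix ι ι F) *ᵥ u) = M.Q u
    rw [mulVec_eq_lin]
    exact φ.2 u⟩
  left_inv g := by
    apply Subtype.ext
    apply Units.ext
    rfl
  right_inv φ := by
    apply Subtype.ext
    rfl

/-- isometric embeddings of the anisotropic kernel into the complement of a frame -/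
def Emb (c : Fin m → (ι → F) × (ι → F)) : Type _ :=
  {t : κ → (ι → F) // (∀ j, t j ∈ Perp M.Q c) ∧ ∀ z : κ → F, M.Q (∑ j, z j • t j) = M.Q₀ z}

/-- full frames -/
def FullFrames : Type _ :=
  {p : (Fin m → (ι → F) × (ι → F)) × (κ → (ι → F)) // IsHyp M.Q p.1 ∧
    (∀ j, p.2 j ∈ Perp M.Q p.1) ∧ ∀ z : κ → F, M.Q (∑ j, z j • p.2 j) = M.Q₀ z}

/-- a family of vectors from a frame and a tail -/
def ofData (c : Fin m → (ι → F) × (ι → F)) (t : κ → (ι → F)) : ι → (ι → F) :=
  fun y => Sum.elim (Sum.elim (fun i => (c i).1) (fun i => (c i).2)) t (M.σ.symm y)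

@[simp] theorem frameOf_ofData (c : Fin m → (ι → F) × (ι → F)) (t : κ → (ι → F)) :
    M.frameOf (M.ofData c t) = c := by
  funext i
  simp [frameOf, ofData]

@[simp] theorem tailOf_ofData (c : Fin m → (ι → F) × (ι → F)) (t : κ → (ι → F)) :
    M.tailOf (M.ofData c t) = t := by
  funext j
  simp [tailOf, ofData]

theorem ofData_self (φ : ι → (ι → F)) : M.ofData (M.frameOf φ) (M.tailOf φ) = φ := by
  funext y
  obtain ⟨x, rfl⟩ := M.σ.surjective y
  rcases x with (i | i) | j <;> simp [ofData, frameOf, tailOf]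

/-- form-preserving families correspond to full frames -/
def presEquiv : {φ : ι → (ι → F) // M.Pres φ} ≃ M.FullFrames where
  toFun φ := ⟨(M.frameOf φ.1, M.tailOf φ.1), M.frame_of_pres φ.2⟩
  invFun p := ⟨M.ofData p.1.1 p.1.2, by
    apply M.pres_of_frame
    · rw [frameOf_ofData]; exact p.2.1
    · intro j
      rw [frameOf_ofData, tailOf_ofData]; exact p.2.2.1 j
    · intro z
      rw [tailOf_ofData]; exact p.2.2.2 z⟩
  left_inv φ := by
    apply Subtype.ext
    exact M.ofData_self φ.1
  right_inv p := by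
    apply Subtype.ext
    exact Prod.ext (M.frameOf_ofData _ _) (M.tailOf_ofData _ _)

/-- full frames as a sigma type -/
def fullEquiv : M.FullFrames ≃ Σ c : Frames M.Q m, M.Emb c.1 where
  toFun p := ⟨⟨p.1.1, p.2.1⟩, ⟨p.1.2, p.2.2⟩⟩
  invFun x := ⟨(x.1.1, x.2.1), ⟨x.1.2, x.2.2⟩⟩
  left_inv := by
    rintro ⟨⟨c, t⟩, h⟩
    rfl
  right_inv := by
    rintro ⟨⟨c, hc⟩, ⟨t, ht⟩⟩
    rfl

instance [Finite F] (c : Fin m → (ι → F) × (ι → F)) : Finite (M.Emb c) := by
  unfold Emb
  infer_instance

theorem card_go [Fintype F] (E : ℕ)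
    (hE : ∀ c : Fin m → (ι → F) × (ι → F), IsHyp M.Q c → Nat.card (M.Emb c) = E) :
    Nat.card (Cfsg.isometryGroup F (fun v => M.Q v)) = Nat.card (Frames M.Q m) * E := by
  classical
  haveI : Fintype (Frames M.Q m) := Fintype.ofFinite _
  rw [Nat.card_congr ((M.goEquiv.trans M.presEquiv).trans M.fullEquiv), Nat.card_sigma,
    Finset.sum_congr rfl (fun c _ => hE c.1 c.2), Finset.sum_const, Finset.card_univ,
    smul_eq_mul, ← Nat.card_eq_fintype_card]

theorem N₀_zero : M.N₀ 0 = 1 := by
  unfold N₀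
  have : Unique {z : κ → F // M.Q₀ z = 0} :=
    { default := ⟨0, map_zero _⟩
      uniq := fun z => Subtype.ext (M.aniso z.1 z.2) }
  exact Nat.card_unique

theorem sum_N₀ [Fintype F] : ∑ x, M.N₀ x = Fintype.card F ^ Fintype.card κ := by
  classical
  unfold N₀
  rw [← Nat.card_sigma, Nat.card_congr (Equiv.sigmaFiberEquiv (fun z : κ → F => M.Q₀ z)),
    Nat.card_eq_fintype_card, Fintype.card_fun]

include M in
theorem card_V [Fintype F] : Nat.card (ι → F) = Fintype.card F ^ (2 * m + Fintype.card κ) := by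
  rw [Nat.card_eq_fintype_card, Fintype.card_fun, ← Fintype.card_congr M.σ]
  simp only [Fintype.card_sum, Fintype.card_fin]
  congr 1
  ring

/-- the counting function on the complement of a full frame -/
theorem NW_full [Fintype F] {c : Fin m → (ι → F) × (ι → F)} (hc : IsHyp M.Q c) :
    NW M.Q c = M.N₀ := by
  have := NW_eq (j := 0) hc M.N₀ (by rw [zero_add]; exact M.NV_eq)
  rw [this]
  funext x
  exact Sk_zero _ _

theorem card_frames_model [Fintype F] :
    Nat.card (Frames M.Q m) * Fintype.card F ^ (m * (m + 1)) =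
      (Fintype.card F ^ (2 * m + Fintype.card κ)) ^ m *
        ∏ i ∈ Finset.range m, (Sk (i + 1) M.N₀ 0 - 1) := by
  rw [← M.card_V]
  exact card_frames M.nonSing m M.N₀ M.NV_eq

end Model

end Cfsg.Agent.Helper2.Quad
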