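import Cfsg.Agent.Helper2.SLCard
import Cfsg.Prelude.Def_Classical

/-! Counting vectors of given norm for the standard Hermitian form over `F_{q²}`. -/

set_option autoImplicit false
set_option linter.unusedSectionVars false

namespace Cfsg.Agent.Helper2.Herm

open Finset

variable {F : Type*} [Field F] [Fintype F] {q : ℕ}

theorem two_le_q (hF : Fintype.card F = q ^ 2) : 2 ≤ q := by
  have h1 : 1 < Fintype.card F := Fintype.one_lt_card
  rw [hF] at h1
  by_contra h
  have : q ≤ 1 := by omega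
  have : q ^ 2 ≤ 1 ^ 2 := Nat.pow_le_pow_left this 2
  omega

theorem pow_q_sq (hF : Fintype.card F = q ^ 2) (a : F) : a ^ (q ^ 2) = a := by
  rw [← hF]; exact FiniteField.pow_card a

theorem exists_char_pow (hF : Fintype.card F = q ^ 2) :
    ∃ p j : ℕ, p.Prime ∧ CharP F p ∧ q = p ^ j := by
  obtain ⟨p, hchar, m, hp, hm⟩ := FiniteField.card' F
  rw [hF] at hm
  have hdvd : q ∣ p ^ (m : ℕ) := by rw [← hm]; exact dvd_pow_self q (by norm_num)
  obtain ⟨j, _, hj⟩ := (Nat.dvd_prime_pow hp).mp hdvd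
  exact ⟨p, j, hp, hchar, hj⟩

theorem add_pow_q (hF : Fintype.card F = q ^ 2) (x y : F) : (x + y) ^ q = x ^ q + y ^ q := by
  obtain ⟨p, j, hp, hchar, rfl⟩ := exists_char_pow hF
  have := Fact.mk hp
  exact add_pow_char_pow x y p j

theorem sub_pow_q (hF : Fintype.card F = q ^ 2) (x y : F) : (x - y) ^ q = x ^ q - y ^ q := by
  obtain ⟨p, j, hp, hchar, rfl⟩ := exists_char_pow hF
  have := Fact.mk hp
  exact sub_pow_char_pow x y j

/-- the fixed field of `x ↦ x ^ q` as an additive subgroup -/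
def K (hF : Fintype.card F = q ^ 2) : AddSubgroup F where
  carrier := {x | x ^ q = x}
  zero_mem' := zero_pow (by have := two_le_q hF; omega)
  add_mem' {x y} hx hy := by
    show (x + y) ^ q = x + y
    rw [add_pow_q hF, hx, hy]
  neg_mem' {x} hx := by
    show (-x) ^ q = -x
    have h0 : (0 : F) ^ q = 0 := zero_pow (by have := two_le_q hF; omega)
    have := sub_pow_q hF 0 x
    rw [zero_sub, h0, zero_sub, hx] at this
    exact this

theorem mem_K (hF : Fintype.card F = q ^ 2) {x : F} : x ∈ K hF ↔ x ^ q = x := Iff.rfl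

theorem norm_mem_K (hF : Fintype.card F = q ^ 2) (a : F) : a ^ (q + 1) ∈ K hF := by
  rw [mem_K, ← pow_mul]
  have : (q + 1) * q = q ^ 2 + q := by ring
  rw [this, pow_add, pow_q_sq hF, pow_succ', mul_comm]

theorem card_units (hF : Fintype.card F = q ^ 2) : Nat.card Fˣ = q ^ 2 - 1 := by
  rw [card_units_field, hF]

theorem factor (hq : 2 ≤ q) : q ^ 2 - 1 = (q + 1) * (q - 1) := by
  obtain ⟨k, rfl⟩ : ∃ k, q = k + 2 := ⟨q - 2, by omega⟩
  have : (k + 2) ^ 2 = (k + 2 + 1) * (k + 2 - 1) + 1 := by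
    have : k + 2 - 1 = k + 1 := by omega
    rw [this]; ring
  omega

theorem range_norm (hF : Fintype.card F = q ^ 2) :
    (powMonoidHom (q + 1) : Fˣ →* Fˣ).range = (powMonoidHom (q - 1) : Fˣ →* Fˣ).ker := by
  have hq := two_le_q hF
  have hle : (powMonoidHom (q + 1) : Fˣ →* Fˣ).range ≤ (powMonoidHom (q - 1) : Fˣ →* Fˣ).ker := by
    rintro _ ⟨u, rfl⟩
    rw [MonoidHom.mem_ker, powMonoidHom_apply, powMonoidHom_apply, ← pow_mul, ← factor hq,
      ← card_units hF]
    exact pow_card_eq_one'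
  apply Subgroup.eq_of_le_of_card_ge hle
  rw [IsCyclic.card_powMonoidHom_range, IsCyclic.card_powMonoidHom_ker, card_units hF, factor hq,
    Nat.gcd_mul_right_left, Nat.gcd_mul_left_left, Nat.mul_div_cancel_left _ (by omega : 0 < q + 1)]

theorem card_ker_norm (hF : Fintype.card F = q ^ 2) :
    Nat.card (powMonoidHom (q + 1) : Fˣ →* Fˣ).ker = q + 1 := by
  have hq := two_le_q hF
  rw [IsCyclic.card_powMonoidHom_ker, card_units hF, factor hq, Nat.gcd_mul_right_left]


open Classical in
theorem card_fiber_zero :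
    (Finset.univ.filter (fun a : F => a ^ (q + 1) = 0)).card = 1 := by
  have : Finset.univ.filter (fun a : F => a ^ (q + 1) = 0) = {0} := by
    ext a
    simp only [Finset.mem_filter, Finset.mem_univ, true_and, Finset.mem_singleton]
    constructor
    · intro h; exact pow_eq_zero_iff (by omega) |>.mp h
    · rintro rfl; exact zero_pow (by omega)
  rw [this, Finset.card_singleton]


open Classical in
theorem card_fiber_ne_zero (hF : Fintype.card F = q ^ 2) {k : F} (hk : k ∈ K hF) (hk0 : k ≠ 0) :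
    (Finset.univ.filter (fun a : F => a ^ (q + 1) = k)).card = q + 1 := by
  have hq := two_le_q hF
  -- `k` as a unit lies in the range of the norm
  have hku : Units.mk0 k hk0 ∈ (powMonoidHom (q + 1) : Fˣ →* Fˣ).range := by
    rw [range_norm hF, MonoidHom.mem_ker, powMonoidHom_apply]
    apply Units.ext
    rw [Units.val_pow_eq_pow_val, Units.val_mk0, Units.val_one]
    have h1 : k ^ q = k := hk
    have h2 : k ^ (q - 1) * k = k := by
      rw [← pow_succ]
      have : q - 1 + 1 = q := by omega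
      rw [this, h1]
    have h3 : k ^ (q - 1) * k = 1 * k := by rw [h2, one_mul]
    exact mul_right_cancel₀ hk0 h3
  have h1 := MonoidHom.card_fiber_eq_of_mem_range (powMonoidHom (q + 1) : Fˣ →* Fˣ)
    (x := Units.mk0 k hk0) (y := 1) hku ⟨1, by simp⟩
  have h2 : (Finset.univ.filter (fun g : Fˣ => (powMonoidHom (q + 1) : Fˣ →* Fˣ) g = 1)).card =
      q + 1 := by
    have h3 := card_ker_norm hF
    rw [Nat.card_eq_fintype_card, Fintype.card_subtype] at h3
    convert h3 using 2
    ext g
    simp [MonoidHom.mem_ker]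
  refine Eq.trans ?_ (h1.trans h2)
  -- transfer from `F` to the units
  symm
  apply Finset.card_bij (fun (u : Fˣ) _ => (u : F))
  · intro u hu
    simp only [Finset.mem_filter, Finset.mem_univ, true_and, powMonoidHom_apply] at hu ⊢
    have := congrArg Units.val hu
    simpa using this
  · intro u _ v _ h
    exact Units.ext h
  · intro a ha
    simp only [Finset.mem_filter, Finset.mem_univ, true_and] at ha
    have ha0 : a ≠ 0 := by
      rintro rfl
      rw [zero_pow (by omega)] at ha
      exact hk0 ha.symm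
    refine ⟨Units.mk0 a ha0, ?_, rfl⟩
    simp only [Finset.mem_filter, Finset.mem_univ, true_and, powMonoidHom_apply]
    apply Units.ext
    simpa using ha


open Classical in
/-- number of vectors in `F^n` of norm `c` -/
noncomputable def T (q n : ℕ) (c : F) : ℕ :=
  (Finset.univ.filter (fun v : Fin n → F => ∑ i, v i ^ (q + 1) = c)).card

open Classical in
theorem T_eq_sum (n : ℕ) (c : F) :
    T q n c = ∑ v : Fin n → F, if ∑ i, v i ^ (q + 1) = c then 1 else 0 := by
  unfold T
  rw [Finset.card_filter]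

open Classical in
theorem T_succ_eq_sum (n : ℕ) (c : F) :
    T q (n + 1) c = ∑ a : F, T q n (c - a ^ (q + 1)) := by
  rw [T_eq_sum]
  simp_rw [T_eq_sum n]
  rw [← Fintype.sum_prod_type']
  apply Fintype.sum_equiv (Fin.consEquiv (fun _ => F)).symm
  intro v
  obtain ⟨⟨a, w⟩, rfl⟩ := (Fin.consEquiv (fun _ : Fin (n + 1) => F)).surjective v
  rw [Equiv.symm_apply_apply]
  simp only [Fin.consEquiv_apply, Fin.sum_univ_succ, Fin.cons_zero, Fin.cons_succ]
  congr 1
  apply propext
  constructor
  · intro h; rw [← h]; ring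
  · intro h; rw [h]; ring


open Classical in
theorem sum_norm (hF : Fintype.card F = q ^ 2) (g : F → ℕ) :
    ∑ a : F, g (a ^ (q + 1)) + q * g 0 = (q + 1) * ∑ k : K hF, g k := by
  have h1 : ∀ a : F, g (a ^ (q + 1)) =
      ∑ k : K hF, if a ^ (q + 1) = (k : F) then g k else 0 := by
    intro a
    rw [Finset.sum_eq_single (⟨a ^ (q + 1), norm_mem_K hF a⟩ : K hF)]
    · simp
    · intro k _ hk
      rw [if_neg]
      intro h
      exact hk (Subtype.ext h.symm)
    · intro h; exact absurd (Finset.mem_univ _) h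
  have h2 : q * g 0 = ∑ k : K hF, if (k : F) = 0 then q * g k else 0 := by
    rw [Finset.sum_eq_single (0 : K hF)]
    · simp
    · intro k _ hk
      rw [if_neg]
      intro h
      exact hk (Subtype.ext h)
    · intro h; exact absurd (Finset.mem_univ _) h
  rw [Finset.sum_congr rfl (fun a _ => h1 a), Finset.sum_comm, h2, ← Finset.sum_add_distrib,
    Finset.mul_sum]
  apply Finset.sum_congr rfl
  intro k _
  rw [← Finset.sum_filter, Finset.sum_const, smul_eq_mul]
  by_cases hk0 : (k : F) = 0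
  · rw [if_pos hk0, hk0, card_fiber_zero]; ring
  · rw [if_neg hk0, card_fiber_ne_zero hF k.2 hk0]; ring

open Classical in
theorem sum_T_K (hF : Fintype.card F = q ^ 2) (n : ℕ) {c : F} (hc : c ∈ K hF) :
    ∑ k : K hF, T q n (c - k) = (q ^ 2) ^ n := by
  have h1 : ∑ k : K hF, T q n (c - k) = ∑ k : K hF, T q n (k : F) := by
    apply Fintype.sum_equiv (Equiv.subLeft (⟨c, hc⟩ : K hF))
    intro k
    rfl
  rw [h1]
  simp_rw [T_eq_sum n]
  rw [Finset.sum_comm]
  have h2 : ∀ v : Fin n → F, (∑ k : K hF, if ∑ i, v i ^ (q + 1) = (k : F) then 1 else 0) = 1 := by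
    intro v
    have hmem : ∑ i, v i ^ (q + 1) ∈ K hF :=
      AddSubgroup.sum_mem _ (fun i _ => norm_mem_K hF (v i))
    rw [Finset.sum_eq_single (⟨∑ i, v i ^ (q + 1), hmem⟩ : K hF)]
    · simp
    · intro k _ hk
      rw [if_neg]
      intro h
      exact hk (Subtype.ext h.symm)
    · intro h; exact absurd (Finset.mem_univ _) h
  rw [Finset.sum_congr rfl (fun v _ => h2 v), Finset.sum_const, smul_eq_mul, mul_one,
    Finset.card_univ, Fintype.card_fun, Fintype.card_fin, hF]

theorem T_succ (hF : Fintype.card F = q ^ 2) (n : ℕ) {c : F} (hc : c ∈ K hF) :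
    T q (n + 1) c + q * T q n c = (q + 1) * (q ^ 2) ^ n := by
  rw [T_succ_eq_sum]
  have := sum_norm hF (fun x => T q n (c - x))
  simp only [sub_zero] at this
  rw [this, sum_T_K hF n hc]

theorem one_mem_K (hF : Fintype.card F = q ^ 2) : (1 : F) ∈ K hF := by
  rw [mem_K, one_pow]

theorem T_zero_zero : T q 0 (0 : F) = 1 := by
  classical
  unfold T
  rw [Finset.filter_true_of_mem]
  · simp
  · intro v _
    simp

theorem T_zero_one : T q 0 (1 : F) = 0 := by
  classical
  unfold T
  rw [Finset.card_eq_zero, Finset.filter_eq_empty_iff]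
  intro v _
  simp

theorem T_one_int (hF : Fintype.card F = q ^ 2) (m : ℕ) :
    (T q (m + 1) (1 : F) : ℤ) = (q : ℤ) ^ m * ((q : ℤ) ^ (m + 1) - (-1) ^ (m + 1)) := by
  induction m with
  | zero =>
    have h := T_succ hF 0 (one_mem_K hF)
    rw [T_zero_one] at h
    have h' : (T q (0 + 1) (1 : F) : ℤ) = (q : ℤ) + 1 := by
      have : T q (0 + 1) (1 : F) = q + 1 := by simpa using h
      rw [this]; push_cast; ring
    rw [h']; ring
  | succ m ih =>
    have h := T_succ hF (m + 1) (one_mem_K hF)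
    have h' : (T q (m + 1 + 1) (1 : F) : ℤ) + q * (T q (m + 1) (1 : F) : ℤ) =
        ((q : ℤ) + 1) * ((q : ℤ) ^ 2) ^ (m + 1) := by
      exact_mod_cast h
    rw [ih] at h'
    have : (T q (m + 1 + 1) (1 : F) : ℤ) = ((q : ℤ) + 1) * ((q : ℤ) ^ 2) ^ (m + 1) -
        q * ((q : ℤ) ^ m * ((q : ℤ) ^ (m + 1) - (-1) ^ (m + 1))) := by linarith
    rw [this]
    ring

theorem T_zero_int (hF : Fintype.card F = q ^ 2) (m : ℕ) :
    (T q (m + 1) (0 : F) : ℤ) =
      ((q : ℤ) ^ (m + 1) - (-1) ^ (m + 1)) * ((q : ℤ) ^ m + (-1) ^ (m + 1)) + 1 := by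
  induction m with
  | zero =>
    have h := T_succ hF 0 (K hF).zero_mem
    rw [T_zero_zero] at h
    have h' : T q (0 + 1) (0 : F) = 1 := by
      have : T q (0 + 1) (0 : F) + q = q + 1 := by simpa using h
      omega
    rw [h']; push_cast; ring
  | succ m ih =>
    have h := T_succ hF (m + 1) (K hF).zero_mem
    have h' : (T q (m + 1 + 1) (0 : F) : ℤ) + q * (T q (m + 1) (0 : F) : ℤ) =
        ((q : ℤ) + 1) * ((q : ℤ) ^ 2) ^ (m + 1) := by
      exact_mod_cast h
    rw [ih] at h'
    have : (T q (m + 1 + 1) (0 : F) : ℤ) = ((q : ℤ) + 1) * ((q : ℤ) ^ 2) ^ (m + 1) -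
        q * (((q : ℤ) ^ (m + 1) - (-1) ^ (m + 1)) * ((q : ℤ) ^ m + (-1) ^ (m + 1)) + 1) := by
      linarith
    rw [this]
    have he' : (-1 : ℤ) ^ (m + 1 + 1) = -((-1) ^ (m + 1)) := by rw [pow_succ]; ring
    have he2 : ((-1 : ℤ) ^ (m + 1)) * ((-1 : ℤ) ^ (m + 1)) = 1 := by
      rw [← pow_add]; exact Even.neg_one_pow ⟨m + 1, rfl⟩
    rw [he']
    generalize (-1 : ℤ) ^ (m + 1) = e at he2
    linear_combination ((q : ℤ) + 1) * he2

theorem T_one (hF : Fintype.card F = q ^ 2) (n : ℕ) :
    T q n (1 : F) = if Even n then q ^ (n - 1) * (q ^ n - 1) else q ^ (n - 1) * (q ^ n + 1) := by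
  have hq := two_le_q hF
  rcases n with _ | m
  · rw [T_zero_one]; simp
  · have h := T_one_int hF m
    have h1 : 1 ≤ q ^ (m + 1) := Nat.one_le_pow _ _ (by omega)
    rw [Nat.add_sub_cancel]
    split_ifs with hev
    · rw [hev.neg_one_pow] at h
      zify [h1]
      exact h
    · rw [(Nat.not_even_iff_odd.mp hev).neg_one_pow] at h
      zify
      rw [h]; ring

theorem T_zero (hF : Fintype.card F = q ^ 2) (n : ℕ) :
    T q n (0 : F) = (if Even n then (q ^ n - 1) * (q ^ (n - 1) + 1)
      else (q ^ n + 1) * (q ^ (n - 1) - 1)) + 1 := by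
  have hq := two_le_q hF
  rcases n with _ | m
  · rw [T_zero_zero]; simp
  · have h := T_zero_int hF m
    have h1 : 1 ≤ q ^ (m + 1) := Nat.one_le_pow _ _ (by omega)
    have h2 : 1 ≤ q ^ m := Nat.one_le_pow _ _ (by omega)
    rw [Nat.add_sub_cancel]
    split_ifs with hev
    · rw [hev.neg_one_pow] at h
      zify [h1]
      exact h
    · rw [(Nat.not_even_iff_odd.mp hev).neg_one_pow] at h
      zify [h2]
      rw [h]; ring

theorem card_hermForm_eq (n : ℕ) (c : F) :
    Nat.card {v : Fin n → F // Cfsg.hermForm n F q v v = c} = T q n c := by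
  classical
  rw [Nat.card_eq_fintype_card, Fintype.card_subtype]
  unfold T
  congr 1
  ext v
  simp only [Finset.mem_filter, Finset.mem_univ, true_and]
  unfold Cfsg.hermForm
  have : ∀ i, v i * v i ^ q = v i ^ (q + 1) := fun i => (pow_succ' (v i) q).symm
  simp_rw [this]

end Cfsg.Agent.Helper2.Herm
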