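import Mathlib
import Cfsg.Agent.Helper2.HermCount

/-! Basic properties of the standard Hermitian form `hermForm n F q` over a field with `q²` elements. -/

set_option autoImplicit false
set_option linter.unusedSectionVars false
set_option linter.unusedVariables false

namespace Cfsg.Agent.Helper2.Herm

open Finset

variable {F : Type*} [Field F] [Fintype F] {q : ℕ}

/-- `x ↦ x ^ q` as a ring homomorphism -/
def cj (hF : Fintype.card F = q ^ 2) : F →+* F where
  toFun x := x ^ q
  map_one' := one_pow q
  map_mul' x y := mul_pow x y q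
  map_zero' := zero_pow (by have := two_le_q hF; omega)
  map_add' x y := add_pow_q hF x y

theorem cj_apply (hF : Fintype.card F = q ^ 2) (x : F) : cj hF x = x ^ q := rfl

theorem cj_cj (hF : Fintype.card F = q ^ 2) (x : F) : cj hF (cj hF x) = x := by
  rw [cj_apply, cj_apply, ← pow_mul, ← sq, pow_q_sq hF]

variable {n : ℕ}

local notation "hf" => Cfsg.hermForm n F q

theorem hf_eq (hF : Fintype.card F = q ^ 2) (u v : Fin n → F) :
    Cfsg.hermForm n F q u v = ∑ i, u i * cj hF (v i) := rfl

theorem hf_add_left (u u' v : Fin n → F) :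
    Cfsg.hermForm n F q (u + u') v = Cfsg.hermForm n F q u v + Cfsg.hermForm n F q u' v := by
  unfold Cfsg.hermForm
  rw [← Finset.sum_add_distrib]
  apply Finset.sum_congr rfl
  intro i _
  rw [Pi.add_apply]; ring

theorem hf_smul_left (a : F) (u v : Fin n → F) :
    Cfsg.hermForm n F q (a • u) v = a * Cfsg.hermForm n F q u v := by
  unfold Cfsg.hermForm
  rw [Finset.mul_sum]
  apply Finset.sum_congr rfl
  intro i _
  rw [Pi.smul_apply, smul_eq_mul]; ring

theorem hf_zero_left (v : Fin n → F) : Cfsg.hermForm n F q 0 v = 0 := by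
  unfold Cfsg.hermForm
  simp

theorem hf_neg_left (u v : Fin n → F) :
    Cfsg.hermForm n F q (-u) v = -Cfsg.hermForm n F q u v := by
  have := hf_smul_left (q := q) (-1 : F) u v
  simpa using this

theorem hf_sub_left (u u' v : Fin n → F) :
    Cfsg.hermForm n F q (u - u') v = Cfsg.hermForm n F q u v - Cfsg.hermForm n F q u' v := by
  rw [sub_eq_add_neg, hf_add_left, hf_neg_left, sub_eq_add_neg]

theorem hf_sum_left {ι : Type*} (s : Finset ι) (u : ι → (Fin n → F)) (v : Fin n → F) :
    Cfsg.hermForm n F q (∑ j ∈ s, u j) v = ∑ j ∈ s, Cfsg.hermForm n F q (u j) v := by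
  classical
  induction s using Finset.induction_on with
  | empty => simp [hf_zero_left]
  | insert a s ha ih => rw [Finset.sum_insert ha, Finset.sum_insert ha, hf_add_left, ih]

theorem hf_symm (hF : Fintype.card F = q ^ 2) (u v : Fin n → F) :
    cj hF (Cfsg.hermForm n F q u v) = Cfsg.hermForm n F q v u := by
  rw [hf_eq hF, hf_eq hF, map_sum]
  apply Finset.sum_congr rfl
  intro i _
  rw [map_mul, cj_cj, mul_comm]

theorem hf_add_right (hF : Fintype.card F = q ^ 2) (u v v' : Fin n → F) :
    Cfsg.hermForm n F q u (v + v') = Cfsg.hermForm n F q u v + Cfsg.hermForm n F q u v' := by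
  rw [← hf_symm hF, hf_add_left, map_add, hf_symm hF, hf_symm hF]

theorem hf_smul_right (hF : Fintype.card F = q ^ 2) (a : F) (u v : Fin n → F) :
    Cfsg.hermForm n F q u (a • v) = cj hF a * Cfsg.hermForm n F q u v := by
  rw [← hf_symm hF, hf_smul_left, map_mul, hf_symm hF]

theorem hf_zero_right (hF : Fintype.card F = q ^ 2) (u : Fin n → F) :
    Cfsg.hermForm n F q u 0 = 0 := by
  rw [← hf_symm hF, hf_zero_left, map_zero]

theorem hf_sum_right (hF : Fintype.card F = q ^ 2) {ι : Type*} (s : Finset ι)
    (u : Fin n → F) (v : ι → (Fin n → F)) :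
    Cfsg.hermForm n F q u (∑ j ∈ s, v j) = ∑ j ∈ s, Cfsg.hermForm n F q u (v j) := by
  classical
  induction s using Finset.induction_on with
  | empty => simp [hf_zero_right hF]
  | insert a s ha ih => rw [Finset.sum_insert ha, Finset.sum_insert ha, hf_add_right hF, ih]

theorem hf_self (u : Fin n → F) : Cfsg.hermForm n F q u u = ∑ i, u i ^ (q + 1) := by
  unfold Cfsg.hermForm
  apply Finset.sum_congr rfl
  intro i _
  rw [pow_succ']

theorem hf_self_mem_K (hF : Fintype.card F = q ^ 2) (u : Fin n → F) :
    Cfsg.hermForm n F q u u ∈ K hF := by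
  rw [hf_self]
  exact AddSubgroup.sum_mem _ (fun i _ => norm_mem_K hF (u i))

theorem hf_eq_zero_of_symm (hF : Fintype.card F = q ^ 2) {u v : Fin n → F}
    (h : Cfsg.hermForm n F q u v = 0) : Cfsg.hermForm n F q v u = 0 := by
  rw [← hf_symm hF, h, map_zero]

end Cfsg.Agent.Helper2.Herm
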