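import Mathlib
import Cfsg.Agent.Helper2.UnitaryForm

/-! Counting orthonormal frames for the standard Hermitian form. -/

set_option autoImplicit false
set_option linter.unusedSectionVars false
set_option linter.unusedVariables false

namespace Cfsg.Agent.Helper2.Herm

open Finset

variable {F : Type*} [Field F] [Fintype F] {q : ℕ}

open Classical in
theorem card_K (hF : Fintype.card F = q ^ 2) : Fintype.card (K hF) = q := by
  have hq := two_le_q hF
  have h := sum_norm hF (fun _ => 1)
  simp only [Finset.sum_const, Finset.card_univ, smul_eq_mul, mul_one] at h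
  rw [hF] at h
  have h' : (q + 1) * q = (q + 1) * Fintype.card (K hF) := by rw [← h]; ring
  exact (Nat.eq_of_mul_eq_mul_left (by omega) h').symm

/-- the one-variable convolution operator -/
def S1 (q : ℕ) (f : F → ℕ) (x : F) : ℕ := ∑ a : F, f (x - a ^ (q + 1))

open Classical in
theorem S1_add (hF : Fintype.card F = q ^ 2) (f : F → ℕ) {x : F} (hx : x ∈ K hF) :
    S1 q f x + q * f x = (q + 1) * ∑ k : K hF, f k := by
  have h := sum_norm hF (fun y => f (x - y))
  simp only [sub_zero] at h
  have h1 : ∑ k : K hF, f (x - k) = ∑ k : K hF, f (k : F) := by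
    apply Fintype.sum_equiv (Equiv.subLeft (⟨x, hx⟩ : K hF))
    intro k
    rfl
  rw [h1] at h
  exact h

open Classical in
theorem S1_injective (hF : Fintype.card F = q ^ 2) (f g : F → ℕ)
    (h : ∀ x ∈ K hF, S1 q f x = S1 q g x) : ∀ x ∈ K hF, f x = g x := by
  have hq := two_le_q hF
  have e : ∀ x ∈ K hF, (q + 1) * ∑ k : K hF, f k + q * g x =
      (q + 1) * ∑ k : K hF, g k + q * f x := by
    intro x hx
    rw [← S1_add hF f hx, ← S1_add hF g hx, h x hx]
    ring
  -- sum over `K`
  have hsum : ∑ x : K hF, ((q + 1) * ∑ k : K hF, f k + q * g x) =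
      ∑ x : K hF, ((q + 1) * ∑ k : K hF, g k + q * f x) :=
    Finset.sum_congr rfl (fun x _ => e x x.2)
  simp only [Finset.sum_add_distrib, Finset.sum_const, Finset.card_univ, smul_eq_mul,
    ← Finset.mul_sum, card_K hF] at hsum
  set A := ∑ k : K hF, f k with hA
  set B := ∑ k : K hF, g k with hB
  have hAB : A = B := by
    have h1 : q * q * A = q * q * B := by nlinarith [hsum]
    exact Nat.eq_of_mul_eq_mul_left (by positivity) h1
  intro x hx
  have := e x hx
  rw [hAB] at this
  have h2 : q * g x = q * f x := by omega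
  exact (Nat.eq_of_mul_eq_mul_left (by omega) h2).symm

/-- the `k`-variable convolution operator -/
def Sk (q k : ℕ) (f : F → ℕ) (x : F) : ℕ := ∑ a : Fin k → F, f (x - ∑ j, a j ^ (q + 1))

theorem Sk_zero (f : F → ℕ) (x : F) : Sk q 0 f x = f x := by
  unfold Sk
  simp

theorem Sk_succ (k : ℕ) (f : F → ℕ) (x : F) : Sk q (k + 1) f x = S1 q (Sk q k f) x := by
  unfold Sk S1
  rw [← Fintype.sum_prod_type']
  apply Fintype.sum_equiv (Fin.consEquiv (fun _ => F)).symm
  intro v
  obtain ⟨⟨a, w⟩, rfl⟩ := (Fin.consEquiv (fun _ : Fin (k + 1) => F)).surjective v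
  rw [Equiv.symm_apply_apply]
  simp only [Fin.consEquiv_apply, Fin.sum_univ_succ, Fin.cons_zero, Fin.cons_succ]
  congr 1
  ring

theorem Sk_mem (hF : Fintype.card F = q ^ 2) {x a : F} (hx : x ∈ K hF) :
    x - a ^ (q + 1) ∈ K hF := AddSubgroup.sub_mem _ hx (norm_mem_K hF a)

theorem Sk_injective (hF : Fintype.card F = q ^ 2) (k : ℕ) (f g : F → ℕ)
    (h : ∀ x ∈ K hF, Sk q k f x = Sk q k g x) : ∀ x ∈ K hF, f x = g x := by
  induction k with
  | zero =>
    intro x hx
    have := h x hx
    rwa [Sk_zero, Sk_zero] at this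
  | succ k ih =>
    apply ih
    apply S1_injective hF
    intro x hx
    have := h x hx
    rwa [Sk_succ, Sk_succ] at this

theorem T_add_eq_Sk (j k : ℕ) (x : F) : T q (j + k) x = Sk q k (T q j) x := by
  induction k generalizing x with
  | zero => rw [Sk_zero]; rfl
  | succ k ih =>
    rw [Sk_succ, ← add_assoc, T_succ_eq_sum]
    unfold S1
    apply Finset.sum_congr rfl
    intro a _
    exact ih _

/-! ### Orthonormal frames -/

/-- orthonormal frames -/
def IsON (q : ℕ) {k n : ℕ} (c : Fin k → (Fin n → F)) : Prop :=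
  ∀ i j, Cfsg.hermForm n F q (c i) (c j) = if i = j then 1 else 0

/-- the orthogonal complement of a frame -/
def Perp (q : ℕ) {k n : ℕ} (c : Fin k → (Fin n → F)) : Set (Fin n → F) :=
  {w | ∀ j, Cfsg.hermForm n F q w (c j) = 0}

theorem hf_comb_left {k n : ℕ} (c : Fin k → (Fin n → F)) (hc : IsON q c)
    (a : Fin k → F) (i : Fin k) :
    Cfsg.hermForm n F q (∑ j, a j • c j) (c i) = a i := by
  rw [hf_sum_left, Finset.sum_eq_single i]
  · rw [hf_smul_left, hc i i, if_pos rfl, mul_one]
  · intro j _ hji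
    rw [hf_smul_left, hc j i, if_neg hji, mul_zero]
  · intro h; exact absurd (Finset.mem_univ i) h

theorem sub_comb_mem_perp {k n : ℕ} (c : Fin k → (Fin n → F)) (hc : IsON q c)
    (v : Fin n → F) :
    v - ∑ j, Cfsg.hermForm n F q v (c j) • c j ∈ Perp q c := by
  intro i
  rw [hf_sub_left, hf_comb_left c hc, sub_self]

/-- orthogonal decomposition along a frame -/
def decompEquiv {k n : ℕ} (c : Fin k → (Fin n → F)) (hc : IsON q c) :
    (Fin n → F) ≃ (Fin k → F) × Perp q c where
  toFun v := (fun j => Cfsg.hermForm n F q v (c j),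
    ⟨v - ∑ j, Cfsg.hermForm n F q v (c j) • c j, sub_comb_mem_perp c hc v⟩)
  invFun p := ∑ j, p.1 j • c j + p.2.1
  left_inv v := by simp
  right_inv p := by
    obtain ⟨a, w, hw⟩ := p
    have h1 : (fun i => Cfsg.hermForm n F q (∑ j, a j • c j + w) (c i)) = a := by
      funext i
      rw [hf_add_left, hf_comb_left c hc, hw i, add_zero]
    apply Prod.ext
    · exact h1
    · apply Subtype.ext
      simp only
      have h1' : ∀ i, Cfsg.hermForm n F q (∑ j, a j • c j + w) (c i) = a i :=
        fun i => congrFun h1 i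
      have : ∑ x, Cfsg.hermForm n F q (∑ j, a j • c j + w) (c x) • c x = ∑ x, a x • c x :=
        Finset.sum_congr rfl (fun i _ => by rw [h1' i])
      rw [this]
      abel

theorem hf_decomp (hF : Fintype.card F = q ^ 2) {k n : ℕ} (c : Fin k → (Fin n → F))
    (hc : IsON q c) (a : Fin k → F) (w : Perp q c) :
    Cfsg.hermForm n F q (∑ j, a j • c j + w.1) (∑ j, a j • c j + w.1) =
      ∑ j, a j ^ (q + 1) + Cfsg.hermForm n F q w.1 w.1 := by
  have hw : ∀ j, Cfsg.hermForm n F q w.1 (c j) = 0 := w.2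
  have hw' : ∀ j, Cfsg.hermForm n F q (c j) w.1 = 0 := fun j => hf_eq_zero_of_symm hF (hw j)
  rw [hf_add_left, hf_add_right hF, hf_add_right hF]
  have e1 : Cfsg.hermForm n F q (∑ j, a j • c j) (∑ j, a j • c j) = ∑ j, a j ^ (q + 1) := by
    rw [hf_sum_right hF]
    apply Finset.sum_congr rfl
    intro j _
    rw [hf_smul_right hF, hf_comb_left c hc, cj_apply, pow_succ']
    ring
  have e2 : Cfsg.hermForm n F q (∑ j, a j • c j) w.1 = 0 := by
    rw [hf_sum_left]
    apply Finset.sum_eq_zero
    intro j _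
    rw [hf_smul_left, hw' j, mul_zero]
  have e3 : Cfsg.hermForm n F q w.1 (∑ j, a j • c j) = 0 := by
    rw [hf_sum_right hF]
    apply Finset.sum_eq_zero
    intro j _
    rw [hf_smul_right hF, hw j, mul_zero]
  rw [e1, e2, e3]
  ring

/-- number of vectors of norm `x` in the complement of a frame -/
noncomputable def NW (q : ℕ) {k n : ℕ} (c : Fin k → (Fin n → F)) (x : F) : ℕ :=
  Nat.card {w : Perp q c // Cfsg.hermForm n F q w.1 w.1 = x}

theorem T_eq_Sk_NW (hF : Fintype.card F = q ^ 2) {k n : ℕ} (c : Fin k → (Fin n → F))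
    (hc : IsON q c) (x : F) : T q n x = Sk q k (NW q c) x := by
  classical
  rw [← card_hermForm_eq (q := q) n x]
  have E1 : {v : Fin n → F // Cfsg.hermForm n F q v v = x} ≃
      {p : (Fin k → F) × Perp q c //
        ∑ j, p.1 j ^ (q + 1) + Cfsg.hermForm n F q p.2.1 p.2.1 = x} := by
    refine (decompEquiv c hc).subtypeEquiv ?_
    intro v
    have hv : v = (decompEquiv c hc).symm ((decompEquiv c hc) v) := by simp
    conv_lhs => rw [hv]
    change Cfsg.hermForm n F q (∑ j, ((decompEquiv c hc) v).1 j • c j + ((decompEquiv c hc) v).2.1)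
      (∑ j, ((decompEquiv c hc) v).1 j • c j + ((decompEquiv c hc) v).2.1) = x ↔ _
    rw [hf_decomp hF c hc]
  have E2 := Equiv.subtypeProdEquivSigmaSubtype
    (fun (a : Fin k → F) (w : Perp q c) =>
      ∑ j, a j ^ (q + 1) + Cfsg.hermForm n F q w.1 w.1 = x)
  rw [Nat.card_congr (E1.trans E2), Nat.card_sigma]
  unfold Sk NW
  apply Finset.sum_congr rfl
  intro a _
  apply Nat.card_congr
  apply Equiv.subtypeEquivRight
  intro w
  constructor
  · intro h; rw [← h]; ring
  · intro h; rw [h]; ring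

/-- the number of vectors of given norm in the complement of a `k`-frame -/
theorem NW_eq_T (hF : Fintype.card F = q ^ 2) {k j : ℕ} (c : Fin k → (Fin (j + k) → F))
    (hc : IsON q c) {x : F} (hx : x ∈ K hF) : NW q c x = T q j x := by
  apply Sk_injective hF k (NW q c) (T q j) _ x hx
  intro y _
  rw [← T_eq_Sk_NW hF c hc, T_add_eq_Sk]

theorem NW_eq_T' (hF : Fintype.card F = q ^ 2) {k j n : ℕ} (hn : n = j + k)
    (c : Fin k → (Fin n → F)) (hc : IsON q c) {x : F} (hx : x ∈ K hF) : NW q c x = T q j x := by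
  subst hn
  exact NW_eq_T hF c hc hx

/-- number of orthonormal `k`-frames in `F^n` -/
noncomputable def A (F : Type*) [Field F] [Fintype F] (q k n : ℕ) : ℕ :=
  Nat.card {c : Fin k → (Fin n → F) // IsON q c}

theorem isON_cons (hF : Fintype.card F = q ^ 2) {k n : ℕ} (c : Fin k → (Fin n → F))
    (w : Fin n → F) :
    IsON q (Fin.cons w c : Fin (k + 1) → (Fin n → F)) ↔
      IsON q c ∧ w ∈ Perp q c ∧ Cfsg.hermForm n F q w w = 1 := by
  constructor
  · intro h
    refine ⟨?_, ?_, ?_⟩
    · intro i j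
      have := h i.succ j.succ
      simp only [Fin.cons_succ, Fin.succ_inj] at this
      exact this
    · intro j
      have := h 0 j.succ
      simp only [Fin.cons_succ, Fin.cons_zero] at this
      rw [this, if_neg (Fin.succ_ne_zero j).symm]
    · have := h 0 0
      simpa using this
  · rintro ⟨hc, hw, hww⟩ i j
    refine Fin.cases ?_ (fun i' => ?_) i <;> refine Fin.cases ?_ (fun j' => ?_) j
    · simpa using hww
    · simp only [Fin.cons_succ, Fin.cons_zero]
      rw [hw j', if_neg (Fin.succ_ne_zero j').symm]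
    · simp only [Fin.cons_succ, Fin.cons_zero]
      rw [hf_eq_zero_of_symm hF (hw i'), if_neg (Fin.succ_ne_zero i')]
    · simp only [Fin.cons_succ, Fin.succ_inj]
      exact hc i' j'

theorem A_zero (n : ℕ) : A F q 0 n = 1 := by
  unfold A
  have : Unique {c : Fin 0 → (Fin n → F) // IsON q c} :=
    { default := ⟨fun i => i.elim0, fun i => i.elim0⟩
      uniq := by
        rintro ⟨c, hc⟩
        apply Subtype.ext
        funext i
        exact i.elim0 }
  exact Nat.card_unique

theorem A_succ (hF : Fintype.card F = q ^ 2) {k j n : ℕ} (hn : n = j + k) :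
    A F q (k + 1) n = A F q k n * T q j (1 : F) := by
  classical
  unfold A
  have E : {c : Fin (k + 1) → (Fin n → F) // IsON q c} ≃
      Σ c : {c : Fin k → (Fin n → F) // IsON q c},
        {w : Perp q c.1 // Cfsg.hermForm n F q w.1 w.1 = 1} :=
    { toFun := fun c' =>
        have h := (isON_cons hF (Fin.tail c'.1) (c'.1 0)).mp (by rw [Fin.cons_self_tail]; exact c'.2)
        ⟨⟨Fin.tail c'.1, h.1⟩, ⟨⟨c'.1 0, h.2.1⟩, h.2.2⟩⟩
      invFun := fun p => ⟨Fin.cons p.2.1.1 p.1.1,
        (isON_cons hF p.1.1 p.2.1.1).mpr ⟨p.1.2, p.2.1.2, p.2.2⟩⟩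
      left_inv := by
        rintro ⟨c', hc'⟩
        apply Subtype.ext
        exact Fin.cons_self_tail c'
      right_inv := by
        rintro ⟨⟨c, hc⟩, ⟨⟨w, hw⟩, hww⟩⟩
        rfl }
  rw [Nat.card_congr E, Nat.card_sigma]
  have : ∀ c : {c : Fin k → (Fin n → F) // IsON q c},
      Nat.card {w : Perp q c.1 // Cfsg.hermForm n F q w.1 w.1 = 1} = T q j (1 : F) := by
    intro c
    exact NW_eq_T' hF hn c.1 c.2 (one_mem_K hF)
  rw [Finset.sum_congr rfl (fun c _ => this c), Finset.sum_const, Finset.card_univ, smul_eq_mul,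
    Nat.card_eq_fintype_card]

theorem A_eq_prod (hF : Fintype.card F = q ^ 2) (n k : ℕ) (hk : k ≤ n) :
    A F q k n = ∏ i ∈ Finset.range k, T q (n - i) (1 : F) := by
  induction k with
  | zero => rw [A_zero]; simp
  | succ k ih =>
    rw [A_succ hF (j := n - k) (by omega), ih (by omega), Finset.prod_range_succ]

theorem A_self (hF : Fintype.card F = q ^ 2) (n : ℕ) :
    A F q n n = ∏ i ∈ Finset.range n, T q (i + 1) (1 : F) := by
  rw [A_eq_prod hF n n le_rfl, ← Finset.prod_range_reflect]
  apply Finset.prod_congr rfl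
  intro i hi
  rw [Finset.mem_range] at hi
  congr 1
  omega

theorem A_self_closed (hF : Fintype.card F = q ^ 2) (n : ℕ) :
    A F q n n = q ^ (n * (n - 1) / 2) *
      ∏ i ∈ Finset.range n, (if Even i then q ^ (i + 1) + 1 else q ^ (i + 1) - 1) := by
  rw [A_self hF]
  have : ∀ i ∈ Finset.range n, T q (i + 1) (1 : F) =
      q ^ i * (if Even i then q ^ (i + 1) + 1 else q ^ (i + 1) - 1) := by
    intro i _
    rw [T_one hF, Nat.add_sub_cancel]
    by_cases hi : Even i
    · rw [if_neg (by rw [Nat.even_add_one]; exact not_not.mpr hi), if_pos hi]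
    · rw [if_pos (by rw [Nat.even_add_one]; exact hi), if_neg hi]
  rw [Finset.prod_congr rfl this, Finset.prod_mul_distrib, Finset.prod_pow_eq_pow_sum,
    Finset.sum_range_id]

end Cfsg.Agent.Helper2.Herm
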