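import Mathlib
import Cfsg.Agent.Helper2.UnitaryCount

/-! Quadratic extensions of finite fields: norm and trace equations. -/

set_option autoImplicit false
set_option linter.unusedSectionVars false
set_option linter.unusedVariables false

namespace Cfsg.Agent.Helper2.QExt

open Finset Cfsg.Agent.Helper2.Herm

variable {F : Type*} [Field F] [Fintype F] {E : Type*} [Field E] [Fintype E] [Algebra F E] {q : ℕ}

local notation "ι" => algebraMap F E

theorem cj_algebraMap (hF : Fintype.card F = q) (hE : Fintype.card E = q ^ 2) (x : F) :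
    cj hE (ι x) = ι x := by
  rw [cj_apply, ← map_pow, ← hF, FiniteField.pow_card]

/-- the fixed points of the conjugation are the elements of the small field -/
theorem exists_of_cj_eq (hF : Fintype.card F = q) (hE : Fintype.card E = q ^ 2) {u : E}
    (hu : cj hE u = u) : ∃ x : F, u = ι x := by
  classical
  have hK := card_K hE
  -- the image of `F`
  let f : F → K hE := fun x => ⟨ι x, cj_algebraMap hF hE x⟩
  have hinj : Function.Injective f := by
    intro x y h
    have : ι x = ι y := congrArg Subtype.val h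
    exact (algebraMap F E).injective this
  have hbij : Function.Bijective f := by
    rw [Fintype.bijective_iff_injective_and_card]
    refine ⟨hinj, ?_⟩
    rw [hF]
    convert hK.symm
  obtain ⟨x, hx⟩ := hbij.2 ⟨u, hu⟩
  exact ⟨x, (congrArg Subtype.val hx).symm⟩

theorem root_of_trace_norm (hE : Fintype.card E = q ^ 2) {a b : F} {u : E}
    (h1 : u + cj hE u = ι a) (h2 : u * cj hE u = ι b) :
    u ^ 2 - ι a * u + ι b = 0 := by
  rw [← h1, ← h2]; ring

section root

variable (hF : Fintype.card F = q) (hE : Fintype.card E = q ^ 2) {a b : F}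
  (hirr : ∀ r : F, r ^ 2 - a * r + b ≠ 0)

include hF hE hirr

theorem cj_ne_of_root {u : E} (hu : u ^ 2 - ι a * u + ι b = 0) : cj hE u ≠ u := by
  intro h
  obtain ⟨x, rfl⟩ := exists_of_cj_eq hF hE h
  apply hirr x
  apply (algebraMap F E).injective
  rw [map_add, map_sub, map_pow, map_mul, map_zero]
  exact hu

theorem cj_root {u : E} (hu : u ^ 2 - ι a * u + ι b = 0) : cj hE u = ι a - u := by
  have h1 : (cj hE u) ^ 2 - ι a * cj hE u + ι b = 0 := by
    have := congrArg (cj hE) hu
    rw [map_add, map_sub, map_pow, map_mul, map_zero, cj_algebraMap hF hE, cj_algebraMap hF hE]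
      at this
    exact this
  have h2 : (cj hE u - u) * (cj hE u - (ι a - u)) = 0 := by
    linear_combination h1 - hu
  rcases mul_eq_zero.mp h2 with h | h
  · exact absurd (sub_eq_zero.mp h) (cj_ne_of_root hF hE hirr hu)
  · exact sub_eq_zero.mp h

theorem trace_norm_of_root {u : E} (hu : u ^ 2 - ι a * u + ι b = 0) :
    u + cj hE u = ι a ∧ u * cj hE u = ι b := by
  rw [cj_root hF hE hirr hu]
  constructor
  · ring
  · linear_combination -hu

/-- an irreducible quadratic with a root has exactly two roots -/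
theorem card_roots {u₀ : E} (hu₀ : u₀ ^ 2 - ι a * u₀ + ι b = 0) :
    Nat.card {u : E // u ^ 2 - ι a * u + ι b = 0} = 2 := by
  classical
  have hne : u₀ ≠ ι a - u₀ := by
    intro h
    have := cj_root hF hE hirr hu₀
    rw [← h] at this
    exact cj_ne_of_root hF hE hirr hu₀ this
  have hset : ∀ u : E, u ^ 2 - ι a * u + ι b = 0 ↔ u ∈ ({u₀, ι a - u₀} : Finset E) := by
    intro u
    rw [Finset.mem_insert, Finset.mem_singleton]
    constructor
    · intro hu
      have h2 : (u - u₀) * (u - (ι a - u₀)) = 0 := by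
        linear_combination hu - hu₀
      rcases mul_eq_zero.mp h2 with h | h
      · left; exact sub_eq_zero.mp h
      · right; exact sub_eq_zero.mp h
    · rintro (rfl | rfl)
      · exact hu₀
      · linear_combination hu₀
  rw [Nat.card_congr (Equiv.subtypeEquivRight hset), Nat.card_eq_fintype_card, Fintype.card_coe,
    Finset.card_pair hne]

end root

section basis

variable (hF : Fintype.card F = q) (hE : Fintype.card E = q ^ 2) {a' b' : F}
  (hirr' : ∀ r : F, r ^ 2 - a' * r + b' ≠ 0) {θ : E}
  (hθ : θ ^ 2 - (algebraMap F E) a' * θ + (algebraMap F E) b' = 0)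

/-- coordinates with respect to `1, θ` -/
def phi (θ : E) (p : F × F) : E := ι p.1 + ι p.2 * θ

include hF hE hirr' hθ

theorem phi_injective : Function.Injective (phi θ : F × F → E) := by
  rintro ⟨x, y⟩ ⟨x', y'⟩ h
  unfold phi at h
  simp only at h
  have hy : y = y' := by
    by_contra hne
    have hne' : ι (y - y') ≠ 0 := by
      rw [Ne, map_eq_zero_iff _ (algebraMap F E).injective]
      exact sub_ne_zero.mpr hne
    have h1 : θ = ι (-(x - x') / (y - y')) := by
      rw [map_div₀, eq_div_iff hne', map_neg, map_sub, map_sub]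
      linear_combination h
    apply hirr' (-(x - x') / (y - y'))
    apply (algebraMap F E).injective
    rw [map_add, map_sub, map_pow, map_mul, map_zero, ← h1]
    exact hθ
  subst hy
  have hx : ι x = ι x' := by linear_combination h
  rw [(algebraMap F E).injective hx]

theorem phi_bijective : Function.Bijective (phi θ : F × F → E) := by
  rw [Fintype.bijective_iff_injective_and_card]
  refine ⟨phi_injective hF hE hirr' hθ, ?_⟩
  rw [Fintype.card_prod, hF, hE, sq]

omit hirr' in
theorem cj_phi (hirr' : ∀ r : F, r ^ 2 - a' * r + b' ≠ 0) (p : F × F) :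
    cj hE (phi θ p) = ι p.1 + ι p.2 * (ι a' - θ) := by
  unfold phi
  rw [map_add, map_mul, cj_algebraMap hF hE, cj_algebraMap hF hE, cj_root hF hE hirr' hθ]

theorem norm_phi (p : F × F) :
    phi θ p * cj hE (phi θ p) = ι (p.1 ^ 2 + a' * p.1 * p.2 + b' * p.2 ^ 2) := by
  rw [cj_phi hF hE hθ hirr']
  unfold phi
  simp only [map_add, map_mul, map_pow]
  linear_combination (-(ι p.2) ^ 2) * hθ

theorem trace_phi (p : F × F) :
    phi θ p + cj hE (phi θ p) = ι (2 * p.1 + a' * p.2) := by
  rw [cj_phi hF hE hθ hirr']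
  unfold phi
  simp only [map_add, map_mul, map_ofNat]
  ring

/-- the number of vectors of given non-zero norm -/
theorem card_norm_eq {c : F} (hc : c ≠ 0) :
    Nat.card {p : F × F // p.1 ^ 2 + a' * p.1 * p.2 + b' * p.2 ^ 2 = c} = q + 1 := by
  classical
  have hk : ι c ∈ K hE := cj_algebraMap hF hE c
  have hk0 : ι c ≠ 0 := by
    rw [Ne, map_eq_zero_iff _ (algebraMap F E).injective]; exact hc
  have h1 := card_fiber_ne_zero hE hk hk0
  rw [← h1, ← Fintype.card_subtype, ← Nat.card_eq_fintype_card]
  apply Nat.card_congr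
  refine Equiv.subtypeEquiv (Equiv.ofBijective _ (phi_bijective hF hE hirr' hθ)) ?_
  intro p
  have e : phi θ p ^ (q + 1) = phi θ p * cj hE (phi θ p) := by rw [cj_apply, pow_succ']
  rw [Equiv.ofBijective_apply, e, norm_phi hF hE hirr' hθ]
  constructor
  · intro h; rw [h]
  · intro h; exact (algebraMap F E).injective h

/-- solutions of the trace and norm equations -/
theorem card_trace_norm_eq {a b : F} (hirr : ∀ r : F, r ^ 2 - a * r + b ≠ 0) {u₀ : E}
    (hu₀ : u₀ ^ 2 - ι a * u₀ + ι b = 0) :
    Nat.card {p : F × F // 2 * p.1 + a' * p.2 = a ∧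
      p.1 ^ 2 + a' * p.1 * p.2 + b' * p.2 ^ 2 = b} = 2 := by
  refine Eq.trans ?_ (card_roots hF hE hirr hu₀)
  apply Nat.card_congr
  refine Equiv.subtypeEquiv (Equiv.ofBijective _ (phi_bijective hF hE hirr' hθ)) ?_
  intro p
  rw [Equiv.ofBijective_apply]
  constructor
  · rintro ⟨h1, h2⟩
    apply root_of_trace_norm hE
    · rw [trace_phi hF hE hirr' hθ, h1]
    · rw [norm_phi hF hE hirr' hθ, h2]
  · intro h
    obtain ⟨h1, h2⟩ := trace_norm_of_root hF hE hirr h
    rw [trace_phi hF hE hirr' hθ] at h1
    rw [norm_phi hF hE hirr' hθ] at h2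
    exact ⟨(algebraMap F E).injective h1, (algebraMap F E).injective h2⟩

end basis

/-! ### Existence of the quadratic extension -/

section exist

open Polynomial

variable {F : Type*} [Field F] [Fintype F] {q : ℕ}

/-- the quadratic polynomial `X² - aX + b` -/
noncomputable def qpoly (a b : F) : F[X] := C 1 * X ^ 2 + C (-a) * X + C b

theorem natDegree_qpoly (a b : F) : (qpoly a b).natDegree = 2 :=
  natDegree_quadratic one_ne_zero

theorem qpoly_ne_zero (a b : F) : qpoly a b ≠ 0 := by
  intro h
  have := natDegree_qpoly a b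
  rw [h, natDegree_zero] at this
  omega

theorem eval_qpoly (a b r : F) : (qpoly a b).eval r = r ^ 2 - a * r + b := by
  unfold qpoly
  simp
  ring

theorem irreducible_qpoly {a b : F} (hirr : ∀ r : F, r ^ 2 - a * r + b ≠ 0) :
    Irreducible (qpoly a b) := by
  apply irreducible_of_degree_le_three_of_not_isRoot
  · rw [natDegree_qpoly]; decide
  · intro r hr
    rw [IsRoot, eval_qpoly] at hr
    exact hirr r hr

theorem aeval_qpoly {E : Type*} [Field E] [Algebra F E] (a b : F) (u : E) :
    aeval u (qpoly a b) = u ^ 2 - algebraMap F E a * u + algebraMap F E b := by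
  unfold qpoly
  simp
  ring

theorem finrank_adjoinRoot (a b : F) : Module.finrank F (AdjoinRoot (qpoly a b)) = 2 := by
  rw [(AdjoinRoot.powerBasis (qpoly_ne_zero a b)).finrank, AdjoinRoot.powerBasis_dim,
    natDegree_qpoly]

instance (a b : F) : Module.Finite F (AdjoinRoot (qpoly a b)) :=
  (AdjoinRoot.powerBasis (qpoly_ne_zero a b)).finite

instance (a b : F) : Finite (AdjoinRoot (qpoly a b)) :=
  Module.finite_of_finite F

theorem natCard_adjoinRoot (hF : Fintype.card F = q) (a b : F) :
    Nat.card (AdjoinRoot (qpoly a b)) = q ^ 2 := by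
  rw [Module.natCard_eq_pow_finrank (K := F), finrank_adjoinRoot, Nat.card_eq_fintype_card, hF]

/-- a field with `q²` elements over `F` contains a root of every irreducible quadratic -/
theorem exists_root {E : Type*} [Field E] [Fintype E] [Algebra F E] (hF : Fintype.card F = q)
    (hE : Fintype.card E = q ^ 2) {a b : F} (hirr : ∀ r : F, r ^ 2 - a * r + b ≠ 0) :
    ∃ u : E, u ^ 2 - algebraMap F E a * u + algebraMap F E b = 0 := by
  haveI : Fact (Irreducible (qpoly a b)) := ⟨irreducible_qpoly hirr⟩
  have hq : 2 ≤ q := by rw [← hF]; exact Fintype.one_lt_card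
  have hfin : Module.finrank F E = 2 := by
    have h1 := Module.card_eq_pow_finrank (K := F) (V := E)
    rw [hE, hF] at h1
    exact (Nat.pow_right_injective hq h1).symm
  obtain ⟨ψ⟩ := FiniteField.nonempty_algHom_of_finrank_dvd (F := F)
    (K := AdjoinRoot (qpoly a b)) (L := E) (by rw [finrank_adjoinRoot, hfin])
  refine ⟨ψ (AdjoinRoot.root (qpoly a b)), ?_⟩
  rw [← aeval_qpoly]
  exact AdjoinRoot.aeval_algHom_eq_zero _ ψ

/-- counting vectors of given norm for an anisotropic binary form -/
theorem card_norm_eq' (hF : Fintype.card F = q) {a' b' : F}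
    (hirr' : ∀ r : F, r ^ 2 - a' * r + b' ≠ 0) {c : F} (hc : c ≠ 0) :
    Nat.card {p : F × F // p.1 ^ 2 + a' * p.1 * p.2 + b' * p.2 ^ 2 = c} = q + 1 := by
  haveI : Fact (Irreducible (qpoly a' b')) := ⟨irreducible_qpoly hirr'⟩
  haveI : Fintype (AdjoinRoot (qpoly a' b')) := Fintype.ofFinite _
  have hE : Fintype.card (AdjoinRoot (qpoly a' b')) = q ^ 2 := by
    rw [← Nat.card_eq_fintype_card]; exact natCard_adjoinRoot hF a' b'
  have hθ : (AdjoinRoot.root (qpoly a' b')) ^ 2 -
      algebraMap F _ a' * AdjoinRoot.root (qpoly a' b') + algebraMap F _ b' = 0 := by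
    rw [← aeval_qpoly, AdjoinRoot.aeval_eq, AdjoinRoot.mk_self]
  exact card_norm_eq hF hE hirr' hθ hc

/-- counting solutions of the trace and norm equations -/
theorem card_trace_norm_eq' (hF : Fintype.card F = q) {a' b' : F}
    (hirr' : ∀ r : F, r ^ 2 - a' * r + b' ≠ 0) {a b : F}
    (hirr : ∀ r : F, r ^ 2 - a * r + b ≠ 0) :
    Nat.card {p : F × F // 2 * p.1 + a' * p.2 = a ∧
      p.1 ^ 2 + a' * p.1 * p.2 + b' * p.2 ^ 2 = b} = 2 := by
  haveI : Fact (Irreducible (qpoly a' b')) := ⟨irreducible_qpoly hirr'⟩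
  haveI : Fintype (AdjoinRoot (qpoly a' b')) := Fintype.ofFinite _
  have hE : Fintype.card (AdjoinRoot (qpoly a' b')) = q ^ 2 := by
    rw [← Nat.card_eq_fintype_card]; exact natCard_adjoinRoot hF a' b'
  have hθ : (AdjoinRoot.root (qpoly a' b')) ^ 2 -
      algebraMap F _ a' * AdjoinRoot.root (qpoly a' b') + algebraMap F _ b' = 0 := by
    rw [← aeval_qpoly, AdjoinRoot.aeval_eq, AdjoinRoot.mk_self]
  obtain ⟨u₀, hu₀⟩ := exists_root hF hE hirr
  exact card_trace_norm_eq hF hE hirr' hθ hirr hu₀

end exist

end Cfsg.Agent.Helper2.QExt
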