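import Mathlib
import Cfsg.Agent.Helper2.QuadExt

/-! Anisotropic planes over a finite field. -/

set_option autoImplicit false
set_option linter.unusedSectionVars false
set_option linter.unusedVariables false

namespace Cfsg.Agent.Helper2.Quad

open Finset QuadraticMap

variable {F : Type*} [Field F] [Fintype F] {V : Type*} [AddCommGroup V] [Module F V]
  {Q : QuadraticForm F V} {q : ℕ}

/-- in an anisotropic plane, the Gram equations relative to a vector of norm one have exactly
two solutions -/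
theorem card_gram_two (hF : Fintype.card F = q) (X : Submodule F V) (hX : Nat.card X = q ^ 2)
    (han : ∀ w ∈ X, Q w = 0 → w = 0) {w₁ : V} (hw₁ : w₁ ∈ X) (hq1 : Q w₁ = 1) {a b : F}
    (hirr : ∀ r : F, r ^ 2 - a * r + b ≠ 0) :
    Nat.card {w₂ : X // Q w₂.1 = b ∧ polar Q w₁ w₂.1 = a} = 2 := by
  classical
  have hq : 2 ≤ q := by rw [← hF]; exact Fintype.one_lt_card
  haveI : Finite X := Nat.finite_of_card_ne_zero (by rw [hX]; positivity)
  have hw₁0 : w₁ ≠ 0 := by
    intro h; rw [h, map_zero] at hq1; exact zero_ne_one hq1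
  -- a second basis vector
  obtain ⟨w, hw, hwn⟩ : ∃ w ∈ X, ∀ x : F, w ≠ x • w₁ := by
    by_contra hcon
    push_neg at hcon
    have hsurj : Function.Surjective (fun x : F => (⟨x • w₁, X.smul_mem x hw₁⟩ : X)) := by
      rintro ⟨w, hw⟩
      obtain ⟨x, hx⟩ := hcon w hw
      exact ⟨x, Subtype.ext hx.symm⟩
    have := Nat.card_le_card_of_surjective _ hsurj
    rw [hX, Nat.card_eq_fintype_card, hF] at this
    nlinarith
  obtain ⟨a', ha'⟩ : ∃ a', a' = polar Q w₁ w := ⟨_, rfl⟩
  obtain ⟨b', hb'⟩ : ∃ b', b' = Q w := ⟨_, rfl⟩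
  let ψ : F × F → X := fun p => ⟨p.1 • w₁ + p.2 • w, X.add_mem (X.smul_mem _ hw₁) (X.smul_mem _ hw)⟩
  have hψinj : Function.Injective ψ := by
    rintro ⟨x, y⟩ ⟨x', y'⟩ h
    have h' : x • w₁ + y • w = x' • w₁ + y' • w := congrArg Subtype.val h
    have hy : y = y' := by
      by_contra hne
      have hne' : y - y' ≠ 0 := sub_ne_zero.mpr hne
      apply hwn ((x' - x) / (y - y'))
      have h2 : (y - y') • w = (x' - x) • w₁ := by
        rw [sub_smul, sub_smul, sub_eq_sub_iff_add_eq_add, add_comm (y • w), h']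
      rw [div_eq_inv_mul, mul_smul, ← h2, smul_smul, inv_mul_cancel₀ hne', one_smul]
    subst hy
    have h3 : (x - x') • w₁ = 0 := by
      rw [sub_smul, sub_eq_zero]
      exact add_right_cancel h'
    rcases smul_eq_zero.mp h3 with h4 | h4
    · rw [sub_eq_zero.mp h4]
    · exact absurd h4 hw₁0
  have hψ : Function.Bijective ψ := by
    rw [Nat.bijective_iff_injective_and_card]
    refine ⟨hψinj, ?_⟩
    rw [hX, Nat.card_prod, Nat.card_eq_fintype_card, hF, _root_.sq]
  have hQψ : ∀ p : F × F, Q (ψ p).1 = p.1 ^ 2 + a' * p.1 * p.2 + b' * p.2 ^ 2 := by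
    intro p
    change Q (p.1 • w₁ + p.2 • w) = _
    rw [QuadraticMap.map_add Q, QuadraticMap.map_smul, QuadraticMap.map_smul, polar_smul_left,
      polar_smul_right, hq1, ← hb', ← ha']
    simp only [smul_eq_mul]
    ring
  have hBψ : ∀ p : F × F, polar Q w₁ (ψ p).1 = 2 * p.1 + a' * p.2 := by
    intro p
    change polar Q w₁ (p.1 • w₁ + p.2 • w) = _
    rw [polar_add_right, polar_smul_right, polar_smul_right, polar_self, hq1, ← ha']
    simp only [smul_eq_mul, nsmul_eq_mul, Nat.cast_ofNat]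
    ring
  have hirr' : ∀ r : F, r ^ 2 - a' * r + b' ≠ 0 := by
    intro r hr
    have h1 : Q (ψ (-r, 1)).1 = 0 := by
      rw [hQψ]
      simp only
      linear_combination hr
    have h2 : (ψ (-r, 1)).1 = 0 := han _ (ψ (-r, 1)).2 h1
    have h3 : ψ (-r, 1) = ψ (0, 0) := by
      apply Subtype.ext
      rw [h2]
      simp [ψ]
    have := hψinj h3
    simp at this
  rw [← QExt.card_trace_norm_eq' hF hirr' hirr]
  symm
  apply Nat.card_congr
  refine Equiv.subtypeEquiv (Equiv.ofBijective ψ hψ) ?_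
  intro p
  rw [Equiv.ofBijective_apply, hQψ, hBψ]
  tauto

end Cfsg.Agent.Helper2.Quad
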