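import Mathlib
import Cfsg.Agent.Helper2.QuadGO
import Cfsg.Agent.Helper2.QuadPlane

/-! The order of `GO⁻_{2m}(q)`. -/

set_option autoImplicit false
set_option linter.unusedSectionVars false
set_option linter.unusedVariables false

namespace Cfsg.Agent.Helper2.Quad

open Finset QuadraticMap Matrix

variable {F : Type*} [Field F]

/-- anisotropy of the binary form `z₁² + a z₁ z₂ + b z₂²` -/
def Aniso (a b : F) : Prop := ∀ z₁ z₂ : F, z₁ ^ 2 + a * z₁ * z₂ + b * z₂ ^ 2 = 0 → z₁ = 0 ∧ z₂ = 0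

theorem Aniso.irr {a b : F} (h : Aniso a b) : ∀ r : F, r ^ 2 - a * r + b ≠ 0 := by
  intro r hr
  have := h (-r) 1 (by linear_combination hr)
  exact one_ne_zero this.2

/-- the minus-type model -/
noncomputable def minusModel (m : ℕ) (a b : F) (hab : Aniso a b) :
    Model F m (Fin 2) ((Fin m ⊕ Fin m) ⊕ Fin 2) where
  σ := Equiv.refl _
  Q := ∑ i : Fin m, QuadraticMap.proj (Sum.inl (Sum.inl i)) (Sum.inl (Sum.inr i)) +
    (QuadraticMap.proj (Sum.inr 0) (Sum.inr 0) + a • QuadraticMap.proj (Sum.inr 0) (Sum.inr 1) +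
      b • QuadraticMap.proj (Sum.inr 1) (Sum.inr 1))
  Q₀ := QuadraticMap.proj 0 0 + a • QuadraticMap.proj 0 1 + b • QuadraticMap.proj 1 1
  hQ := by
    intro v
    simp
  aniso := by
    intro z hz
    have h1 : z 0 * z 0 + a * (z 0 * z 1) + b * (z 1 * z 1) = 0 := by simpa using hz
    have h2 := hab (z 0) (z 1) (by linear_combination h1)
    funext j
    fin_cases j
    · exact h2.1
    · exact h2.2

theorem quadFormMinus_eq (m : ℕ) (a b : F) (hab : Aniso a b) :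
    Cfsg.quadFormMinus m F a b = fun v => (minusModel m a b hab).Q v := by
  funext v
  simp [Cfsg.quadFormMinus, minusModel, _root_.sq]
  ring

theorem Q₀_minus (m : ℕ) (a b : F) (hab : Aniso a b) (z : Fin 2 → F) :
    (minusModel m a b hab).Q₀ z = z 0 ^ 2 + a * z 0 * z 1 + b * z 1 ^ 2 := by
  simp [minusModel, _root_.sq]
  ring

theorem N₀_minus [Fintype F] {q : ℕ} (hF : Fintype.card F = q) (m : ℕ) (a b : F)
    (hab : Aniso a b) {c : F} (hc : c ≠ 0) : (minusModel m a b hab).N₀ c = q + 1 := by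
  unfold Model.N₀
  rw [← QExt.card_norm_eq' hF hab.irr hc]
  apply Nat.card_congr
  refine Equiv.subtypeEquiv (finTwoArrowEquiv F) ?_
  intro z
  rw [Q₀_minus]
  rfl

theorem Q_two {V : Type*} [AddCommGroup V] [Module F V] (Q : QuadraticForm F V) (t : Fin 2 → V)
    (z : Fin 2 → F) :
    Q (∑ j, z j • t j) = z 0 ^ 2 * Q (t 0) + z 1 ^ 2 * Q (t 1) + z 0 * z 1 * polar Q (t 0) (t 1) := by
  rw [Fin.sum_univ_two, QuadraticMap.map_add Q, QuadraticMap.map_smul, QuadraticMap.map_smul,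
    polar_smul_left, polar_smul_right]
  simp only [smul_eq_mul]
  ring

theorem gram_iff {V : Type*} [AddCommGroup V] [Module F V] (Q : QuadraticForm F V) (t : Fin 2 → V)
    (a b : F) :
    (∀ z : Fin 2 → F, Q (∑ j, z j • t j) = z 0 ^ 2 + a * z 0 * z 1 + b * z 1 ^ 2) ↔
      Q (t 0) = 1 ∧ Q (t 1) = b ∧ polar Q (t 0) (t 1) = a := by
  constructor
  · intro h
    have h1 := h ![1, 0]
    have h2 := h ![0, 1]
    have h3 := h ![1, 1]
    rw [Q_two] at h1 h2 h3
    simp only [Matrix.cons_val_zero, Matrix.cons_val_one, one_pow, one_mul, mul_one,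
      ne_eq, OfNat.ofNat_ne_zero, not_false_eq_true, zero_pow, zero_mul, mul_zero, add_zero,
      zero_add] at h1 h2 h3
    refine ⟨h1, h2, ?_⟩
    rw [h1, h2] at h3
    linear_combination h3
  · rintro ⟨h1, h2, h3⟩ z
    rw [Q_two, h1, h2, h3]
    ring

theorem card_emb_minus [Fintype F] {q : ℕ} (hF : Fintype.card F = q) (m : ℕ) (a b : F)
    (hab : Aniso a b)
    (c : Fin m → (((Fin m ⊕ Fin m) ⊕ Fin 2) → F) × (((Fin m ⊕ Fin m) ⊕ Fin 2) → F))
    (hc : IsHyp (minusModel m a b hab).Q c) :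
    Nat.card ((minusModel m a b hab).Emb c) = 2 * (q + 1) := by
  classical
  have hq : 2 ≤ q := by rw [← hF]; exact Fintype.one_lt_card
  obtain ⟨M, hM⟩ : ∃ M, M = minusModel m a b hab := ⟨_, rfl⟩
  rw [← hM] at hc ⊢
  have hQ₀ : ∀ z : Fin 2 → F, M.Q₀ z = z 0 ^ 2 + a * z 0 * z 1 + b * z 1 ^ 2 := by
    intro z; rw [hM]; exact Q₀_minus m a b hab z
  -- the complement is an anisotropic plane
  have hX : Nat.card (Perp M.Q c) = q ^ 2 := by
    have h1 := card_eq_mul_card_perp hc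
    rw [M.card_V, hF] at h1
    simp only [Fintype.card_fin] at h1
    rw [pow_add] at h1
    exact (Nat.eq_of_mul_eq_mul_left (Nat.pow_pos (by omega)) h1).symm
  have hNW := M.NW_full hc
  have han : ∀ w ∈ Perp M.Q c, M.Q w = 0 → w = 0 := by
    intro w hw hqw
    have h1 : NW M.Q c 0 = 1 := by rw [hNW, M.N₀_zero]
    unfold NW at h1
    have := (Nat.card_eq_one_iff_unique.mp h1).1
    have h2 : (⟨⟨w, hw⟩, hqw⟩ : {w : Perp M.Q c // M.Q w.1 = 0}) = ⟨0, by simp⟩ :=
      Subsingleton.elim _ _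
    exact congrArg (fun x : {w : Perp M.Q c // M.Q w.1 = 0} => x.1.1) h2
  have E : M.Emb c ≃ Σ w₁ : {w : Perp M.Q c // M.Q w.1 = 1},
      {w₂ : Perp M.Q c // M.Q w₂.1 = b ∧ polar M.Q w₁.1.1 w₂.1 = a} :=
    { toFun := fun t =>
        have h := (gram_iff M.Q t.1 a b).mp (fun z => by rw [t.2.2 z, hQ₀])
        ⟨⟨⟨t.1 0, t.2.1 0⟩, h.1⟩, ⟨⟨t.1 1, t.2.1 1⟩, h.2.1, h.2.2⟩⟩
      invFun := fun x => ⟨![x.1.1.1, x.2.1.1], by
        constructor
        · intro j
          fin_cases j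
          · exact x.1.1.2
          · exact x.2.1.2
        · intro z
          rw [hQ₀]
          exact (gram_iff M.Q ![x.1.1.1, x.2.1.1] a b).mpr ⟨x.1.2, x.2.2.1, x.2.2.2⟩ z⟩
      left_inv := by
        rintro ⟨t, ht⟩
        apply Subtype.ext
        funext j
        fin_cases j <;> rfl
      right_inv := by
        rintro ⟨⟨⟨w₁, hw₁⟩, h1⟩, ⟨⟨w₂, hw₂⟩, h2, h3⟩⟩
        rfl }
  haveI : Fintype {w : Perp M.Q c // M.Q w.1 = 1} := Fintype.ofFinite _
  rw [Nat.card_congr E, Nat.card_sigma,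
    Finset.sum_congr rfl (fun w₁ _ => card_gram_two hF (Perp M.Q c) hX han w₁.1.2 w₁.2 hab.irr),
    Finset.sum_const, Finset.card_univ, smul_eq_mul, ← Nat.card_eq_fintype_card]
  have h1 : NW M.Q c 1 = q + 1 := by
    rw [hNW, hM]; exact N₀_minus hF m a b hab one_ne_zero
  unfold NW at h1
  rw [h1, mul_comm]

theorem sq_sub_one' (x : ℕ) (hx : 1 ≤ x) : x ^ 2 - 1 = (x - 1) * (x + 1) := by
  obtain ⟨t, rfl⟩ : ∃ t, x = t + 1 := ⟨x - 1, by omega⟩
  have : (t + 1) ^ 2 = t * (t + 2) + 1 := by ring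
  rw [this]
  simp

theorem prod_minus (q : ℕ) (hq : 2 ≤ q) (s : ℕ → ℕ)
    (hs : ∀ j, (s j + 1) + q ^ (j + 1) = q ^ (2 * j + 1) + q ^ j) (k : ℕ) :
    (q + 1) * ∏ i ∈ Finset.range k, s (i + 1) =
      (q ^ (k + 1) + 1) * ∏ i ∈ Finset.range k, (q ^ (2 * (i + 1)) - 1) := by
  have hs' : ∀ j, s j = (q ^ (j + 1) + 1) * (q ^ j - 1) := by
    intro j
    have h := hs j
    have h1 : 1 ≤ q ^ j := Nat.one_le_pow _ _ (by omega)
    obtain ⟨t, ht⟩ : ∃ t, q ^ j = t + 1 := ⟨q ^ j - 1, by omega⟩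
    have e1 : q ^ (j + 1) = q * (t + 1) := by rw [pow_succ, ht]; ring
    have e2 : q ^ (2 * j + 1) = q * ((t + 1) * (t + 1)) := by
      rw [pow_succ, mul_comm 2, pow_mul, ht]; ring
    rw [e1, e2, ht] at h
    rw [e1, ht, Nat.add_sub_cancel]
    have : q * ((t + 1) * (t + 1)) = q * (t + 1) * t + q * (t + 1) := by ring
    rw [this] at h
    have h3 : s j = q * (t + 1) * t + t := by omega
    rw [h3]; ring
  induction k with
  | zero => simp
  | succ k ih =>
    rw [Finset.prod_range_succ, Finset.prod_range_succ, ← mul_assoc, ih, hs' (k + 1)]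
    have h1 : 1 ≤ q ^ (k + 1) := Nat.one_le_pow _ _ (by omega)
    have e : q ^ (2 * (k + 1)) - 1 = (q ^ (k + 1) - 1) * (q ^ (k + 1) + 1) := by
      rw [mul_comm 2, pow_mul]
      exact sq_sub_one' _ h1
    rw [e]
    ring

theorem card_GO_minus [Fintype F] {q : ℕ} (hF : Fintype.card F = q) (m : ℕ) (hm : 1 ≤ m)
    (a b : F) (hab : Aniso a b) :
    Nat.card (Cfsg.isometryGroup F (Cfsg.quadFormMinus (m - 1) F a b)) =
      2 * q ^ (m * (m - 1)) * (q ^ m + 1) *
        ∏ i ∈ Finset.range (m - 1), (q ^ (2 * (i + 1)) - 1) := by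
  have hq : 2 ≤ q := by rw [← hF]; exact Fintype.one_lt_card
  obtain ⟨k, rfl⟩ : ∃ k, m = k + 1 := ⟨m - 1, by omega⟩
  change Nat.card (Cfsg.isometryGroup F (Cfsg.quadFormMinus k F a b)) =
    2 * q ^ ((k + 1) * k) * (q ^ (k + 1) + 1) *
        ∏ i ∈ Finset.range k, (q ^ (2 * (i + 1)) - 1)
  rw [quadFormMinus_eq k a b hab, (minusModel k a b hab).card_go (2 * (q + 1))
    (fun c hc => card_emb_minus hF k a b hab c hc)]
  have h := (minusModel k a b hab).card_frames_model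
  rw [hF] at h
  have hsum : ∑ y, (minusModel k a b hab).N₀ y = Fintype.card F ^ 2 := by
    rw [(minusModel k a b hab).sum_N₀]; simp
  have hs : ∀ j, ((Sk j (minusModel k a b hab).N₀ 0 - 1) + 1) + q ^ (j + 1) =
      q ^ (2 * j + 1) + q ^ j := by
    intro j
    have h1 := Sk_zero_minus (minusModel k a b hab).N₀ (minusModel k a b hab).N₀_zero hsum j
    rw [hF] at h1
    have h2 : 1 ≤ Sk j (minusModel k a b hab).N₀ 0 := by
      by_contra h0
      have h0' : Sk j (minusModel k a b hab).N₀ 0 = 0 := by omega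
      rw [h0', zero_add] at h1
      have e1 : q ^ (2 * j + 1) = q ^ (j + 1) * q ^ j := by rw [← pow_add]; congr 1; ring
      have : 1 ≤ q ^ j := Nat.one_le_pow _ _ (by omega)
      have : 1 ≤ q ^ (j + 1) := Nat.one_le_pow _ _ (by omega)
      nlinarith
    rw [Nat.sub_add_cancel h2]
    exact h1
  have hp := prod_minus q hq (fun j => Sk j (minusModel k a b hab).N₀ 0 - 1) hs k
  simp only [Fintype.card_fin] at h
  have e : (q ^ (2 * k + 2)) ^ k = q ^ ((k + 1) * k) * q ^ (k * (k + 1)) := by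
    rw [← pow_mul, ← pow_add]
    congr 1
    ring
  rw [e] at h
  have hpos : 0 < q ^ (k * (k + 1)) := Nat.pow_pos (by omega)
  have h3 : Nat.card (Frames (minusModel k a b hab).Q k) = q ^ ((k + 1) * k) *
      ∏ i ∈ Finset.range k, (Sk (i + 1) (minusModel k a b hab).N₀ 0 - 1) := by
    apply Nat.eq_of_mul_eq_mul_right hpos
    rw [h]
    ring
  rw [h3]
  calc (q ^ ((k + 1) * k) * ∏ i ∈ Finset.range k, (Sk (i + 1) (minusModel k a b hab).N₀ 0 - 1)) *
        (2 * (q + 1))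
      = 2 * q ^ ((k + 1) * k) * ((q + 1) *
          ∏ i ∈ Finset.range k, (Sk (i + 1) (minusModel k a b hab).N₀ 0 - 1)) := by ring
    _ = _ := by rw [hp]; ring

end Cfsg.Agent.Helper2.Quad
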