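import Mathlib
import Cfsg.Agent.Helper2.QuadMinus
import Cfsg.Agent.Helper11.DihedralLift

/-! `GO⁻₂(q)` is dihedral of order `2(q+1)`. -/

set_option autoImplicit false
set_option linter.unusedSectionVars false
set_option linter.unusedVariables false

namespace Cfsg.Agent.Helper2.GO2Minus

open Finset Matrix Cfsg.Agent.Helper2.Herm Cfsg.Agent.Helper2.QExt Cfsg.Agent.Helper2.Quad

variable {F : Type*} [Field F]

/-- the index type of the two-dimensional minus-type form -/
abbrev I2 := (Fin 0 ⊕ Fin 0) ⊕ Fin 2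

/-- identification of the index type with `Fin 2` -/
def e2 : I2 ≃ Fin 2 where
  toFun := Sum.elim (fun x => x.elim (fun i => i.elim0) (fun i => i.elim0)) id
  invFun := Sum.inr
  left_inv := by
    rintro ((i | i) | j)
    · exact i.elim0
    · exact i.elim0
    · rfl
  right_inv := fun j => rfl

/-- the binary norm form -/
def Nf (a b : F) (z : Fin 2 → F) : F := z 0 ^ 2 + a * z 0 * z 1 + b * z 1 ^ 2

theorem quadFormMinus_zero (a b : F) (v : I2 → F) :
    Cfsg.quadFormMinus 0 F a b v = Nf a b (v ∘ e2.symm) := by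
  simp [Cfsg.quadFormMinus, Nf]
  rfl

/-- the matrix of multiplication by `p.1 + p.2 θ` -/
def Mm (a b : F) (p : F × F) : Matrix (Fin 2) (Fin 2) F :=
  !![p.1, -b * p.2; p.2, p.1 + a * p.2]

/-- multiplication in the quadratic extension, in coordinates -/
def mulP (a b : F) (p p' : F × F) : F × F :=
  (p.1 * p'.1 - b * p.2 * p'.2, p.1 * p'.2 + p.2 * p'.1 + a * p.2 * p'.2)

/-- conjugation in coordinates -/
def conjP (a : F) (p : F × F) : F × F := (p.1 + a * p.2, -p.2)

/-- the matrix of the conjugation -/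
def Cm (a : F) : Matrix (Fin 2) (Fin 2) F := !![1, a; 0, -1]

theorem Mm_mul (a b : F) (p p' : F × F) : Mm a b p * Mm a b p' = Mm a b (mulP a b p p') := by
  ext i j
  fin_cases i <;> fin_cases j <;>
    simp [Mm, mulP, Matrix.mul_apply, Fin.sum_univ_two] <;> ring

theorem Mm_one (a b : F) : Mm a b (1, 0) = 1 := by
  ext i j
  fin_cases i <;> fin_cases j <;> simp [Mm]

theorem Cm_mul_Cm (a : F) : Cm a * Cm a = 1 := by
  ext i j
  fin_cases i <;> fin_cases j <;> simp [Cm, Matrix.mul_apply, Fin.sum_univ_two]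

theorem Cm_Mm_Cm (a b : F) (p : F × F) : Cm a * Mm a b p * Cm a = Mm a b (conjP a p) := by
  ext i j
  fin_cases i <;> fin_cases j <;>
    simp [Cm, Mm, conjP, Matrix.mul_apply, Fin.sum_univ_two] <;> ring

theorem Nf_Mm (a b : F) (p : F × F) (z : Fin 2 → F) :
    Nf a b (Mm a b p *ᵥ z) = (p.1 ^ 2 + a * p.1 * p.2 + b * p.2 ^ 2) * Nf a b z := by
  simp [Nf, Mm, Matrix.mulVec, dotProduct, Fin.sum_univ_two]
  ring

theorem Nf_Cm (a b : F) (z : Fin 2 → F) : Nf a b (Cm a *ᵥ z) = Nf a b z := by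
  simp [Nf, Cm, Matrix.mulVec, dotProduct, Fin.sum_univ_two]
  ring

theorem Mm_injective (a b : F) : Function.Injective (Mm a b) := by
  intro p p' h
  have h1 := congrFun (congrFun h 0) 0
  have h2 := congrFun (congrFun h 1) 0
  simp [Mm] at h1 h2
  exact Prod.ext h1 h2

section ext

variable [Fintype F] {E : Type*} [Field E] [Fintype E] [Algebra F E] {q : ℕ}
  (hF : Fintype.card F = q) (hE : Fintype.card E = q ^ 2) {a b : F}
  (hirr : ∀ r : F, r ^ 2 - a * r + b ≠ 0) {θ : E}
  (hθ : θ ^ 2 - (algebraMap F E) a * θ + (algebraMap F E) b = 0)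

include hF hE hirr hθ

theorem phi_mulP (p p' : F × F) : phi θ (mulP a b p p') = phi θ p * phi θ p' := by
  unfold phi mulP
  simp only [map_add, map_sub, map_mul]
  linear_combination (-(algebraMap F E p.2) * (algebraMap F E p'.2)) * hθ

omit hF hE hirr hθ in
theorem phi_one (θ : E) : phi θ ((1, 0) : F × F) = 1 := by
  unfold phi
  simp

theorem cj_phi' (p : F × F) : cj hE (phi θ p) = phi θ (conjP a p) := by
  rw [cj_phi hF hE hθ hirr]
  unfold phi conjP
  simp only [map_add, map_mul, map_neg]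
  ring

/-- coordinates of an element of the extension -/
noncomputable def coords : E ≃ F × F :=
  (Equiv.ofBijective (phi θ) (phi_bijective hF hE hirr hθ)).symm

theorem phi_coords (u : E) : phi θ (coords hF hE hirr hθ u) = u :=
  (Equiv.ofBijective (phi θ) (phi_bijective hF hE hirr hθ)).apply_symm_apply u

theorem coords_mul (u u' : E) :
    coords hF hE hirr hθ (u * u') =
      mulP a b (coords hF hE hirr hθ u) (coords hF hE hirr hθ u') := by
  apply (phi_bijective hF hE hirr hθ).1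
  rw [phi_coords, phi_mulP hF hE hirr hθ, phi_coords, phi_coords]

theorem coords_one : coords hF hE hirr hθ (1 : E) = (1, 0) := by
  apply (phi_bijective hF hE hirr hθ).1
  rw [phi_coords, phi_one]

theorem coords_cj (u : E) :
    coords hF hE hirr hθ (cj hE u) = conjP a (coords hF hE hirr hθ u) := by
  apply (phi_bijective hF hE hirr hθ).1
  rw [phi_coords, ← cj_phi' hF hE hirr hθ, phi_coords]

theorem norm_coords (u : E) :
    algebraMap F E ((coords hF hE hirr hθ u).1 ^ 2 +
      a * (coords hF hE hirr hθ u).1 * (coords hF hE hirr hθ u).2 +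
      b * (coords hF hE hirr hθ u).2 ^ 2) = u ^ (q + 1) := by
  rw [← norm_phi hF hE hirr hθ, phi_coords, cj_apply, pow_succ']

/-- the regular representation of the extension -/
noncomputable def mu : E →* Matrix I2 I2 F where
  toFun u := (Mm a b (coords hF hE hirr hθ u)).submatrix e2 e2
  map_one' := by
    rw [coords_one, Mm_one, Matrix.submatrix_one_equiv]
  map_mul' u u' := by
    rw [coords_mul, ← Mm_mul, Matrix.submatrix_mul_equiv]

theorem mu_injective : Function.Injective (mu hF hE hirr hθ) := by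
  intro u u' h
  have h1 : Mm a b (coords hF hE hirr hθ u) = Mm a b (coords hF hE hirr hθ u') := by
    have h2 : (Mm a b (coords hF hE hirr hθ u)).submatrix e2 e2 =
        (Mm a b (coords hF hE hirr hθ u')).submatrix e2 e2 := h
    ext i j
    have := congrFun (congrFun h2 (e2.symm i)) (e2.symm j)
    simpa using this
  exact (coords hF hE hirr hθ).injective (Mm_injective a b h1)

end ext

theorem mem_go_iff (a b : F) (g : GL I2 F) :
    g ∈ Cfsg.isometryGroup F (Cfsg.quadFormMinus 0 F a b) ↔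
      ∀ v, Cfsg.quadFormMinus 0 F a b ((g : Matrix I2 I2 F) *ᵥ v) =
        Cfsg.quadFormMinus 0 F a b v :=
  ⟨fun h v => h v v, fun h u _ => h u⟩

theorem pres_submatrix (a b : F) (M : Matrix (Fin 2) (Fin 2) F)
    (hM : ∀ z, Nf a b (M *ᵥ z) = Nf a b z) (v : I2 → F) :
    Cfsg.quadFormMinus 0 F a b ((M.submatrix e2 e2) *ᵥ v) = Cfsg.quadFormMinus 0 F a b v := by
  rw [quadFormMinus_zero, quadFormMinus_zero, Matrix.submatrix_mulVec_equiv]
  have : ((M *ᵥ (v ∘ e2.symm)) ∘ e2) ∘ e2.symm = M *ᵥ (v ∘ e2.symm) := by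
    funext j
    simp
  rw [this, hM]

/-- the conjugation as an element of `GL` -/
def Cgl (a : F) : GL I2 F :=
  ⟨(Cm a).submatrix e2 e2, (Cm a).submatrix e2 e2,
    by rw [Matrix.submatrix_mul_equiv, Cm_mul_Cm, Matrix.submatrix_one_equiv],
    by rw [Matrix.submatrix_mul_equiv, Cm_mul_Cm, Matrix.submatrix_one_equiv]⟩

theorem Cgl_mem (a b : F) : Cgl a ∈ Cfsg.isometryGroup F (Cfsg.quadFormMinus 0 F a b) := by
  rw [mem_go_iff]
  intro v
  exact pres_submatrix a b (Cm a) (Nf_Cm a b) v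

theorem Cgl_mul_self (a : F) : Cgl a * Cgl a = 1 := by
  apply Units.ext
  change (Cm a).submatrix e2 e2 * (Cm a).submatrix e2 e2 = 1
  rw [Matrix.submatrix_mul_equiv, Cm_mul_Cm, Matrix.submatrix_one_equiv]

section main

variable [Fintype F] {E : Type*} [Field E] [Fintype E] [Algebra F E] {q : ℕ}
  (hF : Fintype.card F = q) (hE : Fintype.card E = q ^ 2) {a b : F}
  (hirr : ∀ r : F, r ^ 2 - a * r + b ≠ 0) {θ : E}
  (hθ : θ ^ 2 - (algebraMap F E) a * θ + (algebraMap F E) b = 0)

include hF hE hirr hθ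

/-- the rotation attached to a unit of the extension -/
noncomputable def rho : Eˣ →* GL I2 F := Units.map (mu hF hE hirr hθ)

theorem rho_val (u : Eˣ) : ((rho hF hE hirr hθ u : GL I2 F) : Matrix I2 I2 F) =
    (Mm a b (coords hF hE hirr hθ (u : E))).submatrix e2 e2 := rfl

theorem rho_injective : Function.Injective (rho hF hE hirr hθ) := by
  intro u u' h
  have h1 := congrArg (fun g : GL I2 F => (g : Matrix I2 I2 F)) h
  exact Units.ext (mu_injective hF hE hirr hθ h1)

theorem rho_mem {u : Eˣ} (hu : u ^ (q + 1) = 1) :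
    rho hF hE hirr hθ u ∈ Cfsg.isometryGroup F (Cfsg.quadFormMinus 0 F a b) := by
  rw [mem_go_iff]
  intro v
  rw [rho_val]
  apply pres_submatrix
  intro z
  rw [Nf_Mm]
  have h1 := norm_coords hF hE hirr hθ (u : E)
  have h2 : (u : E) ^ (q + 1) = 1 := by
    have := congrArg Units.val hu
    simpa using this
  rw [h2, ← map_one (algebraMap F E)] at h1
  rw [(algebraMap F E).injective h1, one_mul]

theorem Cgl_rho_Cgl {u : Eˣ} (hu : u ^ (q + 1) = 1) :
    Cgl a * rho hF hE hirr hθ u * Cgl a = (rho hF hE hirr hθ u)⁻¹ := by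
  rw [← map_inv]
  apply Units.ext
  change (Cm a).submatrix e2 e2 * ((Mm a b (coords hF hE hirr hθ (u : E))).submatrix e2 e2) *
    (Cm a).submatrix e2 e2 = (Mm a b (coords hF hE hirr hθ ((u⁻¹ : Eˣ) : E))).submatrix e2 e2
  rw [Matrix.submatrix_mul_equiv, Matrix.submatrix_mul_equiv, Cm_Mm_Cm,
    ← coords_cj hF hE hirr hθ]
  have h2 : (u : E) ^ (q + 1) = 1 := by
    have := congrArg Units.val hu
    simpa using this
  have h3 : cj hE (u : E) = ((u⁻¹ : Eˣ) : E) := by
    rw [cj_apply]
    have h4 : (u : E) * (u : E) ^ q = 1 := by rw [← pow_succ']; exact h2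
    have h5 : (u : E) * ((u⁻¹ : Eˣ) : E) = 1 := by simp
    exact mul_left_cancel₀ u.ne_zero (h4.trans h5.symm)
  rw [h3]

theorem Cgl_ne_rho (u : Eˣ) : Cgl a ≠ rho hF hE hirr hθ u := by
  intro h
  have h1 : (Cm a).submatrix e2 e2 = (Mm a b (coords hF hE hirr hθ (u : E))).submatrix e2 e2 :=
    congrArg (fun g : GL I2 F => (g : Matrix I2 I2 F)) h
  have h2 : Cm a = Mm a b (coords hF hE hirr hθ (u : E)) := by
    ext i j
    have := congrFun (congrFun h1 (e2.symm i)) (e2.symm j)
    simpa using this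
  have h00 := congrFun (congrFun h2 0) 0
  have h10 := congrFun (congrFun h2 1) 0
  have h01 := congrFun (congrFun h2 0) 1
  have h11 := congrFun (congrFun h2 1) 1
  simp [Cm, Mm] at h00 h10 h01 h11
  rw [← h10] at h01 h11
  rw [← h00] at h11
  simp at h01 h11
  -- `a = 0` and `-1 = 1`
  have hcj := cj_root hF hE hirr hθ
  rw [h01, map_zero, zero_sub] at hcj
  have h5 : (-1 : E) = 1 := by
    have := congrArg (algebraMap F E) h11
    simpa using this
  have h6 : cj hE θ = θ := by
    rw [hcj]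
    calc -θ = (-1 : E) * θ := by ring
      _ = θ := by rw [h5, one_mul]
  exact cj_ne_of_root hF hE hirr hθ h6

theorem nonempty_mulEquiv_aux
    (hcard : Nat.card (Cfsg.isometryGroup F (Cfsg.quadFormMinus 0 F a b)) = 2 * (q + 1)) :
    Nonempty (Cfsg.isometryGroup F (Cfsg.quadFormMinus 0 F a b) ≃* DihedralGroup (q + 1)) := by
  classical
  obtain ⟨g₀, hg₀⟩ := IsCyclic.exists_ofOrder_eq_natCard
    (α := (powMonoidHom (q + 1) : Eˣ →* Eˣ).ker)
  rw [card_ker_norm hE] at hg₀
  have hg₀' : (g₀ : Eˣ) ^ (q + 1) = 1 := by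
    have := g₀.2
    rwa [MonoidHom.mem_ker, powMonoidHom_apply] at this
  have hord : orderOf (g₀ : Eˣ) = q + 1 := by rw [Subgroup.orderOf_coe, hg₀]
  let a₀ : Cfsg.isometryGroup F (Cfsg.quadFormMinus 0 F a b) :=
    ⟨rho hF hE hirr hθ g₀, rho_mem hF hE hirr hθ hg₀'⟩
  let b₀ : Cfsg.isometryGroup F (Cfsg.quadFormMinus 0 F a b) := ⟨Cgl a, Cgl_mem a b⟩
  haveI : Finite (Cfsg.isometryGroup F (Cfsg.quadFormMinus 0 F a b)) :=
    Nat.finite_of_card_ne_zero (by rw [hcard]; omega)
  apply Cfsg.Agent.Helper11.nonempty_mulEquiv_dihedralGroup (q + 1) hcard a₀ b₀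
  · rw [← Subgroup.orderOf_coe]
    change orderOf (rho hF hE hirr hθ g₀) = q + 1
    rw [orderOf_injective _ (rho_injective hF hE hirr hθ), hord]
  · apply Subtype.ext
    exact Cgl_mul_self a
  · apply Subtype.ext
    exact Cgl_rho_Cgl hF hE hirr hθ hg₀'
  · intro hmem
    obtain ⟨k, hk⟩ := Subgroup.mem_zpowers_iff.mp hmem
    have h1 : (rho hF hE hirr hθ g₀) ^ k = Cgl a := by
      have := congrArg Subtype.val hk
      simpa [a₀, b₀] using this
    rw [← map_zpow] at h1
    exact Cgl_ne_rho hF hE hirr hθ _ h1.symm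

end main

theorem nonempty_mulEquiv [Fintype F] {q : ℕ} (hF : Fintype.card F = q) (a b : F)
    (hab : Aniso a b) :
    Nonempty (Cfsg.isometryGroup F (Cfsg.quadFormMinus 0 F a b) ≃* DihedralGroup (q + 1)) := by
  have hirr := hab.irr
  haveI : Fact (Irreducible (qpoly a b)) := ⟨irreducible_qpoly hirr⟩
  haveI : Fintype (AdjoinRoot (qpoly a b)) := Fintype.ofFinite _
  have hE : Fintype.card (AdjoinRoot (qpoly a b)) = q ^ 2 := by
    rw [← Nat.card_eq_fintype_card]; exact natCard_adjoinRoot hF a b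
  have hθ : (AdjoinRoot.root (qpoly a b)) ^ 2 -
      algebraMap F _ a * AdjoinRoot.root (qpoly a b) + algebraMap F _ b = 0 := by
    rw [← aeval_qpoly, AdjoinRoot.aeval_eq, AdjoinRoot.mk_self]
  have hcard : Nat.card (Cfsg.isometryGroup F (Cfsg.quadFormMinus 0 F a b)) = 2 * (q + 1) := by
    have := card_GO_minus hF 1 le_rfl a b hab
    simpa using this
  exact nonempty_mulEquiv_aux hF hE hirr hθ hcard

end Cfsg.Agent.Helper2.GO2Minus
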