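import Mathlib
import Cfsg.Agent.Helper2.SL2Sylow
import Cfsg.Agent.Helper12.SL2Torus

/-! Sylow `r`-subgroups of `SL₂(q)` for odd `r` prime to `q` are cyclic. -/

set_option autoImplicit false
set_option linter.unusedSectionVars false

namespace Cfsg.Agent.Helper2.SL2C

open Matrix

/-- If a finite group has a cyclic subgroup whose order is divisible by the full power of `r`
dividing the group order, its Sylow `r`-subgroups are cyclic. -/
theorem isCyclic_sylow_of_subgroup {G : Type*} [Group G] [Finite G] {r : ℕ} [Fact r.Prime]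
    (C : Subgroup G) [IsCyclic C] (h : r ^ (Nat.card G).factorization r ∣ Nat.card C)
    (R : Sylow r G) : IsCyclic R := by
  obtain ⟨K, hK⟩ := Sylow.exists_subgroup_card_pow_prime r h
  have hKc : IsCyclic K := inferInstance
  let K' : Subgroup G := K.map C.subtype
  have hK' : Nat.card K' = r ^ (Nat.card G).factorization r := by
    rw [Subgroup.card_map_of_injective C.subtype_injective, hK]
  let S : Sylow r G := Sylow.ofCard K' hK'
  have hS : IsCyclic S := by
    have e : K ≃* K' := K.equivMapOfInjective C.subtype C.subtype_injective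
    exact isCyclic_of_surjective e e.surjective
  obtain ⟨g, hg⟩ := MulAction.exists_smul_eq G S R
  have e : S ≃* (g • S : Sylow r G) := Sylow.equivSMul S g
  rw [← hg]
  exact isCyclic_of_surjective e e.surjective

variable {F : Type*} [Field F]

/-- the diagonal torus -/
def dHom : Fˣ →* SpecialLinearGroup (Fin 2) F where
  toFun a := ⟨!![(a : F), 0; 0, ((a⁻¹ : Fˣ) : F)], by simp [Matrix.det_fin_two]⟩
  map_one' := by
    apply Subtype.ext
    change (!![((1 : Fˣ) : F), 0; 0, (((1 : Fˣ)⁻¹ : Fˣ) : F)] : Matrix (Fin 2) (Fin 2) F) = 1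
    ext i j; fin_cases i <;> fin_cases j <;> simp
  map_mul' a b := by
    apply Subtype.ext
    change (!![((a * b : Fˣ) : F), 0; 0, (((a * b)⁻¹ : Fˣ) : F)] : Matrix (Fin 2) (Fin 2) F) =
      !![(a : F), 0; 0, ((a⁻¹ : Fˣ) : F)] * !![(b : F), 0; 0, ((b⁻¹ : Fˣ) : F)]
    ext i j
    fin_cases i <;> fin_cases j <;>
      simp [Matrix.mul_apply, Fin.sum_univ_two, mul_comm]

theorem dHom_injective : Function.Injective (dHom : Fˣ →* SpecialLinearGroup (Fin 2) F) := by
  intro a b h
  have := congrArg (fun g : SpecialLinearGroup (Fin 2) F => g.1 0 0) h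
  simp [dHom] at this
  exact Units.ext this

theorem exists_orderOf_card_sub_one [Fintype F] :
    ∃ D : SpecialLinearGroup (Fin 2) F, orderOf D = Fintype.card F - 1 := by
  obtain ⟨ζ, hζ⟩ := IsCyclic.exists_generator (α := Fˣ)
  refine ⟨dHom ζ, ?_⟩
  rw [orderOf_injective dHom dHom_injective, orderOf_eq_card_of_forall_mem_zpowers hζ,
    Nat.card_units, Nat.card_eq_fintype_card]

theorem isCyclic_sylow [Fintype F] (p : ℕ) [Fact p.Prime] [CharP F p] (r : ℕ) [Fact r.Prime]
    (hr : r ≠ 2) (hrp : r ≠ p) (R : Sylow r (SpecialLinearGroup (Fin 2) F)) : IsCyclic R := by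
  classical
  set q := Fintype.card F with hq
  have hq2 : 2 ≤ q := Fintype.one_lt_card
  have hr' : r.Prime := Fact.out
  have hp' : p.Prime := Fact.out
  set n := (Nat.card (SpecialLinearGroup (Fin 2) F)).factorization r with hn
  have hdvd : r ^ n ∣ q * (q ^ 2 - 1) := by
    rw [← SL2.card_SL2]; exact Nat.ordProj_dvd _ _
  -- `r` is prime to `q`
  obtain ⟨k, hk⟩ : ∃ k : ℕ, q = p ^ k := by
    obtain ⟨k, hk⟩ := FiniteField.card F p
    exact ⟨k, hk.2⟩
  have hcop : Nat.Coprime (r ^ n) q := by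
    rw [hk]
    apply Nat.Coprime.pow
    exact (Nat.coprime_primes hr' hp').mpr hrp
  have hdvd2 : r ^ n ∣ q ^ 2 - 1 := hcop.dvd_of_dvd_mul_left hdvd
  have hfac : q ^ 2 - 1 = (q - 1) * (q + 1) := by
    obtain ⟨s, hs⟩ : ∃ s, q = s + 1 := ⟨q - 1, by omega⟩
    rw [hs]
    have : (s + 1) ^ 2 = (s + 1 - 1) * (s + 1 + 1) + 1 := by
      simp only [Nat.add_sub_cancel]; ring
    rw [this]; simp
  rw [hfac] at hdvd2
  by_cases h1 : r ∣ q + 1
  · -- then `r ∤ q - 1`
    have h2 : ¬ r ∣ q - 1 := by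
      intro h2
      have h3 : r ∣ (q + 1) - (q - 1) := Nat.dvd_sub h1 h2
      have h4 : (q + 1) - (q - 1) = 2 := by omega
      rw [h4] at h3
      exact hr ((Nat.prime_dvd_prime_iff_eq hr' Nat.prime_two).mp h3)
    have hc : Nat.Coprime (r ^ n) (q - 1) :=
      Nat.Coprime.pow_left _ ((Nat.Prime.coprime_iff_not_dvd hr').mpr h2)
    have h5 : r ^ n ∣ q + 1 := hc.dvd_of_dvd_mul_left hdvd2
    obtain ⟨Y, hY, -⟩ := Cfsg.Agent.Helper12.exists_sl2_orderOf_card_add_one (F := F) p
    refine isCyclic_sylow_of_subgroup (Subgroup.zpowers Y) ?_ R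
    rw [Nat.card_zpowers, hY]
    exact h5
  · have hc : Nat.Coprime (r ^ n) (q + 1) :=
      Nat.Coprime.pow_left _ ((Nat.Prime.coprime_iff_not_dvd hr').mpr h1)
    have h5 : r ^ n ∣ q - 1 := hc.dvd_of_dvd_mul_right hdvd2
    obtain ⟨D, hD⟩ := exists_orderOf_card_sub_one (F := F)
    refine isCyclic_sylow_of_subgroup (Subgroup.zpowers D) ?_ R
    rw [Nat.card_zpowers, hD]
    exact h5

end Cfsg.Agent.Helper2.SL2C
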