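import Mathlib
import Cfsg.Agent.Helper2.QuaternionLift
import Cfsg.Agent.Helper2.GO2Minus
import Cfsg.Agent.Helper2.SL2Sylow
import Cfsg.Agent.Helper2.SL2Cyclic

/-! Sylow `2`-subgroups of `SL₂(q)`, `q` odd, are generalised quaternion. -/

set_option autoImplicit false
set_option linter.unusedSectionVars false
set_option linter.unusedVariables false

namespace Cfsg.Agent.Helper2.SL2Q

open Matrix Cfsg.Agent.Helper2.SL2C

/-- a quaternion pair of the right order forces quaternion Sylow `2`-subgroups -/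
theorem sylow_quaternion_of_pair {G : Type*} [Group G] [Finite G] (t w : G) (r o : ℕ) (hr : 2 ≤ r)
    (ht : orderOf t = 2 ^ r) (hw : w * w = t ^ (2 ^ (r - 1))) (hwt : w * t * w⁻¹ = t⁻¹)
    (hcard : Nat.card G = 2 ^ (r + 1) * o) (ho : Odd o) (P : Sylow 2 G) :
    Nonempty ((P : Subgroup G) ≃* QuaternionGroup (2 ^ (r - 1))) := by
  haveI : Fact (Nat.Prime 2) := ⟨Nat.prime_two⟩
  obtain ⟨n, hn⟩ : ∃ n, n = 2 ^ (r - 1) := ⟨_, rfl⟩
  have hn2 : 2 * n = 2 ^ r := by
    rw [hn, ← pow_succ']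
    congr 1
    omega
  haveI : NeZero n := ⟨by rw [hn]; positivity⟩
  have ha : t ^ (2 * n) = 1 := by rw [hn2, ← ht]; exact pow_orderOf_eq_one t
  rw [← hn] at hw ⊢
  have ht2 : t ^ 2 ≠ 1 := by
    intro h
    have h1 := orderOf_dvd_of_pow_eq_one h
    rw [ht] at h1
    have h2 := Nat.le_of_dvd (by norm_num) h1
    have h3 : 2 ^ 2 ≤ 2 ^ r := Nat.pow_le_pow_right (by norm_num) hr
    omega
  have hba := QLift.not_mem_zpowers_of_sq_ne t w hwt ht2
  have hinj := QLift.quaternionLift_injective n t w ha hw hwt (by rw [ht, hn2]) hba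
  -- the image
  let Q₀ : Subgroup G := (QLift.quaternionLift n t w ha hw hwt).range
  have e : QuaternionGroup n ≃* Q₀ := MonoidHom.ofInjective hinj
  have hQcard : Nat.card Q₀ = 2 ^ (r + 1) := by
    rw [← Nat.card_congr e.toEquiv, Nat.card_eq_fintype_card, QuaternionGroup.card]
    have : 4 * n = 2 * (2 * n) := by ring
    rw [this, hn2, ← pow_succ']
  have hp : IsPGroup 2 Q₀ := IsPGroup.of_card hQcard
  have hidx : ¬ 2 ∣ Q₀.index := by
    have h1 := Q₀.card_mul_index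
    rw [hQcard, hcard] at h1
    have h2 : Q₀.index = o := Nat.eq_of_mul_eq_mul_left (by positivity) h1
    rw [h2]
    exact fun h => (Nat.not_even_iff_odd.mpr ho) (even_iff_two_dvd.mpr h)
  let S₀ : Sylow 2 G := hp.toSylow hidx
  have e2 : (P : Subgroup G) ≃* (S₀ : Subgroup G) := Sylow.equiv P S₀
  have e3 : (S₀ : Subgroup G) ≃* Q₀ := MulEquiv.subgroupCongr (IsPGroup.toSylow_coe hp hidx)
  exact ⟨(e2.trans e3).trans e.symm⟩

/-- elements of `2`-power order in finite groups of units of a field -/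
theorem exists_order_two_pow {K : Type*} [Field K] (C : Subgroup Kˣ) [Finite C] {r o : ℕ}
    (hC : Nat.card C = 2 ^ r * o) (hr : 1 ≤ r) (ho : 0 < o) :
    ∃ x ∈ C, orderOf x = 2 ^ r ∧ ((x ^ (2 ^ (r - 1)) : Kˣ) : K) = -1 := by
  obtain ⟨g, hg⟩ := IsCyclic.exists_ofOrder_eq_natCard (α := C)
  rw [hC] at hg
  have hgo : orderOf (g : Kˣ) = 2 ^ r * o := by rw [Subgroup.orderOf_coe, hg]
  have hx : orderOf ((g : Kˣ) ^ o) = 2 ^ r := by
    rw [orderOf_pow_of_dvd (by omega) (by rw [hgo]; exact dvd_mul_left _ _), hgo,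
      Nat.mul_div_cancel _ ho]
  refine ⟨(g : Kˣ) ^ o, C.pow_mem g.2 o, hx, ?_⟩
  obtain ⟨y, hy⟩ : ∃ y : Kˣ, y = ((g : Kˣ) ^ o) ^ (2 ^ (r - 1)) := ⟨_, rfl⟩
  rw [← hy]
  have hy2 : y ^ 2 = 1 := by
    rw [hy, ← pow_mul, ← pow_succ]
    have : r - 1 + 1 = r := by omega
    rw [this, ← hx]
    exact pow_orderOf_eq_one _
  have hy1 : y ≠ 1 := by
    intro h
    rw [hy] at h
    have h1 := orderOf_dvd_of_pow_eq_one h
    rw [hx] at h1
    have h2 := Nat.le_of_dvd (by positivity) h1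
    have h3 : 2 ^ (r - 1) < 2 ^ r := Nat.pow_lt_pow_right (by norm_num) (by omega)
    omega
  have h3 : ((y : K)) ^ 2 = 1 := by
    have := congrArg Units.val hy2
    simpa using this
  rcases sq_eq_one_iff.mp h3 with h | h
  · exact absurd (Units.ext h) hy1
  · exact h

variable {F : Type*} [Field F]

/-- the Weyl element -/
def wSL : SpecialLinearGroup (Fin 2) F := ⟨!![0, 1; -1, 0], by simp [Matrix.det_fin_two]⟩

theorem wSL_mul_self : (wSL : SpecialLinearGroup (Fin 2) F) * wSL = dHom (-1) := by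
  apply Subtype.ext
  change (!![0, 1; -1, 0] : Matrix (Fin 2) (Fin 2) F) * !![0, 1; -1, 0] =
    !![((-1 : Fˣ) : F), 0; 0, (((-1 : Fˣ)⁻¹ : Fˣ) : F)]
  ext i j
  fin_cases i <;> fin_cases j <;> simp [Matrix.mul_apply, Fin.sum_univ_two]

theorem wSL_dHom (x : Fˣ) : (wSL : SpecialLinearGroup (Fin 2) F) * dHom x * wSL⁻¹ = (dHom x)⁻¹ := by
  rw [← map_inv, mul_inv_eq_iff_eq_mul]
  apply Subtype.ext
  change (!![0, 1; -1, 0] : Matrix (Fin 2) (Fin 2) F) * !![(x : F), 0; 0, ((x⁻¹ : Fˣ) : F)] =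
    !![((x⁻¹ : Fˣ) : F), 0; 0, (((x⁻¹)⁻¹ : Fˣ) : F)] * !![0, 1; -1, 0]
  ext i j
  fin_cases i <;> fin_cases j <;> simp [Matrix.mul_apply, Fin.sum_univ_two]

/-- the split case -/
theorem exists_pair_split [Fintype F] {r o : ℕ} (hr : 1 ≤ r) (ho : 0 < o)
    (hq : Fintype.card F - 1 = 2 ^ r * o) :
    ∃ t w : SpecialLinearGroup (Fin 2) F, orderOf t = 2 ^ r ∧ w * w = t ^ (2 ^ (r - 1)) ∧
      w * t * w⁻¹ = t⁻¹ := by
  have hC : Nat.card (⊤ : Subgroup Fˣ) = 2 ^ r * o := by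
    rw [Subgroup.card_top, Nat.card_units, Nat.card_eq_fintype_card, hq]
  obtain ⟨x, _, hx, hx2⟩ := exists_order_two_pow (⊤ : Subgroup Fˣ) hC hr ho
  refine ⟨dHom x, wSL, ?_, ?_, wSL_dHom x⟩
  · rw [orderOf_injective dHom dHom_injective, hx]
  · rw [wSL_mul_self, ← map_pow]
    congr 1
    apply Units.ext
    rw [hx2]
    simp

open Cfsg.Agent.Helper2.GO2Minus Cfsg.Agent.Helper2.Herm Cfsg.Agent.Helper2.QExt

theorem det_Mm (a b : F) (p : F × F) :
    (Mm a b p).det = p.1 ^ 2 + a * p.1 * p.2 + b * p.2 ^ 2 := by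
  simp [Mm, Matrix.det_fin_two]
  ring

theorem det_Cm (a : F) : (Cm a).det = -1 := by
  simp [Cm, Matrix.det_fin_two]

theorem mulP_comm (a b : F) (p p' : F × F) : mulP a b p p' = mulP a b p' p := by
  unfold mulP
  apply Prod.ext <;> simp only <;> ring

theorem mulP_conj (a b : F) (p : F × F) :
    mulP a b (conjP a p) p = (p.1 ^ 2 + a * p.1 * p.2 + b * p.2 ^ 2, 0) := by
  unfold mulP conjP
  apply Prod.ext <;> simp only <;> ring

section nonsplit

variable [Fintype F] {E : Type*} [Field E] [Fintype E] [Algebra F E] {q : ℕ}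
  (hF : Fintype.card F = q) (hE : Fintype.card E = q ^ 2) {a b : F}
  (hirr : ∀ r : F, r ^ 2 - a * r + b ≠ 0) {θ : E}
  (hθ : θ ^ 2 - (algebraMap F E) a * θ + (algebraMap F E) b = 0)

include hF hE hirr hθ

theorem norm_coords_eq_one {u : Eˣ} (hu : u ^ (q + 1) = 1) :
    (coords hF hE hirr hθ (u : E)).1 ^ 2 +
      a * (coords hF hE hirr hθ (u : E)).1 * (coords hF hE hirr hθ (u : E)).2 +
      b * (coords hF hE hirr hθ (u : E)).2 ^ 2 = 1 := by
  have h1 := norm_coords hF hE hirr hθ (u : E)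
  have h2 : (u : E) ^ (q + 1) = 1 := by
    have := congrArg Units.val hu
    simpa using this
  rw [h2, ← map_one (algebraMap F E)] at h1
  exact (algebraMap F E).injective h1

/-- the non-split torus inside `SL₂` -/
noncomputable def rhoSL : (powMonoidHom (q + 1) : Eˣ →* Eˣ).ker →* SpecialLinearGroup (Fin 2) F where
  toFun u := ⟨Mm a b (coords hF hE hirr hθ ((u : Eˣ) : E)), by
    rw [det_Mm]
    apply norm_coords_eq_one hF hE hirr hθ
    have := u.2
    rwa [MonoidHom.mem_ker, powMonoidHom_apply] at this⟩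
  map_one' := by
    apply Subtype.ext
    change Mm a b (coords hF hE hirr hθ (((1 : (powMonoidHom (q + 1) : Eˣ →* Eˣ).ker) : Eˣ) : E)) = 1
    rw [Subgroup.coe_one, Units.val_one, coords_one, Mm_one]
  map_mul' u u' := by
    apply Subtype.ext
    change Mm a b (coords hF hE hirr hθ (((u * u' : (powMonoidHom (q + 1) : Eˣ →* Eˣ).ker) : Eˣ) : E))
      = Mm a b (coords hF hE hirr hθ ((u : Eˣ) : E)) * Mm a b (coords hF hE hirr hθ ((u' : Eˣ) : E))
    rw [Subgroup.coe_mul, Units.val_mul, coords_mul, Mm_mul]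

theorem rhoSL_injective : Function.Injective (rhoSL hF hE hirr hθ) := by
  intro u u' h
  have h1 : Mm a b (coords hF hE hirr hθ ((u : Eˣ) : E)) =
      Mm a b (coords hF hE hirr hθ ((u' : Eˣ) : E)) := congrArg Subtype.val h
  have h2 := (coords hF hE hirr hθ).injective (Mm_injective a b h1)
  exact Subtype.ext (Units.ext h2)

/-- the non-split case -/
theorem exists_pair_nonsplit {r o : ℕ} (hr : 1 ≤ r) (ho : 0 < o) (hq : q + 1 = 2 ^ r * o) :
    ∃ t w : SpecialLinearGroup (Fin 2) F, orderOf t = 2 ^ r ∧ w * w = t ^ (2 ^ (r - 1)) ∧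
      w * t * w⁻¹ = t⁻¹ := by
  classical
  have hC : Nat.card (powMonoidHom (q + 1) : Eˣ →* Eˣ).ker = 2 ^ r * o := by
    rw [card_ker_norm hE, hq]
  obtain ⟨x, hxmem, hx, hx2⟩ :=
    exists_order_two_pow (powMonoidHom (q + 1) : Eˣ →* Eˣ).ker hC hr ho
  -- a vector of norm `-1`
  have hcn := card_norm_eq' hF hirr (c := (-1 : F)) (by simp)
  have hne : Nonempty {p : F × F // p.1 ^ 2 + a * p.1 * p.2 + b * p.2 ^ 2 = -1} := by
    by_contra h
    rw [not_nonempty_iff] at h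
    rw [Nat.card_of_isEmpty] at hcn
    omega
  obtain ⟨pv, hpv⟩ := hne
  let u : (powMonoidHom (q + 1) : Eˣ →* Eˣ).ker := ⟨x, hxmem⟩
  let t := rhoSL hF hE hirr hθ u
  let w : SpecialLinearGroup (Fin 2) F := ⟨Cm a * Mm a b pv, by
    rw [Matrix.det_mul, det_Cm, det_Mm, hpv]; ring⟩
  have hCC := Cm_mul_Cm a
  refine ⟨t, w, ?_, ?_, ?_⟩
  · rw [orderOf_injective _ (rhoSL_injective hF hE hirr hθ), Subgroup.orderOf_mk, hx]
  · rw [← map_pow]
    apply Subtype.ext
    change Cm a * Mm a b pv * (Cm a * Mm a b pv) =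
      Mm a b (coords hF hE hirr hθ (((u ^ (2 ^ (r - 1)) :
        (powMonoidHom (q + 1) : Eˣ →* Eˣ).ker) : Eˣ) : E))
    rw [Subgroup.coe_pow]
    change _ = Mm a b (coords hF hE hirr hθ ((x ^ (2 ^ (r - 1)) : Eˣ) : E))
    rw [hx2]
    have h1 : coords hF hE hirr hθ (-1 : E) = (-1, 0) := by
      apply (phi_bijective hF hE hirr hθ).1
      rw [phi_coords]
      unfold phi
      simp
    rw [h1]
    calc Cm a * Mm a b pv * (Cm a * Mm a b pv)
        = (Cm a * Mm a b pv * Cm a) * Mm a b pv := by simp only [Matrix.mul_assoc]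
      _ = Mm a b (-1, 0) := by rw [Cm_Mm_Cm, Mm_mul, mulP_conj, hpv]
  · rw [← map_inv, mul_inv_eq_iff_eq_mul]
    apply Subtype.ext
    change Cm a * Mm a b pv * Mm a b (coords hF hE hirr hθ ((x : Eˣ) : E)) =
      Mm a b (coords hF hE hirr hθ (((u⁻¹ : (powMonoidHom (q + 1) : Eˣ →* Eˣ).ker) : Eˣ) : E)) *
        (Cm a * Mm a b pv)
    rw [Subgroup.coe_inv]
    change _ = Mm a b (coords hF hE hirr hθ ((x⁻¹ : Eˣ) : E)) * (Cm a * Mm a b pv)
    have hx1 : x ^ (q + 1) = 1 := by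
      rwa [MonoidHom.mem_ker, powMonoidHom_apply] at hxmem
    have h3 : cj hE (x : E) = ((x⁻¹ : Eˣ) : E) := by
      rw [cj_apply]
      have h2 : (x : E) ^ (q + 1) = 1 := by
        have := congrArg Units.val hx1
        simpa using this
      have h4 : (x : E) * (x : E) ^ q = 1 := by rw [← pow_succ']; exact h2
      have h5 : (x : E) * ((x⁻¹ : Eˣ) : E) = 1 := by simp
      exact mul_left_cancel₀ x.ne_zero (h4.trans h5.symm)
    rw [← h3, coords_cj, ← Cm_Mm_Cm]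
    calc Cm a * Mm a b pv * Mm a b (coords hF hE hirr hθ (x : E))
        = Cm a * (Mm a b (coords hF hE hirr hθ (x : E)) * Mm a b pv) := by
          rw [Matrix.mul_assoc, Mm_mul, Mm_mul, mulP_comm]
      _ = Cm a * Mm a b (coords hF hE hirr hθ (x : E)) * (Cm a * Cm a) * Mm a b pv := by
          rw [hCC, Matrix.mul_one, Matrix.mul_assoc]
      _ = _ := by simp only [Matrix.mul_assoc]

end nonsplit

theorem two_le_of_four_dvd {r o n : ℕ} (ho : Odd o) (hn : n = 2 ^ r * o) (h4 : 4 ∣ n) : 2 ≤ r := by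
  by_contra h
  obtain ⟨j, rfl⟩ := ho
  have hr : r = 0 ∨ r = 1 := by omega
  rcases hr with rfl | rfl
  · simp at hn; omega
  · simp at hn; omega

theorem sylow_quaternion [Fintype F] (hF : Odd (Fintype.card F))
    (P : Sylow 2 (SpecialLinearGroup (Fin 2) F)) :
    ∃ k : ℕ, 1 ≤ k ∧
      Nonempty ((P : Subgroup (SpecialLinearGroup (Fin 2) F)) ≃* QuaternionGroup (2 ^ k)) := by
  classical
  obtain ⟨q, hq⟩ : ∃ q, q = Fintype.card F := ⟨_, rfl⟩
  have hq2 : 2 ≤ q := by rw [hq]; exact Fintype.one_lt_card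
  have hcard : Nat.card (SpecialLinearGroup (Fin 2) F) = q * ((q + 1) * (q - 1)) := by
    rw [SL2.card_SL2, ← hq, factor hq2]
  rw [← hq] at hF
  have hmod : q % 4 = 1 ∨ q % 4 = 3 := by
    obtain ⟨j, rfl⟩ := hF
    omega
  rcases hmod with hm | hm
  · -- split case
    obtain ⟨r, o₁, ho₁, h1⟩ := Nat.exists_eq_two_pow_mul_odd (n := q - 1) (by omega)
    have hr : 2 ≤ r := two_le_of_four_dvd ho₁ h1 (by omega)
    obtain ⟨o₂, ho₂⟩ : ∃ o₂, q + 1 = 2 * o₂ := ⟨(q + 1) / 2, by omega⟩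
    have ho₂' : Odd o₂ := by
      rw [Nat.odd_iff]; omega
    obtain ⟨t, w, ht, hw, hwt⟩ := exists_pair_split (F := F) (r := r) (o := o₁) (by omega)
      ho₁.pos (by rw [← hq]; exact h1)
    refine ⟨r - 1, by omega, ?_⟩
    apply sylow_quaternion_of_pair t w r (q * o₁ * o₂) hr ht hw hwt _ ((hF.mul ho₁).mul ho₂') P
    rw [hcard, h1, ho₂, pow_succ]
    ring
  · -- non-split case
    obtain ⟨r, o₁, ho₁, h1⟩ := Nat.exists_eq_two_pow_mul_odd (n := q + 1) (by omega)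
    have hr : 2 ≤ r := two_le_of_four_dvd ho₁ h1 (by omega)
    obtain ⟨o₂, ho₂⟩ : ∃ o₂, q - 1 = 2 * o₂ := ⟨(q - 1) / 2, by omega⟩
    have ho₂' : Odd o₂ := by
      rw [Nat.odd_iff]; omega
    have hirr : ∀ x : F, x ^ 2 - (0 : F) * x + 1 ≠ 0 := by
      intro x hx
      have h2 : IsSquare (-1 : F) := ⟨x, by linear_combination -hx⟩
      rw [FiniteField.isSquare_neg_one_iff, ← hq] at h2
      exact h2 hm
    haveI : Fact (Irreducible (qpoly (0 : F) 1)) := ⟨irreducible_qpoly hirr⟩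
    haveI : Fintype (AdjoinRoot (qpoly (0 : F) 1)) := Fintype.ofFinite _
    have hE : Fintype.card (AdjoinRoot (qpoly (0 : F) 1)) = q ^ 2 := by
      rw [← Nat.card_eq_fintype_card]; exact natCard_adjoinRoot hq.symm 0 1
    have hθ : (AdjoinRoot.root (qpoly (0 : F) 1)) ^ 2 -
        algebraMap F _ (0 : F) * AdjoinRoot.root (qpoly (0 : F) 1) + algebraMap F _ (1 : F) = 0 := by
      rw [← aeval_qpoly, AdjoinRoot.aeval_eq, AdjoinRoot.mk_self]
    obtain ⟨t, w, ht, hw, hwt⟩ := exists_pair_nonsplit hq.symm hE hirr hθ (r := r) (o := o₁)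
      (by omega) ho₁.pos h1
    refine ⟨r - 1, by omega, ?_⟩
    apply sylow_quaternion_of_pair t w r (q * o₁ * o₂) hr ht hw hwt _ ((hF.mul ho₁).mul ho₂') P
    rw [hcard, h1, ho₂, pow_succ]
    ring

end Cfsg.Agent.Helper2.SL2Q
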