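import Mathlib
import Cfsg.Prelude.Def_Classical

/-! The Klein correspondence: the second compound of a `4 × 4` matrix, acting on `6`-space and
scaling the Plücker form `Σ xᵢ yᵢ` by the determinant. -/

set_option autoImplicit false
set_option linter.unusedSectionVars false
set_option linter.unusedVariables false
set_option linter.unusedSimpArgs false

namespace Cfsg.Agent.Helper2.Klein

open Matrix

variable {R : Type*} [CommRing R]

/-- first member of the pair attached to an index -/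
def pa : Fin 3 ⊕ Fin 3 → Fin 4 := Sum.elim ![0, 0, 0] ![2, 1, 1]

/-- second member of the pair attached to an index -/
def pb : Fin 3 ⊕ Fin 3 → Fin 4 := Sum.elim ![1, 2, 3] ![3, 3, 2]

/-- the sign attached to an index -/
def sg (R : Type*) [CommRing R] : Fin 3 ⊕ Fin 3 → R := Sum.elim ![1, 1, 1] ![1, -1, 1]

/-- the `2 × 2` minor on rows `a, b` and columns `c, d` -/
def minor2 (A : Matrix (Fin 4) (Fin 4) R) (a b c d : Fin 4) : R :=
  A a c * A b d - A a d * A b c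

theorem minor2_mul (A B : Matrix (Fin 4) (Fin 4) R) (a b c d : Fin 4) :
    minor2 (A * B) a b c d =
      ∑ k : Fin 3 ⊕ Fin 3, minor2 A a b (pa k) (pb k) * minor2 B (pa k) (pb k) c d := by
  simp only [minor2, Matrix.mul_apply, Fin.sum_univ_four, Fintype.sum_sum_type,
    Fin.sum_univ_three, pa, pb, Sum.elim_inl, Sum.elim_inr]
  simp
  ring

/-- the second compound matrix -/
def comp2 (A : Matrix (Fin 4) (Fin 4) R) : Matrix (Fin 3 ⊕ Fin 3) (Fin 3 ⊕ Fin 3) R :=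
  fun i j => sg R i * sg R j * minor2 A (pa i) (pb i) (pa j) (pb j)

theorem sg_mul_self (k : Fin 3 ⊕ Fin 3) : sg R k * sg R k = 1 := by
  rcases k with k | k <;> fin_cases k <;> simp [sg]

theorem comp2_mul (A B : Matrix (Fin 4) (Fin 4) R) : comp2 (A * B) = comp2 A * comp2 B := by
  ext i j
  rw [Matrix.mul_apply]
  simp only [comp2, minor2_mul, Finset.mul_sum]
  apply Finset.sum_congr rfl
  intro k _
  have := sg_mul_self (R := R) k
  linear_combination (-(sg R i * sg R j * minor2 A (pa i) (pb i) (pa k) (pb k) *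
    minor2 B (pa k) (pb k) (pa j) (pb j))) * this

theorem comp2_one : comp2 (1 : Matrix (Fin 4) (Fin 4) R) = 1 := by
  ext i j
  simp only [comp2, minor2, Matrix.one_apply]
  rcases i with i | i <;> rcases j with j | j <;> fin_cases i <;> fin_cases j <;>
    simp [pa, pb, sg]

theorem det_four (A : Matrix (Fin 4) (Fin 4) R) : A.det =
    A 0 0 * (A 1 1 * A 2 2 * A 3 3 - A 1 1 * A 2 3 * A 3 2 - A 1 2 * A 2 1 * A 3 3
      + A 1 2 * A 2 3 * A 3 1 + A 1 3 * A 2 1 * A 3 2 - A 1 3 * A 2 2 * A 3 1)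
    - A 0 1 * (A 1 0 * A 2 2 * A 3 3 - A 1 0 * A 2 3 * A 3 2 - A 1 2 * A 2 0 * A 3 3
      + A 1 2 * A 2 3 * A 3 0 + A 1 3 * A 2 0 * A 3 2 - A 1 3 * A 2 2 * A 3 0)
    + A 0 2 * (A 1 0 * A 2 1 * A 3 3 - A 1 0 * A 2 3 * A 3 1 - A 1 1 * A 2 0 * A 3 3
      + A 1 1 * A 2 3 * A 3 0 + A 1 3 * A 2 0 * A 3 1 - A 1 3 * A 2 1 * A 3 0)
    - A 0 3 * (A 1 0 * A 2 1 * A 3 2 - A 1 0 * A 2 2 * A 3 1 - A 1 1 * A 2 0 * A 3 2
      + A 1 1 * A 2 2 * A 3 0 + A 1 2 * A 2 0 * A 3 1 - A 1 2 * A 2 1 * A 3 0) := by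
  rw [Matrix.det_succ_row_zero]
  simp [Fin.sum_univ_four, Matrix.det_fin_three, Fin.succAbove]
  ring

/-- the Plücker form -/
def plu (z : Fin 3 ⊕ Fin 3 → R) : R := ∑ i : Fin 3, z (.inl i) * z (.inr i)

theorem plu_comp2 (A : Matrix (Fin 4) (Fin 4) R) (z : Fin 3 ⊕ Fin 3 → R) :
    plu (comp2 A *ᵥ z) = A.det * plu z := by
  rw [det_four]
  simp only [plu, Matrix.mulVec, dotProduct, Fintype.sum_sum_type, Fin.sum_univ_three, comp2,
    minor2, pa, pb, sg, Sum.elim_inl, Sum.elim_inr]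
  simp
  ring

section Hom

variable {F : Type*} [Field F]

theorem plu_eq (z : Fin 3 ⊕ Fin 3 → F) : plu z = Cfsg.quadFormPlus 3 F z := rfl

/-- the Klein homomorphism into `GL₆` -/
def kleinGL : SpecialLinearGroup (Fin 4) F →* GL (Fin 3 ⊕ Fin 3) F :=
  MonoidHom.toHomUnits
    { toFun := fun A => comp2 A.1
      map_one' := comp2_one
      map_mul' := fun A B => comp2_mul A.1 B.1 }

theorem kleinGL_coe (A : SpecialLinearGroup (Fin 4) F) :
    ((kleinGL A : GL (Fin 3 ⊕ Fin 3) F) : Matrix (Fin 3 ⊕ Fin 3) (Fin 3 ⊕ Fin 3) F) =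
      comp2 A.1 := rfl

theorem kleinGL_mem (A : SpecialLinearGroup (Fin 4) F) :
    kleinGL A ∈ Cfsg.isometryGroup F (Cfsg.quadFormPlus 3 F) := by
  intro u v
  change Cfsg.quadFormPlus 3 F (comp2 A.1 *ᵥ u) = Cfsg.quadFormPlus 3 F u
  rw [← plu_eq, ← plu_eq, plu_comp2, A.2, one_mul]

/-- the Klein homomorphism `SL₄(F) → O₆⁺(F)` -/
def klein : SpecialLinearGroup (Fin 4) F →* Cfsg.isometryGroup F (Cfsg.quadFormPlus 3 F) :=
  kleinGL.codRestrict _ kleinGL_mem

end Hom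

end Cfsg.Agent.Helper2.Klein
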