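import Mathlib
import Cfsg.Agent.Helper2.QuadGO

/-! The order of `GO⁺_{2m}(q)`. -/

set_option autoImplicit false
set_option linter.unusedSectionVars false
set_option linter.unusedVariables false

namespace Cfsg.Agent.Helper2.Quad

open Finset QuadraticMap Matrix

variable {F : Type*} [Field F]

/-- the hyperbolic model -/
noncomputable def plusModel (F : Type*) [Field F] (m : ℕ) : Model F m Empty (Fin m ⊕ Fin m) where
  σ := Equiv.sumEmpty (Fin m ⊕ Fin m) Empty
  Q := ∑ i : Fin m, QuadraticMap.proj (Sum.inl i) (Sum.inr i)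
  Q₀ := 0
  hQ := by
    intro v
    simp [QuadraticMap.sum_apply]
  aniso := by
    intro z _
    exact Subsingleton.elim _ _

theorem quadFormPlus_eq (m : ℕ) :
    Cfsg.quadFormPlus m F = fun v => (plusModel F m).Q v := by
  funext v
  simp [Cfsg.quadFormPlus, plusModel, QuadraticMap.sum_apply]

theorem card_emb_plus [Fintype F] (m : ℕ) (c : Fin m → ((Fin m ⊕ Fin m) → F) × ((Fin m ⊕ Fin m) → F)) :
    Nat.card ((plusModel F m).Emb c) = 1 := by
  have : Unique ((plusModel F m).Emb c) :=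
    { default := ⟨fun j => j.elim, fun j => j.elim, fun z => by simp [plusModel]⟩
      uniq := by
        rintro ⟨t, ht⟩
        apply Subtype.ext
        funext j
        exact j.elim }
  exact Nat.card_unique

theorem sq_sub_one (x : ℕ) (hx : 1 ≤ x) : x ^ 2 - 1 = (x - 1) * (x + 1) := by
  obtain ⟨t, rfl⟩ : ∃ t, x = t + 1 := ⟨x - 1, by omega⟩
  have : (t + 1) ^ 2 = t * (t + 2) + 1 := by ring
  rw [this]
  simp
  
theorem prod_plus (q : ℕ) (hq : 2 ≤ q) (s : ℕ → ℕ)
    (hs : ∀ j, 1 ≤ j → (s j + 1) * q + q ^ j = q ^ (2 * j) + q ^ (j + 1)) (k : ℕ) :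
    ∏ i ∈ Finset.range (k + 1), s (i + 1) =
      2 * (q ^ (k + 1) - 1) * ∏ i ∈ Finset.range k, (q ^ (2 * (i + 1)) - 1) := by
  have hs' : ∀ j, 1 ≤ j → s j = (q ^ j - 1) * (q ^ (j - 1) + 1) := by
    intro j hj
    obtain ⟨j', rfl⟩ : ∃ j', j = j' + 1 := ⟨j - 1, by omega⟩
    have h := hs (j' + 1) hj
    have h1 : 1 ≤ q ^ j' := Nat.one_le_pow _ _ (by omega)
    obtain ⟨t, ht⟩ : ∃ t, q ^ j' = t + 1 := ⟨q ^ j' - 1, by omega⟩
    have e1 : q ^ (j' + 1) = q * (t + 1) := by rw [pow_succ, ht]; ring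
    have e2 : q ^ (2 * (j' + 1)) = q * (t + 1) * (q * (t + 1)) := by
      rw [← e1]; ring
    have e3 : q ^ (j' + 1 + 1) = q * (q * (t + 1)) := by rw [pow_succ, e1]; ring
    rw [e1, e2, e3] at h
    rw [e1, Nat.add_sub_cancel, ht]
    obtain ⟨r, hr⟩ : ∃ r, q * (t + 1) = r + 1 := ⟨q * (t + 1) - 1, by
      have : 1 ≤ q * (t + 1) := Nat.mul_pos (by omega) (by omega)
      omega⟩
    rw [hr] at h ⊢
    rw [Nat.add_sub_cancel]
    have h2 : (s (j' + 1) + 1) * q = (r * (t + 1 + 1) + 1) * q := by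
      have : q * (q * (t + 1)) = q * (r + 1) := by rw [hr]
      nlinarith
    have := Nat.eq_of_mul_eq_mul_right (by omega : 0 < q) h2
    omega
  induction k with
  | zero =>
    simp only [zero_add, Finset.range_one, Finset.prod_singleton, Finset.range_zero,
      Finset.prod_empty, mul_one, pow_one]
    rw [hs' 1 le_rfl]
    simp
    ring
  | succ k ih =>
    rw [Finset.prod_range_succ, ih, Finset.prod_range_succ, hs' (k + 1 + 1) (by omega)]
    have h1 : 1 ≤ q ^ (k + 1) := Nat.one_le_pow _ _ (by omega)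
    have e : q ^ (2 * (k + 1)) - 1 = (q ^ (k + 1) - 1) * (q ^ (k + 1) + 1) := by
      rw [mul_comm 2, pow_mul]
      exact sq_sub_one _ h1
    rw [e, Nat.add_sub_cancel]
    ring

theorem card_GO_plus [Fintype F] {q : ℕ} (hF : Fintype.card F = q) (m : ℕ) (hm : 1 ≤ m) :
    Nat.card (Cfsg.isometryGroup F (Cfsg.quadFormPlus m F)) =
      2 * q ^ (m * (m - 1)) * (q ^ m - 1) *
        ∏ i ∈ Finset.range (m - 1), (q ^ (2 * (i + 1)) - 1) := by
  have hq : 2 ≤ q := by rw [← hF]; exact Fintype.one_lt_card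
  obtain ⟨k, rfl⟩ : ∃ k, m = k + 1 := ⟨m - 1, by omega⟩
  rw [quadFormPlus_eq, (plusModel F (k + 1)).card_go 1 (fun c _ => card_emb_plus (k + 1) c),
    mul_one]
  have h := (plusModel F (k + 1)).card_frames_model
  rw [hF] at h
  have hsum : ∑ y, (plusModel F (k + 1)).N₀ y = 1 := by
    rw [(plusModel F (k + 1)).sum_N₀]; simp
  have hs : ∀ j, 1 ≤ j → ((Sk j (plusModel F (k + 1)).N₀ 0 - 1) + 1) * q + q ^ j =
      q ^ (2 * j) + q ^ (j + 1) := by
    intro j hj
    have h1 := Sk_zero_plus (plusModel F (k + 1)).N₀ (plusModel F (k + 1)).N₀_zero hsum j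
    rw [hF] at h1
    have h2 : 1 ≤ Sk j (plusModel F (k + 1)).N₀ 0 := by
      by_contra h0
      have h0' : Sk j (plusModel F (k + 1)).N₀ 0 = 0 := by omega
      rw [h0', zero_mul, zero_add] at h1
      have : q ^ j ≤ q ^ (j + 1) := Nat.pow_le_pow_right (by omega) (by omega)
      have : 1 ≤ q ^ (2 * j) := Nat.one_le_pow _ _ (by omega)
      omega
    rw [Nat.sub_add_cancel h2]
    exact h1
  have hp := prod_plus q hq (fun j => Sk j (plusModel F (k + 1)).N₀ 0 - 1) hs k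
  rw [hp] at h
  simp only [Fintype.card_eq_zero, add_zero, Nat.add_sub_cancel] at h ⊢
  have e : (q ^ (2 * (k + 1))) ^ (k + 1) = q ^ ((k + 1) * k) * q ^ ((k + 1) * (k + 1 + 1)) := by
    rw [← pow_mul, ← pow_add]
    congr 1
    ring
  rw [e] at h
  have hpos : 0 < q ^ ((k + 1) * (k + 1 + 1)) := Nat.pow_pos (by omega)
  apply Nat.eq_of_mul_eq_mul_right hpos
  rw [h]
  ring

end Cfsg.Agent.Helper2.Quad
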