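import Mathlib
import Cfsg.Agent.Helper2.QuadPlus

/-! `O⁺₆(2) ≃* S₈` via the permutation module `F₂⁸`. -/

set_option autoImplicit false
set_option linter.unusedSectionVars false
set_option linter.unusedVariables false
set_option linter.unusedSimpArgs false

namespace Cfsg.Agent.Helper2.O6S8

open Matrix Equiv

section Sym

variable {ι : Type*} [Fintype ι] [LinearOrder ι] {R : Type*} [CommRing R]

/-- splitting a double sum along the order -/
theorem sum_sum_split (h : ι → ι → R) :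
    ∑ i, ∑ j, h i j = (∑ i, ∑ j, if i < j then h i j + h j i else 0) + ∑ i, h i i := by
  have h1 : ∀ i j, h i j = (if i < j then h i j else 0) + (if j < i then h i j else 0) +
      (if i = j then h i j else 0) := by
    intro i j
    rcases lt_trichotomy i j with hlt | heq | hgt
    · simp [hlt, not_lt.mpr hlt.le, hlt.ne]
    · subst heq; simp
    · simp [hgt, not_lt.mpr hgt.le, hgt.ne']
  have h2 : ∑ i, ∑ j, (if j < i then h i j else 0) = ∑ i, ∑ j, (if i < j then h j i else 0) := by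
    rw [Finset.sum_comm]
  calc ∑ i, ∑ j, h i j
      = ∑ i, ∑ j, ((if i < j then h i j else 0) + (if j < i then h i j else 0) +
          (if i = j then h i j else 0)) := by
        apply Finset.sum_congr rfl; intro i _
        apply Finset.sum_congr rfl; intro j _
        exact h1 i j
    _ = (∑ i, ∑ j, (if i < j then h i j else 0)) + (∑ i, ∑ j, (if j < i then h i j else 0)) +
          ∑ i, ∑ j, (if i = j then h i j else 0) := by
        simp only [Finset.sum_add_distrib]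
    _ = (∑ i, ∑ j, (if i < j then h i j else 0)) + (∑ i, ∑ j, (if i < j then h j i else 0)) +
          ∑ i, h i i := by
        rw [h2]
        congr 1
        apply Finset.sum_congr rfl; intro i _
        simp
    _ = _ := by
        congr 1
        rw [← Finset.sum_add_distrib]
        apply Finset.sum_congr rfl; intro i _
        rw [← Finset.sum_add_distrib]
        apply Finset.sum_congr rfl; intro j _
        split_ifs <;> simp

/-- a symmetric double sum over `i < j` is invariant under permutations -/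
theorem sum_lt_perm (σ : Perm ι) (f : ι → ι → R) (hf : ∀ i j, f i j = f j i) :
    ∑ i, ∑ j, (if σ i < σ j then f i j else 0) = ∑ i, ∑ j, (if i < j then f i j else 0) := by
  rw [sum_sum_split]
  have h0 : ∑ i, (if σ i < σ i then f i i else 0) = 0 := by
    apply Finset.sum_eq_zero; intro i _; simp
  rw [h0, add_zero]
  apply Finset.sum_congr rfl; intro i _
  apply Finset.sum_congr rfl; intro j _
  by_cases hij : i < j
  · rw [if_pos hij, if_pos hij]
    have hne : σ i ≠ σ j := fun h => hij.ne (σ.injective h)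
    rcases lt_or_gt_of_ne hne with h | h
    · rw [if_pos h, if_neg (not_lt.mpr h.le), add_zero]
    · rw [if_neg (not_lt.mpr h.le), if_pos h, zero_add, hf]
  · rw [if_neg hij, if_neg hij]

end Sym

variable {F : Type*} [Field F]

/-- permutation action on `F⁸` -/
def pvL (σ : Perm (Fin 8)) : (Fin 8 → F) →ₗ[F] (Fin 8 → F) where
  toFun v := fun k => v (σ.symm k)
  map_add' _ _ := rfl
  map_smul' _ _ := rfl

theorem pvL_apply (σ : Perm (Fin 8)) (v : Fin 8 → F) (k : Fin 8) : pvL σ v k = v (σ.symm k) := rfl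

theorem pvL_mul (σ τ : Perm (Fin 8)) (v : Fin 8 → F) : pvL (σ * τ) v = pvL σ (pvL τ v) := by
  funext k
  simp only [pvL_apply]
  rfl

theorem sum_pvL (σ : Perm (Fin 8)) (v : Fin 8 → F) : ∑ k, pvL σ v k = ∑ k, v k := by
  simp only [pvL_apply]
  exact Equiv.sum_comp σ.symm v

theorem pvL_ones (σ : Perm (Fin 8)) (c : F) : pvL σ (fun _ => c) = fun _ => c := rfl

/-- the second elementary symmetric function -/
def e2 (v : Fin 8 → F) : F := ∑ i, ∑ j, if i < j then v i * v j else 0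

theorem e2_pvL (σ : Perm (Fin 8)) (v : Fin 8 → F) : e2 (pvL σ v) = e2 v := by
  unfold e2
  simp only [pvL_apply]
  rw [← Equiv.sum_comp σ]
  have : ∀ i, ∑ j, (if σ i < j then v (σ.symm (σ i)) * v (σ.symm j) else 0) =
      ∑ j, (if σ i < σ j then v i * v j else 0) := by
    intro i
    rw [← Equiv.sum_comp σ]
    simp
  simp only [this]
  exact sum_lt_perm σ (fun i j => v i * v j) (fun i j => mul_comm _ _)

theorem e2_explicit (v : Fin 8 → F) : e2 v = v 0 * v 1 + v 0 * v 2 + v 0 * v 3 + v 0 * v 4 + v 0 * v 5 + v 0 * v 6 + v 0 * v 7 + v 1 * v 2 + v 1 * v 3 + v 1 * v 4 + v 1 * v 5 + v 1 * v 6 + v 1 * v 7 + v 2 * v 3 + v 2 * v 4 + v 2 * v 5 + v 2 * v 6 + v 2 * v 7 + v 3 * v 4 + v 3 * v 5 + v 3 * v 6 + v 3 * v 7 + v 4 * v 5 + v 4 * v 6 + v 4 * v 7 + v 5 * v 6 + v 5 * v 7 + v 6 * v 7 := by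
  unfold e2
  simp [Fin.sum_univ_eight]
  ring

/-- coordinates with respect to the hyperbolic basis -/
def coordL : (Fin 8 → F) →ₗ[F] (Fin 3 ⊕ Fin 3 → F) where
  toFun v := Sum.elim ![v 0 + v 1 + v 2 + v 4, v 1 + v 3 + v 4 + v 5, v 0 + v 1 + v 5 + v 6] ![v 0 + v 1 + v 2 + v 3, v 0 + v 3 + v 4 + v 5, v 2 + v 3 + v 4 + v 6]
  map_add' u v := by
    funext i
    rcases i with i | i <;> fin_cases i <;> simp <;> ring
  map_smul' c v := by
    funext i
    rcases i with i | i <;> fin_cases i <;> simp <;> ring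

/-- the span of the hyperbolic basis -/
def phiL : (Fin 3 ⊕ Fin 3 → F) →ₗ[F] (Fin 8 → F) where
  toFun x := ![x (Sum.inl 0) + x (Sum.inr 0) + x (Sum.inl 1) + x (Sum.inr 2),
    x (Sum.inl 0) + x (Sum.inr 0) + x (Sum.inr 1) + x (Sum.inr 2),
    x (Sum.inl 0) + x (Sum.inr 0) + x (Sum.inl 2),
    x (Sum.inl 0) + x (Sum.inl 1) + x (Sum.inr 1) + x (Sum.inl 2),
    x (Sum.inr 0) + x (Sum.inl 1) + x (Sum.inr 1) + x (Sum.inl 2),
    x (Sum.inl 1) + x (Sum.inr 1) + x (Sum.inr 2),
    x (Sum.inl 2) + x (Sum.inr 2),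
    0]
  map_add' u v := by
    funext i
    fin_cases i <;> simp <;> ring
  map_smul' c v := by
    funext i
    fin_cases i <;> simp <;> ring

variable [CharP F 2]

theorem coord_phi (x : Fin 3 ⊕ Fin 3 → F) : coordL (phiL x) = x := by
  have h2 : (2 : F) = 0 := CharTwo.two_eq_zero
  funext i
  rcases i with i | i <;> fin_cases i <;> simp [coordL, phiL]
  · linear_combination (x (Sum.inl 0) + x (Sum.inl 1) + x (Sum.inl 2) + (2) * x (Sum.inr 0) + x (Sum.inr 1) + x (Sum.inr 2)) * h2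
  · linear_combination (x (Sum.inl 0) + x (Sum.inl 1) + x (Sum.inl 2) + x (Sum.inr 0) + (2) * x (Sum.inr 1) + x (Sum.inr 2)) * h2
  · linear_combination (x (Sum.inl 0) + x (Sum.inl 1) + x (Sum.inr 0) + x (Sum.inr 1) + (2) * x (Sum.inr 2)) * h2
  · linear_combination ((2) * x (Sum.inl 0) + x (Sum.inl 1) + x (Sum.inl 2) + x (Sum.inr 0) + x (Sum.inr 1) + x (Sum.inr 2)) * h2
  · linear_combination (x (Sum.inl 0) + (2) * x (Sum.inl 1) + x (Sum.inl 2) + x (Sum.inr 0) + x (Sum.inr 1) + x (Sum.inr 2)) * h2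
  · linear_combination (x (Sum.inl 0) + x (Sum.inl 1) + (2) * x (Sum.inl 2) + x (Sum.inr 0) + x (Sum.inr 1)) * h2

theorem sum_phi (x : Fin 3 ⊕ Fin 3 → F) : ∑ k, phiL x k = 0 := by
  have h2 : (2 : F) = 0 := CharTwo.two_eq_zero
  simp [phiL, Fin.sum_univ_eight]
  linear_combination (2 * (x (Sum.inl 0) + x (Sum.inl 1) + x (Sum.inl 2) + x (Sum.inr 0) + x (Sum.inr 1) + x (Sum.inr 2))) * h2

theorem coord_ones (c : F) : coordL (fun _ : Fin 8 => c) = 0 := by
  have h2 : (2 : F) = 0 := CharTwo.two_eq_zero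
  funext i
  rcases i with i | i <;> fin_cases i <;> simp [coordL] <;> linear_combination (2 * c) * h2

/-- decomposition of an even-weight vector -/
theorem decomp {v : Fin 8 → F} (hv : ∑ k, v k = 0) :
    v = phiL (coordL v) + fun _ => v 7 := by
  have h2 : (2 : F) = 0 := CharTwo.two_eq_zero
  rw [Fin.sum_univ_eight] at hv
  funext i
  fin_cases i <;> simp [coordL, phiL]
  · linear_combination (-1 : F) * hv + (-(v 1) + -(v 2) + -(v 3) + -(v 4)) * h2
  · linear_combination (-1 : F) * hv + (-(v 0) + -(v 2) + -(v 3) + -(v 4)) * h2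
  · linear_combination (-1 : F) * hv + (-(v 0) + -(v 1)) * h2
  · linear_combination (-1 : F) * hv + (-(v 0) + -(v 1) + -(v 4) + -(v 5)) * h2
  · linear_combination (-1 : F) * hv + (-(v 0) + -(v 1) + -(v 3) + -(v 5)) * h2
  · linear_combination (-1 : F) * hv + (-(v 3) + -(v 4)) * h2
  · linear_combination (-1 : F) * hv + (0) * h2

/-- the hyperbolic form in coordinates is the second elementary symmetric function -/
theorem Q_coord {u : Fin 8 → F} (hu : ∑ k, u k = 0) :
    Cfsg.quadFormPlus 3 F (coordL u) = e2 u := by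
  have h2 : (2 : F) = 0 := CharTwo.two_eq_zero
  rw [Fin.sum_univ_eight] at hu
  have h7 : u 7 = -(u 0 + u 1 + u 2 + u 3 + u 4 + u 5 + u 6) := by linear_combination hu
  rw [e2_explicit]
  simp [Cfsg.quadFormPlus, coordL, Fin.sum_univ_three]
  rw [h7]
  linear_combination (u 0 * u 0 + (2) * u 0 * u 1 + (2) * u 0 * u 2 + (2) * u 0 * u 3 + (2) * u 0 * u 4 + u 0 * u 5 + u 0 * u 6 + u 1 * u 1 + (2) * u 1 * u 2 + (2) * u 1 * u 3 + (2) * u 1 * u 4 + u 1 * u 5 + u 1 * u 6 + u 2 * u 2 + u 2 * u 3 + u 2 * u 4 + u 2 * u 5 + u 2 * u 6 + u 3 * u 3 + (2) * u 3 * u 4 + (2) * u 3 * u 5 + u 3 * u 6 + u 4 * u 4 + (2) * u 4 * u 5 + u 4 * u 6 + u 5 * u 5 + u 5 * u 6 + u 6 * u 6) * h2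


/-- the linear map induced by a permutation on the 6-dimensional quotient -/
def rhoL (σ : Perm (Fin 8)) : (Fin 3 ⊕ Fin 3 → F) →ₗ[F] (Fin 3 ⊕ Fin 3 → F) :=
  coordL ∘ₗ pvL σ ∘ₗ phiL

theorem rhoL_apply (σ : Perm (Fin 8)) (x : Fin 3 ⊕ Fin 3 → F) :
    rhoL σ x = coordL (pvL σ (phiL x)) := rfl

theorem sum_pv_phi (σ : Perm (Fin 8)) (x : Fin 3 ⊕ Fin 3 → F) : ∑ k, pvL σ (phiL x) k = 0 := by
  rw [sum_pvL, sum_phi]

theorem phi_rho (σ : Perm (Fin 8)) (x : Fin 3 ⊕ Fin 3 → F) :
    ∃ c : F, phiL (rhoL σ x) = pvL σ (phiL x) - fun _ => c := by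
  have h := decomp (sum_pv_phi σ x)
  refine ⟨pvL σ (phiL x) 7, ?_⟩
  rw [rhoL_apply]
  exact eq_sub_of_add_eq h.symm

theorem rhoL_mul (σ τ : Perm (Fin 8)) : (rhoL (σ * τ) : _ →ₗ[F] _) = rhoL σ ∘ₗ rhoL τ := by
  apply LinearMap.ext
  intro x
  rw [LinearMap.comp_apply]
  obtain ⟨c, hc⟩ := phi_rho τ x
  rw [rhoL_apply σ, hc, map_sub, map_sub, pvL_ones, coord_ones, sub_zero, ← pvL_mul]
  rfl

theorem rhoL_one : (rhoL (1 : Perm (Fin 8)) : _ →ₗ[F] _) = LinearMap.id := by
  apply LinearMap.ext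
  intro x
  rw [rhoL_apply]
  have : pvL (1 : Perm (Fin 8)) (phiL x) = phiL x := rfl
  rw [this, coord_phi]
  rfl

theorem Q_rhoL (σ : Perm (Fin 8)) (x : Fin 3 ⊕ Fin 3 → F) :
    Cfsg.quadFormPlus 3 F (rhoL σ x) = Cfsg.quadFormPlus 3 F x := by
  rw [rhoL_apply, Q_coord (sum_pv_phi σ x), e2_pvL, ← Q_coord (sum_phi x), coord_phi]

/-- the matrix representation -/
noncomputable def rhoMat : Perm (Fin 8) →* Matrix (Fin 3 ⊕ Fin 3) (Fin 3 ⊕ Fin 3) F where
  toFun σ := LinearMap.toMatrix' (rhoL σ)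
  map_one' := by rw [rhoL_one, LinearMap.toMatrix'_id]
  map_mul' σ τ := by rw [rhoL_mul, LinearMap.toMatrix'_comp]

theorem rhoMat_mulVec (σ : Perm (Fin 8)) (x : Fin 3 ⊕ Fin 3 → F) :
    (rhoMat σ : Matrix _ _ F) *ᵥ x = rhoL σ x := by
  change LinearMap.toMatrix' (rhoL σ) *ᵥ x = _
  rw [LinearMap.toMatrix'_mulVec]

theorem rho_mem (σ : Perm (Fin 8)) :
    (rhoMat (F := F)).toHomUnits σ ∈ Cfsg.isometryGroup F (Cfsg.quadFormPlus 3 F) := by
  intro u v
  change Cfsg.quadFormPlus 3 F ((rhoMat σ : Matrix _ _ F) *ᵥ u) = Cfsg.quadFormPlus 3 F u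
  rw [rhoMat_mulVec, Q_rhoL]

/-- the homomorphism `S₈ → O⁺₆(2)` -/
noncomputable def rho : Perm (Fin 8) →* Cfsg.isometryGroup F (Cfsg.quadFormPlus 3 F) :=
  (rhoMat (F := F)).toHomUnits.codRestrict _ rho_mem

theorem exists_avoid : ∀ a b c d : Fin 8, ∃ k : Fin 8, k ≠ a ∧ k ≠ b ∧ k ≠ c ∧ k ≠ d := by
  decide

theorem exists_two_others : ∀ a : Fin 8, ∃ b b' : Fin 8, b ≠ a ∧ b' ≠ a ∧ b ≠ b' := by
  decide

theorem rho_injective :
    Function.Injective (rho : Perm (Fin 8) →* Cfsg.isometryGroup F (Cfsg.quadFormPlus 3 F)) := by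
  rw [injective_iff_map_eq_one]
  intro σ hσ
  have h2 : (2 : F) = 0 := CharTwo.two_eq_zero
  have hL : (rhoL σ : _ →ₗ[F] _) = LinearMap.id := by
    have h1 : (rhoMat σ : Matrix _ _ F) = 1 := by
      have := congrArg (fun g : Cfsg.isometryGroup F (Cfsg.quadFormPlus 3 F) =>
        ((g : GL (Fin 3 ⊕ Fin 3) F) : Matrix (Fin 3 ⊕ Fin 3) (Fin 3 ⊕ Fin 3) F)) hσ
      exact this
    have h3 : LinearMap.toMatrix' (rhoL σ : _ →ₗ[F] _) = 1 := h1
    rw [← LinearMap.toMatrix'_id] at h3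
    exact LinearMap.toMatrix'.injective h3
  have key : ∀ u : Fin 8 → F, ∑ k, u k = 0 → ∃ c : F, pvL σ u = u + fun _ => c := by
    intro u hu
    obtain ⟨c, hc⟩ := phi_rho σ (coordL u)
    rw [hL, LinearMap.id_apply] at hc
    have hd := decomp hu
    refine ⟨c, ?_⟩
    have e1 : pvL σ u = pvL σ (phiL (coordL u)) + pvL σ (fun _ => u 7) := by
      rw [← map_add, ← hd]
    rw [e1, pvL_ones]
    funext k
    have hk := congrFun hc k
    have hdk := congrFun hd k
    simp only [Pi.add_apply, Pi.sub_apply] at hk hdk ⊢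
    linear_combination -hk - hdk
  have hab : ∀ a b : Fin 8, a ≠ b → σ a = a ∨ σ a = b := by
    intro a b hne
    set w : Fin 8 → F := Pi.single a (1 : F) + Pi.single b (1 : F) with hw
    have hsum : ∑ k, w k = 0 := by
      rw [hw]
      simp only [Pi.add_apply, Finset.sum_add_distrib, Finset.sum_pi_single', Finset.mem_univ,
        if_true]
      linear_combination h2
    obtain ⟨c, hc⟩ := key _ hsum
    have hval : ∀ k : Fin 8, w (σ.symm k) = w k + c := fun k => congrFun hc k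
    obtain ⟨k, hka, hkb, hkσa, hkσb⟩ := exists_avoid a b (σ a) (σ b)
    have hc0 : c = 0 := by
      have := hval k
      have h1 : σ.symm k ≠ a := fun h => hkσa (by rw [← h]; simp)
      have h2' : σ.symm k ≠ b := fun h => hkσb (by rw [← h]; simp)
      simp only [hw, Pi.add_apply, Pi.single_apply, if_neg h1, if_neg h2', if_neg hka, if_neg hkb,
        add_zero, zero_add] at this
      exact this.symm
    by_contra hcon
    push Not at hcon
    have := hval (σ a)
    have hσb : σ.symm (σ a) = a := by simp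
    rw [hσb, hc0] at this
    simp only [hw, Pi.add_apply, Pi.single_apply, if_true, if_neg hne, if_neg hcon.1, if_neg hcon.2,
      add_zero] at this
    exact one_ne_zero this
  ext a
  obtain ⟨b, b', hb, hb', hbb⟩ := exists_two_others a
  rcases hab a b hb.symm with h | h
  · rw [h]; rfl
  · rcases hab a b' hb'.symm with h' | h'
    · rw [h']; rfl
    · exact absurd (h.symm.trans h') hbb

theorem nonempty_mulEquiv [Fintype F] (hF : Fintype.card F = 2) :
    Nonempty (Cfsg.isometryGroup F (Cfsg.quadFormPlus 3 F) ≃* Perm (Fin 8)) := by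
  have hcard : Nat.card (Perm (Fin 8)) =
      Nat.card (Cfsg.isometryGroup F (Cfsg.quadFormPlus 3 F)) := by
    rw [Quad.card_GO_plus hF 3 (by norm_num), Nat.card_eq_fintype_card, Fintype.card_perm,
      Fintype.card_fin]
    simp [Finset.prod_range_succ]
    rfl
  have hbij : Function.Bijective
      (rho : Perm (Fin 8) →* Cfsg.isometryGroup F (Cfsg.quadFormPlus 3 F)) :=
    (Nat.bijective_iff_injective_and_card _).mpr ⟨rho_injective, hcard⟩
  exact ⟨(MulEquiv.ofBijective _ hbij).symm⟩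

end Cfsg.Agent.Helper2.O6S8
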