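import Cfsg.Agent.Helper2.Invol

set_option autoImplicit false

namespace Cfsg.Agent.Helper2

open Pointwise

section
variable {G : Type*} [Group G]

/-- the subgroup generated by two involutions whose product has 2-power order is a 2-group -/
theorem isPGroup_closure_invol_pair {x y : G} (hx : x * x = 1) (hy : y * y = 1) (a : ℕ)
    (h : (x * y) ^ (2 ^ a) = 1) : IsPGroup 2 (Subgroup.closure ({x, y} : Set G)) := by
  rintro ⟨d, hd⟩
  refine ⟨a + 1, ?_⟩
  apply Subtype.ext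
  show d ^ 2 ^ (a + 1) = 1
  obtain ⟨j, rfl | rfl⟩ := invol_closure_form hx hy hd
  · rw [← zpow_natCast, ← zpow_mul, mul_comm, zpow_mul, zpow_natCast, pow_succ, pow_mul, h,
      one_pow, one_zpow]
  · have : ((x * y) ^ j * x) ^ 2 = 1 := by
      rw [pow_two, mul_assoc, ← mul_assoc x, invol_mul_zpow hx hy, mul_assoc, hx, mul_one,
        ← zpow_add, add_neg_cancel, zpow_zero]
    rw [pow_succ', pow_mul, this, one_pow]

variable [Finite G]

/-- Two conjugates of an isolated involution lying in a common 2-subgroup coincide. -/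
theorem isolated_eq_of_mem_pgroup (P : Sylow 2 G) (u : G)
    (hiso : ∀ g : G, g * u * g⁻¹ ∈ P → g * u * g⁻¹ = u) (K : Subgroup G) (hK : IsPGroup 2 K)
    {a b : G} (ha : a ∈ K) (hb : b ∈ K) (hua : ∃ g : G, g * u * g⁻¹ = a)
    (hub : ∃ g : G, g * u * g⁻¹ = b) : a = b := by
  have : Fact (Nat.Prime 2) := ⟨Nat.prime_two⟩
  obtain ⟨Q, hQ⟩ := hK.exists_le_sylow
  obtain ⟨h, rfl⟩ := MulAction.exists_smul_eq G P Q
  have key : ∀ c ∈ K, (∃ g : G, g * u * g⁻¹ = c) → h⁻¹ * c * h = u := by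
    rintro c hc ⟨g, rfl⟩
    have h1 := hQ hc
    rw [Sylow.coe_subgroup_smul, Subgroup.mem_pointwise_smul_iff_inv_smul_mem] at h1
    have h2 : (h⁻¹ * g) * u * (h⁻¹ * g)⁻¹ ∈ P := by
      have h1' : (MulAut.conj h)⁻¹ • (g * u * g⁻¹) ∈ P := h1
      simpa [MulAut.smul_def, mul_assoc] using h1'
    have h3 := hiso _ h2
    calc h⁻¹ * (g * u * g⁻¹) * h = (h⁻¹ * g) * u * (h⁻¹ * g)⁻¹ := by group
      _ = u := h3
  have h1 := key a ha hua
  have h2 := key b hb hub
  have : h⁻¹ * a * h = h⁻¹ * b * h := h1.trans h2.symm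
  simpa using this


/-- The product of an isolated involution with any of its conjugates has odd order. -/
theorem isolated_mul_conj_odd (P : Sylow 2 G) (u : G) (hu : orderOf u = 2)
    (hiso : ∀ g : G, g * u * g⁻¹ ∈ P → g * u * g⁻¹ = u) (v : G) (hv : ∃ g : G, g * u * g⁻¹ = v) :
    Odd (orderOf (u * v)) := by
  by_contra hodd
  rw [Nat.not_odd_iff_even] at hodd
  obtain ⟨g, rfl⟩ := hv
  have hx := mul_self_of_orderOf_two hu
  have hy : (g * u * g⁻¹) * (g * u * g⁻¹) = 1 := by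
    calc (g * u * g⁻¹) * (g * u * g⁻¹) = g * (u * u) * g⁻¹ := by group
      _ = 1 := by rw [hx]; group
  set v := g * u * g⁻¹ with hvdef
  obtain ⟨a, m, hm, hn⟩ := Nat.exists_eq_two_pow_mul_odd (orderOf_pos (u * v)).ne'
  obtain ⟨k, rfl⟩ := hm
  have ha : a ≠ 0 := by
    rintro rfl
    rw [pow_zero, one_mul] at hn
    rw [hn] at hodd
    exact (Nat.not_even_iff_odd.mpr ⟨k, rfl⟩) hodd
  set m := 2 * k + 1 with hmdef
  set z := u * v with hz
  -- v' = z^m u is conjugate to v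
  have hv' : z ^ ((k : ℤ) + 1) * v * (z ^ ((k : ℤ) + 1))⁻¹ = z ^ (m : ℤ) * u := by
    have e1 : v = z ^ (-1 : ℤ) * u := invol_y_eq hy
    conv_lhs => rw [e1]
    rw [← mul_assoc, ← zpow_add, mul_assoc, ← zpow_neg, invol_mul_zpow hx hy, neg_neg,
      ← mul_assoc, ← zpow_add]
    congr 2
    rw [hmdef]; push_cast; ring
  have hv'2 : (z ^ (m : ℤ) * u) * (z ^ (m : ℤ) * u) = 1 := by
    rw [mul_assoc, ← mul_assoc u, invol_mul_zpow hx hy, mul_assoc, hx, mul_one,
        ← zpow_add, add_neg_cancel, zpow_zero]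
  have huv' : u * (z ^ (m : ℤ) * u) = z ^ (-(m : ℤ)) := by
    rw [← mul_assoc, invol_mul_zpow hx hy, mul_assoc, hx, mul_one]
  have hpow : (u * (z ^ (m : ℤ) * u)) ^ (2 ^ a) = 1 := by
    rw [huv', ← zpow_natCast, ← zpow_mul]
    have : (-(m : ℤ)) * ((2 ^ a : ℕ) : ℤ) = -((orderOf z : ℕ) : ℤ) := by
      rw [hn]; push_cast; ring
    rw [this, zpow_neg, zpow_natCast, pow_orderOf_eq_one, inv_one]
  have hK := isPGroup_closure_invol_pair hx hv'2 a hpow
  have hmem1 : u ∈ Subgroup.closure ({u, z ^ (m : ℤ) * u} : Set G) :=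
    Subgroup.subset_closure (by simp)
  have hmem2 : z ^ (m : ℤ) * u ∈ Subgroup.closure ({u, z ^ (m : ℤ) * u} : Set G) :=
    Subgroup.subset_closure (by simp)
  have heq := isolated_eq_of_mem_pgroup P u hiso _ hK hmem1 hmem2 ⟨1, by simp⟩
    ⟨z ^ ((k : ℤ) + 1) * g, by
      rw [← hv', hvdef]; group⟩
  have hzm : z ^ m = 1 := by
    have : z ^ (m : ℤ) = 1 := by
      have h1 : 1 * u = z ^ (m : ℤ) * u := by rw [one_mul]; exact heq
      exact (mul_right_cancel h1).symm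
    rwa [zpow_natCast] at this
  have hdvd := orderOf_dvd_of_pow_eq_one hzm
  rw [hn] at hdvd
  have hmpos : 0 < m := by omega
  have h2a : 2 ^ a ∣ 1 := by
    have : 2 ^ a * m ∣ 1 * m := by rwa [one_mul]
    exact Nat.dvd_of_mul_dvd_mul_right hmpos this
  have : 2 ^ a = 1 := Nat.dvd_one.mp h2a
  have h2 : 2 ≤ 2 ^ a := by
    calc 2 = 2 ^ 1 := rfl
      _ ≤ 2 ^ a := Nat.pow_le_pow_right (by norm_num) (Nat.one_le_iff_ne_zero.mpr ha)
  omega

end

end Cfsg.Agent.Helper2
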