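import Mathlib

/-! Counting solutions of `∑ x i * y i = c` over a finite field. -/

namespace Cfsg.Agent.Helper2

open Finset

variable {F : Type*} [Field F] [Fintype F] {ι : Type*} [Fintype ι]

/-- the additive hom `y ↦ ∑ x i * y i` -/
def dotHom (x : ι → F) : (ι → F) →+ F where
  toFun y := ∑ i, x i * y i
  map_zero' := by simp
  map_add' y z := by simp [mul_add, Finset.sum_add_distrib]

omit [Fintype F] in
theorem dotHom_apply (x y : ι → F) : dotHom x y = ∑ i, x i * y i := rfl

theorem dotHom_surjective (x : ι → F) (hx : x ≠ 0) : Function.Surjective (dotHom x) := by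
  classical
  obtain ⟨i0, hi0⟩ : ∃ i, x i ≠ 0 := by
    by_contra h
    push Not at h
    exact hx (funext h)
  intro c
  refine ⟨Pi.single i0 (c / x i0), ?_⟩
  rw [dotHom_apply, Finset.sum_eq_single i0]
  · rw [Pi.single_eq_same, mul_div_cancel₀ _ hi0]
  · intro j _ hj
    rw [Pi.single_eq_of_ne hj, mul_zero]
  · intro h; exact absurd (Finset.mem_univ i0) h

theorem card_fiber_dot_mul (x : ι → F) (hx : x ≠ 0) (c : F) :
    Nat.card {y : ι → F // ∑ i, x i * y i = c} * Fintype.card F =
      Fintype.card F ^ Fintype.card ι := by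
  classical
  obtain ⟨y0, hy0⟩ := dotHom_surjective x hx c
  have e : {y : ι → F // ∑ i, x i * y i = c} ≃ (dotHom x).ker :=
    { toFun := fun y => ⟨y.1 - y0, by
        rw [AddMonoidHom.mem_ker, map_sub, hy0, dotHom_apply, y.2, sub_self]⟩
      invFun := fun k => ⟨k.1 + y0, by
        have hk : dotHom x k.1 = 0 := k.2
        have := map_add (dotHom x) k.1 y0
        rw [hk, hy0, zero_add] at this
        exact this⟩
      left_inv := fun y => by simp
      right_inv := fun k => by simp }
  rw [Nat.card_congr e]
  have h1 := AddSubgroup.card_mul_index (dotHom x).ker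
  rw [AddSubgroup.index_ker, AddMonoidHom.range_eq_top.mpr (dotHom_surjective x hx),
    AddSubgroup.card_top, Nat.card_eq_fintype_card (α := F),
    Nat.card_eq_fintype_card (α := ι → F), Fintype.card_fun] at h1
  exact h1

theorem card_fiber_dot (x : ι → F) (hx : x ≠ 0) (c : F) :
    Nat.card {y : ι → F // ∑ i, x i * y i = c} = Fintype.card F ^ (Fintype.card ι - 1) := by
  have h := card_fiber_dot_mul x hx c
  have hpos : 0 < Fintype.card ι := by
    rw [Fintype.card_pos_iff]
    by_contra hemp
    rw [not_nonempty_iff] at hemp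
    exact hx (Subsingleton.elim _ _)
  have hq : 0 < Fintype.card F := Fintype.card_pos
  have e : Fintype.card F ^ Fintype.card ι = Fintype.card F ^ (Fintype.card ι - 1) * Fintype.card F := by
    rw [← pow_succ]; congr 1; omega
  rw [e] at h
  exact Nat.eq_of_mul_eq_mul_right hq h

/-- number of pairs `(x, y)` with `∑ x i * y i = c` -/
theorem card_pairs_dot [DecidableEq F] (c : F) :
    Nat.card {p : (ι → F) × (ι → F) // ∑ i, p.1 i * p.2 i = c} =
      (if c = 0 then Fintype.card F ^ Fintype.card ι else 0) +
        (Fintype.card F ^ Fintype.card ι - 1) * Fintype.card F ^ (Fintype.card ι - 1) := by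
  classical
  rw [Nat.card_congr (Equiv.subtypeProdEquivSigmaSubtype
    (fun (x y : ι → F) => ∑ i, x i * y i = c)), Nat.card_sigma,
    ← Finset.add_sum_erase Finset.univ _ (Finset.mem_univ (0 : ι → F))]
  congr 1
  · split_ifs with hc
    · subst hc
      simp [Nat.card_eq_fintype_card]
    · have : IsEmpty {y : ι → F // ∑ i, (0 : ι → F) i * y i = c} := by
        constructor
        rintro ⟨y, hy⟩
        apply hc
        rw [← hy]; simp
      exact Nat.card_of_isEmpty
  · rw [Finset.sum_congr rfl (fun x hx => card_fiber_dot x (Finset.ne_of_mem_erase hx) c),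
      Finset.sum_const, Finset.card_erase_of_mem (Finset.mem_univ _), Finset.card_univ,
      Fintype.card_fun, smul_eq_mul]

end Cfsg.Agent.Helper2

namespace Cfsg.Agent.Helper2

open Finset

variable {F : Type*} [Field F] [Fintype F] {ι : Type*} [Fintype ι]

/-- number of triples `(t, x, y)` with `∑ x i * y i = - g t`, when `g` vanishes only at `t0`. -/
theorem card_sigma_pairs_dot {T : Type*} [Fintype T] (g : T → F) (t0 : T)
    (h0 : g t0 = 0) (hne : ∀ t, t ≠ t0 → g t ≠ 0) :
    Nat.card {p : T × ((ι → F) × (ι → F)) // ∑ i, p.2.1 i * p.2.2 i = - g p.1} =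
      Fintype.card F ^ Fintype.card ι +
        (Fintype.card F ^ Fintype.card ι - 1) * Fintype.card F ^ (Fintype.card ι - 1) +
        (Fintype.card T - 1) *
          ((Fintype.card F ^ Fintype.card ι - 1) * Fintype.card F ^ (Fintype.card ι - 1)) := by
  classical
  rw [Nat.card_congr (Equiv.subtypeProdEquivSigmaSubtype
    (fun (t : T) (p : (ι → F) × (ι → F)) => ∑ i, p.1 i * p.2 i = - g t)), Nat.card_sigma,
    ← Finset.add_sum_erase Finset.univ _ (Finset.mem_univ t0)]
  congr 1
  · rw [card_pairs_dot, h0, neg_zero, if_pos rfl]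
  · have : ∀ t ∈ Finset.univ.erase t0,
        Nat.card {p : (ι → F) × (ι → F) // ∑ i, p.1 i * p.2 i = - g t} =
        (Fintype.card F ^ Fintype.card ι - 1) * Fintype.card F ^ (Fintype.card ι - 1) := by
      intro t ht
      rw [card_pairs_dot, if_neg (neg_ne_zero.mpr (hne t (Finset.ne_of_mem_erase ht))), zero_add]
    rw [Finset.sum_congr rfl this, Finset.sum_const,
      Finset.card_erase_of_mem (Finset.mem_univ _), Finset.card_univ, smul_eq_mul]

end Cfsg.Agent.Helper2
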