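import Cfsg.Agent.Helper2.SpForm
import Cfsg.Agent.Helper2.DotCount

/-! The order of the symplectic group. -/

set_option linter.unusedSectionVars false

namespace Cfsg.Agent.Helper2.Sp

open Matrix

section Reindex

variable {l k : Type*} [DecidableEq l] [Fintype l] [DecidableEq k] [Fintype k]
  {R : Type*} [CommRing R]

omit [Fintype l] [Fintype k] in
theorem reindex_J (e : l ≃ k) :
    Matrix.reindex (e.sumCongr e) (e.sumCongr e) (J l R) = J k R := by
  ext i j
  rcases i with i | i <;> rcases j with j | j <;>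
    simp [J, Matrix.one_apply, Matrix.neg_apply]

theorem card_symplectic_congr (e : l ≃ k) :
    Nat.card (symplecticGroup l R) = Nat.card (symplecticGroup k R) := by
  apply Nat.card_congr
  refine Equiv.subtypeEquiv (Matrix.reindex (e.sumCongr e) (e.sumCongr e)) (fun A => ?_)
  have hr : ∀ M N : Matrix (l ⊕ l) (l ⊕ l) R,
      M.submatrix (e.sumCongr e).symm (e.sumCongr e).symm *
        N.submatrix (e.sumCongr e).symm (e.sumCongr e).symm =
      (M * N).submatrix (e.sumCongr e).symm (e.sumCongr e).symm :=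
    fun M N => Matrix.submatrix_mul_equiv M N _ _ _
  rw [SymplecticGroup.mem_iff, SymplecticGroup.mem_iff, ← reindex_J (R := R) e,
    Matrix.reindex_apply, Matrix.reindex_apply, Matrix.transpose_submatrix, hr, hr]
  constructor
  · intro h; rw [h]
  · intro h
    have := congrArg (fun M => M.submatrix (e.sumCongr e) (e.sumCongr e)) h
    simp only [Matrix.submatrix_submatrix, Equiv.symm_comp_self, Matrix.submatrix_id_id] at this
    exact this

end Reindex


section HP

variable {l : Type*} [DecidableEq l] [Fintype l] {F : Type*} [Field F]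

/-- pairs of vectors, with the diagonal action of the symplectic group -/
def Pair (l : Type*) (F : Type*) := (l ⊕ l → F) × (l ⊕ l → F)

instance pairMulAction : MulAction (symplecticGroup l F) (Pair l F) where
  smul g p := ((g : Matrix (l ⊕ l) (l ⊕ l) F) *ᵥ p.1, (g : Matrix (l ⊕ l) (l ⊕ l) F) *ᵥ p.2)
  one_smul p := by
    show (((1 : symplecticGroup l F) : Matrix (l ⊕ l) (l ⊕ l) F) *ᵥ p.1,
      ((1 : symplecticGroup l F) : Matrix (l ⊕ l) (l ⊕ l) F) *ᵥ p.2) = p
    rw [show ((1 : symplecticGroup l F) : Matrix (l ⊕ l) (l ⊕ l) F) = 1 from rfl, one_mulVec,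
      one_mulVec]
    rfl
  mul_smul g h p := by
    show (((g * h : symplecticGroup l F) : Matrix (l ⊕ l) (l ⊕ l) F) *ᵥ p.1,
      ((g * h : symplecticGroup l F) : Matrix (l ⊕ l) (l ⊕ l) F) *ᵥ p.2) =
      ((g : Matrix (l ⊕ l) (l ⊕ l) F) *ᵥ ((h : Matrix (l ⊕ l) (l ⊕ l) F) *ᵥ p.1),
        (g : Matrix (l ⊕ l) (l ⊕ l) F) *ᵥ ((h : Matrix (l ⊕ l) (l ⊕ l) F) *ᵥ p.2))
    rw [show ((g * h : symplecticGroup l F) : Matrix (l ⊕ l) (l ⊕ l) F) =
      (g : Matrix (l ⊕ l) (l ⊕ l) F) * (h : Matrix (l ⊕ l) (l ⊕ l) F) from rfl, mulVec_mulVec,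
      mulVec_mulVec]

theorem smul_pair_def (g : symplecticGroup l F) (p : Pair l F) :
    g • p = ((g : Matrix (l ⊕ l) (l ⊕ l) F) *ᵥ p.1, (g : Matrix (l ⊕ l) (l ⊕ l) F) *ᵥ p.2) := rfl

theorem om_smul (g : symplecticGroup l F) (x y : l ⊕ l → F) :
    om ((g : Matrix (l ⊕ l) (l ⊕ l) F) *ᵥ x) ((g : Matrix (l ⊕ l) (l ⊕ l) F) *ᵥ y) = om x y :=
  mem_symplectic_iff_om.mp g.2 x y

/-- the map `e ↦ e ᵥ* J` as an equivalence -/
def vecMulJ : (l ⊕ l → F) ≃ (l ⊕ l → F) where
  toFun e := e ᵥ* J l F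
  invFun e := e ᵥ* (- J l F)
  left_inv e := by
    show (e ᵥ* J l F) ᵥ* (- J l F) = e
    rw [vecMul_vecMul, mul_neg, J_squared, neg_neg, vecMul_one]
  right_inv e := by
    show (e ᵥ* (- J l F)) ᵥ* J l F = e
    rw [vecMul_vecMul, neg_mul, J_squared, neg_neg, vecMul_one]

theorem card_hyperbolic_pairs [Fintype F] :
    Nat.card {p : Pair l F // om p.1 p.2 = 1} =
      (Fintype.card F ^ (2 * Fintype.card l) - 1) * Fintype.card F ^ (2 * Fintype.card l - 1) := by
  classical
  have e : {p : Pair l F // om p.1 p.2 = 1} ≃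
      {p : (l ⊕ l → F) × (l ⊕ l → F) // ∑ i, p.1 i * p.2 i = 1} :=
    Equiv.subtypeEquiv (Equiv.prodCongr vecMulJ (Equiv.refl _)) (fun p => by
      show om p.1 p.2 = 1 ↔ ∑ i, (p.1 ᵥ* J l F) i * p.2 i = 1
      unfold om
      rw [dotProduct_mulVec]
      rfl)
  rw [Nat.card_congr e, card_pairs_dot, if_neg one_ne_zero, zero_add, Fintype.card_sum, two_mul]


theorem T_fix_of_om_eq {e f1 f2 : l ⊕ l → F} (h : om e f1 = om e f2) (c : F) :
    T (f1 - f2) c *ᵥ e = e := by
  rw [T_mulVec, om_sub_left, om_swap e f1, om_swap e f2, h, sub_self, mul_zero, zero_smul, add_zero]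

theorem exists_fix_map {e f1 f2 : l ⊕ l → F} (h1 : om e f1 = 1) (h2 : om e f2 = 1) :
    ∃ g : symplecticGroup l F, (g : Matrix (l ⊕ l) (l ⊕ l) F) *ᵥ e = e ∧
      (g : Matrix (l ⊕ l) (l ⊕ l) F) *ᵥ f1 = f2 := by
  by_cases h : om f1 f2 = 0
  · have h3 : om e (f1 + e) = 1 := by rw [om_add_right, om_self, add_zero, h1]
    have h4 : om f1 (f1 + e) ≠ 0 := by
      rw [om_add_right, om_self, zero_add, om_swap e f1, h1]; simp
    have h5 : om (f1 + e) f2 ≠ 0 := by
      rw [om_add_left, h, zero_add, h2]; exact one_ne_zero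
    refine ⟨⟨T ((f1 + e) - f2) (-(om (f1 + e) f2)⁻¹), T_mem _ _⟩ *
      ⟨T (f1 - (f1 + e)) (-(om f1 (f1 + e))⁻¹), T_mem _ _⟩, ?_, ?_⟩
    · show (T ((f1 + e) - f2) (-(om (f1 + e) f2)⁻¹) *
        T (f1 - (f1 + e)) (-(om f1 (f1 + e))⁻¹)) *ᵥ e = e
      rw [← mulVec_mulVec, T_fix_of_om_eq (h1.trans h3.symm), T_fix_of_om_eq (h3.trans h2.symm)]
    · show (T ((f1 + e) - f2) (-(om (f1 + e) f2)⁻¹) *
        T (f1 - (f1 + e)) (-(om f1 (f1 + e))⁻¹)) *ᵥ f1 = f2
      rw [← mulVec_mulVec, T_map_of_om_ne_zero h4, T_map_of_om_ne_zero h5]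
  · exact ⟨⟨T (f1 - f2) (-(om f1 f2)⁻¹), T_mem _ _⟩, T_fix_of_om_eq (h1.trans h2.symm) _,
      T_map_of_om_ne_zero h⟩

theorem exists_smul_eq_of_hyperbolic {p p' : Pair l F} (hp : om p.1 p.2 = 1)
    (hp' : om p'.1 p'.2 = 1) : ∃ g : symplecticGroup l F, g • p = p' := by
  have hne : p.1 ≠ 0 := by
    intro h
    rw [h] at hp
    unfold om at hp
    rw [zero_dotProduct] at hp
    exact zero_ne_one hp
  have hne' : p'.1 ≠ 0 := by
    intro h
    rw [h] at hp'
    unfold om at hp'
    rw [zero_dotProduct] at hp'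
    exact zero_ne_one hp'
  obtain ⟨g1, hg1⟩ := exists_symplectic_mulVec_eq p.1 p'.1 hne hne'
  have h1 : om p'.1 ((g1 : Matrix (l ⊕ l) (l ⊕ l) F) *ᵥ p.2) = 1 := by
    rw [← hg1, om_smul, hp]
  obtain ⟨g2, hg2, hg2'⟩ := exists_fix_map h1 hp'
  refine ⟨g2 * g1, ?_⟩
  rw [mul_smul]
  have h2 : (g2 : Matrix (l ⊕ l) (l ⊕ l) F) *ᵥ ((g1 : Matrix (l ⊕ l) (l ⊕ l) F) *ᵥ p.1) = p'.1 := by
    rw [hg1, hg2]
  exact Prod.ext (α := l ⊕ l → F) (β := l ⊕ l → F) h2 hg2'

end HP


section Stab

variable {l' : Type*} [DecidableEq l'] [Fintype l'] {F : Type*} [Field F]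

/-- standard hyperbolic pair in the `none` coordinates -/
def a0 : Option l' ⊕ Option l' → F := Pi.single (Sum.inr none) 1

/-- standard hyperbolic pair in the `none` coordinates -/
def b0 : Option l' ⊕ Option l' → F := Pi.single (Sum.inl none) 1

/-- embedding of index types -/
def emb : l' ⊕ l' → Option l' ⊕ Option l' := Sum.map some some

/-- restriction of a vector to the `some` coordinates -/
def res (x : Option l' ⊕ Option l' → F) : l' ⊕ l' → F := x ∘ emb

/-- extension of a vector by zero -/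
def ext (x' : l' ⊕ l' → F) : Option l' ⊕ Option l' → F
  | Sum.inl none => 0
  | Sum.inr none => 0
  | Sum.inl (some i) => x' (Sum.inl i)
  | Sum.inr (some i) => x' (Sum.inr i)

theorem vec_ext {x y : Option l' ⊕ Option l' → F} (h1 : x (Sum.inl none) = y (Sum.inl none))
    (h2 : x (Sum.inr none) = y (Sum.inr none)) (h3 : res x = res y) : x = y := by
  funext k
  rcases k with (_ | i) | (_ | i)
  · exact h1
  · exact congrFun h3 (Sum.inl i)
  · exact h2
  · exact congrFun h3 (Sum.inr i)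

@[simp] theorem res_ext (x' : l' ⊕ l' → F) : res (ext x') = x' := by
  funext k
  rcases k with i | i <;> rfl

@[simp] theorem ext_inl_none (x' : l' ⊕ l' → F) : ext x' (Sum.inl none) = 0 := rfl
@[simp] theorem ext_inr_none (x' : l' ⊕ l' → F) : ext x' (Sum.inr none) = 0 := rfl

theorem om_option (x y : Option l' ⊕ Option l' → F) :
    om x y = om (res x) (res y) +
      (x (Sum.inr none) * y (Sum.inl none) - x (Sum.inl none) * y (Sum.inr none)) := by
  rw [om_eq_sum, om_eq_sum, Fintype.sum_option, add_comm]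
  rfl

theorem om_ext (x' y' : l' ⊕ l' → F) : om (ext x') (ext y') = om x' y' := by
  rw [om_option, res_ext, res_ext]
  simp

theorem om_a0 (x : Option l' ⊕ Option l' → F) : om a0 x = x (Sum.inl none) := by
  rw [om_option]
  have : res (a0 : Option l' ⊕ Option l' → F) = 0 := by
    funext k; rcases k with i | i <;> simp [res, emb, a0]
  rw [this]
  unfold om
  simp [a0]

theorem om_b0 (x : Option l' ⊕ Option l' → F) : om b0 x = - x (Sum.inr none) := by
  rw [om_option]
  have : res (b0 : Option l' ⊕ Option l' → F) = 0 := by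
    funext k; rcases k with i | i <;> simp [res, emb, b0]
  rw [this]
  unfold om
  simp [b0]

theorem om_a0_b0 : om (a0 : Option l' ⊕ Option l' → F) b0 = 1 := by
  rw [om_a0]; simp [b0]

/-- block extension of a matrix -/
def E (A' : Matrix (l' ⊕ l') (l' ⊕ l') F) :
    Matrix (Option l' ⊕ Option l') (Option l' ⊕ Option l') F :=
  Matrix.of fun i j => match i, j with
  | Sum.inl none, Sum.inl none => 1
  | Sum.inr none, Sum.inr none => 1
  | Sum.inl (some i), Sum.inl (some j) => A' (Sum.inl i) (Sum.inl j)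
  | Sum.inl (some i), Sum.inr (some j) => A' (Sum.inl i) (Sum.inr j)
  | Sum.inr (some i), Sum.inl (some j) => A' (Sum.inr i) (Sum.inl j)
  | Sum.inr (some i), Sum.inr (some j) => A' (Sum.inr i) (Sum.inr j)
  | _, _ => 0

theorem E_mulVec_inl_none (A' : Matrix (l' ⊕ l') (l' ⊕ l') F) (x : Option l' ⊕ Option l' → F) :
    (E A' *ᵥ x) (Sum.inl none) = x (Sum.inl none) := by
  simp [mulVec, dotProduct, Fintype.sum_sum_type, Fintype.sum_option, E]

theorem E_mulVec_inr_none (A' : Matrix (l' ⊕ l') (l' ⊕ l') F) (x : Option l' ⊕ Option l' → F) :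
    (E A' *ᵥ x) (Sum.inr none) = x (Sum.inr none) := by
  simp [mulVec, dotProduct, Fintype.sum_sum_type, Fintype.sum_option, E]

theorem res_E_mulVec (A' : Matrix (l' ⊕ l') (l' ⊕ l') F) (x : Option l' ⊕ Option l' → F) :
    res (E A' *ᵥ x) = A' *ᵥ res x := by
  funext k
  rcases k with i | i <;>
    simp [res, emb, mulVec, dotProduct, Fintype.sum_sum_type, Fintype.sum_option, E]


theorem res_a0 : res (a0 : Option l' ⊕ Option l' → F) = 0 := by
  funext k; rcases k with i | i <;> simp [res, emb, a0]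

theorem res_b0 : res (b0 : Option l' ⊕ Option l' → F) = 0 := by
  funext k; rcases k with i | i <;> simp [res, emb, b0]

theorem E_mem {A' : Matrix (l' ⊕ l') (l' ⊕ l') F} (hA' : A' ∈ symplecticGroup l' F) :
    E A' ∈ symplecticGroup (Option l') F := by
  rw [mem_symplectic_iff_om]
  intro x y
  rw [om_option, res_E_mulVec, res_E_mulVec, E_mulVec_inl_none, E_mulVec_inl_none,
    E_mulVec_inr_none, E_mulVec_inr_none, mem_symplectic_iff_om.mp hA', ← om_option]

theorem E_a0 (A' : Matrix (l' ⊕ l') (l' ⊕ l') F) : E A' *ᵥ a0 = a0 := by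
  apply vec_ext
  · rw [E_mulVec_inl_none]
  · rw [E_mulVec_inr_none]
  · rw [res_E_mulVec, res_a0, mulVec_zero]

theorem E_b0 (A' : Matrix (l' ⊕ l') (l' ⊕ l') F) : E A' *ᵥ b0 = b0 := by
  apply vec_ext
  · rw [E_mulVec_inl_none]
  · rw [E_mulVec_inr_none]
  · rw [res_E_mulVec, res_b0, mulVec_zero]

theorem submatrix_E (A' : Matrix (l' ⊕ l') (l' ⊕ l') F) : (E A').submatrix emb emb = A' := by
  ext i j
  rcases i with i | i <;> rcases j with j | j <;> rfl

/-- facts about a symplectic matrix fixing the standard pair -/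
theorem stab_inl_none {A : Matrix (Option l' ⊕ Option l') (Option l' ⊕ Option l') F}
    (hA : A ∈ symplecticGroup (Option l') F) (ha : A *ᵥ a0 = a0)
    (x : Option l' ⊕ Option l' → F) : (A *ᵥ x) (Sum.inl none) = x (Sum.inl none) := by
  have h1 := om_a0 (A *ᵥ x)
  have h3 := mem_symplectic_iff_om.mp hA a0 x
  rw [ha] at h3
  rw [h3, om_a0] at h1
  exact h1.symm

theorem stab_inr_none {A : Matrix (Option l' ⊕ Option l') (Option l' ⊕ Option l') F}
    (hA : A ∈ symplecticGroup (Option l') F) (hb : A *ᵥ b0 = b0)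
    (x : Option l' ⊕ Option l' → F) : (A *ᵥ x) (Sum.inr none) = x (Sum.inr none) := by
  have h1 := om_b0 (A *ᵥ x)
  have h2 := om_b0 x
  have h3 := mem_symplectic_iff_om.mp hA b0 x
  rw [hb] at h3
  rw [h3, h2] at h1
  exact (neg_injective h1).symm

theorem res_mulVec_ext (A : Matrix (Option l' ⊕ Option l') (Option l' ⊕ Option l') F)
    (x' : l' ⊕ l' → F) : res (A *ᵥ ext x') = A.submatrix emb emb *ᵥ x' := by
  funext k
  simp only [res, Function.comp, mulVec, dotProduct, Fintype.sum_sum_type, Fintype.sum_option,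
    submatrix_apply, ext_inl_none, ext_inr_none, mul_zero, zero_add]
  rfl

theorem stab_mulVec_ext {A : Matrix (Option l' ⊕ Option l') (Option l' ⊕ Option l') F}
    (hA : A ∈ symplecticGroup (Option l') F) (ha : A *ᵥ a0 = a0) (hb : A *ᵥ b0 = b0)
    (x' : l' ⊕ l' → F) : A *ᵥ ext x' = ext (A.submatrix emb emb *ᵥ x') := by
  apply vec_ext
  · rw [stab_inl_none hA ha]; rfl
  · rw [stab_inr_none hA hb]; rfl
  · rw [res_mulVec_ext, res_ext]

theorem submatrix_mem {A : Matrix (Option l' ⊕ Option l') (Option l' ⊕ Option l') F}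
    (hA : A ∈ symplecticGroup (Option l') F) (ha : A *ᵥ a0 = a0) (hb : A *ᵥ b0 = b0) :
    A.submatrix emb emb ∈ symplecticGroup l' F := by
  rw [mem_symplectic_iff_om]
  intro x' y'
  rw [← om_ext, ← stab_mulVec_ext hA ha hb, ← stab_mulVec_ext hA ha hb,
    mem_symplectic_iff_om.mp hA, om_ext]

theorem vec_decomp (x : Option l' ⊕ Option l' → F) :
    x = ext (res x) + x (Sum.inl none) • b0 + x (Sum.inr none) • a0 := by
  apply vec_ext
  · simp [a0, b0]
  · simp [a0, b0]
  · funext k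
    rcases k with i | i <;> simp [res, emb, a0, b0, ext]

theorem E_submatrix {A : Matrix (Option l' ⊕ Option l') (Option l' ⊕ Option l') F}
    (hA : A ∈ symplecticGroup (Option l') F) (ha : A *ᵥ a0 = a0) (hb : A *ᵥ b0 = b0) :
    E (A.submatrix emb emb) = A := by
  rw [Matrix.ext_iff_mulVec]
  intro x
  apply vec_ext
  · rw [E_mulVec_inl_none, stab_inl_none hA ha]
  · rw [E_mulVec_inr_none, stab_inr_none hA hb]
  · rw [res_E_mulVec]
    conv_rhs => rw [vec_decomp x]
    rw [mulVec_add, mulVec_add, mulVec_smul, mulVec_smul, ha, hb, stab_mulVec_ext hA ha hb]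
    funext k
    rcases k with i | i <;> simp [res, emb, a0, b0, ext]


theorem mem_stab_iff (g : symplecticGroup (Option l') F) :
    g ∈ MulAction.stabilizer (symplecticGroup (Option l') F) ((a0, b0) : Pair (Option l') F) ↔
      (g : Matrix (Option l' ⊕ Option l') (Option l' ⊕ Option l') F) *ᵥ a0 = a0 ∧
      (g : Matrix (Option l' ⊕ Option l') (Option l' ⊕ Option l') F) *ᵥ b0 = b0 := by
  rw [MulAction.mem_stabilizer_iff]
  exact Prod.ext_iff (α := Option l' ⊕ Option l' → F) (β := Option l' ⊕ Option l' → F)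

/-- the stabiliser of the standard hyperbolic pair is in bijection with the smaller symplectic
group -/
def stabEquiv :
    MulAction.stabilizer (symplecticGroup (Option l') F) ((a0, b0) : Pair (Option l') F) ≃
      symplecticGroup l' F where
  toFun g := ⟨(g.1 : Matrix (Option l' ⊕ Option l') (Option l' ⊕ Option l') F).submatrix emb emb,
    submatrix_mem g.1.2 ((mem_stab_iff g.1).mp g.2).1 ((mem_stab_iff g.1).mp g.2).2⟩
  invFun A' := ⟨⟨E A'.1, E_mem A'.2⟩, (mem_stab_iff _).mpr ⟨E_a0 A'.1, E_b0 A'.1⟩⟩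
  left_inv g := Subtype.ext (Subtype.ext
    (E_submatrix g.1.2 ((mem_stab_iff g.1).mp g.2).1 ((mem_stab_iff g.1).mp g.2).2))
  right_inv A' := Subtype.ext (submatrix_E A'.1)

theorem orbit_eq :
    MulAction.orbit (symplecticGroup (Option l') F) ((a0, b0) : Pair (Option l') F) =
      {p : Pair (Option l') F | om p.1 p.2 = 1} := by
  ext p
  constructor
  · rintro ⟨g, rfl⟩
    show om ((g : Matrix (Option l' ⊕ Option l') (Option l' ⊕ Option l') F) *ᵥ a0)
      ((g : Matrix (Option l' ⊕ Option l') (Option l' ⊕ Option l') F) *ᵥ b0) = 1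
    rw [om_smul, om_a0_b0]
  · intro hp
    obtain ⟨g, hg⟩ := exists_smul_eq_of_hyperbolic (p := ((a0, b0) : Pair (Option l') F))
      (p' := p) om_a0_b0 hp
    exact ⟨g, hg⟩

theorem card_symplectic_option [Fintype F] :
    Nat.card (symplecticGroup (Option l') F) =
      (Fintype.card F ^ (2 * (Fintype.card l' + 1)) - 1) *
        Fintype.card F ^ (2 * (Fintype.card l' + 1) - 1) * Nat.card (symplecticGroup l' F) := by
  have h1 := Nat.card_congr (MulAction.orbitProdStabilizerEquivGroup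
    (symplecticGroup (Option l') F) ((a0, b0) : Pair (Option l') F))
  rw [Nat.card_prod, Nat.card_congr stabEquiv] at h1
  rw [← h1]
  congr 1
  have h2 : Nat.card (MulAction.orbit (symplecticGroup (Option l') F)
      ((a0, b0) : Pair (Option l') F)) = Nat.card {p : Pair (Option l') F // om p.1 p.2 = 1} := by
    rw [orbit_eq]; rfl
  rw [h2, card_hyperbolic_pairs, Fintype.card_option]

end Stab

theorem card_symplectic_fin {F : Type*} [Field F] [Fintype F] (m : ℕ) :
    Nat.card (symplecticGroup (Fin m) F) =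
      Fintype.card F ^ (m ^ 2) * ∏ i ∈ Finset.range m, (Fintype.card F ^ (2 * (i + 1)) - 1) := by
  induction m with
  | zero =>
    rw [Nat.card_of_subsingleton (1 : symplecticGroup (Fin 0) F)]
    simp
  | succ m ih =>
    rw [card_symplectic_congr (finSuccEquiv m), card_symplectic_option, ih, Fintype.card_fin,
      Finset.prod_range_succ]
    have e1 : (m + 1) ^ 2 = m ^ 2 + (2 * (m + 1) - 1) := by
      have : 2 * (m + 1) - 1 = 2 * m + 1 := by omega
      rw [this]; ring
    rw [e1, pow_add]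
    ring

end Cfsg.Agent.Helper2.Sp
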