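import Mathlib
import Cfsg.Agent.Helper2.SpCard

/-! The symplectic group is generated by transvections. -/

set_option autoImplicit false
set_option linter.unusedSectionVars false
set_option linter.unusedVariables false

namespace Cfsg.Agent.Helper2.Sp

open Matrix

section Basic

variable {l : Type*} [DecidableEq l] [Fintype l] {F : Type*} [Field F]

/-- a transvection as an element of the symplectic group -/
def Tg (v : l ⊕ l → F) (c : F) : symplecticGroup l F := ⟨T v c, T_mem v c⟩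

@[simp] theorem Tg_val (v : l ⊕ l → F) (c : F) :
    ((Tg v c : symplecticGroup l F) : Matrix (l ⊕ l) (l ⊕ l) F) = T v c := rfl

/-- the subgroup generated by the transvections -/
def TV (l : Type*) [DecidableEq l] [Fintype l] (F : Type*) [Field F] :
    Subgroup (symplecticGroup l F) :=
  Subgroup.closure (Set.range (fun p : (l ⊕ l → F) × F => Tg p.1 p.2))

theorem Tg_mem_TV (v : l ⊕ l → F) (c : F) : Tg v c ∈ TV l F :=
  Subgroup.subset_closure ⟨(v, c), rfl⟩

theorem coe_mul' (g h : symplecticGroup l F) :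
    ((g * h : symplecticGroup l F) : Matrix (l ⊕ l) (l ⊕ l) F) =
      (g : Matrix (l ⊕ l) (l ⊕ l) F) * (h : Matrix (l ⊕ l) (l ⊕ l) F) := rfl

theorem exists_TV_mulVec_eq (v w : l ⊕ l → F) (hv : v ≠ 0) (hw : w ≠ 0) :
    ∃ g ∈ TV l F, (g : Matrix (l ⊕ l) (l ⊕ l) F) *ᵥ v = w := by
  by_cases h : om v w = 0
  · obtain ⟨u, h1, h2⟩ := exists_om_ne_zero_both hv hw
    refine ⟨Tg (u - w) (-(om u w)⁻¹) * Tg (v - u) (-(om v u)⁻¹),
      (TV l F).mul_mem (Tg_mem_TV _ _) (Tg_mem_TV _ _), ?_⟩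
    rw [coe_mul', Tg_val, Tg_val, ← mulVec_mulVec, T_map_of_om_ne_zero h1,
      T_map_of_om_ne_zero h2]
  · exact ⟨Tg (v - w) (-(om v w)⁻¹), Tg_mem_TV _ _, T_map_of_om_ne_zero h⟩

theorem exists_TV_fix_map {e f1 f2 : l ⊕ l → F} (h1 : om e f1 = 1) (h2 : om e f2 = 1) :
    ∃ g ∈ TV l F, (g : Matrix (l ⊕ l) (l ⊕ l) F) *ᵥ e = e ∧
      (g : Matrix (l ⊕ l) (l ⊕ l) F) *ᵥ f1 = f2 := by
  by_cases h : om f1 f2 = 0
  · have h3 : om e (f1 + e) = 1 := by rw [om_add_right, om_self, add_zero, h1]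
    have h4 : om f1 (f1 + e) ≠ 0 := by
      rw [om_add_right, om_self, zero_add, om_swap e f1, h1]; simp
    have h5 : om (f1 + e) f2 ≠ 0 := by
      rw [om_add_left, h, zero_add, h2]; exact one_ne_zero
    refine ⟨Tg ((f1 + e) - f2) (-(om (f1 + e) f2)⁻¹) * Tg (f1 - (f1 + e)) (-(om f1 (f1 + e))⁻¹),
      (TV l F).mul_mem (Tg_mem_TV _ _) (Tg_mem_TV _ _), ?_, ?_⟩
    · rw [coe_mul', Tg_val, Tg_val, ← mulVec_mulVec, T_fix_of_om_eq (h1.trans h3.symm),
        T_fix_of_om_eq (h3.trans h2.symm)]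
    · rw [coe_mul', Tg_val, Tg_val, ← mulVec_mulVec, T_map_of_om_ne_zero h4,
        T_map_of_om_ne_zero h5]
  · exact ⟨Tg (f1 - f2) (-(om f1 f2)⁻¹), Tg_mem_TV _ _, T_fix_of_om_eq (h1.trans h2.symm) _,
      T_map_of_om_ne_zero h⟩

theorem exists_TV_hyperbolic {e f e' f' : l ⊕ l → F} (hp : om e f = 1) (hp' : om e' f' = 1) :
    ∃ g ∈ TV l F, (g : Matrix (l ⊕ l) (l ⊕ l) F) *ᵥ e = e' ∧
      (g : Matrix (l ⊕ l) (l ⊕ l) F) *ᵥ f = f' := by
  have hne : e ≠ 0 := by
    intro h
    rw [h] at hp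
    unfold om at hp
    rw [zero_dotProduct] at hp
    exact zero_ne_one hp
  have hne' : e' ≠ 0 := by
    intro h
    rw [h] at hp'
    unfold om at hp'
    rw [zero_dotProduct] at hp'
    exact zero_ne_one hp'
  obtain ⟨g1, hg1T, hg1⟩ := exists_TV_mulVec_eq e e' hne hne'
  have h1 : om e' ((g1 : Matrix (l ⊕ l) (l ⊕ l) F) *ᵥ f) = 1 := by
    rw [← hg1, mem_symplectic_iff_om.mp g1.2, hp]
  obtain ⟨g2, hg2T, hg2, hg2'⟩ := exists_TV_fix_map h1 hp'
  refine ⟨g2 * g1, (TV l F).mul_mem hg2T hg1T, ?_, ?_⟩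
  · rw [coe_mul', ← mulVec_mulVec, hg1, hg2]
  · rw [coe_mul', ← mulVec_mulVec, hg2']

end Basic

section Opt

variable {l' : Type*} [DecidableEq l'] [Fintype l'] {F : Type*} [Field F]

theorem E_mul (A' B' : Matrix (l' ⊕ l') (l' ⊕ l') F) : E A' * E B' = E (A' * B') := by
  rw [Matrix.ext_iff_mulVec]
  intro x
  rw [← mulVec_mulVec]
  apply vec_ext
  · rw [E_mulVec_inl_none, E_mulVec_inl_none, E_mulVec_inl_none]
  · rw [E_mulVec_inr_none, E_mulVec_inr_none, E_mulVec_inr_none]
  · rw [res_E_mulVec, res_E_mulVec, res_E_mulVec, mulVec_mulVec]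

theorem E_one : E (1 : Matrix (l' ⊕ l') (l' ⊕ l') F) = 1 := by
  rw [Matrix.ext_iff_mulVec]
  intro x
  apply vec_ext
  · rw [E_mulVec_inl_none, one_mulVec]
  · rw [E_mulVec_inr_none, one_mulVec]
  · rw [res_E_mulVec, one_mulVec, one_mulVec]

theorem om_ext_left (v' : l' ⊕ l' → F) (x : Option l' ⊕ Option l' → F) :
    om (ext v') x = om v' (res x) := by
  rw [om_option, res_ext]
  simp

theorem res_add (x y : Option l' ⊕ Option l' → F) : res (x + y) = res x + res y := rfl

theorem res_smul (c : F) (x : Option l' ⊕ Option l' → F) : res (c • x) = c • res x := rfl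

theorem E_T (v' : l' ⊕ l' → F) (c : F) : E (T v' c) = T (ext v') c := by
  rw [Matrix.ext_iff_mulVec]
  intro x
  apply vec_ext
  · rw [E_mulVec_inl_none, T_mulVec]; simp
  · rw [E_mulVec_inr_none, T_mulVec]; simp
  · rw [res_E_mulVec, T_mulVec, T_mulVec, res_add, res_smul, res_ext, om_ext_left]

/-- block embedding as a homomorphism -/
def EHom : symplecticGroup l' F →* symplecticGroup (Option l') F where
  toFun A' := ⟨E A'.1, E_mem A'.2⟩
  map_one' := Subtype.ext E_one
  map_mul' A' B' := Subtype.ext (E_mul A'.1 B'.1).symm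

theorem EHom_Tg (v' : l' ⊕ l' → F) (c : F) : EHom (Tg v' c) = Tg (ext v') c :=
  Subtype.ext (E_T v' c)

theorem EHom_TV_le : (TV l' F).map EHom ≤ TV (Option l') F := by
  rw [Subgroup.map_le_iff_le_comap]
  unfold TV
  rw [Subgroup.closure_le]
  rintro _ ⟨⟨v', c⟩, rfl⟩
  rw [SetLike.mem_coe, Subgroup.mem_comap]
  change EHom (Tg v' c) ∈ TV (Option l') F
  rw [EHom_Tg]
  exact Tg_mem_TV _ _

theorem mulVec_inv_mul {l : Type*} [DecidableEq l] [Fintype l] (t g : symplecticGroup l F)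
    {x y : l ⊕ l → F} (h : (t : Matrix (l ⊕ l) (l ⊕ l) F) *ᵥ x = (g : Matrix (l ⊕ l) (l ⊕ l) F) *ᵥ y) :
    ((t⁻¹ * g : symplecticGroup l F) : Matrix (l ⊕ l) (l ⊕ l) F) *ᵥ y = x := by
  have h1 : ((t⁻¹ * t : symplecticGroup l F) : Matrix (l ⊕ l) (l ⊕ l) F) *ᵥ x = x := by
    rw [inv_mul_cancel]; exact one_mulVec _
  rw [coe_mul', ← mulVec_mulVec, h] at h1
  rw [coe_mul', ← mulVec_mulVec]
  exact h1

theorem TV_option_eq_top (h : TV l' F = ⊤) : TV (Option l') F = ⊤ := by
  rw [Subgroup.eq_top_iff']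
  intro g
  have hp : om ((g : Matrix (Option l' ⊕ Option l') (Option l' ⊕ Option l') F) *ᵥ a0)
      ((g : Matrix (Option l' ⊕ Option l') (Option l' ⊕ Option l') F) *ᵥ b0) = 1 := by
    rw [mem_symplectic_iff_om.mp g.2, om_a0_b0]
  obtain ⟨t, htT, hta, htb⟩ := exists_TV_hyperbolic (l := Option l') (F := F)
    (e := a0) (f := b0) om_a0_b0 hp
  -- `t⁻¹ g` fixes the standard pair
  have hka := mulVec_inv_mul t g hta
  have hkb := mulVec_inv_mul t g htb
  have hkE : t⁻¹ * g = EHom ⟨((t⁻¹ * g : symplecticGroup (Option l') F) :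
      Matrix (Option l' ⊕ Option l') (Option l' ⊕ Option l') F).submatrix emb emb,
      submatrix_mem (t⁻¹ * g).2 hka hkb⟩ :=
    Subtype.ext (E_submatrix (t⁻¹ * g).2 hka hkb).symm
  have hkT : t⁻¹ * g ∈ TV (Option l') F := by
    rw [hkE]
    apply EHom_TV_le
    exact Subgroup.mem_map_of_mem _ (by rw [h]; trivial)
  have : g = t * (t⁻¹ * g) := by rw [mul_inv_cancel_left]
  rw [this]
  exact (TV (Option l') F).mul_mem htT hkT

end Opt

section Transport

variable {α β : Type*} [DecidableEq α] [Fintype α] [DecidableEq β] [Fintype β]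
  {F : Type*} [Field F]

theorem reindex_mem (e : α ≃ β) {A : Matrix (α ⊕ α) (α ⊕ α) F} (hA : A ∈ symplecticGroup α F) :
    Matrix.reindex (e.sumCongr e) (e.sumCongr e) A ∈ symplecticGroup β F := by
  have hr : ∀ M N : Matrix (α ⊕ α) (α ⊕ α) F,
      M.submatrix (e.sumCongr e).symm (e.sumCongr e).symm *
        N.submatrix (e.sumCongr e).symm (e.sumCongr e).symm =
      (M * N).submatrix (e.sumCongr e).symm (e.sumCongr e).symm :=
    fun M N => Matrix.submatrix_mul_equiv M N _ _ _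
  rw [SymplecticGroup.mem_iff] at hA ⊢
  rw [← reindex_J (R := F) e, Matrix.reindex_apply, Matrix.reindex_apply,
    Matrix.transpose_submatrix, hr, hr, hA]

/-- reindexing as a homomorphism -/
def reHom (e : α ≃ β) : symplecticGroup α F →* symplecticGroup β F where
  toFun A := ⟨Matrix.reindex (e.sumCongr e) (e.sumCongr e) A.1, reindex_mem e A.2⟩
  map_one' := by
    apply Subtype.ext
    change Matrix.reindex (e.sumCongr e) (e.sumCongr e) (1 : Matrix (α ⊕ α) (α ⊕ α) F) = 1
    rw [Matrix.reindex_apply, Matrix.submatrix_one_equiv]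
  map_mul' A B := by
    apply Subtype.ext
    change Matrix.reindex (e.sumCongr e) (e.sumCongr e) (A.1 * B.1) =
      Matrix.reindex (e.sumCongr e) (e.sumCongr e) A.1 *
        Matrix.reindex (e.sumCongr e) (e.sumCongr e) B.1
    rw [Matrix.reindex_apply, Matrix.reindex_apply, Matrix.reindex_apply,
      Matrix.submatrix_mul_equiv]

theorem reHom_val (e : α ≃ β) (A : symplecticGroup α F) :
    ((reHom e A : symplecticGroup β F) : Matrix (β ⊕ β) (β ⊕ β) F) =
      (A : Matrix (α ⊕ α) (α ⊕ α) F).submatrix (e.sumCongr e).symm (e.sumCongr e).symm := rfl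

theorem om_comp (e : α ≃ β) (v : α ⊕ α → F) (x : β ⊕ β → F) :
    om v (x ∘ (e.sumCongr e)) = om (v ∘ (e.sumCongr e).symm) x := by
  rw [om_eq_sum, om_eq_sum, ← Equiv.sum_comp e]
  apply Finset.sum_congr rfl
  intro i _
  simp

theorem reHom_Tg (e : α ≃ β) (v : α ⊕ α → F) (c : F) :
    reHom e (Tg v c) = Tg (v ∘ (e.sumCongr e).symm) c := by
  apply Subtype.ext
  rw [reHom_val, Tg_val, Tg_val, Matrix.ext_iff_mulVec]
  intro x
  rw [Matrix.submatrix_mulVec_equiv, T_mulVec, T_mulVec, Equiv.symm_symm, om_comp]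
  funext k
  simp

theorem reHom_reHom (e : α ≃ β) (B : symplecticGroup β F) : reHom e (reHom e.symm B) = B := by
  apply Subtype.ext
  rw [reHom_val, reHom_val, Matrix.submatrix_submatrix]
  ext i j
  rcases i with i | i <;> rcases j with j | j <;> simp

theorem TV_congr (e : α ≃ β) (h : TV α F = ⊤) : TV β F = ⊤ := by
  have hle : (TV α F).map (reHom e) ≤ TV β F := by
    rw [Subgroup.map_le_iff_le_comap]
    unfold TV
    rw [Subgroup.closure_le]
    rintro _ ⟨⟨v, c⟩, rfl⟩
    rw [SetLike.mem_coe, Subgroup.mem_comap]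
    change reHom e (Tg v c) ∈ TV β F
    rw [reHom_Tg]
    exact Tg_mem_TV _ _
  rw [Subgroup.eq_top_iff']
  intro B
  rw [← reHom_reHom e B]
  apply hle
  exact Subgroup.mem_map_of_mem _ (by rw [h]; trivial)

end Transport

/-- the symplectic group is generated by transvections -/
theorem TV_eq_top (l : Type) [Fintype l] [DecidableEq l] (F : Type*) [Field F] : TV l F = ⊤ := by
  have key : ∀ (d : DecidableEq l), @TV l d _ F _ = ⊤ := by
    refine Fintype.induction_empty_option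
      (P := fun α inst => ∀ (d : DecidableEq α), @TV α d inst F _ = ⊤) ?_ ?_ ?_ l
    · intro α β instβ e ih d
      exact @TV_congr α β (Classical.decEq α) (Fintype.ofEquiv β e.symm) d instβ F _ e (ih _)
    · intro d
      rw [Subgroup.eq_top_iff']
      intro g
      have : g = 1 := by
        apply Subtype.ext
        ext i j
        rcases i with i | i <;> exact i.elim
      rw [this]
      exact Subgroup.one_mem _
    · intro α instα ih d
      have h1 := @TV_option_eq_top α (Classical.decEq α) instα F _ (ih _)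
      convert h1
  exact key _

end Cfsg.Agent.Helper2.Sp
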