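import Mathlib

/-! Recognising symmetric and alternating groups from a faithful action of the right order. -/

namespace Cfsg.Agent.Helper2

open Nat

theorem nonempty_mulEquiv_alternatingGroup_of_injective {G X : Type*} [Group G] [Finite X]
    (n : ℕ) (f : G →* Equiv.Perm X) (hf : Function.Injective f) (hX : Nat.card X = n)
    (hG : 2 * Nat.card G = n !) : Nonempty (G ≃* alternatingGroup (Fin n)) := by
  classical
  haveI := Fintype.ofFinite X
  have hcardP : Nat.card (Equiv.Perm X) = n ! := by
    rw [Nat.card_eq_fintype_card, Fintype.card_perm, ← Nat.card_eq_fintype_card, hX]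
  have hr : Nat.card f.range = Nat.card G :=
    (Nat.card_congr (MonoidHom.ofInjective hf).toEquiv).symm
  have hidx : f.range.index = 2 := by
    have h1 := Subgroup.index_mul_card f.range
    rw [hr, hcardP, ← hG] at h1
    have hpos : 0 < Nat.card G := by
      rcases Nat.eq_zero_or_pos (Nat.card G) with h | h
      · rw [h] at hG
        exact absurd hG.symm (Nat.factorial_ne_zero n)
      · exact h
    exact Nat.eq_of_mul_eq_mul_right hpos h1
  have halt := Equiv.Perm.eq_alternatingGroup_of_index_eq_two hidx
  have e : X ≃ Fin n := Fintype.equivFinOfCardEq (by rw [← Nat.card_eq_fintype_card, hX])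
  exact ⟨(MonoidHom.ofInjective hf).trans
    ((MulEquiv.subgroupCongr halt).trans (Equiv.altCongrHom e))⟩

theorem nonempty_mulEquiv_perm_of_injective {G X : Type*} [Group G] [Finite X]
    (n : ℕ) (f : G →* Equiv.Perm X) (hf : Function.Injective f) (hX : Nat.card X = n)
    (hG : Nat.card G = n !) : Nonempty (G ≃* Equiv.Perm (Fin n)) := by
  classical
  haveI := Fintype.ofFinite X
  have hcardP : Nat.card (Equiv.Perm X) = n ! := by
    rw [Nat.card_eq_fintype_card, Fintype.card_perm, ← Nat.card_eq_fintype_card, hX]
  haveI : Finite G := by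
    apply Nat.finite_of_card_ne_zero
    rw [hG]; exact Nat.factorial_ne_zero n
  have hbij : Function.Bijective f := by
    rw [Nat.bijective_iff_injective_and_card]
    exact ⟨hf, by rw [hG, hcardP]⟩
  have e : X ≃ Fin n := Fintype.equivFinOfCardEq (by rw [← Nat.card_eq_fintype_card, hX])
  exact ⟨(MulEquiv.ofBijective f hbij).trans e.permCongrHom⟩

end Cfsg.Agent.Helper2
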