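import Mathlib
import Cfsg.Prelude.Def_RootSubgroups
import Cfsg.Agent.Helper25.RankOne
import Cfsg.Agent.Helper25.SL2RankOne
import Cfsg.Agent.Helper25.RootBasic

set_option autoImplicit false

/-! Generic tools for exhibiting classes of abstract root subgroups:
rank one pairs coming from an embedding of `SL₂(k)`, symmetry of the commutator case. -/

namespace Cfsg.Agent.Helper2.RootGeneric

open Cfsg Cfsg.Agent.Helper25

open scoped commutatorElement

variable {G H : Type*} [Group G] [Group H]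

theorem map_conjBy (f : H →* G) (A : Subgroup H) (g : H) :
    (conjBy A g).map f = conjBy (A.map f) (f g) := by
  ext x
  simp only [conjBy, Subgroup.mem_map, MulEquiv.coe_toMonoidHom, MulAut.conj_apply]
  constructor
  · rintro ⟨_, ⟨a, ha, rfl⟩, rfl⟩
    exact ⟨f a, ⟨a, ha, rfl⟩, by simp⟩
  · rintro ⟨_, ⟨a, ha, rfl⟩, rfl⟩
    exact ⟨g * a * g⁻¹, ⟨a, ha, rfl⟩, by simp⟩

theorem isNilpotent_of_isMulCommutative (A : Subgroup G) (h : IsMulCommutative A) :
    Group.IsNilpotent A := by
  let _ : CommGroup A := { mul_comm := fun x y => mul_comm' x y }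
  exact CommGroup.isNilpotent

/-- Rank one pairs are carried along injective homomorphisms. -/
theorem isRankOnePair_map (f : H →* G) (hf : Function.Injective f) {A B : Subgroup H}
    (h : IsRankOnePair A B) : IsRankOnePair (A.map f) (B.map f) := by
  refine ⟨fun he => h.ne (Subgroup.map_injective hf he), ?_, ?_, ?_, ?_⟩
  · have := h.nilpotent_left
    exact Group.nilpotent_of_surjective (f.subgroupMap A) (f.subgroupMap_surjective A)
  · have := h.nilpotent_right
    exact Group.nilpotent_of_surjective (f.subgroupMap B) (f.subgroupMap_surjective B)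
  · rintro _ ⟨a, ha, rfl⟩ ha1
    have ha1' : a ≠ 1 := fun h1 => ha1 (by rw [h1, map_one])
    obtain ⟨b, hb, hb1, hc⟩ := h.cond_left a ha ha1'
    refine ⟨f b, ⟨b, hb, rfl⟩, fun h1 => hb1 (hf (by rw [h1, map_one])), ?_⟩
    rw [← map_inv, ← map_inv, ← map_conjBy, ← map_conjBy, hc]
  · rintro _ ⟨b, hb, rfl⟩ hb1
    have hb1' : b ≠ 1 := fun h1 => hb1 (by rw [h1, map_one])
    obtain ⟨a, ha, ha1, hc⟩ := h.cond_right b hb hb1'
    refine ⟨f a, ⟨a, ha, rfl⟩, fun h1 => ha1 (hf (by rw [h1, map_one])), ?_⟩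
    rw [← map_inv, ← map_inv, ← map_conjBy, ← map_conjBy, hc]

/-- An injective homomorphism from `SL₂(k)` makes the images of the unitriangular subgroups a
rank one pair generating an image of `SL₂(k)`. -/
theorem pair_of_sl2_hom {k : Type*} [Field k] (ρ : Matrix.SpecialLinearGroup (Fin 2) k →* G)
    (hρ : Function.Injective ρ) {A B : Subgroup G}
    (hA : (upperUnipotentSL2 k).map ρ = A) (hB : (lowerUnipotentSL2 k).map ρ = B) :
    IsRankOnePair A B ∧ IsPSL2PairOver k A B := by
  constructor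
  · rw [← hA, ← hB]
    exact isRankOnePair_map ρ hρ (RankOnePair_symm sl2_isRankOnePair)
  · refine ⟨ρ, ?_, ?_, hA, hB⟩
    · rw [← hA, ← hB, ← Subgroup.map_sup, sup_comm, sl2_generation, ← MonoidHom.range_eq_map]
    · rw [(MonoidHom.ker_eq_bot_iff ρ).mpr hρ]
      exact bot_le

theorem not_isRankOnePair_of_commute {A B : Subgroup G}
    (hc : ∀ a ∈ A, ∀ b ∈ B, a * b = b * a) : ¬ IsRankOnePair A B := by
  intro h
  obtain ⟨a, ha, ha1⟩ := rankOne_exists_ne_one h
  obtain ⟨b, hb, -, hcj⟩ := h.cond_left a ha ha1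
  apply h.ne
  have h1 : conjBy A b⁻¹ = A :=
    conjBy_eq_self_of_commute (fun x hx => (hc x hx b⁻¹ (B.inv_mem hb)).symm)
  have h2 : conjBy B a⁻¹ = B :=
    conjBy_eq_self_of_commute (fun x hx => hc a⁻¹ (A.inv_mem ha) x hx)
  rw [← h1, hcj, h2]

/-- The commutator case is symmetric in the two subgroups. -/
theorem rootCommutatorCase_symm {S : Set (Subgroup G)} {A B : Subgroup G}
    (h : RootCommutatorCase S A B) : RootCommutatorCase S B A := by
  obtain ⟨h1, h2, h3, h4⟩ := h
  have hcomm : ⁅B, A⁆ = ⁅A, B⁆ := Subgroup.commutator_comm B A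
  have hinv : ∀ (f : G → G) (T : Subgroup G) (K : Subgroup G),
      Subgroup.closure (f '' (T : Set G)) = K →
      Subgroup.closure ((fun x => (f x)⁻¹) '' (T : Set G)) = K := by
    intro f T K hK
    have : (fun x => (f x)⁻¹) '' (T : Set G) = (f '' (T : Set G))⁻¹ := by
      ext y
      simp only [Set.mem_image, Set.mem_inv]
      constructor
      · rintro ⟨x, hx, rfl⟩; exact ⟨x, hx, by simp⟩
      · rintro ⟨x, hx, hxy⟩; exact ⟨x, hx, by rw [hxy, inv_inv]⟩
    rw [this, Subgroup.closure_inv, hK]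
  refine ⟨by rw [hcomm]; exact h1, ?_, ?_, ?_⟩
  · intro c hc x hx
    rw [hcomm] at hc
    rw [sup_comm] at hx
    exact h2 c hc x hx
  · intro b hb hb1
    rw [hcomm]
    have := hinv _ _ _ (h4 b hb hb1)
    convert this using 3
    simp [mul_assoc]
  · intro a ha ha1
    rw [hcomm]
    have := hinv _ _ _ (h3 a ha ha1)
    convert this using 3
    simp [mul_assoc]

/-- Images of the unitriangular subgroups under an injective homomorphism from `SL₂(k)` are never
in the commutator case. -/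
theorem not_commCase_of_sl2_hom {k : Type*} [Field k] (ρ : Matrix.SpecialLinearGroup (Fin 2) k →* G)
    (hρ : Function.Injective ρ) {A B : Subgroup G} (S : Set (Subgroup G))
    (hA : (upperUnipotentSL2 k).map ρ = A) (hB : (lowerUnipotentSL2 k).map ρ = B) :
    ¬ RootCommutatorCase S A B := by
  rintro ⟨-, h2, -, -⟩
  have ha : ρ (sl2Upper 1) ∈ A := by rw [← hA]; exact ⟨_, sl2Upper_mem 1, rfl⟩
  have hb : ρ (sl2Lower 1) ∈ B := by rw [← hB]; exact ⟨_, sl2Lower_mem 1, rfl⟩
  have hc : ⁅ρ (sl2Upper 1), ρ (sl2Lower 1)⁆ ∈ ⁅A, B⁆ := Subgroup.commutator_mem_commutator ha hb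
  have h3 := h2 _ hc _ (Subgroup.mem_sup_left ha)
  rw [← map_commutatorElement, ← map_mul, ← map_mul] at h3
  have h4 := hρ h3
  have h5 := congrArg (fun g : Matrix.SpecialLinearGroup (Fin 2) k => g 1 1) h4
  simp only [commutatorElement_def, sl2_mul_apply, sl2_inv_00, sl2_inv_01, sl2_inv_10, sl2_inv_11,
    sl2Lower_00, sl2Lower_01, sl2Lower_10, sl2Lower_11, sl2Upper_00, sl2Upper_01, sl2Upper_10,
    sl2Upper_11] at h5
  ring_nf at h5
  exact one_ne_zero h5

end Cfsg.Agent.Helper2.RootGeneric
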