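import Mathlib
import Cfsg.Prelude.Def_RootSubgroups
import Cfsg.Agent.Helper2.RootGeneric

set_option autoImplicit false

/-! A family of subgroups pairwise commuting or spanning copies of `SL₂(L)`, viewed inside the
subgroup it generates, is a degenerate class of abstract `L`-root subgroups. -/

namespace Cfsg.Agent.Helper2.RootSub

open Cfsg Cfsg.Agent.Helper25 Cfsg.Agent.Helper2.RootGeneric

open scoped commutatorElement

variable {G : Type*} [Group G]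

/-- `A` and `B` are the images of the unitriangular subgroups under an injective homomorphism
from `SL₂(L)`. -/
def SL2Pair (L : Type*) [Field L] (A B : Subgroup G) : Prop :=
  ∃ ρ : Matrix.SpecialLinearGroup (Fin 2) L →* G, Function.Injective ρ ∧
    (upperUnipotentSL2 L).map ρ = A ∧ (lowerUnipotentSL2 L).map ρ = B

theorem comm_eq_bot {A B : Subgroup G} (hc : ∀ a ∈ A, ∀ b ∈ B, a * b = b * a) : ⁅A, B⁆ = ⊥ := by
  rw [eq_bot_iff, Subgroup.commutator_le]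
  intro a ha b hb
  rw [Subgroup.mem_bot, commutatorElement_eq_one_iff_mul_comm]
  exact hc a ha b hb

theorem range_le_sup {L : Type*} [Field L] {A B : Subgroup G}
    {ρ : Matrix.SpecialLinearGroup (Fin 2) L →* G}
    (hA : (upperUnipotentSL2 L).map ρ = A) (hB : (lowerUnipotentSL2 L).map ρ = B)
    (x : Matrix.SpecialLinearGroup (Fin 2) L) : ρ x ∈ A ⊔ B := by
  have hx : x ∈ lowerUnipotentSL2 L ⊔ upperUnipotentSL2 L := by rw [sl2_generation]; trivial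
  have h1 := Subgroup.mem_map_of_mem ρ hx
  rw [Subgroup.map_sup, hA, hB, sup_comm] at h1
  exact h1

theorem SL2Pair.restrict {L : Type*} [Field L] {A B : Subgroup G} (G₀ : Subgroup G)
    (hA : A ≤ G₀) (hB : B ≤ G₀) (hp : SL2Pair L A B) :
    SL2Pair L (A.subgroupOf G₀) (B.subgroupOf G₀) := by
  obtain ⟨ρ, hinj, hρA, hρB⟩ := hp
  have hmem : ∀ x, ρ x ∈ G₀ := fun x => (sup_le hA hB) (range_le_sup hρA hρB x)
  refine ⟨ρ.codRestrict G₀ hmem, ?_, ?_, ?_⟩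
  · intro x y hxy
    apply hinj
    exact congrArg Subtype.val hxy
  · ext y
    rw [Subgroup.mem_map, Subgroup.mem_subgroupOf, ← hρA, Subgroup.mem_map]
    constructor
    · rintro ⟨x, hx, rfl⟩; exact ⟨x, hx, rfl⟩
    · rintro ⟨x, hx, hxy⟩; exact ⟨x, hx, Subtype.ext hxy⟩
  · ext y
    rw [Subgroup.mem_map, Subgroup.mem_subgroupOf, ← hρB, Subgroup.mem_map]
    constructor
    · rintro ⟨x, hx, rfl⟩; exact ⟨x, hx, rfl⟩
    · rintro ⟨x, hx, hxy⟩; exact ⟨x, hx, Subtype.ext hxy⟩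

theorem SL2Pair.exists_conj {L : Type*} [Field L] {A B : Subgroup G} (hp : SL2Pair L A B) :
    ∃ g : G, B = conjBy A g := by
  obtain ⟨ρ, hinj, hρA, hρB⟩ := hp
  obtain ⟨x, -, hx⟩ := rankOne_exists_conj (pair_of_sl2_hom ρ hinj hρA hρB).1
  exact ⟨x, hx⟩

theorem conjBy_subgroupOf (G₀ : Subgroup G) (A : Subgroup G) (g : ↥G₀) :
    conjBy (A.subgroupOf G₀) g = (conjBy A (g : G)).subgroupOf G₀ := by
  ext x
  rw [mem_conjBy_iff, Subgroup.mem_subgroupOf, Subgroup.mem_subgroupOf, mem_conjBy_iff]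
  rfl

/-- the hypotheses on the family -/
structure Hyp (L : Type*) [Field L] (S : Set (Subgroup G)) : Prop where
  comm : ∀ A ∈ S, IsMulCommutative A
  ne_bot : ∀ A ∈ S, A ≠ ⊥
  conj : ∀ A ∈ S, ∀ g ∈ (⨆ B ∈ S, B), conjBy A g ∈ S
  pair : ∀ A ∈ S, ∀ B ∈ S, (∀ a ∈ A, ∀ b ∈ B, a * b = b * a) ∨ SL2Pair L A B
  nonempty : S.Nonempty
  conn : ∀ A ∈ S, ∀ B ∈ S, ∃ C ∈ S, SL2Pair L A C ∧ SL2Pair L C B

/-- the family viewed inside the subgroup it generates -/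
def Sub (S : Set (Subgroup G)) : Set (Subgroup ↥(⨆ B ∈ S, B)) :=
  (fun A : Subgroup G => A.subgroupOf (⨆ B ∈ S, B)) '' S

section

variable {L : Type*} [Field L] {S : Set (Subgroup G)}

theorem le_gen {A : Subgroup G} (hA : A ∈ S) : A ≤ ⨆ B ∈ S, B :=
  le_iSup₂ (f := fun B (_ : B ∈ S) => B) A hA

theorem pair_sub (H : Hyp L S) {A B : Subgroup G} (hA : A ∈ S) (hB : B ∈ S) :
    (∀ a ∈ A.subgroupOf (⨆ B ∈ S, B), ∀ b ∈ B.subgroupOf (⨆ B ∈ S, B), a * b = b * a) ∨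
      SL2Pair L (A.subgroupOf (⨆ B ∈ S, B)) (B.subgroupOf (⨆ B ∈ S, B)) := by
  rcases H.pair A hA B hB with hc | hc
  · left
    intro a ha b hb
    apply Subtype.ext
    exact hc a.1 (Subgroup.mem_subgroupOf.mp ha) b.1 (Subgroup.mem_subgroupOf.mp hb)
  · right
    exact hc.restrict _ (le_gen hA) (le_gen hB)

theorem sub_ne_bot (H : Hyp L S) {A : Subgroup G} (hA : A ∈ S) :
    A.subgroupOf (⨆ B ∈ S, B) ≠ ⊥ := by
  intro hbot
  apply H.ne_bot A hA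
  rw [Subgroup.eq_bot_iff_forall]
  intro a ha
  have h1 : (⟨a, le_gen hA ha⟩ : ↥(⨆ B ∈ S, B)) ∈ A.subgroupOf (⨆ B ∈ S, B) :=
    Subgroup.mem_subgroupOf.mpr ha
  rw [hbot, Subgroup.mem_bot] at h1
  exact congrArg Subtype.val h1

theorem isRootSubgroupSet (H : Hyp L S) : IsRootSubgroupSet (Sub S) := by
  refine ⟨?_, ?_, ?_, ?_, ?_⟩
  · rintro _ ⟨A, hA, rfl⟩
    refine ⟨⟨fun x y => ?_⟩⟩
    have hc := (H.comm A hA).is_comm.comm ⟨x.1.1, Subgroup.mem_subgroupOf.mp x.2⟩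
      ⟨y.1.1, Subgroup.mem_subgroupOf.mp y.2⟩
    apply Subtype.ext
    apply Subtype.ext
    exact congrArg (fun z : ↥A => (z : G)) hc
  · rintro _ ⟨A, hA, rfl⟩
    exact sub_ne_bot H hA
  · rw [eq_top_iff]
    intro x _
    have h1 : (⨆ B ∈ S, B) ≤ (⨆ A' ∈ Sub S, A').map (Subgroup.subtype _) := by
      apply iSup₂_le
      intro A hA a ha
      refine ⟨⟨a, le_gen hA ha⟩, ?_, rfl⟩
      have h2 : A.subgroupOf (⨆ B ∈ S, B) ≤ ⨆ A' ∈ Sub S, A' :=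
        le_iSup₂ (f := fun A' (_ : A' ∈ Sub S) => A') _ ⟨A, hA, rfl⟩
      exact h2 (Subgroup.mem_subgroupOf.mpr ha)
    obtain ⟨y, hy, hyx⟩ := h1 x.2
    have h3 : y = x := Subtype.ext hyx
    rw [← h3]; exact hy
  · rintro _ ⟨A, hA, rfl⟩ g
    rw [conjBy_subgroupOf]
    exact ⟨_, H.conj A hA g.1 g.2, rfl⟩
  · rintro _ ⟨A, hA, rfl⟩ _ ⟨B, hB, rfl⟩
    rcases pair_sub H hA hB with hc | hc
    · exact Or.inl (comm_eq_bot hc)
    · obtain ⟨ρ, hinj, hρA, hρB⟩ := hc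
      exact Or.inr (Or.inl (pair_of_sl2_hom ρ hinj hρA hρB).1)

theorem isConjClass (H : Hyp L S) : IsConjClassOfSubgroups (Sub S) := by
  obtain ⟨A₀, hA₀⟩ := H.nonempty
  refine ⟨⟨_, A₀, hA₀, rfl⟩, ?_⟩
  rintro _ ⟨A, hA, rfl⟩ _ ⟨B, hB, rfl⟩
  obtain ⟨C, hC, h1, h2⟩ := H.conn A hA B hB
  obtain ⟨g1, hg1⟩ := (h1.restrict _ (le_gen hA) (le_gen hC)).exists_conj
  obtain ⟨g2, hg2⟩ := (h2.restrict _ (le_gen hC) (le_gen hB)).exists_conj
  refine ⟨g2 * g1, ?_⟩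
  rw [← conjBy_conjBy, ← hg1, ← hg2]

theorem isDegenerate (H : Hyp L S) : IsDegenerateRootSet (Sub S) := by
  rintro _ ⟨A, hA, rfl⟩ _ ⟨B, hB, rfl⟩ hcase
  rcases pair_sub H hA hB with hc | hc
  · obtain ⟨⟨C, hC, hCeq⟩, -⟩ := hcase
    rw [comm_eq_bot hc] at hCeq
    exact sub_ne_bot H hC hCeq
  · obtain ⟨ρ, hinj, hρA, hρB⟩ := hc
    exact not_commCase_of_sl2_hom ρ hinj _ hρA hρB hcase

theorem isKRoot (H : Hyp L S) : IsKRootSubgroupSet L (Sub S) := by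
  refine ⟨isRootSubgroupSet H, ?_⟩
  rintro _ ⟨A, hA, rfl⟩ _ ⟨B, hB, rfl⟩ hAB
  rcases pair_sub H hA hB with hc | hc
  · exact absurd hAB (not_isRankOnePair_of_commute hc)
  · obtain ⟨ρ, hinj, hρA, hρB⟩ := hc
    exact (pair_of_sl2_hom ρ hinj hρA hρB).2

theorem isConnected (H : Hyp L S) : IsConnectedFamily (FAdj (Sub S)) (Sub S) := by
  rintro _ ⟨A, hA, rfl⟩ _ ⟨B, hB, rfl⟩
  obtain ⟨C, hC, h1, h2⟩ := H.conn A hA B hB
  obtain ⟨ρ1, hinj1, hρA1, hρB1⟩ := h1.restrict _ (le_gen hA) (le_gen hC)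
  obtain ⟨ρ2, hinj2, hρA2, hρB2⟩ := h2.restrict _ (le_gen hC) (le_gen hB)
  have e1 : FAdj (Sub S) (A.subgroupOf (⨆ B ∈ S, B)) (C.subgroupOf (⨆ B ∈ S, B)) :=
    ⟨⟨A, hA, rfl⟩, ⟨C, hC, rfl⟩, (pair_of_sl2_hom ρ1 hinj1 hρA1 hρB1).1⟩
  have e2 : FAdj (Sub S) (C.subgroupOf (⨆ B ∈ S, B)) (B.subgroupOf (⨆ B ∈ S, B)) :=
    ⟨⟨C, hC, rfl⟩, ⟨B, hB, rfl⟩, (pair_of_sl2_hom ρ2 hinj2 hρA2 hρB2).1⟩
  exact Relation.ReflTransGen.trans (Relation.ReflTransGen.single e1)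
    (Relation.ReflTransGen.single e2)

theorem main (H : Hyp L S) :
    IsRootSubgroupClass (Sub S) ∧ IsDegenerateRootSet (Sub S) ∧ IsKRootSubgroupSet L (Sub S) ∧
      IsConnectedFamily (FAdj (Sub S)) (Sub S) :=
  ⟨⟨isRootSubgroupSet H, isConjClass H⟩, isDegenerate H, isKRoot H, isConnected H⟩

end

end Cfsg.Agent.Helper2.RootSub
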