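import Mathlib

set_option autoImplicit false
set_option linter.unusedSimpArgs false

namespace Cfsg.Agent.Helper2

open Matrix

section algebra

variable {F A : Type*} [Field F] [Ring A] [Algebra F A]

theorem w_elt_eq' (u v : A) (huu : u * u = 0) (huvu : u * (v * u) = u) :
    (1 + u) * (1 - v) * (1 + u) = 1 - u * v - v * u + u - v := by
  simp only [mul_add, add_mul, sub_mul, mul_sub, mul_one, one_mul, mul_assoc, huu, huvu]
  abel

theorem w_elt_eq (e f : A) (hee : e * e = 0) (hefe : e * (f * e) = e)
    (a : F) (ha : a ≠ 0) :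
    (1 + a • e) * (1 + (-a⁻¹) • f) * (1 + a • e) = 1 - e * f - f * e + a • e - a⁻¹ • f := by
  have huu : (a • e) * (a • e) = 0 := by
    rw [smul_mul_assoc, mul_smul_comm, hee, smul_zero, smul_zero]
  have huvu : (a • e) * ((a⁻¹ • f) * (a • e)) = a • e := by
    simp only [smul_mul_assoc, mul_smul_comm, hefe, smul_smul]
    congr 1
    field_simp
  have h := w_elt_eq' (a • e) (a⁻¹ • f) huu huvu
  have e1 : (a • e) * (a⁻¹ • f) = e * f := by
    rw [smul_mul_assoc, mul_smul_comm, smul_smul, mul_inv_cancel₀ ha, one_smul]
  have e2 : (a⁻¹ • f) * (a • e) = f * e := by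
    rw [smul_mul_assoc, mul_smul_comm, smul_smul, inv_mul_cancel₀ ha, one_smul]
  rw [e1, e2] at h
  rw [← h, neg_smul, sub_eq_add_neg]

theorem diag_elt_eq (e f : A) (hee : e * e = 0) (hff : f * f = 0) (hefe : e * (f * e) = e)
    (hfef : f * (e * f) = f) (a : F) (ha : a ≠ 0) :
    (1 + a • e) * (1 + (-a⁻¹) • f) * (1 + a • e) *
      ((1 + (-1 : F) • e) * (1 + f) * (1 + (-1 : F) • e)) =
      1 + (a - 1) • (e * f) + (a⁻¹ - 1) • (f * e) := by
  rw [w_elt_eq e f hee hefe a ha]
  have h := w_elt_eq e f hee hefe (-1 : F) (by norm_num)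
  have hinv : (-(-1 : F)⁻¹) = 1 := by norm_num
  rw [hinv, one_smul] at h
  rw [h]
  have r1 : ∀ x, e * (e * x) = 0 := fun x => by rw [← mul_assoc, hee, zero_mul]
  have r2 : ∀ x, f * (f * x) = 0 := fun x => by rw [← mul_assoc, hff, zero_mul]
  simp only [mul_add, add_mul, sub_mul, mul_sub, mul_one, one_mul, smul_mul_assoc, mul_smul_comm,
    hee, hff, smul_zero, mul_assoc, hefe, hfef, r1, r2, mul_zero, sub_zero,
    add_zero, neg_smul, one_smul, smul_neg, mul_neg, neg_mul, neg_neg, neg_zero]
  module

end algebra


section matrix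

variable {ι : Type*} [Fintype ι] [DecidableEq ι] {F : Type*} [Field F]

open SpecialLinearGroup

theorem diag2n_eq_prod_transvections {i j : ι} (hij : i ≠ j) (a : F) (ha : a ≠ 0) :
    diag2n hij a ha = transvection hij a * transvection hij.symm (-a⁻¹) * transvection hij a *
      (transvection hij (-1) * transvection hij.symm 1 * transvection hij (-1)) := by
  apply coeMonoidHom_injective
  simp only [map_mul, coeMonoidHom_apply, transvection_coe, diag2n_coe]
  have hs : ∀ (k l : ι) (c : F), single k l c = c • single k l (1 : F) := by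
    intro k l c
    rw [Matrix.smul_single, smul_eq_mul, mul_one]
  rw [hs i j a, hs j i (-a⁻¹), hs i j (-1)]
  have hee : single i j (1 : F) * single i j (1 : F) = 0 :=
    single_mul_single_of_ne _ _ _ _ hij.symm _
  have hff : single j i (1 : F) * single j i (1 : F) = 0 :=
    single_mul_single_of_ne _ _ _ _ hij _
  have hef : single i j (1 : F) * single j i (1 : F) = single i i 1 := by
    rw [single_mul_single_same, mul_one]
  have hfe : single j i (1 : F) * single i j (1 : F) = single j j 1 := by
    rw [single_mul_single_same, mul_one]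
  have hefe : single i j (1 : F) * (single j i (1 : F) * single i j (1 : F)) = single i j 1 := by
    rw [hfe, single_mul_single_same, mul_one]
  have hfef : single j i (1 : F) * (single i j (1 : F) * single j i (1 : F)) = single j i 1 := by
    rw [hef, single_mul_single_same, mul_one]
  rw [diag_elt_eq _ _ hee hff hefe hfef a ha, hef, hfe]
  ext k l
  simp only [diagonal_apply, Matrix.add_apply, Matrix.one_apply, Matrix.smul_apply, single_apply,
    smul_eq_mul]
  by_cases hkl : k = l
  · subst hkl
    by_cases hki : k = i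
    · subst hki
      have : ¬ (j = k) := fun h => hij h.symm
      simp [this]
    · by_cases hkj : k = j
      · subst hkj
        have : ¬ (i = k) := fun h => hij h
        simp [this, hki]
      · have h1 : ¬ (i = k) := fun h => hki h.symm
        have h2 : ¬ (j = k) := fun h => hkj h.symm
        simp [hki, hkj, h1, h2]
  · have h1 : ¬ (i = k ∧ i = l) := fun h => hkl (h.1.symm.trans h.2)
    have h2 : ¬ (j = k ∧ j = l) := fun h => hkl (h.1.symm.trans h.2)
    simp [hkl, h1, h2]

/-- Induction principle: `SL ι F` is generated by transvections. -/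
theorem SL_transvection_induction [Nontrivial ι] (P : SpecialLinearGroup ι F → Prop)
    (htransvec : ∀ (i j : ι) (h : i ≠ j) (c : F), P (transvection h c))
    (hmul : ∀ A B, P A → P B → P (A * B)) (A : SpecialLinearGroup ι F) : P A := by
  refine diagonal_transvection_induction' P _ (fun i j hij c hc ↦ ?_) htransvec hmul
  rw [diag2n_eq_prod_transvections hij c hc]
  refine hmul _ _ (hmul _ _ (hmul _ _ ?_ ?_) ?_) (hmul _ _ (hmul _ _ ?_ ?_) ?_)
  all_goals exact htransvec _ _ _ _

end matrix


section steinberg

theorem comm_elt_eq {A : Type*} [Ring A] (a b : A) (haa : a * a = 0) (hbb : b * b = 0)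
    (hba : b * a = 0) : (1 + a) * (1 + b) * (1 + -a) * (1 + -b) = 1 + a * b := by
  have r1 : ∀ x, a * (a * x) = 0 := fun x => by rw [← mul_assoc, haa, zero_mul]
  have r2 : ∀ x, b * (b * x) = 0 := fun x => by rw [← mul_assoc, hbb, zero_mul]
  have r3 : ∀ x, b * (a * x) = 0 := fun x => by rw [← mul_assoc, hba, zero_mul]
  simp only [mul_add, add_mul, mul_one, one_mul, mul_neg, neg_mul, mul_assoc, haa, hbb, hba,
    r1, r2, r3, mul_zero, neg_zero, add_zero, neg_neg]
  abel

variable {ι : Type*} [Fintype ι] [DecidableEq ι] {F : Type*} [Field F]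

open SpecialLinearGroup
open scoped commutatorElement

theorem transvection_comm {i j k : ι} (hik : i ≠ k) (hkj : k ≠ j) (hij : i ≠ j) (c : F) :
    ⁅transvection hik c, transvection hkj (1 : F)⁆ = transvection hij c := by
  rw [commutatorElement_def, transvection_inv, transvection_inv]
  apply coeMonoidHom_injective
  simp only [map_mul, coeMonoidHom_apply, transvection_coe]
  rw [← single_neg, ← single_neg]
  rw [comm_elt_eq (single i k c) (single k j (1 : F))
    (single_mul_single_of_ne _ _ _ _ hik.symm _) (single_mul_single_of_ne _ _ _ _ hkj.symm _)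
    (single_mul_single_of_ne _ _ _ _ hij.symm _), single_mul_single_same, mul_one]

theorem exists_ne_ne_of_three_le_card (h3 : 3 ≤ Fintype.card ι) (i j : ι) :
    ∃ k : ι, k ≠ i ∧ k ≠ j := by
  by_contra h
  push Not at h
  have hall : ∀ k : ι, k ∈ ({i, j} : Finset ι) := by
    intro k
    by_cases hk : k = i
    · simp [hk]
    · simp [h k hk]
  have h1 : ({i, j} : Finset ι) = Finset.univ := Finset.eq_univ_iff_forall.mpr hall
  have h2 : ({i, j} : Finset ι).card ≤ 2 := Finset.card_le_two
  rw [h1, Finset.card_univ] at h2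
  omega

theorem SL_commutator_eq_top (h3 : 3 ≤ Fintype.card ι) :
    commutator (SpecialLinearGroup ι F) = ⊤ := by
  have : Nontrivial ι := Fintype.one_lt_card_iff_nontrivial.mp (by omega)
  refine le_antisymm le_top (fun A _ => SL_transvection_induction _ ?_ (fun _ _ => mul_mem) A)
  intro i j hij c
  obtain ⟨k, hki, hkj⟩ := exists_ne_ne_of_three_le_card h3 i j
  rw [← transvection_comm hki.symm hkj hij c]
  exact Subgroup.commutator_mem_commutator (Subgroup.mem_top _) (Subgroup.mem_top _)

end steinberg

end Cfsg.Agent.Helper2
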