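import Mathlib

set_option autoImplicit false

/-! Rank-one Steinberg presentation of `SL₂` over a field: relations derived in the presented group. -/

namespace Cfsg.Agent.Helper2.St2

variable (K : Type*) [Field K]

/-- The relation set of the rank-one Steinberg presentation. -/
def rels : Set (FreeGroup (Bool × K)) :=
  {g : FreeGroup (Bool × K) | ∃ (b : Bool) (t u : K), g = FreeGroup.of (b, t) * FreeGroup.of (b, u) * (FreeGroup.of (b, t + u))⁻¹} ∪
    {g | ∃ (b : Bool) (t u : K), t ≠ 0 ∧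
      g = (FreeGroup.of (b, t) * FreeGroup.of (!b, -t⁻¹) * FreeGroup.of (b, t)) * FreeGroup.of (b, u) *
            (FreeGroup.of (b, t) * FreeGroup.of (!b, -t⁻¹) * FreeGroup.of (b, t))⁻¹ * (FreeGroup.of (!b, -(t⁻¹ ^ 2 * u)))⁻¹}

/-- The presented group. -/
abbrev G : Type _ := PresentedGroup (rels K)

variable {K}

/-- generator -/
def X (b : Bool) (t : K) : G K := PresentedGroup.of (b, t)

/-- Weyl element -/
def W (b : Bool) (t : K) : G K := X b t * X (!b) (-t⁻¹) * X b t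

theorem X_add (b : Bool) (t u : K) : X b t * X b u = X b (t + u) := by
  have h : PresentedGroup.mk (rels K)
      (FreeGroup.of (b, t) * FreeGroup.of (b, u) * (FreeGroup.of (b, t + u))⁻¹) = 1 :=
    PresentedGroup.one_of_mem (Or.inl ⟨b, t, u, rfl⟩)
  rw [map_mul, map_mul, map_inv, mul_inv_eq_one] at h
  exact h

theorem W_conj (b : Bool) {t : K} (ht : t ≠ 0) (u : K) :
    W b t * X b u * (W b t)⁻¹ = X (!b) (-(t⁻¹ ^ 2 * u)) := by
  have h : PresentedGroup.mk (rels K)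
      ((FreeGroup.of (b, t) * FreeGroup.of (!b, -t⁻¹) * FreeGroup.of (b, t)) * FreeGroup.of (b, u) *
            (FreeGroup.of (b, t) * FreeGroup.of (!b, -t⁻¹) * FreeGroup.of (b, t))⁻¹ *
            (FreeGroup.of (!b, -(t⁻¹ ^ 2 * u)))⁻¹) = 1 :=
    PresentedGroup.one_of_mem (Or.inr ⟨b, t, u, ht, rfl⟩)
  simp only [map_mul, map_inv] at h
  rw [mul_inv_eq_one] at h
  exact h

theorem X_zero (b : Bool) : X b (0 : K) = 1 := by
  apply mul_left_cancel (a := X b (0 : K))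
  rw [X_add, add_zero, mul_one]

theorem X_inv (b : Bool) (t : K) : (X b t)⁻¹ = X b (-t) :=
  inv_eq_of_mul_eq_one_right (by rw [X_add, add_neg_cancel, X_zero])

theorem X_add_assoc (b : Bool) (t u : K) (g : G K) : X b t * (X b u * g) = X b (t + u) * g := by
  rw [← mul_assoc, X_add]

theorem W_def (b : Bool) (t : K) : W b t = X b t * X (!b) (-t⁻¹) * X b t := rfl

theorem W_inv (b : Bool) (t : K) : (W b t)⁻¹ = W b (-t) := by
  apply inv_eq_of_mul_eq_one_right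
  rw [W_def, W_def, inv_neg, neg_neg]
  simp only [mul_assoc, X_add_assoc, X_add, add_neg_cancel, neg_add_cancel, X_zero, one_mul]

theorem W_swap (b : Bool) {t : K} (ht : t ≠ 0) : W b t = W (!b) (-t⁻¹) := by
  have h := W_conj b ht t
  have e : -(t⁻¹ ^ 2 * t) = -t⁻¹ := by field_simp
  rw [e] at h
  have h2 : W b t * X b t = X (!b) (-t⁻¹) * W b t := by rw [← h]; group
  rw [W_def (!b), Bool.not_not, inv_neg, inv_inv, neg_neg]
  rw [W_def] at h2 ⊢
  apply mul_right_cancel (b := X b t)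
  rw [h2]; group

theorem W_conj' (b : Bool) {t : K} (ht : t ≠ 0) (v : K) :
    W b t * X (!b) v * (W b t)⁻¹ = X b (-(t ^ 2 * v)) := by
  have h := W_conj (!b) (neg_ne_zero.mpr (inv_ne_zero ht)) v
  rw [Bool.not_not, ← W_swap b ht, inv_neg, inv_inv, neg_sq] at h
  exact h

theorem W_W (b : Bool) {t u : K} (ht : t ≠ 0) (hu : u ≠ 0) :
    W b t * W b u * (W b t)⁻¹ = W b (t ^ 2 * u⁻¹) := by
  have e1 : W b t * W b u * (W b t)⁻¹ =
      (W b t * X b u * (W b t)⁻¹) * (W b t * X (!b) (-u⁻¹) * (W b t)⁻¹) *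
        (W b t * X b u * (W b t)⁻¹) := by
    rw [W_def b u]; group
  rw [e1, W_conj b ht, W_conj' b ht]
  have hs : -(t⁻¹ ^ 2 * u) ≠ 0 :=
    neg_ne_zero.mpr (mul_ne_zero (pow_ne_zero _ (inv_ne_zero ht)) hu)
  have e2 := W_swap (!b) hs
  rw [Bool.not_not] at e2
  have e3 : -(-(t⁻¹ ^ 2 * u))⁻¹ = t ^ 2 * u⁻¹ := by field_simp
  rw [e3] at e2
  rw [← e2, W_def (!b), Bool.not_not]
  have e4 : -(-(t⁻¹ ^ 2 * u))⁻¹ = -(t ^ 2 * -u⁻¹) := by field_simp
  rw [e4]

/-! ### the `true` side -/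

/-- upper root element -/
def xx (t : K) : G K := X true t
/-- lower root element -/
def yy (t : K) : G K := X false t
/-- Weyl element -/
def ww (t : K) : G K := W true t
/-- torus element -/
def hh (t : K) : G K := ww t * ww (-1)

theorem xx_add (t u : K) : xx t * xx u = xx (t + u) := X_add true t u
theorem yy_add (t u : K) : yy t * yy u = yy (t + u) := X_add false t u
theorem xx_add_assoc (t u : K) (g : G K) : xx t * (xx u * g) = xx (t + u) * g := X_add_assoc true t u g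
theorem yy_add_assoc (t u : K) (g : G K) : yy t * (yy u * g) = yy (t + u) * g := X_add_assoc false t u g
theorem xx_zero : xx (0 : K) = 1 := X_zero true
theorem yy_zero : yy (0 : K) = 1 := X_zero false
theorem xx_inv (t : K) : (xx t)⁻¹ = xx (-t) := X_inv true t
theorem yy_inv (t : K) : (yy t)⁻¹ = yy (-t) := X_inv false t

theorem ww_conj_xx {t : K} (ht : t ≠ 0) (u : K) : ww t * xx u * (ww t)⁻¹ = yy (-(t⁻¹ ^ 2 * u)) :=
  W_conj true ht u

theorem ww_conj_yy {t : K} (ht : t ≠ 0) (v : K) : ww t * yy v * (ww t)⁻¹ = xx (-(t ^ 2 * v)) :=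
  W_conj' true ht v

theorem ww_inv (t : K) : (ww t)⁻¹ = ww (-t) := W_inv true t

theorem ww_ww {t u : K} (ht : t ≠ 0) (hu : u ≠ 0) : ww t * ww u * (ww t)⁻¹ = ww (t ^ 2 * u⁻¹) :=
  W_W true ht hu

theorem ww_def (t : K) : ww t = xx t * yy (-t⁻¹) * xx t := rfl

theorem ww_def' {t : K} (ht : t ≠ 0) : ww t = yy (-t⁻¹) * xx t * yy (-t⁻¹) := by
  have h := W_swap true ht
  rw [W_def (!true)] at h
  have e : -(-t⁻¹)⁻¹ = t := by rw [inv_neg, inv_inv, neg_neg]
  rw [e] at h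
  exact h

theorem hh_def (t : K) : hh t = ww t * ww (-1) := rfl

theorem ww_eq (t : K) : ww t = hh t * ww 1 := by
  rw [hh_def, ← ww_inv 1, inv_mul_cancel_right]

theorem hh_conj_xx {t : K} (ht : t ≠ 0) (u : K) : hh t * xx u * (hh t)⁻¹ = xx (t ^ 2 * u) := by
  have h1 : (-1 : K) ≠ 0 := neg_ne_zero.mpr one_ne_zero
  calc hh t * xx u * (hh t)⁻¹ = ww t * (ww (-1) * xx u * (ww (-1))⁻¹) * (ww t)⁻¹ := by
        rw [hh_def]; group
    _ = ww t * yy (-((-1 : K)⁻¹ ^ 2 * u)) * (ww t)⁻¹ := by rw [ww_conj_xx h1]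
    _ = xx (-(t ^ 2 * -((-1 : K)⁻¹ ^ 2 * u))) := ww_conj_yy ht _
    _ = xx (t ^ 2 * u) := by congr 1; rw [inv_neg, inv_one]; ring

theorem hh_conj_yy {t : K} (ht : t ≠ 0) (u : K) : hh t * yy u * (hh t)⁻¹ = yy (t⁻¹ ^ 2 * u) := by
  have h1 : (-1 : K) ≠ 0 := neg_ne_zero.mpr one_ne_zero
  calc hh t * yy u * (hh t)⁻¹ = ww t * (ww (-1) * yy u * (ww (-1))⁻¹) * (ww t)⁻¹ := by
        rw [hh_def]; group
    _ = ww t * xx (-((-1 : K) ^ 2 * u)) * (ww t)⁻¹ := by rw [ww_conj_yy h1]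
    _ = yy (-(t⁻¹ ^ 2 * -((-1 : K) ^ 2 * u))) := ww_conj_xx ht _
    _ = yy (t⁻¹ ^ 2 * u) := by congr 1; ring

theorem hh_xx {t : K} (ht : t ≠ 0) (u : K) : hh t * xx u = xx (t ^ 2 * u) * hh t := by
  rw [← hh_conj_xx ht]; group

theorem hh_yy {t : K} (ht : t ≠ 0) (u : K) : hh t * yy u = yy (t⁻¹ ^ 2 * u) * hh t := by
  rw [← hh_conj_yy ht]; group

theorem xx_hh {t : K} (ht : t ≠ 0) (u : K) : xx u * hh t = hh t * xx (t⁻¹ ^ 2 * u) := by
  rw [hh_xx ht]
  have e : t ^ 2 * (t⁻¹ ^ 2 * u) = u := by field_simp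
  rw [e]

theorem hh_one : hh (1 : K) = 1 := by
  rw [hh_def, ← ww_inv, mul_inv_cancel]

theorem ww_one_conj_hh {t : K} (ht : t ≠ 0) : ww 1 * hh t * (ww 1)⁻¹ = hh t⁻¹ := by
  calc ww 1 * hh t * (ww 1)⁻¹ = (ww 1 * ww t * (ww 1)⁻¹) * (ww 1 * ww (-1) * (ww 1)⁻¹) := by
        rw [hh_def]; group
    _ = ww (1 ^ 2 * t⁻¹) * ww (-1) := by
        rw [ww_ww one_ne_zero ht]; congr 1; rw [← ww_inv]; group
    _ = hh t⁻¹ := by rw [one_pow, one_mul, hh_def]

theorem ww_one_hh {t : K} (ht : t ≠ 0) : ww 1 * hh t = hh t⁻¹ * ww 1 := by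
  rw [← ww_one_conj_hh ht]; group

theorem hh_conj_ww {t u : K} (ht : t ≠ 0) (hu : u ≠ 0) : hh t * ww u * (hh t)⁻¹ = ww (t ^ 2 * u) := by
  have h1 : (-1 : K) ≠ 0 := neg_ne_zero.mpr one_ne_zero
  calc hh t * ww u * (hh t)⁻¹ = ww t * (ww (-1) * ww u * (ww (-1))⁻¹) * (ww t)⁻¹ := by
        rw [hh_def]; group
    _ = ww t * ww ((-1) ^ 2 * u⁻¹) * (ww t)⁻¹ := by rw [ww_ww h1 hu]
    _ = ww (t ^ 2 * ((-1) ^ 2 * u⁻¹)⁻¹) :=
        ww_ww ht (mul_ne_zero (pow_ne_zero _ h1) (inv_ne_zero hu))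
    _ = ww (t ^ 2 * u) := by congr 1; rw [neg_one_sq, one_mul, inv_inv]

theorem hh_conj_hh {t u : K} (ht : t ≠ 0) (hu : u ≠ 0) :
    hh t * hh u * (hh t)⁻¹ = hh (t ^ 2 * u) * (hh (t ^ 2))⁻¹ := by
  have h1 : (-1 : K) ≠ 0 := neg_ne_zero.mpr one_ne_zero
  calc hh t * hh u * (hh t)⁻¹ = (hh t * ww u * (hh t)⁻¹) * (hh t * ww (-1) * (hh t)⁻¹) := by
        rw [hh_def u]; group
    _ = ww (t ^ 2 * u) * ww (t ^ 2 * -1) := by rw [hh_conj_ww ht hu, hh_conj_ww ht h1]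
    _ = hh (t ^ 2 * u) * (hh (t ^ 2))⁻¹ := by
        rw [hh_def (t ^ 2 * u), hh_def (t ^ 2), mul_inv_rev, ww_inv (t ^ 2), mul_neg_one]; group

/-! ### centrality of the symbols -/

/-- `g` acts on the root subgroups by the scalar `l`. -/
def Acts (g : G K) (l : K) : Prop :=
  (∀ v, g * xx v * g⁻¹ = xx (l * v)) ∧ (∀ v, g * yy v * g⁻¹ = yy (l⁻¹ * v))

theorem acts_hh {t : K} (ht : t ≠ 0) : Acts (hh t) (t ^ 2) :=
  ⟨fun v => hh_conj_xx ht v, fun v => by rw [hh_conj_yy ht, inv_pow]⟩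

theorem acts_mul {g g' : G K} {l l' : K} (h : Acts g l) (h' : Acts g' l') : Acts (g * g') (l * l') := by
  constructor
  · intro v
    calc g * g' * xx v * (g * g')⁻¹ = g * (g' * xx v * g'⁻¹) * g⁻¹ := by group
      _ = xx (l * l' * v) := by rw [h'.1, h.1, mul_assoc]
  · intro v
    calc g * g' * yy v * (g * g')⁻¹ = g * (g' * yy v * g'⁻¹) * g⁻¹ := by group
      _ = yy ((l * l')⁻¹ * v) := by rw [h'.2, h.2, mul_inv, mul_assoc]

theorem acts_inv {g : G K} {l : K} (hl : l ≠ 0) (h : Acts g l) : Acts g⁻¹ l⁻¹ := by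
  constructor
  · intro v
    have e := h.1 (l⁻¹ * v)
    rw [mul_inv_cancel_left₀ hl] at e
    rw [← e]; group
  · intro v
    have e := h.2 (l * v)
    rw [inv_mul_cancel_left₀ hl] at e
    rw [inv_inv, ← e]; group

theorem central_of_comm (g : G K) (hx : ∀ v, g * xx v = xx v * g) (hy : ∀ v, g * yy v = yy v * g) :
    ∀ z, g * z = z * g := by
  intro z
  have hz : z ∈ Subgroup.centralizer ({g} : Set (G K)) := by
    apply PresentedGroup.generated_by
    rintro ⟨b, v⟩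
    rw [Subgroup.mem_centralizer_iff]
    intro a ha
    rw [Set.mem_singleton_iff] at ha
    subst ha
    cases b
    · exact hy v
    · exact hx v
  exact (Subgroup.mem_centralizer_iff.mp hz) g rfl

theorem central_of_acts_one {g : G K} (h : Acts g 1) : ∀ z, g * z = z * g := by
  apply central_of_comm
  · intro v
    have e := h.1 v
    rw [one_mul] at e
    calc g * xx v = (g * xx v * g⁻¹) * g := by group
      _ = xx v * g := by rw [e]
  · intro v
    have e := h.2 v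
    rw [inv_one, one_mul] at e
    calc g * yy v = (g * yy v * g⁻¹) * g := by group
      _ = yy v * g := by rw [e]

/-- the symbol -/
def cc (t u : K) : G K := hh t * hh u * (hh (t * u))⁻¹

theorem cc_central {t u : K} (ht : t ≠ 0) (hu : u ≠ 0) : ∀ z, cc t u * z = z * cc t u := by
  apply central_of_acts_one
  have h1 := acts_mul (acts_mul (acts_hh ht) (acts_hh hu))
    (acts_inv (pow_ne_zero 2 (mul_ne_zero ht hu)) (acts_hh (mul_ne_zero ht hu)))
  have e : t ^ 2 * u ^ 2 * ((t * u) ^ 2)⁻¹ = 1 := by field_simp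
  rw [e] at h1
  exact h1

/-! ### the key relation from additivity of the lower root group -/

theorem yy_eq (a : K) : yy (-a⁻¹) = xx (-a) * ww a * xx (-a) := by
  rw [ww_def]
  simp only [mul_assoc, xx_add_assoc, xx_add, neg_add_cancel, add_neg_cancel, xx_zero, one_mul,
    mul_one]

theorem xx_eq {s : K} (hs : s ≠ 0) : xx s = yy s⁻¹ * ww s * yy s⁻¹ := by
  rw [ww_def' hs]
  simp only [mul_assoc, yy_add_assoc, yy_add, neg_add_cancel, add_neg_cancel, yy_zero, one_mul,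
    mul_one]

theorem ww_yy {a : K} (ha : a ≠ 0) (v : K) : ww a * yy v = xx (-(a ^ 2 * v)) * ww a := by
  rw [← ww_conj_yy ha]; group

theorem yy_ww {b : K} (hb : b ≠ 0) (v : K) : yy v * ww b = ww b * xx (-(b ^ 2 * v)) := by
  have h1 := ww_conj_yy (neg_ne_zero.mpr hb) v
  rw [← ww_inv, inv_inv, neg_sq] at h1
  rw [← h1]; group

theorem E0 {a b : K} (ha : a ≠ 0) (hb : b ≠ 0) (hs : a + b ≠ 0) :
    ww a * ww (-(a + b)) * ww b = ww (a * b / (a + b)) := by
  have hy : yy (-a⁻¹) * yy (-b⁻¹) = yy (-(a * b / (a + b))⁻¹) := by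
    rw [yy_add]; congr 1; field_simp; ring
  rw [yy_eq a, yy_eq b, yy_eq (a * b / (a + b))] at hy
  have hx : xx (-a) * xx (-b) = yy ((-(a + b))⁻¹) * ww (-(a + b)) * yy ((-(a + b))⁻¹) := by
    rw [xx_add, ← xx_eq (neg_ne_zero.mpr hs)]; congr 1; ring
  have key : xx (-a) * ww a * xx (-a) * (xx (-b) * ww b * xx (-b)) =
      xx (-(a * b / (a + b))) * (ww a * ww (-(a + b)) * ww b) * xx (-(a * b / (a + b))) := by
    calc xx (-a) * ww a * xx (-a) * (xx (-b) * ww b * xx (-b))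
        = xx (-a) * (ww a * (xx (-a) * xx (-b)) * ww b) * xx (-b) := by group
      _ = xx (-a) * ((ww a * yy ((-(a + b))⁻¹)) * ww (-(a + b)) * (yy ((-(a + b))⁻¹) * ww b)) *
            xx (-b) := by rw [hx]; group
      _ = xx (-a) * ((xx (-(a ^ 2 * (-(a + b))⁻¹)) * ww a) * ww (-(a + b)) *
            (ww b * xx (-(b ^ 2 * (-(a + b))⁻¹)))) * xx (-b) := by rw [ww_yy ha, yy_ww hb]
      _ = (xx (-a) * xx (-(a ^ 2 * (-(a + b))⁻¹))) * (ww a * ww (-(a + b)) * ww b) *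
            (xx (-(b ^ 2 * (-(a + b))⁻¹)) * xx (-b)) := by group
      _ = _ := by
        rw [xx_add, xx_add]
        have e1 : -a + -(a ^ 2 * (-(a + b))⁻¹) = -(a * b / (a + b)) := by field_simp; ring
        have e2 : -(b ^ 2 * (-(a + b))⁻¹) + -b = -(a * b / (a + b)) := by field_simp; ring
        rw [e1, e2]
  rw [key] at hy
  exact mul_left_cancel (mul_right_cancel hy)

theorem star {a b : K} (ha : a ≠ 0) (hb : b ≠ 0) (hs : a + b ≠ 0) :
    hh a * (hh (a + b))⁻¹ * hh b = hh (a * b / (a + b)) := by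
  have e := E0 ha hb hs
  rw [← ww_inv, ww_eq a, ww_eq (a + b), ww_eq b, ww_eq (a * b / (a + b))] at e
  apply mul_right_cancel (b := ww (1 : K))
  rw [← e]; group

end Cfsg.Agent.Helper2.St2
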