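import Mathlib
import Cfsg.Agent.Helper2.St2A

set_option autoImplicit false

/-! Rank-one Steinberg presentation of `SL₂` over a finite field: the torus elements multiply. -/

namespace Cfsg.Agent.Helper2.St2

open Polynomial

variable {K : Type*} [Field K] [Finite K]

theorem exists_gen : ∃ ζ : Kˣ, ∀ t : Kˣ, ∃ n : ℕ, ζ ^ n = t := by
  obtain ⟨ζ, hζ⟩ := IsCyclic.exists_monoid_generator (α := Kˣ)
  exact ⟨ζ, fun t => (Submonoid.mem_powers_iff _ _).mp (hζ t)⟩

theorem hh_pow_gen (ζ : Kˣ) (n : ℕ) :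
    ∃ z : G K, (∀ g, z * g = g * z) ∧ hh (((ζ ^ n : Kˣ) : K)) = z * (hh (ζ : K)) ^ n := by
  induction n with
  | zero =>
    refine ⟨1, fun g => by rw [one_mul, mul_one], ?_⟩
    rw [pow_zero, Units.val_one, hh_one, pow_zero, mul_one]
  | succ n ih =>
    obtain ⟨z, hz, hn⟩ := ih
    have h1 : ((ζ ^ n : Kˣ) : K) ≠ 0 := Units.ne_zero _
    have h2 : (ζ : K) ≠ 0 := Units.ne_zero _
    have hc := cc_central h1 h2
    refine ⟨(cc ((ζ ^ n : Kˣ) : K) (ζ : K))⁻¹ * z, ?_, ?_⟩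
    · intro g
      have e1 : (cc ((ζ ^ n : Kˣ) : K) (ζ : K))⁻¹ * g = g * (cc ((ζ ^ n : Kˣ) : K) (ζ : K))⁻¹ := by
        have := hc g
        calc (cc ((ζ ^ n : Kˣ) : K) (ζ : K))⁻¹ * g
            = (cc ((ζ ^ n : Kˣ) : K) (ζ : K))⁻¹ * (g * cc ((ζ ^ n : Kˣ) : K) (ζ : K)) *
                (cc ((ζ ^ n : Kˣ) : K) (ζ : K))⁻¹ := by group
          _ = g * (cc ((ζ ^ n : Kˣ) : K) (ζ : K))⁻¹ := by rw [← this]; group
      rw [mul_assoc, hz g, ← mul_assoc, e1, mul_assoc]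
    · have e : hh (((ζ ^ (n + 1) : Kˣ) : K)) =
          (cc ((ζ ^ n : Kˣ) : K) (ζ : K))⁻¹ * (hh (((ζ ^ n : Kˣ) : K)) * hh (ζ : K)) := by
        rw [pow_succ, Units.val_mul]
        unfold cc
        group
      rw [e, hn, pow_succ]
      group

theorem hh_comm {t u : K} (ht : t ≠ 0) (hu : u ≠ 0) : hh t * hh u = hh u * hh t := by
  obtain ⟨ζ, hζ⟩ := exists_gen (K := K)
  obtain ⟨n, hn⟩ := hζ (Units.mk0 t ht)
  obtain ⟨m, hm⟩ := hζ (Units.mk0 u hu)
  obtain ⟨z, hz, e1⟩ := hh_pow_gen ζ n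
  obtain ⟨z', hz', e2⟩ := hh_pow_gen ζ m
  rw [hn, Units.val_mk0] at e1
  rw [hm, Units.val_mk0] at e2
  rw [e1, e2]
  have c1 : ∀ g, Commute z g := fun g => hz g
  have c2 : ∀ g, Commute z' g := fun g => hz' g
  have : Commute (z * hh (ζ : K) ^ n) (z' * hh (ζ : K) ^ m) :=
    Commute.mul_left (c1 _) (Commute.mul_right (c2 _).symm ((Commute.refl _).pow_pow n m))
  exact this

theorem hh_sq_mul {r u : K} (hr : r ≠ 0) (hu : u ≠ 0) : hh (r ^ 2) * hh u = hh (r ^ 2 * u) := by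
  have h1 := hh_conj_hh hr hu
  have h2 : hh r * hh u * (hh r)⁻¹ = hh u := by
    rw [hh_comm hr hu]; group
  rw [h2] at h1
  rw [hh_comm (pow_ne_zero 2 hr) hu, h1]; group

theorem hh_sq (t : K) (ht : t ≠ 0) (hns : ¬ IsSquare t) (hF : ringChar K ≠ 2) :
    hh t * hh t = hh (t ^ 2) := by
  cases nonempty_fintype K
  have hf : degree (C t * (Polynomial.X : K[X]) ^ 2 + C 0 * (Polynomial.X : K[X]) + C 0 : K[X]) = 2 := degree_quadratic ht
  have hg : degree (C t * (Polynomial.X : K[X]) ^ 2 + C 0 * (Polynomial.X : K[X]) + C (-1) : K[X]) = 2 := degree_quadratic ht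
  obtain ⟨a, b, hab⟩ := FiniteField.exists_root_sum_quadratic hf hg
    (FiniteField.odd_card_of_char_ne_two hF)
  simp only [eval_add, eval_mul, eval_C, eval_pow, eval_X, zero_mul, add_zero] at hab
  have hab' : t * a ^ 2 + t * b ^ 2 = 1 := by linear_combination hab
  have ha : a ≠ 0 := by
    rintro rfl
    apply hns
    have hb : b ≠ 0 := by
      rintro rfl
      simp at hab'
    refine ⟨b⁻¹, ?_⟩
    field_simp
    linear_combination hab'
  have hb : b ≠ 0 := by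
    rintro rfl
    apply hns
    refine ⟨a⁻¹, ?_⟩
    field_simp
    linear_combination hab'
  have hta : t * a ^ 2 ≠ 0 := mul_ne_zero ht (pow_ne_zero 2 ha)
  have htb : t * b ^ 2 ≠ 0 := mul_ne_zero ht (pow_ne_zero 2 hb)
  have hs : t * a ^ 2 + t * b ^ 2 ≠ 0 := by rw [hab']; exact one_ne_zero
  have h1 := star hta htb hs
  rw [hab', hh_one, inv_one, mul_one, div_one] at h1
  -- h1 : hh (t a²) * hh (t b²) = hh (t a² * (t b²))
  have e1 : hh (t * a ^ 2) = hh (a ^ 2) * hh t := by rw [hh_sq_mul ha ht, mul_comm]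
  have e2 : hh (t * b ^ 2) = hh (b ^ 2) * hh t := by rw [hh_sq_mul hb ht, mul_comm]
  have e3 : hh (t * a ^ 2 * (t * b ^ 2)) = hh (a ^ 2) * (hh (b ^ 2) * hh (t ^ 2)) := by
    rw [hh_sq_mul hb (pow_ne_zero 2 ht), hh_sq_mul ha (mul_ne_zero (pow_ne_zero 2 hb) (pow_ne_zero 2 ht))]
    congr 1; ring
  rw [e1, e2, e3] at h1
  have c := hh_comm ht (pow_ne_zero 2 hb)
  have h3 : hh (a ^ 2) * hh t * (hh (b ^ 2) * hh t) = hh (a ^ 2) * (hh (b ^ 2) * (hh t * hh t)) := by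
    calc hh (a ^ 2) * hh t * (hh (b ^ 2) * hh t) = hh (a ^ 2) * ((hh t * hh (b ^ 2)) * hh t) := by group
      _ = hh (a ^ 2) * (hh (b ^ 2) * (hh t * hh t)) := by rw [c]; group
  rw [h3] at h1
  exact mul_left_cancel (mul_left_cancel h1)

theorem hh_mul {t u : K} (ht : t ≠ 0) (hu : u ≠ 0) : hh t * hh u = hh (t * u) := by
  by_cases hst : IsSquare t
  · obtain ⟨r, rfl⟩ := hst
    have hr : r ≠ 0 := fun h => ht (by rw [h, mul_zero])
    rw [← pow_two, hh_sq_mul hr hu]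
  by_cases hsu : IsSquare u
  · obtain ⟨r, rfl⟩ := hsu
    have hr : r ≠ 0 := fun h => hu (by rw [h, mul_zero])
    rw [← pow_two, hh_comm ht (pow_ne_zero 2 hr), hh_sq_mul hr ht, mul_comm]
  have hF : ringChar K ≠ 2 := fun h => hst (FiniteField.isSquare_of_char_two h t)
  cases nonempty_fintype K
  have hq : IsSquare (u / t) := by
    rw [FiniteField.isSquare_iff hF (div_ne_zero hu ht), div_pow]
    have h1 : t ^ (Fintype.card K / 2) = -1 := by
      rcases FiniteField.pow_dichotomy hF ht with h | h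
      · exact absurd ((FiniteField.isSquare_iff hF ht).mpr h) hst
      · exact h
    have h2 : u ^ (Fintype.card K / 2) = -1 := by
      rcases FiniteField.pow_dichotomy hF hu with h | h
      · exact absurd ((FiniteField.isSquare_iff hF hu).mpr h) hsu
      · exact h
    rw [h1, h2]; norm_num
  obtain ⟨r, hr⟩ := hq
  have hr0 : r ≠ 0 := by
    rintro rfl
    rw [mul_zero, div_eq_zero_iff] at hr
    rcases hr with h | h
    · exact hu h
    · exact ht h
  have hu' : u = r ^ 2 * t := by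
    field_simp at hr
    linear_combination hr
  rw [hu', ← hh_sq_mul hr0 ht]
  calc hh t * (hh (r ^ 2) * hh t) = (hh t * hh (r ^ 2)) * hh t := by group
    _ = hh (r ^ 2) * (hh t * hh t) := by rw [hh_comm ht (pow_ne_zero 2 hr0)]; group
    _ = hh (r ^ 2) * hh (t ^ 2) := by rw [hh_sq t ht hst hF]
    _ = hh (r ^ 2 * t ^ 2) := hh_sq_mul hr0 (pow_ne_zero 2 ht)
    _ = hh (t * (r ^ 2 * t)) := by congr 1; ring

end Cfsg.Agent.Helper2.St2
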