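import Mathlib
import Cfsg.Agent.Helper2.St2A
import Cfsg.Agent.Helper2.St2B

set_option autoImplicit false

/-! Rank-one Steinberg presentation of `SL₂` over a finite field: the map to `SL₂` and normal forms. -/

namespace Cfsg.Agent.Helper2.St2

open Matrix

variable {K : Type*} [Field K]

/-- images of the generators -/
def gen : Bool × K → Matrix.SpecialLinearGroup (Fin 2) K
  | (true, t) => ⟨!![1, t; 0, 1], by simp [Matrix.det_fin_two_of]⟩
  | (false, t) => ⟨!![1, 0; t, 1], by simp [Matrix.det_fin_two_of]⟩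

theorem gen_true (t : K) : ((gen (true, t) : Matrix.SpecialLinearGroup (Fin 2) K) : Matrix (Fin 2) (Fin 2) K) = !![1, t; 0, 1] := rfl
theorem gen_false (t : K) : ((gen (false, t) : Matrix.SpecialLinearGroup (Fin 2) K) : Matrix (Fin 2) (Fin 2) K) = !![1, 0; t, 1] := rfl

theorem gen_add (b : Bool) (t u : K) : gen (b, t) * gen (b, u) = gen (b, t + u) := by
  apply Subtype.ext
  rw [Matrix.SpecialLinearGroup.coe_mul]
  cases b
  · rw [gen_false, gen_false, gen_false, Matrix.mul_fin_two]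
    simp [add_comm]
  · rw [gen_true, gen_true, gen_true, Matrix.mul_fin_two]
    simp [add_comm]

theorem mk2_eq {a b c d a' b' c' d' : K} (h1 : a = a') (h2 : b = b') (h3 : c = c') (h4 : d = d') :
    !![a, b; c, d] = !![a', b'; c', d'] := by
  subst h1 h2 h3 h4; rfl

theorem gen_rel (b : Bool) {t : K} (ht : t ≠ 0) (u : K) :
    (gen (b, t) * gen (!b, -t⁻¹) * gen (b, t)) * gen (b, u) =
      gen (!b, -(t⁻¹ ^ 2 * u)) * (gen (b, t) * gen (!b, -t⁻¹) * gen (b, t)) := by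
  apply Subtype.ext
  simp only [Matrix.SpecialLinearGroup.coe_mul]
  cases b
  · simp only [Bool.not_false, gen_false, gen_true, Matrix.mul_fin_two]
    apply mk2_eq <;> (try field_simp) <;> (try ring)
  · simp only [Bool.not_true, gen_false, gen_true, Matrix.mul_fin_two]
    apply mk2_eq <;> (try field_simp) <;> (try ring)

theorem lift_rels : ∀ r ∈ rels K, FreeGroup.lift (gen (K := K)) r = 1 := by
  rintro r (⟨b, t, u, rfl⟩ | ⟨b, t, u, ht, rfl⟩)
  · simp only [map_mul, map_inv, FreeGroup.lift_apply_of]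
    rw [gen_add, mul_inv_cancel]
  · simp only [map_mul, map_inv, FreeGroup.lift_apply_of]
    rw [gen_rel b ht u]
    group

/-- the natural map to `SL₂` -/
noncomputable def π : G K →* Matrix.SpecialLinearGroup (Fin 2) K :=
  PresentedGroup.toGroup lift_rels

theorem π_xx (t : K) : π (xx t) = gen (true, t) := PresentedGroup.toGroup.of lift_rels
theorem π_yy (t : K) : π (yy t) = gen (false, t) := PresentedGroup.toGroup.of lift_rels

theorem π_xx_coe (t : K) : ((π (xx t) : Matrix.SpecialLinearGroup (Fin 2) K) : Matrix (Fin 2) (Fin 2) K) = !![1, t; 0, 1] := by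
  rw [π_xx]; rfl

theorem π_yy_coe (t : K) : ((π (yy t) : Matrix.SpecialLinearGroup (Fin 2) K) : Matrix (Fin 2) (Fin 2) K) = !![1, 0; t, 1] := by
  rw [π_yy]; rfl

theorem π_ww_coe {t : K} (ht : t ≠ 0) :
    ((π (ww t) : Matrix.SpecialLinearGroup (Fin 2) K) : Matrix (Fin 2) (Fin 2) K) = !![0, t; -t⁻¹, 0] := by
  rw [ww_def, map_mul, map_mul, Matrix.SpecialLinearGroup.coe_mul, Matrix.SpecialLinearGroup.coe_mul,
    π_xx_coe, π_yy_coe, Matrix.mul_fin_two, Matrix.mul_fin_two]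
  apply mk2_eq <;> (try field_simp) <;> (try ring)

theorem π_hh_coe {t : K} (ht : t ≠ 0) :
    ((π (hh t) : Matrix.SpecialLinearGroup (Fin 2) K) : Matrix (Fin 2) (Fin 2) K) = !![t, 0; 0, t⁻¹] := by
  rw [hh_def, map_mul, Matrix.SpecialLinearGroup.coe_mul, π_ww_coe ht,
    π_ww_coe (neg_ne_zero.mpr one_ne_zero), Matrix.mul_fin_two]
  ext i j
  fin_cases i <;> fin_cases j <;> simp

/-! ### surjectivity -/

theorem surj_aux (M : Matrix.SpecialLinearGroup (Fin 2) K)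
    (hc : (M : Matrix (Fin 2) (Fin 2) K) 1 0 ≠ 0) : ∃ g : G K, π g = M := by
  obtain ⟨a, ha⟩ : ∃ a, a = (M : Matrix (Fin 2) (Fin 2) K) 0 0 := ⟨_, rfl⟩
  obtain ⟨b, hb⟩ : ∃ b, b = (M : Matrix (Fin 2) (Fin 2) K) 0 1 := ⟨_, rfl⟩
  obtain ⟨c, hc'⟩ : ∃ c, c = (M : Matrix (Fin 2) (Fin 2) K) 1 0 := ⟨_, rfl⟩
  obtain ⟨d, hd⟩ : ∃ d, d = (M : Matrix (Fin 2) (Fin 2) K) 1 1 := ⟨_, rfl⟩
  have hdet : a * d - b * c = 1 := by
    have := M.2
    rw [Matrix.det_fin_two] at this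
    rw [ha, hb, hc', hd]; exact this
  have hc0 : c ≠ 0 := by rw [hc']; exact hc
  refine ⟨xx ((a - 1) / c) * yy c * xx ((d - 1) / c), ?_⟩
  apply Subtype.ext
  rw [map_mul, map_mul, Matrix.SpecialLinearGroup.coe_mul, Matrix.SpecialLinearGroup.coe_mul,
    π_xx_coe, π_yy_coe, π_xx_coe, Matrix.mul_fin_two, Matrix.mul_fin_two]
  ext i j
  fin_cases i <;> fin_cases j
  · simp only [Fin.zero_eta, Fin.isValue, Matrix.of_apply, Matrix.cons_val', Matrix.cons_val_zero,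
      Matrix.cons_val_fin_one]
    rw [← ha]; field_simp; ring
  · simp only [Fin.zero_eta, Fin.mk_one, Fin.isValue, Matrix.of_apply, Matrix.cons_val',
      Matrix.cons_val_one, Matrix.cons_val_zero, Matrix.cons_val_fin_one]
    rw [← hb]; field_simp; linear_combination hdet
  · simp only [Fin.zero_eta, Fin.mk_one, Fin.isValue, Matrix.of_apply, Matrix.cons_val',
      Matrix.cons_val_one, Matrix.cons_val_zero, Matrix.cons_val_fin_one]
    rw [← hc']; ring
  · simp only [Fin.mk_one, Fin.isValue, Matrix.of_apply, Matrix.cons_val', Matrix.cons_val_one,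
      Matrix.cons_val_fin_one]
    rw [← hd]; field_simp; ring

theorem π_surjective : Function.Surjective (π (K := K)) := by
  intro M
  by_cases hc : (M : Matrix (Fin 2) (Fin 2) K) 1 0 ≠ 0
  · exact surj_aux M hc
  · rw [not_not] at hc
    have hdet := M.2
    rw [Matrix.det_fin_two, hc, mul_zero, sub_zero] at hdet
    have ha : (M : Matrix (Fin 2) (Fin 2) K) 0 0 ≠ 0 := left_ne_zero_of_mul_eq_one hdet
    obtain ⟨g, hg⟩ := surj_aux (π (yy 1) * M) (by
      rw [Matrix.SpecialLinearGroup.coe_mul, π_yy_coe, Matrix.mul_apply, Fin.sum_univ_two]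
      simp [hc, ha])
    refine ⟨(yy 1)⁻¹ * g, ?_⟩
    rw [map_mul, map_inv, hg, inv_mul_cancel_left]

/-! ### normal forms and injectivity (finite field) -/

variable [Finite K]

/-- Bruhat normal forms -/
def NF : Set (G K) :=
  {g | ∃ a t : K, t ≠ 0 ∧ g = xx a * hh t} ∪ {g | ∃ a t b : K, t ≠ 0 ∧ g = xx a * hh t * ww 1 * xx b}

theorem xx_mul_NF (u : K) {g : G K} (hg : g ∈ NF) : xx u * g ∈ NF := by
  rcases hg with ⟨a, t, ht, rfl⟩ | ⟨a, t, b, ht, rfl⟩
  · exact Or.inl ⟨u + a, t, ht, by rw [← xx_add]; group⟩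
  · exact Or.inr ⟨u + a, t, b, ht, by rw [← xx_add]; group⟩

theorem hh_mul_NF {s : K} (hs : s ≠ 0) {g : G K} (hg : g ∈ NF) : hh s * g ∈ NF := by
  rcases hg with ⟨a, t, ht, rfl⟩ | ⟨a, t, b, ht, rfl⟩
  · refine Or.inl ⟨s ^ 2 * a, s * t, mul_ne_zero hs ht, ?_⟩
    rw [← hh_mul hs ht, ← mul_assoc, hh_xx hs]; group
  · refine Or.inr ⟨s ^ 2 * a, s * t, b, mul_ne_zero hs ht, ?_⟩
    rw [← hh_mul hs ht]
    calc hh s * (xx a * hh t * ww 1 * xx b) = (hh s * xx a) * hh t * ww 1 * xx b := by group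
      _ = xx (s ^ 2 * a) * (hh s * hh t) * ww 1 * xx b := by rw [hh_xx hs]; group

theorem hh_neg_one_sq : hh (-1 : K) * hh (-1 : K) = 1 := by
  have h1 : (-1 : K) ≠ 0 := neg_ne_zero.mpr one_ne_zero
  rw [hh_mul h1 h1, neg_mul_neg, one_mul, hh_one]

theorem ww_one_sq : ww (1 : K) * ww 1 = hh (-1) := by
  have e : hh (-1 : K) = (ww (1 : K))⁻¹ * (ww (1 : K))⁻¹ := by
    rw [hh_def, ← ww_inv]
  have h2 := hh_neg_one_sq (K := K)
  calc ww (1 : K) * ww 1 = (ww (1 : K) * ww 1) * (hh (-1 : K) * hh (-1 : K)) := by rw [h2, mul_one]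
    _ = hh (-1) := by rw [e]; group

theorem ww_mul_NF {g : G K} (hg : g ∈ NF) : ww 1 * g ∈ NF := by
  have hm1 : (-1 : K) ≠ 0 := neg_ne_zero.mpr one_ne_zero
  rcases hg with ⟨a, t, ht, rfl⟩ | ⟨a, t, b, ht, rfl⟩
  · refine Or.inr ⟨0, t⁻¹, t⁻¹ ^ 2 * a, inv_ne_zero ht, ?_⟩
    rw [xx_zero, one_mul, xx_hh ht, ← mul_assoc, ww_one_hh ht]
  · -- `ww 1 * xx a * hh t * ww 1 * xx b`
    have e1 : ww 1 * (xx a * hh t * ww 1 * xx b) =
        hh t⁻¹ * (ww 1 * xx (t⁻¹ ^ 2 * a) * ww 1 * xx b) := by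
      rw [xx_hh ht]
      calc ww 1 * (hh t * xx (t⁻¹ ^ 2 * a) * ww 1 * xx b)
          = (ww 1 * hh t) * xx (t⁻¹ ^ 2 * a) * ww 1 * xx b := by group
        _ = hh t⁻¹ * (ww 1 * xx (t⁻¹ ^ 2 * a) * ww 1 * xx b) := by rw [ww_one_hh ht]; group
    rw [e1]
    apply hh_mul_NF (inv_ne_zero ht)
    obtain ⟨a', ha'⟩ : ∃ a', a' = t⁻¹ ^ 2 * a := ⟨_, rfl⟩
    rw [← ha']
    by_cases h0 : a' = 0
    · rw [h0, xx_zero, mul_one, ww_one_sq]
      refine Or.inl ⟨b, -1, hm1, ?_⟩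
      rw [xx_hh hm1]
      congr 2
      rw [inv_neg, inv_one, neg_one_sq, one_mul]
    · -- `ww 1 * xx a' * ww 1 = yy (-a') * hh (-1)`
      have e2 : ww 1 * xx a' * ww 1 = yy (-a') * hh (-1) := by
        have := ww_conj_xx (one_ne_zero (α := K)) a'
        rw [inv_one, one_pow, one_mul] at this
        rw [← this, ← ww_one_sq]; group
      have e3 : yy (-a') = xx (-a'⁻¹) * (hh a'⁻¹ * ww 1) * xx (-a'⁻¹) := by
        have := yy_eq (a'⁻¹)
        rw [inv_inv, ww_eq a'⁻¹] at this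
        exact this
      refine Or.inr ⟨-a'⁻¹, -a'⁻¹, -a'⁻¹ + b, neg_ne_zero.mpr (inv_ne_zero h0), ?_⟩
      rw [e2, e3]
      have e4 : xx (-a'⁻¹) * hh (-1 : K) = hh (-1) * xx (-a'⁻¹) := by
        rw [xx_hh hm1]; congr 2; rw [inv_neg, inv_one, neg_one_sq, one_mul]
      have e5 : ww 1 * hh (-1 : K) = hh (-1) * ww 1 := by
        rw [ww_one_hh hm1, inv_neg, inv_one]
      have e6 : hh a'⁻¹ * hh (-1 : K) = hh (-a'⁻¹) := by
        rw [hh_mul (inv_ne_zero h0) hm1, mul_neg_one]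
      calc xx (-a'⁻¹) * (hh a'⁻¹ * ww 1) * xx (-a'⁻¹) * hh (-1) * xx b
          = xx (-a'⁻¹) * hh a'⁻¹ * ww 1 * (xx (-a'⁻¹) * hh (-1)) * xx b := by group
        _ = xx (-a'⁻¹) * hh a'⁻¹ * (ww 1 * hh (-1)) * (xx (-a'⁻¹) * xx b) := by rw [e4]; group
        _ = xx (-a'⁻¹) * (hh a'⁻¹ * hh (-1)) * ww 1 * (xx (-a'⁻¹) * xx b) := by rw [e5]; group
        _ = xx (-a'⁻¹) * hh (-a'⁻¹) * ww 1 * xx (-a'⁻¹ + b) := by rw [e6, xx_add]

theorem ww_inv_mul_NF {g : G K} (hg : g ∈ NF) : (ww 1)⁻¹ * g ∈ NF := by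
  have hm1 : (-1 : K) ≠ 0 := neg_ne_zero.mpr one_ne_zero
  have e : (ww (1 : K))⁻¹ = hh (-1) * ww 1 := by
    rw [ww_inv, ww_eq (-1)]
  rw [e, mul_assoc]
  exact hh_mul_NF hm1 (ww_mul_NF hg)

theorem yy_mul_NF (u : K) {g : G K} (hg : g ∈ NF) : yy u * g ∈ NF := by
  have e : yy u = ww 1 * xx (-u) * (ww 1)⁻¹ := by
    rw [ww_conj_xx one_ne_zero, inv_one, one_pow, one_mul, neg_neg]
  rw [e, mul_assoc, mul_assoc]
  exact ww_mul_NF (xx_mul_NF _ (ww_inv_mul_NF hg))

theorem one_mem_NF : (1 : G K) ∈ NF :=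
  Or.inl ⟨0, 1, one_ne_zero, by rw [xx_zero, hh_one, one_mul]⟩

theorem all_NF (g : G K) : g ∈ NF := by
  have key : ∀ z : FreeGroup (Bool × K), ∀ s ∈ NF (K := K), PresentedGroup.mk (rels K) z * s ∈ NF := by
    intro z
    induction z using FreeGroup.induction_on with
    | C1 => intro s hs; rw [map_one, one_mul]; exact hs
    | of p =>
      intro s hs
      obtain ⟨b, v⟩ := p
      cases b
      · exact yy_mul_NF v hs
      · exact xx_mul_NF v hs
    | inv_of p _ =>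
      intro s hs
      obtain ⟨b, v⟩ := p
      rw [map_inv]
      cases b
      · have : (PresentedGroup.mk (rels K) (FreeGroup.of (false, v)))⁻¹ = yy (-v) := yy_inv v
        rw [this]; exact yy_mul_NF _ hs
      · have : (PresentedGroup.mk (rels K) (FreeGroup.of (true, v)))⁻¹ = xx (-v) := xx_inv v
        rw [this]; exact xx_mul_NF _ hs
    | mul a b iha ihb =>
      intro s hs
      rw [map_mul, mul_assoc]
      exact iha _ (ihb _ hs)
  induction g using PresentedGroup.induction_on with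
  | H z =>
    have := key z 1 one_mem_NF
    rw [mul_one] at this
    exact this

theorem π_injective : Function.Injective (π (K := K)) := by
  rw [injective_iff_map_eq_one]
  intro g hg
  rcases all_NF g with ⟨a, t, ht, rfl⟩ | ⟨a, t, b, ht, rfl⟩
  · have h1 : ((π (xx a * hh t) : Matrix.SpecialLinearGroup (Fin 2) K) : Matrix (Fin 2) (Fin 2) K) = 1 := by
      rw [hg]; rfl
    rw [map_mul, Matrix.SpecialLinearGroup.coe_mul, π_xx_coe, π_hh_coe ht, Matrix.mul_fin_two] at h1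
    have h00 := congrFun (congrFun h1 0) 0
    have h01 := congrFun (congrFun h1 0) 1
    simp at h00 h01
    have ht1 : t = 1 := h00
    subst ht1
    have ha0 : a = 0 := by simpa using h01
    rw [ha0, xx_zero, hh_one, one_mul]
  · exfalso
    have h1 : ((π (xx a * hh t * ww 1 * xx b) : Matrix.SpecialLinearGroup (Fin 2) K) : Matrix (Fin 2) (Fin 2) K) = 1 := by
      rw [hg]; rfl
    rw [map_mul, map_mul, map_mul, Matrix.SpecialLinearGroup.coe_mul, Matrix.SpecialLinearGroup.coe_mul,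
      Matrix.SpecialLinearGroup.coe_mul, π_xx_coe, π_xx_coe, π_hh_coe ht, π_ww_coe one_ne_zero,
      Matrix.mul_fin_two, Matrix.mul_fin_two, Matrix.mul_fin_two] at h1
    have h10 := congrFun (congrFun h1 1) 0
    simp at h10
    exact ht h10

end Cfsg.Agent.Helper2.St2
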