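import Mathlib
import Cfsg.Agent.Helper2.St2C

set_option autoImplicit false

/-! Universal property of `SL₂(K)` over an ARBITRARY field: a pair of maps `X, Y : K → M` into a
group satisfying additivity, the rank-one Weyl relations and multiplicativity of the torus
elements extends to a homomorphism `SL₂(K) →* M`. -/

namespace Cfsg.Agent.Helper2.St2F

open Cfsg.Agent.Helper2.St2

variable {K : Type*} [Field K] {M : Type*} [Group M] (θ : G K →* M)

/-- `θ` respects multiplicativity of the torus elements -/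
def Kills : Prop := ∀ t u : K, t ≠ 0 → u ≠ 0 → θ (hh t) * θ (hh u) = θ (hh (t * u))

/-- images of Bruhat normal forms -/
def NFθ : Set M :=
  {s | ∃ a t : K, t ≠ 0 ∧ s = θ (xx a * hh t)} ∪
    {s | ∃ a t b : K, t ≠ 0 ∧ s = θ (xx a * hh t * ww 1 * xx b)}

variable {θ}

theorem xx_mul_NF (u : K) {s : M} (hs : s ∈ NFθ θ) : θ (xx u) * s ∈ NFθ θ := by
  rcases hs with ⟨a, t, ht, rfl⟩ | ⟨a, t, b, ht, rfl⟩
  · refine Or.inl ⟨u + a, t, ht, ?_⟩
    rw [← map_mul]; congr 1; rw [← xx_add]; group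
  · refine Or.inr ⟨u + a, t, b, ht, ?_⟩
    rw [← map_mul]; congr 1; rw [← xx_add]; group

theorem hh_mul_NF (hθ : Kills θ) {s₀ : K} (hs0 : s₀ ≠ 0) {s : M} (hs : s ∈ NFθ θ) :
    θ (hh s₀) * s ∈ NFθ θ := by
  rcases hs with ⟨a, t, ht, rfl⟩ | ⟨a, t, b, ht, rfl⟩
  · refine Or.inl ⟨s₀ ^ 2 * a, s₀ * t, mul_ne_zero hs0 ht, ?_⟩
    calc θ (hh s₀) * θ (xx a * hh t) = θ (xx (s₀ ^ 2 * a)) * (θ (hh s₀) * θ (hh t)) := by
          rw [← map_mul, ← map_mul, ← map_mul]; congr 1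
          rw [← mul_assoc, hh_xx hs0]; group
      _ = θ (xx (s₀ ^ 2 * a) * hh (s₀ * t)) := by rw [hθ _ _ hs0 ht, map_mul]
  · refine Or.inr ⟨s₀ ^ 2 * a, s₀ * t, b, mul_ne_zero hs0 ht, ?_⟩
    calc θ (hh s₀) * θ (xx a * hh t * ww 1 * xx b)
        = θ (xx (s₀ ^ 2 * a)) * (θ (hh s₀) * θ (hh t)) * θ (ww 1 * xx b) := by
          rw [← map_mul, ← map_mul, ← map_mul, ← map_mul]; congr 1
          calc hh s₀ * (xx a * hh t * ww 1 * xx b) = (hh s₀ * xx a) * hh t * ww 1 * xx b := by group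
            _ = xx (s₀ ^ 2 * a) * (hh s₀ * hh t) * (ww 1 * xx b) := by
                rw [hh_xx hs0]; simp only [mul_assoc]
      _ = θ (xx (s₀ ^ 2 * a) * hh (s₀ * t) * ww 1 * xx b) := by
          rw [hθ _ _ hs0 ht, ← map_mul, ← map_mul]; congr 1

theorem hh_neg_one_sq (hθ : Kills θ) : θ (hh (-1 : K)) * θ (hh (-1 : K)) = 1 := by
  have h1 : (-1 : K) ≠ 0 := neg_ne_zero.mpr one_ne_zero
  rw [hθ _ _ h1 h1, neg_mul_neg, one_mul, hh_one, map_one]

theorem ww_one_sq (hθ : Kills θ) : θ (ww (1 : K) * ww 1) = θ (hh (-1)) := by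
  have e : hh (-1 : K) = (ww (1 : K))⁻¹ * (ww (1 : K))⁻¹ := by
    rw [hh_def, ← ww_inv]
  have e2 : ww (1 : K) * ww 1 = (hh (-1 : K))⁻¹ := by rw [e, mul_inv_rev, inv_inv]
  rw [e2, map_inv]
  exact inv_eq_of_mul_eq_one_right (hh_neg_one_sq hθ)

theorem ww_mul_NF (hθ : Kills θ) {s : M} (hs : s ∈ NFθ θ) : θ (ww 1) * s ∈ NFθ θ := by
  have hm1 : (-1 : K) ≠ 0 := neg_ne_zero.mpr one_ne_zero
  rcases hs with ⟨a, t, ht, rfl⟩ | ⟨a, t, b, ht, rfl⟩
  · refine Or.inr ⟨0, t⁻¹, t⁻¹ ^ 2 * a, inv_ne_zero ht, ?_⟩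
    rw [← map_mul]; congr 1
    rw [xx_zero, one_mul, xx_hh ht, ← mul_assoc, ww_one_hh ht]
  · have e1 : ww 1 * (xx a * hh t * ww 1 * xx b) =
        hh t⁻¹ * (ww 1 * xx (t⁻¹ ^ 2 * a) * ww 1 * xx b) := by
      rw [xx_hh ht]
      calc ww 1 * (hh t * xx (t⁻¹ ^ 2 * a) * ww 1 * xx b)
          = (ww 1 * hh t) * xx (t⁻¹ ^ 2 * a) * ww 1 * xx b := by group
        _ = hh t⁻¹ * (ww 1 * xx (t⁻¹ ^ 2 * a) * ww 1 * xx b) := by rw [ww_one_hh ht]; group
    rw [← map_mul, e1, map_mul]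
    apply hh_mul_NF hθ (inv_ne_zero ht)
    obtain ⟨a', ha'⟩ : ∃ a', a' = t⁻¹ ^ 2 * a := ⟨_, rfl⟩
    rw [← ha']
    by_cases h0 : a' = 0
    · rw [h0, xx_zero, mul_one, map_mul, ww_one_sq hθ, ← map_mul]
      refine Or.inl ⟨b, -1, hm1, ?_⟩
      congr 1
      rw [xx_hh hm1]
      congr 2
      rw [inv_neg, inv_one, neg_one_sq, one_mul]
    · have e2 : ww 1 * xx a' * ww 1 = yy (-a') * (ww 1 * ww 1) := by
        have := ww_conj_xx (one_ne_zero (α := K)) a'
        rw [inv_one, one_pow, one_mul] at this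
        rw [← this]; group
      have e3 : yy (-a') = xx (-a'⁻¹) * (hh a'⁻¹ * ww 1) * xx (-a'⁻¹) := by
        have := yy_eq (a'⁻¹)
        rw [inv_inv, ww_eq a'⁻¹] at this
        exact this
      have e4 : xx (-a'⁻¹) * hh (-1 : K) = hh (-1) * xx (-a'⁻¹) := by
        rw [xx_hh hm1]; congr 2; rw [inv_neg, inv_one, neg_one_sq, one_mul]
      have e5 : ww 1 * hh (-1 : K) = hh (-1) * ww 1 := by
        rw [ww_one_hh hm1, inv_neg, inv_one]
      have e6 : θ (hh a'⁻¹) * θ (hh (-1 : K)) = θ (hh (-a'⁻¹)) := by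
        rw [hθ _ _ (inv_ne_zero h0) hm1, mul_neg_one]
      refine Or.inr ⟨-a'⁻¹, -a'⁻¹, -a'⁻¹ + b, neg_ne_zero.mpr (inv_ne_zero h0), ?_⟩
      have e7 : yy (-a') * hh (-1) * xx b =
          xx (-a'⁻¹) * (hh a'⁻¹ * hh (-1)) * (ww 1 * xx (-a'⁻¹ + b)) := by
        rw [e3]
        calc xx (-a'⁻¹) * (hh a'⁻¹ * ww 1) * xx (-a'⁻¹) * hh (-1) * xx b
            = xx (-a'⁻¹) * hh a'⁻¹ * ww 1 * (xx (-a'⁻¹) * hh (-1)) * xx b := by group
          _ = xx (-a'⁻¹) * hh a'⁻¹ * (ww 1 * hh (-1)) * (xx (-a'⁻¹) * xx b) := by rw [e4]; group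
          _ = xx (-a'⁻¹) * (hh a'⁻¹ * hh (-1)) * ww 1 * (xx (-a'⁻¹) * xx b) := by rw [e5]; group
          _ = xx (-a'⁻¹) * (hh a'⁻¹ * hh (-1)) * (ww 1 * xx (-a'⁻¹ + b)) := by rw [xx_add]; group
      calc θ (ww 1 * xx a' * ww 1 * xx b) = θ (yy (-a')) * θ (ww 1 * ww 1) * θ (xx b) := by
            rw [e2, map_mul, map_mul]
        _ = θ (yy (-a') * hh (-1) * xx b) := by rw [ww_one_sq hθ, ← map_mul, ← map_mul]
        _ = θ (xx (-a'⁻¹)) * (θ (hh a'⁻¹) * θ (hh (-1))) * θ (ww 1 * xx (-a'⁻¹ + b)) := by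
            rw [e7, map_mul, map_mul, map_mul]
        _ = θ (xx (-a'⁻¹) * hh (-a'⁻¹) * ww 1 * xx (-a'⁻¹ + b)) := by
            rw [e6, ← map_mul, ← map_mul]; congr 1

theorem ww_inv_mul_NF (hθ : Kills θ) {s : M} (hs : s ∈ NFθ θ) : θ ((ww 1)⁻¹) * s ∈ NFθ θ := by
  have hm1 : (-1 : K) ≠ 0 := neg_ne_zero.mpr one_ne_zero
  have e : (ww (1 : K))⁻¹ = hh (-1) * ww 1 := by
    rw [ww_inv, ww_eq (-1)]
  rw [e, map_mul, mul_assoc]
  exact hh_mul_NF hθ hm1 (ww_mul_NF hθ hs)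

theorem yy_mul_NF (hθ : Kills θ) (u : K) {s : M} (hs : s ∈ NFθ θ) : θ (yy u) * s ∈ NFθ θ := by
  have e : yy u = ww 1 * xx (-u) * (ww 1)⁻¹ := by
    rw [ww_conj_xx one_ne_zero, inv_one, one_pow, one_mul, neg_neg]
  rw [e, map_mul, map_mul, mul_assoc, mul_assoc]
  exact ww_mul_NF hθ (xx_mul_NF _ (ww_inv_mul_NF hθ hs))

theorem one_mem_NF : (1 : M) ∈ NFθ θ :=
  Or.inl ⟨0, 1, one_ne_zero, by rw [xx_zero, hh_one, one_mul, map_one]⟩

theorem all_NF (hθ : Kills θ) (g : G K) : θ g ∈ NFθ θ := by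
  have key : ∀ z : FreeGroup (Bool × K), ∀ s ∈ NFθ θ,
      θ (PresentedGroup.mk (rels K) z) * s ∈ NFθ θ := by
    intro z
    induction z using FreeGroup.induction_on with
    | C1 => intro s hs; rw [map_one, map_one, one_mul]; exact hs
    | of p =>
      intro s hs
      obtain ⟨b, v⟩ := p
      cases b
      · exact yy_mul_NF hθ v hs
      · exact xx_mul_NF v hs
    | inv_of p _ =>
      intro s hs
      obtain ⟨b, v⟩ := p
      rw [map_inv]
      cases b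
      · have : (PresentedGroup.mk (rels K) (FreeGroup.of (false, v)))⁻¹ = yy (-v) := yy_inv v
        rw [this]; exact yy_mul_NF hθ _ hs
      · have : (PresentedGroup.mk (rels K) (FreeGroup.of (true, v)))⁻¹ = xx (-v) := xx_inv v
        rw [this]; exact xx_mul_NF _ hs
    | mul a b iha ihb =>
      intro s hs
      rw [map_mul, map_mul, mul_assoc]
      exact iha _ (ihb _ hs)
  induction g using PresentedGroup.induction_on with
  | H z =>
    have := key z 1 one_mem_NF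
    rw [mul_one] at this
    exact this

theorem kills_π : Kills (π (K := K)) := by
  intro t u ht hu
  apply Subtype.ext
  rw [Matrix.SpecialLinearGroup.coe_mul, π_hh_coe ht, π_hh_coe hu, π_hh_coe (mul_ne_zero ht hu),
    Matrix.mul_fin_two]
  apply mk2_eq <;> (try field_simp) <;> (try ring)

/-- the kernel of `π` dies under every `θ` respecting torus multiplicativity -/
theorem ker_le (hθ : Kills θ) {g : G K} (hg : π g = 1) : θ g = 1 := by
  have hΘ : Kills (θ.prod (π (K := K))) := by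
    intro t u ht hu
    rw [MonoidHom.prod_apply, MonoidHom.prod_apply, MonoidHom.prod_apply, Prod.mk_mul_mk,
      hθ t u ht hu, kills_π t u ht hu]
  rcases all_NF hΘ g with ⟨a, t, ht, h⟩ | ⟨a, t, b, ht, h⟩
  · rw [MonoidHom.prod_apply, MonoidHom.prod_apply, Prod.mk.injEq] at h
    obtain ⟨h1, h2⟩ := h
    rw [hg] at h2
    have h3 : ((π (xx a * hh t) : Matrix.SpecialLinearGroup (Fin 2) K) :
        Matrix (Fin 2) (Fin 2) K) = 1 := by
      rw [← h2]; rfl
    rw [map_mul, Matrix.SpecialLinearGroup.coe_mul, π_xx_coe, π_hh_coe ht, Matrix.mul_fin_two] at h3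
    have h00 := congrFun (congrFun h3 0) 0
    have h01 := congrFun (congrFun h3 0) 1
    simp at h00 h01
    have ht1 : t = 1 := h00
    subst ht1
    have ha0 : a = 0 := by simpa using h01
    rw [h1, ha0, xx_zero, hh_one, one_mul, map_one]
  · exfalso
    rw [MonoidHom.prod_apply, MonoidHom.prod_apply, Prod.mk.injEq] at h
    obtain ⟨-, h2⟩ := h
    rw [hg] at h2
    have h3 : ((π (xx a * hh t * ww 1 * xx b) : Matrix.SpecialLinearGroup (Fin 2) K) :
        Matrix (Fin 2) (Fin 2) K) = 1 := by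
      rw [← h2]; rfl
    rw [map_mul, map_mul, map_mul, Matrix.SpecialLinearGroup.coe_mul,
      Matrix.SpecialLinearGroup.coe_mul, Matrix.SpecialLinearGroup.coe_mul, π_xx_coe, π_xx_coe,
      π_hh_coe ht, π_ww_coe one_ne_zero, Matrix.mul_fin_two, Matrix.mul_fin_two,
      Matrix.mul_fin_two] at h3
    have h10 := congrFun (congrFun h3 1) 0
    simp at h10
    exact ht h10

/-- factorisation through `SL₂(K)` -/
theorem exists_hom_of_kills (hθ : Kills θ) :
    ∃ φ : Matrix.SpecialLinearGroup (Fin 2) K →* M, ∀ g : G K, φ (π g) = θ g := by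
  have hker : (π (K := K)).ker ≤ θ.ker := fun g hg => by
    rw [MonoidHom.mem_ker] at hg ⊢
    exact ker_le hθ hg
  refine ⟨(π (K := K)).liftOfRightInverse (Function.surjInv π_surjective)
    (Function.rightInverse_surjInv π_surjective) ⟨θ, hker⟩, fun g => ?_⟩
  exact MonoidHom.liftOfRightInverse_comp_apply _ _ _ ⟨θ, hker⟩ g

/-- upper unitriangular element of `SL₂` -/
def upperSL (t : K) : Matrix.SpecialLinearGroup (Fin 2) K := gen (true, t)
/-- lower unitriangular element of `SL₂` -/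
def lowerSL (t : K) : Matrix.SpecialLinearGroup (Fin 2) K := gen (false, t)

theorem upperSL_coe (t : K) :
    ((upperSL t : Matrix.SpecialLinearGroup (Fin 2) K) : Matrix (Fin 2) (Fin 2) K) = !![1, t; 0, 1] := rfl
theorem lowerSL_coe (t : K) :
    ((lowerSL t : Matrix.SpecialLinearGroup (Fin 2) K) : Matrix (Fin 2) (Fin 2) K) = !![1, 0; t, 1] := rfl

/-- **Universal property of `SL₂(K)`, `K` any field.** -/
theorem SL2_lift (X Y : K → M)
    (hX : ∀ t u, X t * X u = X (t + u)) (hY : ∀ t u, Y t * Y u = Y (t + u))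
    (hWX : ∀ t u, t ≠ 0 → (X t * Y (-t⁻¹) * X t) * X u * (X t * Y (-t⁻¹) * X t)⁻¹ =
      Y (-(t⁻¹ ^ 2 * u)))
    (hWY : ∀ t u, t ≠ 0 → (Y t * X (-t⁻¹) * Y t) * Y u * (Y t * X (-t⁻¹) * Y t)⁻¹ =
      X (-(t⁻¹ ^ 2 * u)))
    (hH : ∀ t u, t ≠ 0 → u ≠ 0 →
      ((X t * Y (-t⁻¹) * X t) * (X (-1) * Y (-(-1 : K)⁻¹) * X (-1))) *
        ((X u * Y (-u⁻¹) * X u) * (X (-1) * Y (-(-1 : K)⁻¹) * X (-1))) =
      (X (t * u) * Y (-(t * u)⁻¹) * X (t * u)) * (X (-1) * Y (-(-1 : K)⁻¹) * X (-1))) :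
    ∃ φ : Matrix.SpecialLinearGroup (Fin 2) K →* M,
      (∀ t, φ (upperSL t) = X t) ∧ (∀ t, φ (lowerSL t) = Y t) := by
  let f : Bool × K → M := fun p => if p.1 then X p.2 else Y p.2
  have hrels : ∀ r ∈ rels K, FreeGroup.lift f r = 1 := by
    rintro r (⟨b, t, u, rfl⟩ | ⟨b, t, u, ht, rfl⟩)
    · simp only [map_mul, map_inv, FreeGroup.lift_apply_of, f]
      cases b
      · simp only [Bool.false_eq_true, if_false]
        rw [hY, mul_inv_cancel]
      · simp only [if_true]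
        rw [hX, mul_inv_cancel]
    · simp only [map_mul, map_inv, FreeGroup.lift_apply_of, f]
      cases b
      · simp only [Bool.false_eq_true, if_false, Bool.not_false, if_true]
        rw [hWY t u ht, mul_inv_cancel]
      · simp only [Bool.not_true, Bool.false_eq_true, if_false, if_true]
        rw [hWX t u ht, mul_inv_cancel]
  let θ : G K →* M := PresentedGroup.toGroup hrels
  have θx : ∀ t, θ (xx t) = X t := fun t => PresentedGroup.toGroup.of hrels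
  have θy : ∀ t, θ (yy t) = Y t := fun t => PresentedGroup.toGroup.of hrels
  have θh : ∀ t, θ (hh t) =
      (X t * Y (-t⁻¹) * X t) * (X (-1) * Y (-(-1 : K)⁻¹) * X (-1)) := by
    intro t
    rw [hh_def, ww_def, ww_def, map_mul, map_mul, map_mul, map_mul, map_mul, θx, θy, θx, θy]
  have hθ : Kills θ := by
    intro t u ht hu
    rw [θh, θh, θh]
    exact hH t u ht hu
  obtain ⟨φ, hφ⟩ := exists_hom_of_kills hθ
  refine ⟨φ, fun t => ?_, fun t => ?_⟩
  · rw [← θx, ← hφ, π_xx]; rfl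
  · rw [← θy, ← hφ, π_yy]; rfl


/-- **Universal property of `SL₂(K)`**, in a form convenient for Chevalley groups: `n = n(1)`
swaps the two root subgroups, `n(t) = H(t) n`, and `H` is a multiplicative family acting on the
root subgroups by `t^{±2}`. -/
theorem SL2_lift' (X Y H : K → M)
    (hX : ∀ t u, X t * X u = X (t + u)) (hY : ∀ t u, Y t * Y u = Y (t + u))
    (hnX : ∀ u, (X 1 * Y (-1) * X 1) * X u * (X 1 * Y (-1) * X 1)⁻¹ = Y (-u))
    (hnY : ∀ u, (X 1 * Y (-1) * X 1) * Y u * (X 1 * Y (-1) * X 1)⁻¹ = X (-u))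
    (hHn : ∀ t, t ≠ 0 → X t * Y (-t⁻¹) * X t = H t * (X 1 * Y (-1) * X 1))
    (hHX : ∀ t u, t ≠ 0 → H t * X u * (H t)⁻¹ = X (t ^ 2 * u))
    (hHY : ∀ t u, t ≠ 0 → H t * Y u * (H t)⁻¹ = Y (t⁻¹ ^ 2 * u))
    (hHH : ∀ t u, t ≠ 0 → u ≠ 0 → H t * H u = H (t * u)) :
    ∃ φ : Matrix.SpecialLinearGroup (Fin 2) K →* M,
      (∀ t, φ (upperSL t) = X t) ∧ (∀ t, φ (lowerSL t) = Y t) := by
  obtain ⟨n, hn⟩ : ∃ n, n = X 1 * Y (-1) * X 1 := ⟨_, rfl⟩
  rw [← hn] at hnX hnY hHn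
  have X0 : X 0 = 1 := by
    have h := hX 0 0
    rw [add_zero] at h
    have h' : X 0 * X 0 = X 0 * 1 := by rw [mul_one]; exact h
    exact mul_left_cancel h'
  have Y0 : Y 0 = 1 := by
    have h := hY 0 0
    rw [add_zero] at h
    have h' : Y 0 * Y 0 = Y 0 * 1 := by rw [mul_one]; exact h
    exact mul_left_cancel h'
  have hNX : ∀ t u, t ≠ 0 → (H t * n) * X u * (H t * n)⁻¹ = Y (-(t⁻¹ ^ 2 * u)) := by
    intro t u ht
    calc (H t * n) * X u * (H t * n)⁻¹ = H t * (n * X u * n⁻¹) * (H t)⁻¹ := by group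
      _ = Y (-(t⁻¹ ^ 2 * u)) := by rw [hnX, hHY _ _ ht, mul_neg]
  have hNY : ∀ t u, t ≠ 0 → (H t * n) * Y u * (H t * n)⁻¹ = X (-(t ^ 2 * u)) := by
    intro t u ht
    calc (H t * n) * Y u * (H t * n)⁻¹ = H t * (n * Y u * n⁻¹) * (H t)⁻¹ := by group
      _ = X (-(t ^ 2 * u)) := by rw [hnY, hHX _ _ ht, mul_neg]
  have hN' : ∀ t, t ≠ 0 → Y t * X (-t⁻¹) * Y t = H (-t⁻¹) * n := by
    intro t ht
    have hs : -t⁻¹ ≠ 0 := neg_ne_zero.mpr (inv_ne_zero ht)
    obtain ⟨s, hs'⟩ : ∃ s, s = -t⁻¹ := ⟨_, rfl⟩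
    have ht' : t = -s⁻¹ := by rw [hs', inv_neg, inv_inv, neg_neg]
    rw [← hs'] at hs ⊢
    have e := hHn s hs
    have e1 := hNX s s hs
    have e2 := hNY s (-s⁻¹) hs
    have a1 : -(s⁻¹ ^ 2 * s) = t := by rw [ht']; field_simp
    have a2 : -(s ^ 2 * -s⁻¹) = s := by field_simp
    rw [a1] at e1
    rw [a2, ← ht'] at e2
    calc Y t * X s * Y t
        = ((H s * n) * X s * (H s * n)⁻¹) * ((H s * n) * Y t * (H s * n)⁻¹) *
            ((H s * n) * X s * (H s * n)⁻¹) := by rw [e1, e2]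
      _ = (H s * n) * (X s * Y t * X s) * (H s * n)⁻¹ := by group
      _ = H s * n := by
          have e' : X s * Y t * X s = H s * n := by rw [ht']; exact e
          rw [e']; group
  have hn1 : X (-1) * Y (-(-1 : K)⁻¹) * X (-1) = n⁻¹ := by
    have e1 : (-(-1 : K)⁻¹) = 1 := by rw [inv_neg_one, neg_neg]
    rw [e1, hn]
    apply eq_inv_of_mul_eq_one_left
    calc X (-1) * Y 1 * X (-1) * (X 1 * Y (-1) * X 1)
        = X (-1) * (Y 1 * ((X (-1) * X 1) * Y (-1))) * X 1 := by group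
      _ = 1 := by
          rw [hX, neg_add_cancel, X0, one_mul, hY, add_neg_cancel, Y0, mul_one, hX,
            neg_add_cancel, X0]
  apply SL2_lift X Y hX hY
  · intro t u ht
    rw [hHn t ht]
    exact hNX t u ht
  · intro t u ht
    rw [hN' t ht, hNY (-t⁻¹) u (neg_ne_zero.mpr (inv_ne_zero ht)), neg_sq]
  · intro t u ht hu
    rw [hn1, hHn t ht, hHn u hu, hHn (t * u) (mul_ne_zero ht hu), mul_inv_cancel_right,
      mul_inv_cancel_right, mul_inv_cancel_right]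
    exact hHH t u ht hu

/-- conjugation by `diag(1, -1)` on `SL₂` -/
def flipSL : Matrix.SpecialLinearGroup (Fin 2) K →* Matrix.SpecialLinearGroup (Fin 2) K where
  toFun g := ⟨!![g.1 0 0, -g.1 0 1; -g.1 1 0, g.1 1 1], by
    have h := g.2
    rw [Matrix.det_fin_two] at h
    rw [Matrix.det_fin_two_of]
    linear_combination h⟩
  map_one' := by
    apply Subtype.ext
    ext i j
    fin_cases i <;> fin_cases j <;> simp
  map_mul' g h := by
    apply Subtype.ext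
    change !![(g * h).1 0 0, -(g * h).1 0 1; -(g * h).1 1 0, (g * h).1 1 1] =
      !![g.1 0 0, -g.1 0 1; -g.1 1 0, g.1 1 1] * !![h.1 0 0, -h.1 0 1; -h.1 1 0, h.1 1 1]
    have e : (g * h).1 = g.1 * h.1 := rfl
    rw [e, Matrix.mul_fin_two]
    ext i j
    fin_cases i <;> fin_cases j <;>
      simp [Matrix.mul_apply, Fin.sum_univ_two] <;> ring

theorem flipSL_upper (t : K) : flipSL (upperSL t) = upperSL (-t) := by
  apply Subtype.ext
  change !![(upperSL t).1 0 0, -(upperSL t).1 0 1; -(upperSL t).1 1 0, (upperSL t).1 1 1] = _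
  rw [upperSL_coe, upperSL_coe]
  simp

theorem flipSL_lower (t : K) : flipSL (lowerSL t) = lowerSL (-t) := by
  apply Subtype.ext
  change !![(lowerSL t).1 0 0, -(lowerSL t).1 0 1; -(lowerSL t).1 1 0, (lowerSL t).1 1 1] = _
  rw [lowerSL_coe, lowerSL_coe]
  simp

/-- `SL₂(K)` is generated by the upper and lower unitriangular elements -/
theorem closure_upper_lower :
    Subgroup.closure (Set.range (upperSL (K := K)) ∪ Set.range (lowerSL (K := K))) = ⊤ := by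
  rw [eq_top_iff]
  intro g _
  obtain ⟨z, rfl⟩ := π_surjective g
  have hz : z ∈ Subgroup.closure (Set.range (PresentedGroup.of (rels := rels K))) := by
    rw [PresentedGroup.closure_range_of]; trivial
  have h2 : π z ∈ (Subgroup.closure (Set.range (PresentedGroup.of (rels := rels K)))).map π :=
    Subgroup.mem_map_of_mem _ hz
  rw [MonoidHom.map_closure] at h2
  refine Subgroup.closure_mono ?_ h2
  rintro _ ⟨_, ⟨⟨b, t⟩, rfl⟩, rfl⟩
  cases b
  · right; exact ⟨t, (π_yy t).symm⟩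
  · left; exact ⟨t, (π_xx t).symm⟩

theorem upperSL_of_coe {g : Matrix.SpecialLinearGroup (Fin 2) K} {t : K}
    (h : (g : Matrix (Fin 2) (Fin 2) K) = !![1, t; 0, 1]) : g = upperSL t :=
  Subtype.ext h

theorem lowerSL_of_coe {g : Matrix.SpecialLinearGroup (Fin 2) K} {t : K}
    (h : (g : Matrix (Fin 2) (Fin 2) K) = !![1, 0; t, 1]) : g = lowerSL t :=
  Subtype.ext h

end Cfsg.Agent.Helper2.St2F
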