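import Mathlib
import Cfsg.Agent.Helper2.St2C
import Cfsg.Agent.Helper2.Transvec

set_option autoImplicit false

/-! Steinberg presentation of `SL_n`, `n ≥ 3`: relations derived in the presented group. -/

namespace Cfsg.Agent.Helper2.Stn

variable (K : Type*) [Field K] (n : ℕ)

/-- index pairs -/
abbrev Idx : Type := {ij : Fin n × Fin n // ij.1 ≠ ij.2}

/-- The relation set of the Steinberg presentation. -/
def rels : Set (FreeGroup (Idx n × K)) :=
  {g : FreeGroup (Idx n × K) | ∃ (a : Idx n) (t u : K),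
      g = FreeGroup.of (a, t) * FreeGroup.of (a, u) * (FreeGroup.of (a, t + u))⁻¹} ∪
    {g | ∃ (a b : Idx n) (t u : K), a.1.1 ≠ b.1.2 ∧ a.1.2 ≠ b.1.1 ∧
      g = FreeGroup.of (a, t) * FreeGroup.of (b, u) * (FreeGroup.of (a, t))⁻¹ * (FreeGroup.of (b, u))⁻¹} ∪
    {g | ∃ (a b : Idx n) (h : a.1.1 ≠ b.1.2) (t u : K), a.1.2 = b.1.1 ∧
      g = FreeGroup.of (a, t) * FreeGroup.of (b, u) * (FreeGroup.of (a, t))⁻¹ * (FreeGroup.of (b, u))⁻¹ *
        (FreeGroup.of (⟨(a.1.1, b.1.2), h⟩, t * u))⁻¹}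

/-- The presented group. -/
abbrev G : Type _ := PresentedGroup (rels K n)

variable {K n}

/-- root elements, total in the indices -/
noncomputable def xg (i j : Fin n) (t : K) : G K n :=
  if h : i ≠ j then PresentedGroup.of (⟨(i, j), h⟩, t) else 1

theorem xg_self (i : Fin n) (t : K) : xg i i t = 1 := by
  unfold xg
  rw [dif_neg (by simp)]

theorem xg_of_ne {i j : Fin n} (h : i ≠ j) (t : K) :
    xg i j t = PresentedGroup.of (⟨(i, j), h⟩, t) := dif_pos h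

theorem xg_add (i j : Fin n) (t u : K) : xg i j t * xg i j u = xg i j (t + u) := by
  by_cases h : i = j
  · subst h; simp [xg_self]
  · rw [xg_of_ne h, xg_of_ne h, xg_of_ne h]
    have h1 : PresentedGroup.mk (rels K n)
        (FreeGroup.of ((⟨(i, j), h⟩ : Idx n), t) * FreeGroup.of ((⟨(i, j), h⟩ : Idx n), u) *
          (FreeGroup.of ((⟨(i, j), h⟩ : Idx n), t + u))⁻¹) = 1 :=
      PresentedGroup.one_of_mem (Or.inl (Or.inl ⟨⟨(i, j), h⟩, t, u, rfl⟩))
    rw [map_mul, map_mul, map_inv, mul_inv_eq_one] at h1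
    exact h1

theorem xg_zero (i j : Fin n) : xg i j (0 : K) = 1 := by
  apply mul_left_cancel (a := xg i j (0 : K))
  rw [xg_add, add_zero, mul_one]

theorem xg_inv (i j : Fin n) (t : K) : (xg i j t)⁻¹ = xg i j (-t) :=
  inv_eq_of_mul_eq_one_right (by rw [xg_add, add_neg_cancel, xg_zero])

theorem xg_add_assoc (i j : Fin n) (t u : K) (g : G K n) :
    xg i j t * (xg i j u * g) = xg i j (t + u) * g := by
  rw [← mul_assoc, xg_add]

theorem xg_comm {i j k l : Fin n} (hil : i ≠ l) (hjk : j ≠ k) (t u : K) :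
    xg i j t * xg k l u = xg k l u * xg i j t := by
  by_cases hij : i = j
  · subst hij; simp [xg_self]
  by_cases hkl : k = l
  · subst hkl; simp [xg_self]
  rw [xg_of_ne hij, xg_of_ne hkl]
  have h1 : PresentedGroup.mk (rels K n)
      (FreeGroup.of ((⟨(i, j), hij⟩ : Idx n), t) * FreeGroup.of ((⟨(k, l), hkl⟩ : Idx n), u) *
        (FreeGroup.of ((⟨(i, j), hij⟩ : Idx n), t))⁻¹ * (FreeGroup.of ((⟨(k, l), hkl⟩ : Idx n), u))⁻¹) = 1 :=
    PresentedGroup.one_of_mem (Or.inl (Or.inr ⟨⟨(i, j), hij⟩, ⟨(k, l), hkl⟩, t, u, hil, hjk, rfl⟩))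
  simp only [map_mul, map_inv] at h1
  rw [mul_inv_eq_one] at h1
  exact mul_inv_eq_iff_eq_mul.mp h1

theorem xg_R3 {i j l : Fin n} (hij : i ≠ j) (hjl : j ≠ l) (hil : i ≠ l) (t u : K) :
    xg i j t * xg j l u * (xg i j t)⁻¹ * (xg j l u)⁻¹ = xg i l (t * u) := by
  rw [xg_of_ne hij, xg_of_ne hjl, xg_of_ne hil]
  have h1 : PresentedGroup.mk (rels K n)
      (FreeGroup.of ((⟨(i, j), hij⟩ : Idx n), t) * FreeGroup.of ((⟨(j, l), hjl⟩ : Idx n), u) *
        (FreeGroup.of ((⟨(i, j), hij⟩ : Idx n), t))⁻¹ * (FreeGroup.of ((⟨(j, l), hjl⟩ : Idx n), u))⁻¹ *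
        (FreeGroup.of ((⟨(i, l), hil⟩ : Idx n), t * u))⁻¹) = 1 :=
    PresentedGroup.one_of_mem (Or.inr ⟨⟨(i, j), hij⟩, ⟨(j, l), hjl⟩, hil, t, u, rfl, rfl⟩)
  simp only [map_mul, map_inv] at h1
  rw [mul_inv_eq_one] at h1
  exact h1

/-! ### conjugation forms -/

theorem cj1 {i j l : Fin n} (hij : i ≠ j) (hjl : j ≠ l) (hil : i ≠ l) (t u : K) :
    xg i j t * xg j l u * (xg i j t)⁻¹ = xg i l (t * u) * xg j l u :=
  mul_inv_eq_iff_eq_mul.mp (xg_R3 hij hjl hil t u)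

theorem cj2 {i j l : Fin n} (hij : i ≠ j) (hjl : j ≠ l) (hil : i ≠ l) (t u : K) :
    xg j l u * xg i j t * (xg j l u)⁻¹ = xg i l (-(t * u)) * xg i j t := by
  have h := xg_R3 hij hjl hil t u
  calc xg j l u * xg i j t * (xg j l u)⁻¹
      = (xg i j t * xg j l u * (xg i j t)⁻¹ * (xg j l u)⁻¹)⁻¹ * xg i j t := by group
    _ = xg i l (-(t * u)) * xg i j t := by rw [h, xg_inv]

theorem cj0 {i j k l : Fin n} (hil : i ≠ l) (hjk : j ≠ k) (t u : K) :
    xg i j t * xg k l u * (xg i j t)⁻¹ = xg k l u := by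
  rw [xg_comm hil hjk, mul_inv_cancel_right]

/-- unified conjugation formula for non-opposite roots -/
theorem xg_conj_xg {i j k l : Fin n} (hij : i ≠ j) (hkl : k ≠ l) (hne : ¬ (i = l ∧ j = k)) (t u : K) :
    xg i j t * xg k l u * (xg i j t)⁻¹ =
      xg i l (if j = k then t * u else 0) * xg k j (if i = l then -(u * t) else 0) * xg k l u := by
  by_cases hjk : j = k
  · subst hjk
    have hil : i ≠ l := fun h => hne ⟨h, rfl⟩
    rw [if_pos rfl, xg_self, mul_one, cj1 hij hkl hil]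
  · rw [if_neg hjk, xg_zero, one_mul]
    by_cases hil : i = l
    · subst hil
      rw [if_pos rfl, cj2 hkl hij (Ne.symm hjk)]
    · rw [if_neg hil, xg_zero, one_mul, cj0 hil hjk]

/-! ### Weyl and torus elements -/

/-- Weyl element -/
noncomputable def wg (i j : Fin n) (t : K) : G K n := xg i j t * xg j i (-t⁻¹) * xg i j t

/-- torus element -/
noncomputable def hg (i j : Fin n) (t : K) : G K n := wg i j t * wg i j (-1)

theorem wg_def (i j : Fin n) (t : K) : wg i j t = xg i j t * xg j i (-t⁻¹) * xg i j t := rfl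

theorem hg_def (i j : Fin n) (t : K) : hg i j t = wg i j t * wg i j (-1) := rfl

theorem wg_inv (i j : Fin n) (t : K) : (wg i j t)⁻¹ = wg i j (-t) := by
  apply inv_eq_of_mul_eq_one_right
  rw [wg_def, wg_def, inv_neg, neg_neg]
  simp only [mul_assoc, xg_add_assoc, xg_add, add_neg_cancel, neg_add_cancel, xg_zero, one_mul]

theorem conj3 {H : Type*} [Group H] (a b c x : H) :
    (a * b * c) * x * (a * b * c)⁻¹ = a * (b * (c * x * c⁻¹) * b⁻¹) * a⁻¹ := by group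

theorem conj_mul {H : Type*} [Group H] (a x y : H) :
    a * (x * y) * a⁻¹ = (a * x * a⁻¹) * (a * y * a⁻¹) := by group

theorem conj_mul3 {H : Type*} [Group H] (a x y z : H) :
    a * (x * y * z) * a⁻¹ = (a * x * a⁻¹) * (a * y * a⁻¹) * (a * z * a⁻¹) := by group

theorem conj_comm4 {H : Type*} [Group H] (a x y : H) :
    a * (x * y * x⁻¹ * y⁻¹) * a⁻¹ =
      (a * x * a⁻¹) * (a * y * a⁻¹) * (a * x * a⁻¹)⁻¹ * (a * y * a⁻¹)⁻¹ := by group

/-- (C1) -/
theorem wg_conj_jl {i j l : Fin n} (hij : i ≠ j) (hjl : j ≠ l) (hil : i ≠ l) {t : K} (ht : t ≠ 0)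
    (u : K) : wg i j t * xg j l u * (wg i j t)⁻¹ = xg i l (t * u) := by
  rw [wg_def, conj3, cj1 hij hjl hil, conj_mul (xg j i (-t⁻¹)), cj1 hij.symm hil hjl, cj0 hjl hij]
  have e : -t⁻¹ * (t * u) = -u := by field_simp
  rw [e, xg_comm hjl hil.symm, mul_assoc (xg i l (t * u)), xg_add, neg_add_cancel, xg_zero, mul_one,
    cj0 hil hij.symm]

/-- (C3) -/
theorem wg_conj_ki {i j k : Fin n} (hij : i ≠ j) (hki : k ≠ i) (hkj : k ≠ j) {t : K} (ht : t ≠ 0)
    (u : K) : wg i j t * xg k i u * (wg i j t)⁻¹ = xg k j (-(t * u)) := by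
  rw [wg_def, conj3, cj2 hki hij hkj, conj_mul (xg j i (-t⁻¹)), cj2 hkj hij.symm hki, cj0 hij.symm hki.symm]
  have e : -(-(u * t) * -t⁻¹) = -u := by field_simp
  rw [e, xg_comm hkj hki.symm, mul_assoc (xg k j (-(u * t))), xg_add, neg_add_cancel, xg_zero, mul_one,
    cj0 hij hkj.symm]
  congr 1; ring

/-- (C2) -/
theorem wg_conj_il {i j l : Fin n} (hij : i ≠ j) (hjl : j ≠ l) (hil : i ≠ l) {t : K} (ht : t ≠ 0)
    (u : K) : wg i j t * xg i l u * (wg i j t)⁻¹ = xg j l (-(t⁻¹ * u)) := by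
  have h := wg_conj_jl hij hjl hil (neg_ne_zero.mpr ht) (-(t⁻¹ * u))
  have e : -t * -(t⁻¹ * u) = u := by field_simp
  rw [e, ← wg_inv, inv_inv] at h
  rw [← h]; group

/-- (C4) -/
theorem wg_conj_kj {i j k : Fin n} (hij : i ≠ j) (hki : k ≠ i) (hkj : k ≠ j) {t : K} (ht : t ≠ 0)
    (u : K) : wg i j t * xg k j u * (wg i j t)⁻¹ = xg k i (t⁻¹ * u) := by
  have h := wg_conj_ki hij hki hkj (neg_ne_zero.mpr ht) (t⁻¹ * u)
  have e : -(-t * (t⁻¹ * u)) = u := by field_simp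
  rw [e, ← wg_inv, inv_inv] at h
  rw [← h]; group

/-- (C6) -/
theorem wg_conj_disj {i j k l : Fin n} (hki : k ≠ i) (hkj : k ≠ j) (hli : l ≠ i) (hlj : l ≠ j)
    (t u : K) : wg i j t * xg k l u * (wg i j t)⁻¹ = xg k l u := by
  rw [wg_def, conj3, cj0 hli.symm hkj.symm, cj0 hlj.symm hki.symm, cj0 hli.symm hkj.symm]

/-- (C5): the rank-one relation, obtained through a third index. -/
theorem wg_conj_ij {i j l : Fin n} (hij : i ≠ j) (hjl : j ≠ l) (hil : i ≠ l) {t : K} (ht : t ≠ 0)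
    (u : K) : wg i j t * xg i j u * (wg i j t)⁻¹ = xg j i (-(t⁻¹ ^ 2 * u)) := by
  have h1 : xg i j u = xg i l u * xg l j 1 * (xg i l u)⁻¹ * (xg l j 1)⁻¹ := by
    rw [xg_R3 hil hjl.symm hij, mul_one]
  rw [h1, conj_comm4, wg_conj_il hij hjl hil ht, wg_conj_kj hij hil.symm hjl.symm ht,
    xg_R3 hjl hil.symm hij.symm]
  congr 1; ring

theorem exists_third (h3 : 3 ≤ n) (i j : Fin n) : ∃ l : Fin n, l ≠ i ∧ l ≠ j :=
  Cfsg.Agent.Helper2.exists_ne_ne_of_three_le_card (by rw [Fintype.card_fin]; exact h3) i j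

/-! ### the rank-one homomorphisms -/

/-- images of the rank-one generators -/
noncomputable def psiGen (i j : Fin n) : Bool × K → G K n :=
  fun p => if p.1 then xg i j p.2 else xg j i p.2

theorem psi_rels (h3 : 3 ≤ n) {i j : Fin n} (hij : i ≠ j) :
    ∀ r ∈ St2.rels K, FreeGroup.lift (psiGen (K := K) i j) r = 1 := by
  obtain ⟨l, hli, hlj⟩ := exists_third h3 i j
  rintro r (⟨b, t, u, rfl⟩ | ⟨b, t, u, ht, rfl⟩)
  · simp only [map_mul, map_inv, FreeGroup.lift_apply_of, psiGen]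
    cases b
    · simp only [Bool.false_eq_true, if_false]
      rw [xg_add, mul_inv_cancel]
    · simp only [if_true]
      rw [xg_add, mul_inv_cancel]
  · simp only [map_mul, map_inv, FreeGroup.lift_apply_of, psiGen]
    cases b
    · simp only [Bool.false_eq_true, if_false, Bool.not_false, if_true]
      rw [← wg_def, wg_conj_ij hij.symm hli.symm hlj.symm ht, mul_inv_cancel]
    · simp only [Bool.not_true, Bool.false_eq_true, if_false, if_true]
      rw [← wg_def, wg_conj_ij hij hlj.symm hli.symm ht, mul_inv_cancel]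

/-- the rank-one homomorphism for the pair `(i, j)` -/
noncomputable def psi (h3 : 3 ≤ n) {i j : Fin n} (hij : i ≠ j) : St2.G K →* G K n :=
  PresentedGroup.toGroup (psi_rels h3 hij)

theorem psi_xx (h3 : 3 ≤ n) {i j : Fin n} (hij : i ≠ j) (t : K) :
    psi h3 hij (St2.xx t) = xg i j t :=
  PresentedGroup.toGroup.of (psi_rels h3 hij)

theorem psi_yy (h3 : 3 ≤ n) {i j : Fin n} (hij : i ≠ j) (t : K) :
    psi h3 hij (St2.yy t) = xg j i t :=
  PresentedGroup.toGroup.of (psi_rels h3 hij)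

theorem psi_ww (h3 : 3 ≤ n) {i j : Fin n} (hij : i ≠ j) (t : K) :
    psi h3 hij (St2.ww t) = wg i j t := by
  rw [St2.ww_def, map_mul, map_mul, psi_xx, psi_yy, wg_def]

theorem psi_hh (h3 : 3 ≤ n) {i j : Fin n} (hij : i ≠ j) (t : K) :
    psi h3 hij (St2.hh t) = hg i j t := by
  rw [St2.hh_def, map_mul, psi_ww, psi_ww, hg_def]

/-! ### transferred rank-one facts -/

theorem wg_conj_ji (h3 : 3 ≤ n) {i j : Fin n} (hij : i ≠ j) {t : K} (ht : t ≠ 0) (v : K) :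
    wg i j t * xg j i v * (wg i j t)⁻¹ = xg i j (-(t ^ 2 * v)) := by
  have h := congrArg (psi h3 hij) (St2.ww_conj_yy ht v)
  simpa only [map_mul, map_inv, psi_ww, psi_yy, psi_xx] using h

theorem hg_one (h3 : 3 ≤ n) {i j : Fin n} (hij : i ≠ j) : hg i j (1 : K) = 1 := by
  have h := congrArg (psi h3 hij) (St2.hh_one (K := K))
  simpa only [map_one, psi_hh] using h

theorem hg_mul [Finite K] (h3 : 3 ≤ n) {i j : Fin n} (hij : i ≠ j) {t u : K} (ht : t ≠ 0)
    (hu : u ≠ 0) : hg i j t * hg i j u = hg i j (t * u) := by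
  have h := congrArg (psi h3 hij) (St2.hh_mul ht hu)
  simpa only [map_mul, psi_hh] using h

theorem hg_inv [Finite K] (h3 : 3 ≤ n) {i j : Fin n} (hij : i ≠ j) {t : K} (ht : t ≠ 0) :
    (hg i j t)⁻¹ = hg i j t⁻¹ := by
  apply inv_eq_of_mul_eq_one_right
  rw [hg_mul h3 hij ht (inv_ne_zero ht), mul_inv_cancel₀ ht, hg_one h3 hij]

theorem wg_one_hg (h3 : 3 ≤ n) {i j : Fin n} (hij : i ≠ j) {t : K} (ht : t ≠ 0) :
    wg i j 1 * hg i j t = hg i j t⁻¹ * wg i j 1 := by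
  have h := congrArg (psi h3 hij) (St2.ww_one_hh ht)
  simpa only [map_mul, psi_hh, psi_ww] using h

theorem wg_one_sq [Finite K] (h3 : 3 ≤ n) {i j : Fin n} (hij : i ≠ j) :
    wg i j (1 : K) * wg i j 1 = hg i j (-1) := by
  have h := congrArg (psi h3 hij) (St2.ww_one_sq (K := K))
  simpa only [map_mul, psi_hh, psi_ww] using h

theorem wg_one_inv [Finite K] (h3 : 3 ≤ n) {i j : Fin n} (hij : i ≠ j) :
    (wg i j (1 : K))⁻¹ = wg i j 1 * wg i j 1 * wg i j 1 := by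
  have h1 : (-1 : K) ≠ 0 := neg_ne_zero.mpr one_ne_zero
  have h2 : hg i j (-1 : K) * hg i j (-1) = 1 := by
    rw [hg_mul h3 hij h1 h1, neg_mul_neg, one_mul, hg_one h3 hij]
  apply inv_eq_of_mul_eq_one_right
  calc wg i j (1 : K) * (wg i j 1 * wg i j 1 * wg i j 1)
      = (wg i j (1 : K) * wg i j 1) * (wg i j 1 * wg i j 1) := by group
    _ = 1 := by rw [wg_one_sq h3 hij, h2]

/-- the lower root element as a Weyl conjugate of the upper one -/
theorem xg_ji_eq (h3 : 3 ≤ n) {i j : Fin n} (hij : i ≠ j) (t : K) :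
    xg j i t = wg i j 1 * xg i j (-t) * (wg i j 1)⁻¹ := by
  have h := congrArg (psi h3 hij) (St2.ww_conj_xx (one_ne_zero (α := K)) (-t))
  simp only [map_mul, map_inv, psi_ww, psi_xx, psi_yy] at h
  rw [h]
  congr 1
  simp

/-! ### the monomial action of Weyl elements -/

theorem wg_conj_xg (h3 : 3 ≤ n) {a b : Fin n} (hab : a ≠ b) {t : K} (ht : t ≠ 0) (i j : Fin n) :
    ∃ c : K, c ≠ 0 ∧ ∀ u : K, wg a b t * xg i j u * (wg a b t)⁻¹ =
      xg (Equiv.swap a b i) (Equiv.swap a b j) (c * u) := by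
  by_cases hij : i = j
  · subst hij
    exact ⟨1, one_ne_zero, fun u => by simp [xg_self]⟩
  by_cases hia : i = a
  · subst hia
    by_cases hjb : j = b
    · subst hjb
      obtain ⟨l, hli, hlj⟩ := exists_third h3 i j
      refine ⟨-(t⁻¹ ^ 2), neg_ne_zero.mpr (pow_ne_zero _ (inv_ne_zero ht)), fun u => ?_⟩
      rw [Equiv.swap_apply_left, Equiv.swap_apply_right, wg_conj_ij hab hlj.symm hli.symm ht]
      congr 1; ring
    · refine ⟨-t⁻¹, neg_ne_zero.mpr (inv_ne_zero ht), fun u => ?_⟩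
      rw [Equiv.swap_apply_left, Equiv.swap_apply_of_ne_of_ne (Ne.symm hij) hjb,
        wg_conj_il hab (Ne.symm hjb) hij ht]
      congr 1; ring
  by_cases hib : i = b
  · subst hib
    by_cases hja : j = a
    · subst hja
      refine ⟨-(t ^ 2), neg_ne_zero.mpr (pow_ne_zero _ ht), fun u => ?_⟩
      rw [Equiv.swap_apply_left, Equiv.swap_apply_right, wg_conj_ji h3 hab ht]
      congr 1; ring
    · refine ⟨t, ht, fun u => ?_⟩
      rw [Equiv.swap_apply_right, Equiv.swap_apply_of_ne_of_ne hja (Ne.symm hij),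
        wg_conj_jl hab hij (Ne.symm hja) ht]
  by_cases hja : j = a
  · subst hja
    refine ⟨-t, neg_ne_zero.mpr ht, fun u => ?_⟩
    rw [Equiv.swap_apply_left, Equiv.swap_apply_of_ne_of_ne hij hib,
      wg_conj_ki hab hij hib ht]
    congr 1; ring
  by_cases hjb : j = b
  · subst hjb
    refine ⟨t⁻¹, inv_ne_zero ht, fun u => ?_⟩
    rw [Equiv.swap_apply_right, Equiv.swap_apply_of_ne_of_ne hia hij,
      wg_conj_kj hab hia hij ht]
  · refine ⟨1, one_ne_zero, fun u => ?_⟩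
    rw [Equiv.swap_apply_of_ne_of_ne hia hib, Equiv.swap_apply_of_ne_of_ne hja hjb,
      wg_conj_disj hia hib hja hjb, one_mul]

/-- torus elements scale root elements -/
theorem hg_conj_xg (h3 : 3 ≤ n) {a b : Fin n} (hab : a ≠ b) {t : K} (ht : t ≠ 0) (i j : Fin n) :
    ∃ c : K, c ≠ 0 ∧ ∀ u : K, hg a b t * xg i j u * (hg a b t)⁻¹ = xg i j (c * u) := by
  obtain ⟨c1, hc1, h1⟩ := wg_conj_xg h3 hab (neg_ne_zero.mpr (one_ne_zero (α := K))) i j
  obtain ⟨c2, hc2, h2⟩ := wg_conj_xg h3 hab ht (Equiv.swap a b i) (Equiv.swap a b j)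
  refine ⟨c2 * c1, mul_ne_zero hc2 hc1, fun u => ?_⟩
  have e : hg a b t * xg i j u * (hg a b t)⁻¹ =
      wg a b t * (wg a b (-1) * xg i j u * (wg a b (-1))⁻¹) * (wg a b t)⁻¹ := by
    rw [hg_def]; group
  rw [e, h1, h2, Equiv.swap_apply_self, Equiv.swap_apply_self, mul_assoc]

/-! ### Weyl elements conjugating Weyl elements; the braid relation -/

theorem wg_conj_wg_1 {i j l : Fin n} (hij : i ≠ j) (hjl : j ≠ l) (hil : i ≠ l) {s t : K}
    (hs : s ≠ 0) (ht : t ≠ 0) : wg i j s * wg j l t * (wg i j s)⁻¹ = wg i l (s * t) := by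
  rw [wg_def j l, conj_mul3, wg_conj_jl hij hjl hil hs, wg_conj_kj hij hil.symm hjl.symm hs, wg_def]
  have e1 : s⁻¹ * -t⁻¹ = -(s * t)⁻¹ := by field_simp
  rw [e1]

theorem wg_conj_wg_2 {i j k : Fin n} (hij : i ≠ j) (hki : k ≠ i) (hkj : k ≠ j) {s t : K}
    (hs : s ≠ 0) (ht : t ≠ 0) : wg i j s * wg k i t * (wg i j s)⁻¹ = wg k j (-(s * t)) := by
  rw [wg_def k i, conj_mul3, wg_conj_ki hij hki hkj hs, wg_conj_il hij hkj.symm hki.symm hs, wg_def]
  have e1 : -(s⁻¹ * -t⁻¹) = -(-(s * t))⁻¹ := by field_simp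
  rw [e1]

theorem braid {m m' m'' : Fin n} (h1 : m ≠ m') (h2 : m ≠ m'') (h3 : m' ≠ m'') :
    wg m m' (1 : K) * wg m' m'' 1 * wg m m' 1 = wg m' m'' 1 * wg m m' 1 * wg m' m'' 1 := by
  have k1 := wg_conj_wg_1 h1 h3 h2 (one_ne_zero (α := K)) (one_ne_zero (α := K))
  have k2 := wg_conj_wg_2 h3 h1 h2 (neg_ne_zero.mpr (one_ne_zero (α := K))) (one_ne_zero (α := K))
  have e : -(-1 * 1) = (1 : K) * 1 := by ring
  rw [e, ← k1, ← wg_inv, inv_inv] at k2
  calc wg m m' (1 : K) * wg m' m'' 1 * wg m m' 1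
      = wg m' m'' 1 * ((wg m' m'' 1)⁻¹ * wg m m' 1 * wg m' m'' 1) * wg m m' 1 := by group
    _ = wg m' m'' 1 * (wg m m' 1 * wg m' m'' 1 * (wg m m' 1)⁻¹) * wg m m' 1 := by rw [k2]
    _ = wg m' m'' 1 * wg m m' 1 * wg m' m'' 1 := by group

end Cfsg.Agent.Helper2.Stn
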