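import Mathlib
import Cfsg.Agent.Helper2.StnA

set_option autoImplicit false

/-! Steinberg presentation of `SL_n`: subgroups generated by root subgroups, parabolic pieces. -/

namespace Cfsg.Agent.Helper2.Stn

variable (K : Type*) [Field K] {n : ℕ}

/-- subgroup generated by the root subgroups indexed by `R` -/
def U (R : Fin n → Fin n → Prop) : Subgroup (G K n) :=
  Subgroup.closure {g | ∃ i j, ∃ t : K, R i j ∧ g = xg i j t}

/-- the torus subgroup -/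
def Tm (a b : Fin n) : Subgroup (G K n) :=
  Subgroup.closure {g | ∃ t : K, t ≠ 0 ∧ g = hg a b t}

/-- pairs inside `I` -/
def RL (I : Finset (Fin n)) : Fin n → Fin n → Prop := fun i j => i ∈ I ∧ j ∈ I

/-- pairs inside `I` with second index different from `m` -/
def RP (I : Finset (Fin n)) (m : Fin n) : Fin n → Fin n → Prop := fun i j => i ∈ I ∧ j ∈ I ∧ j ≠ m

/-- pairs `(m, j)` with `j ∈ I`, `j ∉ E` -/
def RR (I : Finset (Fin n)) (m : Fin n) (E : Finset (Fin n)) : Fin n → Fin n → Prop :=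
  fun i j => i = m ∧ j ∈ I ∧ j ∉ E

/-- the line stabilizer -/
def Qm (I : Finset (Fin n)) (m m' : Fin n) : Subgroup (G K n) := U K (RP I m) ⊔ Tm K m m'

/-- the two double cosets -/
def S (I : Finset (Fin n)) (m m' : Fin n) : Set (G K n) :=
  {g | g ∈ Qm K I m m' ∨ ∃ p ∈ U K (RP I m), ∃ q ∈ Qm K I m m', g = p * wg m m' 1 * q}

variable {K}

theorem xg_mem_U {R : Fin n → Fin n → Prop} {i j : Fin n} (h : R i j) (t : K) :
    xg i j t ∈ U K R :=
  Subgroup.subset_closure ⟨i, j, t, h, rfl⟩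

theorem U_le {R : Fin n → Fin n → Prop} {H : Subgroup (G K n)}
    (h : ∀ i j, R i j → ∀ t : K, xg i j t ∈ H) : U K R ≤ H := by
  unfold U
  rw [Subgroup.closure_le]
  rintro _ ⟨i, j, t, hR, rfl⟩
  exact h i j hR t

theorem U_mono {R R' : Fin n → Fin n → Prop} (h : ∀ i j, R i j → R' i j) : U K R ≤ U K R' :=
  U_le fun i j hR t => xg_mem_U (h i j hR) t

theorem U_eq_bot {R : Fin n → Fin n → Prop} (h : ∀ i j, R i j → i = j) : U K R = ⊥ := by
  rw [eq_bot_iff]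
  apply U_le
  intro i j hR t
  rw [h i j hR, xg_self]
  exact one_mem _

theorem wg_mem_U {R : Fin n → Fin n → Prop} {a b : Fin n} (hab : R a b) (hba : R b a) (t : K) :
    wg a b t ∈ U K R :=
  mul_mem (mul_mem (xg_mem_U hab _) (xg_mem_U hba _)) (xg_mem_U hab _)

theorem hg_mem_U {R : Fin n → Fin n → Prop} {a b : Fin n} (hab : R a b) (hba : R b a) (t : K) :
    hg a b t ∈ U K R :=
  mul_mem (wg_mem_U hab hba _) (wg_mem_U hab hba _)

/-- conjugation as a homomorphism -/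
def cj {H : Type*} [Group H] (g : H) : H →* H := (MulAut.conj g).toMonoidHom

theorem cj_apply {H : Type*} [Group H] (g x : H) : cj g x = g * x * g⁻¹ := rfl

theorem mem_comap_cj {H : Type*} [Group H] {A : Subgroup H} {g x : H} :
    x ∈ A.comap (cj g) ↔ g * x * g⁻¹ ∈ A := Iff.rfl

theorem conj_U_mem {R : Fin n → Fin n → Prop} {H : Subgroup (G K n)} (g : G K n)
    (h : ∀ i j, R i j → ∀ t : K, g * xg i j t * g⁻¹ ∈ H) : ∀ x ∈ U K R, g * x * g⁻¹ ∈ H := by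
  intro x hx
  have hle : U K R ≤ H.comap (cj g) := U_le fun i j hR t => h i j hR t
  exact hle hx

theorem U_le_normalizer {R₁ R₂ : Fin n → Fin n → Prop}
    (h : ∀ i j, R₁ i j → ∀ k l, R₂ k l → ∀ t u : K,
      xg i j t * xg k l u * (xg i j t)⁻¹ ∈ U K R₂) :
    U K R₁ ≤ Subgroup.normalizer (U K R₂ : Set (G K n)) := by
  apply U_le
  intro i j hR t
  rw [Subgroup.mem_normalizer_iff]
  intro x
  constructor
  · intro hx
    exact conj_U_mem _ (fun k l hR2 u => h i j hR k l hR2 t u) x hx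
  · intro hx
    have h2 := conj_U_mem (xg i j (-t)) (fun k l hR2 u => h i j hR k l hR2 (-t) u) _ hx
    rw [← xg_inv] at h2
    have e : (xg i j t)⁻¹ * (xg i j t * x * (xg i j t)⁻¹) * (xg i j t)⁻¹⁻¹ = x := by group
    rw [e] at h2
    exact h2

/-- splitting off one commuting root subgroup -/
theorem U_split {R : Fin n → Fin n → Prop} (i₀ j₀ : Fin n)
    (hcomm : ∀ i j, R i j → ∀ t c : K, xg i j t * xg i₀ j₀ c = xg i₀ j₀ c * xg i j t) :
    ∀ g ∈ U K (fun i j => R i j ∨ (i = i₀ ∧ j = j₀)),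
      ∃ c : K, ∃ g₀ ∈ U K R, g = xg i₀ j₀ c * g₀ := by
  have hc : ∀ g₀ ∈ U K R, ∀ c : K, g₀ * xg i₀ j₀ c = xg i₀ j₀ c * g₀ := by
    intro g₀ hg₀ c
    have hle : U K R ≤ Subgroup.centralizer {xg i₀ j₀ c} := by
      apply U_le
      intro i j hR t
      rw [Subgroup.mem_centralizer_iff]
      intro h hh
      rw [Set.mem_singleton_iff] at hh
      rw [hh]
      exact (hcomm i j hR t c).symm
    have := Subgroup.mem_centralizer_iff.mp (hle hg₀) _ rfl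
    exact this.symm
  intro g hg
  have hg' : g ∈ Subgroup.closure {g | ∃ i j, ∃ t : K, (R i j ∨ (i = i₀ ∧ j = j₀)) ∧ g = xg i j t} := hg
  clear hg
  induction hg' using Subgroup.closure_induction with
  | mem y hy =>
    obtain ⟨i, j, t, hR | ⟨rfl, rfl⟩, rfl⟩ := hy
    · exact ⟨0, xg i j t, xg_mem_U hR t, by rw [xg_zero, one_mul]⟩
    · exact ⟨t, 1, one_mem _, by rw [mul_one]⟩
  | one => exact ⟨0, 1, one_mem _, by rw [xg_zero, one_mul]⟩
  | mul y z _ _ hy hz =>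
    obtain ⟨c, y₀, hy₀, rfl⟩ := hy
    obtain ⟨c', z₀, hz₀, rfl⟩ := hz
    refine ⟨c + c', y₀ * z₀, mul_mem hy₀ hz₀, ?_⟩
    calc xg i₀ j₀ c * y₀ * (xg i₀ j₀ c' * z₀) = xg i₀ j₀ c * (y₀ * xg i₀ j₀ c') * z₀ := by group
      _ = xg i₀ j₀ c * (xg i₀ j₀ c' * y₀) * z₀ := by rw [hc y₀ hy₀]
      _ = (xg i₀ j₀ c * xg i₀ j₀ c') * (y₀ * z₀) := by group
      _ = xg i₀ j₀ (c + c') * (y₀ * z₀) := by rw [xg_add]
  | inv y _ hy =>
    obtain ⟨c, y₀, hy₀, rfl⟩ := hy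
    refine ⟨-c, y₀⁻¹, inv_mem hy₀, ?_⟩
    rw [mul_inv_rev, xg_inv, hc _ (inv_mem hy₀)]

/-! ### the torus -/

theorem hg_mem_T {a b : Fin n} {t : K} (ht : t ≠ 0) : hg a b t ∈ Tm K a b :=
  Subgroup.subset_closure ⟨t, ht, rfl⟩

theorem mem_T [Finite K] (h3 : 3 ≤ n) {a b : Fin n} (hab : a ≠ b) {g : G K n} (hg' : g ∈ Tm K a b) :
    ∃ t : K, t ≠ 0 ∧ g = hg a b t := by
  have hg'' : g ∈ Subgroup.closure {g | ∃ t : K, t ≠ 0 ∧ g = hg a b t} := hg'
  clear hg'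
  induction hg'' using Subgroup.closure_induction with
  | mem y hy => exact hy
  | one => exact ⟨1, one_ne_zero, (hg_one h3 hab).symm⟩
  | mul y z _ _ hy hz =>
    obtain ⟨t, ht, rfl⟩ := hy
    obtain ⟨u, hu, rfl⟩ := hz
    exact ⟨t * u, mul_ne_zero ht hu, hg_mul h3 hab ht hu⟩
  | inv y _ hy =>
    obtain ⟨t, ht, rfl⟩ := hy
    exact ⟨t⁻¹, inv_ne_zero ht, hg_inv h3 hab ht⟩

theorem hg_conj_xg' (h3 : 3 ≤ n) {a b : Fin n} (hab : a ≠ b) {t : K} (ht : t ≠ 0) (i j : Fin n) :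
    ∃ c : K, c ≠ 0 ∧ ∀ u : K, (hg a b t)⁻¹ * xg i j u * hg a b t = xg i j (c * u) := by
  obtain ⟨c, hc, h⟩ := hg_conj_xg h3 hab ht i j
  refine ⟨c⁻¹, inv_ne_zero hc, fun u => ?_⟩
  have h1 := h (c⁻¹ * u)
  rw [mul_inv_cancel_left₀ hc] at h1
  rw [← h1]; group

theorem T_le_normalizer (h3 : 3 ≤ n) {a b : Fin n} (hab : a ≠ b) (R : Fin n → Fin n → Prop) :
    Tm K a b ≤ Subgroup.normalizer (U K R : Set (G K n)) := by
  unfold Tm
  rw [Subgroup.closure_le]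
  rintro _ ⟨t, ht, rfl⟩
  rw [SetLike.mem_coe, Subgroup.mem_normalizer_iff]
  intro x
  constructor
  · intro hx
    refine conj_U_mem _ (fun i j hR u => ?_) x hx
    obtain ⟨c, -, h⟩ := hg_conj_xg h3 hab ht i j
    rw [h]; exact xg_mem_U hR _
  · intro hx
    have h2 : (hg a b t)⁻¹ * (hg a b t * x * (hg a b t)⁻¹) * (hg a b t)⁻¹⁻¹ ∈ U K R := by
      refine conj_U_mem _ (fun i j hR u => ?_) _ hx
      obtain ⟨c, -, h⟩ := hg_conj_xg' h3 hab ht i j
      rw [inv_inv, h]; exact xg_mem_U hR _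
    have e : (hg a b t)⁻¹ * (hg a b t * x * (hg a b t)⁻¹) * (hg a b t)⁻¹⁻¹ = x := by group
    rw [e] at h2
    exact h2

/-! ### decompositions -/

theorem L_le_P (I : Finset (Fin n)) (m : Fin n) : U K (RL (I.erase m)) ≤ U K (RP I m) := by
  apply U_mono
  rintro i j ⟨hi, hj⟩
  rw [Finset.mem_erase] at hi hj
  exact ⟨hi.2, hj.2, hj.1⟩

theorem P_le_Q (I : Finset (Fin n)) (m m' : Fin n) : U K (RP I m) ≤ Qm K I m m' := le_sup_left

theorem T_le_Q (I : Finset (Fin n)) (m m' : Fin n) : Tm K m m' ≤ Qm K I m m' := le_sup_right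

theorem Q_decomp [Finite K] (h3 : 3 ≤ n) (I : Finset (Fin n)) {m m' : Fin n} (h1 : m ≠ m')
    {q : G K n} (hq : q ∈ Qm K I m m') :
    ∃ p ∈ U K (RP I m), ∃ t : K, t ≠ 0 ∧ q = p * hg m m' t := by
  have h : q ∈ ((U K (RP I m) ⊔ Tm K m m' : Subgroup (G K n)) : Set (G K n)) := hq
  rw [Subgroup.coe_mul_of_right_le_normalizer_left _ _ (T_le_normalizer h3 h1 _)] at h
  obtain ⟨p, hp, h', hh', rfl⟩ := Set.mem_mul.mp h
  obtain ⟨t, ht, rfl⟩ := mem_T h3 h1 hh'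
  exact ⟨p, hp, t, ht, rfl⟩

theorem L_le_normalizer_R (I : Finset (Fin n)) (m : Fin n) :
    U K (RL (I.erase m)) ≤ Subgroup.normalizer (U K (RR I m {m}) : Set (G K n)) := by
  apply U_le_normalizer
  rintro i j ⟨hi, hj⟩ k l ⟨rfl, hl, hlm⟩ t u
  rw [Finset.mem_erase] at hi hj
  rw [Finset.mem_singleton] at hlm
  by_cases hij : i = j
  · rw [hij, xg_self, one_mul, inv_one, mul_one]
    exact xg_mem_U ⟨rfl, hl, by rwa [Finset.mem_singleton]⟩ _
  · rw [xg_conj_xg hij (Ne.symm hlm) (fun h => hj.1 h.2), if_neg hj.1, xg_zero, one_mul]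
    exact mul_mem (xg_mem_U ⟨rfl, hj.2, by rw [Finset.mem_singleton]; exact hj.1⟩ _)
      (xg_mem_U ⟨rfl, hl, by rwa [Finset.mem_singleton]⟩ _)

theorem P_decomp (I : Finset (Fin n)) (m : Fin n) {p : G K n} (hp : p ∈ U K (RP I m)) :
    ∃ l ∈ U K (RL (I.erase m)), ∃ a ∈ U K (RR I m {m}), p = l * a := by
  have hle : U K (RP I m) ≤ U K (RL (I.erase m)) ⊔ U K (RR I m {m}) := by
    apply U_le
    rintro i j ⟨hi, hj, hjm⟩ t
    by_cases him : i = m
    · exact Subgroup.mem_sup_right (xg_mem_U ⟨him, hj, by rw [Finset.mem_singleton]; exact hjm⟩ t)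
    · exact Subgroup.mem_sup_left (xg_mem_U ⟨Finset.mem_erase.mpr ⟨him, hi⟩,
        Finset.mem_erase.mpr ⟨hjm, hj⟩⟩ t)
  have h : p ∈ ((U K (RL (I.erase m)) ⊔ U K (RR I m {m}) : Subgroup (G K n)) : Set (G K n)) := hle hp
  rw [Subgroup.coe_mul_of_left_le_normalizer_right _ _ (L_le_normalizer_R I m)] at h
  obtain ⟨l, hl, a, ha, rfl⟩ := Set.mem_mul.mp h
  exact ⟨l, hl, a, ha, rfl⟩

theorem R_split (I : Finset (Fin n)) {m j₀ : Fin n} {E : Finset (Fin n)} (hmE : m ∈ E)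
    (hj₀ : m ≠ j₀) {a : G K n} (ha : a ∈ U K (RR I m E)) :
    ∃ c : K, ∃ a₀ ∈ U K (RR I m (insert j₀ E)), a = xg m j₀ c * a₀ := by
  have hle : U K (RR I m E) ≤
      U K (fun i j => RR I m (insert j₀ E) i j ∨ (i = m ∧ j = j₀)) := by
    apply U_mono
    rintro i j ⟨hi, hj, hjE⟩
    by_cases hjj : j = j₀
    · exact Or.inr ⟨hi, hjj⟩
    · exact Or.inl ⟨hi, hj, by rw [Finset.mem_insert]; push Not; exact ⟨hjj, hjE⟩⟩
  refine U_split m j₀ ?_ a (hle ha)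
  rintro i j ⟨rfl, -, hjE⟩ t c
  have hjm : j ≠ i := fun h => hjE (by rw [h]; exact Finset.mem_insert_of_mem hmE)
  exact xg_comm hj₀ hjm t c

/-! ### the set `S` -/

theorem one_mem_S (I : Finset (Fin n)) (m m' : Fin n) : (1 : G K n) ∈ S K I m m' :=
  Or.inl (one_mem _)

theorem S_left_P {I : Finset (Fin n)} {m m' : Fin n} {p s : G K n} (hp : p ∈ U K (RP I m))
    (hs : s ∈ S K I m m') : p * s ∈ S K I m m' := by
  rcases hs with hs | ⟨p', hp', q, hq, rfl⟩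
  · exact Or.inl (mul_mem (P_le_Q I m m' hp) hs)
  · exact Or.inr ⟨p * p', mul_mem hp hp', q, hq, by group⟩

theorem S_right_Q {I : Finset (Fin n)} {m m' : Fin n} {s q : G K n} (hs : s ∈ S K I m m')
    (hq : q ∈ Qm K I m m') : s * q ∈ S K I m m' := by
  rcases hs with hs | ⟨p', hp', q', hq', rfl⟩
  · exact Or.inl (mul_mem hs hq)
  · exact Or.inr ⟨p', hp', q' * q, mul_mem hq' hq, by group⟩

theorem psi_mem_S [Finite K] (h3 : 3 ≤ n) (I : Finset (Fin n)) {m m' : Fin n} (hm : m ∈ I)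
    (hm' : m' ∈ I) (h1 : m ≠ m') (z : St2.G K) : psi h3 h1 z ∈ S K I m m' := by
  have hx : ∀ a : K, xg m m' a ∈ U K (RP I m) := fun a => xg_mem_U ⟨hm, hm', h1.symm⟩ a
  have hh : ∀ t : K, t ≠ 0 → hg m m' t ∈ Qm K I m m' :=
    fun t ht => T_le_Q I m m' (hg_mem_T ht)
  rcases St2.all_NF z with ⟨a, t, ht, rfl⟩ | ⟨a, t, b, ht, rfl⟩
  · left
    rw [map_mul, psi_xx, psi_hh]
    exact mul_mem (P_le_Q I m m' (hx a)) (hh t ht)
  · right
    refine ⟨xg m m' a, hx a, hg m m' t⁻¹ * xg m m' b,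
      mul_mem (hh _ (inv_ne_zero ht)) (P_le_Q I m m' (hx b)), ?_⟩
    rw [map_mul, map_mul, map_mul, psi_xx, psi_xx, psi_hh, psi_ww]
    have e := wg_one_hg h3 h1 (inv_ne_zero ht)
    rw [inv_inv] at e
    calc xg m m' a * hg m m' t * wg m m' 1 * xg m m' b
        = xg m m' a * (hg m m' t * wg m m' 1) * xg m m' b := by group
      _ = xg m m' a * (wg m m' 1 * hg m m' t⁻¹) * xg m m' b := by rw [e]
      _ = xg m m' a * wg m m' 1 * (hg m m' t⁻¹ * xg m m' b) := by group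

/-- reduction of the normal form statement to the key closure property -/
theorem S_of_crux [Finite K] (h3 : 3 ≤ n) (I : Finset (Fin n)) {m m' : Fin n} (hm : m ∈ I)
    (hm' : m' ∈ I) (h1 : m ≠ m')
    (hc : ∀ p ∈ U K (RP I m), wg m m' (1 : K) * p * wg m m' 1 ∈ S K I m m') :
    ∀ g ∈ U K (RL I), g ∈ S K I m m' := by
  have hW : ∀ s ∈ S K I m m', wg m m' (1 : K) * s ∈ S K I m m' := by
    rintro s (hs | ⟨p, hp, q, hq, rfl⟩)
    · exact Or.inr ⟨1, one_mem _, s, hs, by rw [one_mul]⟩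
    · have e : wg m m' (1 : K) * (p * wg m m' 1 * q) = (wg m m' 1 * p * wg m m' 1) * q := by group
      rw [e]; exact S_right_Q (hc p hp) hq
  have hW' : ∀ s ∈ S K I m m', (wg m m' (1 : K))⁻¹ * s ∈ S K I m m' := by
    intro s hs
    rw [wg_one_inv h3 h1, mul_assoc, mul_assoc]
    exact hW _ (hW _ (hW _ hs))
  have hY : ∀ t : K, ∀ s ∈ S K I m m', xg m' m t * s ∈ S K I m m' := by
    intro t s hs
    rw [xg_ji_eq h3 h1 t, mul_assoc, mul_assoc]
    exact hW _ (S_left_P (xg_mem_U ⟨hm, hm', h1.symm⟩ _) (hW' _ hs))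
  have hgen : ∀ i j, i ∈ I → j ∈ I → ∀ t : K, ∀ s ∈ S K I m m', xg i j t * s ∈ S K I m m' := by
    intro i j hi hj t s hs
    by_cases hjm : j = m
    · rw [hjm]
      by_cases him : i = m
      · rw [him, xg_self, one_mul]; exact hs
      by_cases him' : i = m'
      · rw [him']; exact hY t s hs
      · have e : xg i m t = xg i m' t * xg m' m 1 * (xg i m' t)⁻¹ * (xg m' m 1)⁻¹ := by
          rw [xg_R3 him' h1.symm him, mul_one]
        rw [e, xg_inv, xg_inv, mul_assoc, mul_assoc, mul_assoc]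
        have hiP : ∀ u : K, xg i m' u ∈ U K (RP I m) := fun u => xg_mem_U ⟨hi, hm', h1.symm⟩ u
        exact S_left_P (hiP _) (hY _ _ (S_left_P (hiP _) (hY _ _ hs)))
    · exact S_left_P (xg_mem_U ⟨hi, hj, hjm⟩ t) hs
  intro g hg
  have hg' : g ∈ Subgroup.closure {g | ∃ i j, ∃ t : K, RL I i j ∧ g = xg i j t} := hg
  clear hg
  induction hg' using Subgroup.closure_induction_left with
  | one => exact one_mem_S I m m'
  | mul_left x hx y _ ih =>
    obtain ⟨i, j, t, ⟨hi, hj⟩, rfl⟩ := hx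
    exact hgen i j hi hj t y ih
  | inv_mul_cancel x hx y _ ih =>
    obtain ⟨i, j, t, ⟨hi, hj⟩, rfl⟩ := hx
    rw [xg_inv]
    exact hgen i j hi hj _ y ih

end Cfsg.Agent.Helper2.Stn
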