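import Mathlib
import Cfsg.Agent.Helper2.StnB

set_option autoImplicit false

/-! Steinberg presentation of `SL_n`: the two-double-coset normal form, by parabolic induction. -/

namespace Cfsg.Agent.Helper2.Stn

variable {K : Type*} [Field K] {n : ℕ}

theorem wg_conj_U (h3 : 3 ≤ n) {a b : Fin n} (hab : a ≠ b) {t : K} (ht : t ≠ 0)
    {R : Fin n → Fin n → Prop} {H : Subgroup (G K n)}
    (h : ∀ i j, R i j → ∀ u : K, xg (Equiv.swap a b i) (Equiv.swap a b j) u ∈ H) :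
    ∀ x ∈ U K R, wg a b t * x * (wg a b t)⁻¹ ∈ H := by
  apply conj_U_mem
  intro i j hR u
  obtain ⟨c, -, hc⟩ := wg_conj_xg h3 hab ht i j
  rw [hc]; exact h i j hR _

theorem wg_conj_U' (h3 : 3 ≤ n) {a b : Fin n} (hab : a ≠ b) {t : K} (ht : t ≠ 0)
    {R : Fin n → Fin n → Prop} {H : Subgroup (G K n)}
    (h : ∀ i j, R i j → ∀ u : K, xg (Equiv.swap a b i) (Equiv.swap a b j) u ∈ H) :
    ∀ x ∈ U K R, (wg a b t)⁻¹ * x * wg a b t ∈ H := by
  intro x hx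
  have h2 := wg_conj_U h3 hab (neg_ne_zero.mpr ht) h x hx
  rwa [← wg_inv, inv_inv] at h2

theorem swap_RP {I : Finset (Fin n)} {m m' : Fin n} (hm : m ∈ I) {i j : Fin n}
    (h : RP (I.erase m) m' i j) : RP I m (Equiv.swap m m' i) (Equiv.swap m m' j) := by
  obtain ⟨hi, hj, hjm'⟩ := h
  rw [Finset.mem_erase] at hi hj
  rw [Equiv.swap_apply_of_ne_of_ne hj.1 hjm']
  refine ⟨?_, hj.2, hj.1⟩
  by_cases him' : i = m'
  · rw [him', Equiv.swap_apply_right]; exact hm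
  · rw [Equiv.swap_apply_of_ne_of_ne hi.1 him']; exact hi.2

theorem conj_P'_mem (h3 : 3 ≤ n) (I : Finset (Fin n)) {m m' : Fin n} (hm : m ∈ I) (h1 : m ≠ m')
    {s : K} (hs : s ≠ 0) :
    ∀ x ∈ U K (RP (I.erase m) m'), wg m m' s * x * (wg m m' s)⁻¹ ∈ U K (RP I m) :=
  wg_conj_U h3 h1 hs fun _ _ hR u => xg_mem_U (swap_RP hm hR) u

theorem Q_le_L (I : Finset (Fin n)) {m m' : Fin n} (hm : m ∈ I) (hm' : m' ∈ I) :
    Qm K I m m' ≤ U K (RL I) := by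
  apply sup_le
  · apply U_mono
    rintro i j ⟨hi, hj, -⟩
    exact ⟨hi, hj⟩
  · unfold Tm
    rw [Subgroup.closure_le]
    rintro _ ⟨t, -, rfl⟩
    exact hg_mem_U ⟨hm, hm'⟩ ⟨hm', hm⟩ t

theorem conj_Q''_mem (h3 : 3 ≤ n) (I : Finset (Fin n)) {m m' m'' : Fin n} (hm : m ∈ I)
    (hm' : m' ∈ I) (hm'' : m'' ∈ I) (h1 : m ≠ m') (h2 : m ≠ m'') (h3' : m' ≠ m'') {s : K}
    (hs : s ≠ 0) :
    ∀ x ∈ Qm K (I.erase m) m' m'', wg m m' s * x * (wg m m' s)⁻¹ ∈ Qm K I m m' := by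
  intro x hx
  have hle : Qm K (I.erase m) m' m'' ≤ (Qm K I m m').comap (cj (wg m m' s)) := by
    apply sup_le
    · intro y hy
      exact P_le_Q I m m' (conj_P'_mem h3 I hm h1 hs y hy)
    · unfold Tm
      rw [Subgroup.closure_le]
      rintro _ ⟨t, ht, rfl⟩
      show wg m m' s * hg m' m'' t * (wg m m' s)⁻¹ ∈ Qm K I m m'
      have hn1 : (-1 : K) ≠ 0 := neg_ne_zero.mpr one_ne_zero
      have k1 := wg_conj_wg_1 h1 h3' h2 hs ht
      have k1' := wg_conj_wg_1 h1 h3' h2 hs hn1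
      have k2 : ∀ r : K, r ≠ 0 →
          wg m' m'' (-1) * wg m m' r * (wg m' m'' (-1))⁻¹ = wg m m'' r := by
        intro r hr
        rw [wg_conj_wg_2 h3' h1 h2 hn1 hr]; congr 1; ring
      have e : wg m m' s * hg m' m'' t * (wg m m' s)⁻¹ =
          wg m' m'' (-1) * (wg m m' (s * t) * wg m m' (s * -1)) * (wg m' m'' (-1))⁻¹ := by
        rw [hg_def, conj_mul (wg m m' s), k1, k1', conj_mul (wg m' m'' (-1)),
          k2 _ (mul_ne_zero hs ht), k2 _ (mul_ne_zero hs hn1)]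
      rw [e]
      have hw' : wg m' m'' (-1 : K) ∈ Qm K I m m' :=
        P_le_Q I m m' (wg_mem_U ⟨hm', hm'', h2.symm⟩ ⟨hm'', hm', h1.symm⟩ _)
      have hT : wg m m' (s * t) * wg m m' (s * -1) ∈ Qm K I m m' := by
        have e2 : wg m m' (s * t) * wg m m' (s * -1) = hg m m' (s * t) * (hg m m' s)⁻¹ := by
          have e3 : s * -1 = -s := by ring
          rw [hg_def, hg_def, e3, ← wg_inv m m' s]; group
        rw [e2]
        exact T_le_Q I m m' (mul_mem (hg_mem_T (mul_ne_zero hs ht)) (inv_mem (hg_mem_T hs)))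
      exact mul_mem (mul_mem hw' hT) (inv_mem hw')
  exact hle hx

theorem conj_R0_mem (h3 : 3 ≤ n) (I : Finset (Fin n)) {m m' : Fin n} (hm' : m' ∈ I) (h1 : m ≠ m')
    {E : Finset (Fin n)} (hmE : m ∈ E) (hm'E : m' ∈ E) :
    ∀ x ∈ U K (RR I m E), (wg m m' (1 : K))⁻¹ * x * wg m m' 1 ∈ Qm K I m m' := by
  apply wg_conj_U' h3 h1 one_ne_zero
  rintro i j ⟨hi, hj, hjE⟩ u
  have hjm : j ≠ m := fun h => hjE (h ▸ hmE)
  have hjm' : j ≠ m' := fun h => hjE (h ▸ hm'E)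
  rw [hi, Equiv.swap_apply_left, Equiv.swap_apply_of_ne_of_ne hjm hjm']
  exact P_le_Q I m m' (xg_mem_U ⟨hm', hj, hjm⟩ u)

/-- the explicit computation at the heart of the induction -/
theorem crux4 (I : Finset (Fin n)) {m m' m'' : Fin n} (hm' : m' ∈ I)
    (hm'' : m'' ∈ I) (h1 : m ≠ m') (h2 : m ≠ m'') (h3' : m' ≠ m'') (c d : K) :
    wg m m' (1 : K) * wg m' m'' 1 * xg m m' c * xg m m'' d * wg m m' 1 ∈ S K I m m' := by
  have o : (1 : K) ≠ 0 := one_ne_zero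
  have hn1 : (-1 : K) ≠ 0 := neg_ne_zero.mpr one_ne_zero
  obtain ⟨c₁, e1⟩ : ∃ c₁ : K, wg m' m'' (1 : K) * xg m m' c = xg m m'' c₁ * wg m' m'' 1 :=
    ⟨_, by rw [← wg_conj_ki h3' h1 h2 o c]; group⟩
  obtain ⟨d₁, e2⟩ : ∃ d₁ : K, wg m' m'' (1 : K) * xg m m'' d = xg m m' d₁ * wg m' m'' 1 :=
    ⟨_, by rw [← wg_conj_kj h3' h1 h2 o d]; group⟩
  obtain ⟨c₂, e3⟩ : ∃ c₂ : K, wg m m' (1 : K) * xg m m'' c₁ = xg m' m'' c₂ * wg m m' 1 :=
    ⟨_, by rw [← wg_conj_il h1 h3' h2 o c₁]; group⟩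
  obtain ⟨d₂, e4⟩ : ∃ d₂ : K, wg m m' (1 : K) * xg m m' d₁ = xg m' m d₂ * wg m m' 1 :=
    ⟨_, by rw [← wg_conj_ij h1 h3' h2 o d₁]; group⟩
  obtain ⟨d₃, e5⟩ : ∃ d₃ : K, xg m' m d₂ * wg m' m'' (1 : K) = wg m' m'' 1 * xg m'' m d₃ := by
    have h := wg_conj_il h3' h2.symm h1.symm hn1 d₂
    rw [← wg_inv, inv_inv] at h
    exact ⟨_, by rw [← h]; group⟩
  obtain ⟨d₄, e6⟩ : ∃ d₄ : K, xg m'' m d₃ * wg m m' (1 : K) = wg m m' 1 * xg m'' m' d₄ := by
    have h := wg_conj_ki h1 h2.symm h3'.symm hn1 d₃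
    rw [← wg_inv, inv_inv] at h
    exact ⟨_, by rw [← h]; group⟩
  have key : wg m m' (1 : K) * wg m' m'' 1 * xg m m' c * xg m m'' d * wg m m' 1 =
      (xg m' m'' c₂ * wg m' m'' 1) * wg m m' 1 * (xg m'' m' d₄ * wg m' m'' 1) := by
    calc wg m m' (1 : K) * wg m' m'' 1 * xg m m' c * xg m m'' d * wg m m' 1
        = wg m m' 1 * (wg m' m'' 1 * xg m m' c) * xg m m'' d * wg m m' 1 := by group
      _ = wg m m' 1 * (xg m m'' c₁ * wg m' m'' 1) * xg m m'' d * wg m m' 1 := by rw [e1]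
      _ = wg m m' 1 * xg m m'' c₁ * (wg m' m'' 1 * xg m m'' d) * wg m m' 1 := by group
      _ = wg m m' 1 * xg m m'' c₁ * (xg m m' d₁ * wg m' m'' 1) * wg m m' 1 := by rw [e2]
      _ = (wg m m' 1 * xg m m'' c₁) * xg m m' d₁ * wg m' m'' 1 * wg m m' 1 := by group
      _ = (xg m' m'' c₂ * wg m m' 1) * xg m m' d₁ * wg m' m'' 1 * wg m m' 1 := by rw [e3]
      _ = xg m' m'' c₂ * (wg m m' 1 * xg m m' d₁) * wg m' m'' 1 * wg m m' 1 := by group
      _ = xg m' m'' c₂ * (xg m' m d₂ * wg m m' 1) * wg m' m'' 1 * wg m m' 1 := by rw [e4]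
      _ = xg m' m'' c₂ * xg m' m d₂ * (wg m m' 1 * wg m' m'' 1 * wg m m' 1) := by group
      _ = xg m' m'' c₂ * xg m' m d₂ * (wg m' m'' 1 * wg m m' 1 * wg m' m'' 1) := by
          rw [braid h1 h2 h3']
      _ = xg m' m'' c₂ * (xg m' m d₂ * wg m' m'' 1) * wg m m' 1 * wg m' m'' 1 := by group
      _ = xg m' m'' c₂ * (wg m' m'' 1 * xg m'' m d₃) * wg m m' 1 * wg m' m'' 1 := by rw [e5]
      _ = xg m' m'' c₂ * wg m' m'' 1 * (xg m'' m d₃ * wg m m' 1) * wg m' m'' 1 := by group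
      _ = xg m' m'' c₂ * wg m' m'' 1 * (wg m m' 1 * xg m'' m' d₄) * wg m' m'' 1 := by rw [e6]
      _ = (xg m' m'' c₂ * wg m' m'' 1) * wg m m' 1 * (xg m'' m' d₄ * wg m' m'' 1) := by group
  rw [key]
  have r1 : RP I m m' m'' := ⟨hm', hm'', h2.symm⟩
  have r2 : RP I m m'' m' := ⟨hm'', hm', h1.symm⟩
  exact Or.inr ⟨_, mul_mem (xg_mem_U r1 _) (wg_mem_U r1 r2 _), _,
    P_le_Q I m m' (mul_mem (xg_mem_U r2 _) (wg_mem_U r1 r2 _)), rfl⟩

/-- the key closure property, from the induction hypothesis one rank down -/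
theorem crux [Finite K] (h3 : 3 ≤ n) (I : Finset (Fin n)) {m m' m'' : Fin n} (hm : m ∈ I)
    (hm' : m' ∈ I) (hm'' : m'' ∈ I) (h1 : m ≠ m') (h2 : m ≠ m'') (h3' : m' ≠ m'')
    (IH : ∀ g ∈ U K (RL (I.erase m)), g ∈ S K (I.erase m) m' m'') :
    ∀ p ∈ U K (RP I m), wg m m' (1 : K) * p * wg m m' 1 ∈ S K I m m' := by
  intro p hp
  obtain ⟨l, hl, a, ha, rfl⟩ := P_decomp I m hp
  have hmm : m ∈ ({m} : Finset (Fin n)) := Finset.mem_singleton_self m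
  have hn1 : (-1 : K) ≠ 0 := neg_ne_zero.mpr one_ne_zero
  have hm'I : m' ∈ I.erase m := Finset.mem_erase.mpr ⟨h1.symm, hm'⟩
  have hm''I : m'' ∈ I.erase m := Finset.mem_erase.mpr ⟨h2.symm, hm''⟩
  have hR0 : ∀ x ∈ U K (RR I m (insert m' {m})),
      (wg m m' (1 : K))⁻¹ * x * wg m m' 1 ∈ Qm K I m m' :=
    conj_R0_mem h3 I hm' h1 (Finset.mem_insert_of_mem hmm) (Finset.mem_insert_self _ _)
  have hR00 : ∀ x ∈ U K (RR I m (insert m'' (insert m' {m}))),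
      (wg m m' (1 : K))⁻¹ * x * wg m m' 1 ∈ Qm K I m m' :=
    conj_R0_mem h3 I hm' h1 (Finset.mem_insert_of_mem (Finset.mem_insert_of_mem hmm))
      (Finset.mem_insert_of_mem (Finset.mem_insert_self _ _))
  have hQ'' : ∀ x ∈ Qm K (I.erase m) m' m'', (wg m m' (1 : K))⁻¹ * x * wg m m' 1 ∈ Qm K I m m' := by
    intro x hx
    have h := conj_Q''_mem h3 I hm hm' hm'' h1 h2 h3' hn1 x hx
    rwa [← wg_inv, inv_inv] at h
  have hnorm : ∀ y ∈ U K (RL (I.erase m)), ∀ c : K,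
      y * xg m m' c * y⁻¹ ∈ U K (RR I m {m}) := by
    intro y hy c
    exact (Subgroup.mem_normalizer_iff.mp (L_le_normalizer_R I m hy) (xg m m' c)).mp
      (xg_mem_U ⟨rfl, hm', by rw [Finset.mem_singleton]; exact h1.symm⟩ c)
  have hwaw : ∀ a ∈ U K (RR I m {m}), wg m m' (1 : K) * a * wg m m' 1 ∈ S K I m m' := by
    intro a ha
    obtain ⟨c, a₀, ha₀, rfl⟩ := R_split I hmm h1 ha
    have e : wg m m' (1 : K) * (xg m m' c * a₀) * wg m m' 1 =
        (wg m m' 1 * xg m m' c * wg m m' 1) * ((wg m m' 1)⁻¹ * a₀ * wg m m' 1) := by group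
    rw [e]
    refine S_right_Q ?_ (hR0 a₀ ha₀)
    have h := psi_mem_S h3 I hm hm' h1 (St2.ww 1 * St2.xx c * St2.ww 1)
    rwa [map_mul, map_mul, psi_ww, psi_xx] at h
  obtain ⟨c, a₀, ha₀, rfl⟩ := R_split I hmm h1 ha
  have e0 : wg m m' (1 : K) * (l * (xg m m' c * a₀)) * wg m m' 1 =
      (wg m m' 1 * l * xg m m' c * wg m m' 1) * ((wg m m' 1)⁻¹ * a₀ * wg m m' 1) := by group
  rw [e0]
  refine S_right_Q ?_ (hR0 a₀ ha₀)
  rcases IH l hl with hq | ⟨p', hp', q'', hq'', rfl⟩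
  · have hconj := hnorm l hl c
    have e : wg m m' (1 : K) * l * xg m m' c * wg m m' 1 =
        (wg m m' 1 * (l * xg m m' c * l⁻¹) * wg m m' 1) * ((wg m m' 1)⁻¹ * l * wg m m' 1) := by
      group
    rw [e]
    exact S_right_Q (hwaw _ hconj) (hQ'' l hq)
  · have hq''L : q'' ∈ U K (RL (I.erase m)) := Q_le_L (I.erase m) hm'I hm''I hq''
    have hconj := hnorm q'' hq''L c
    obtain ⟨c', a1, ha1, hac⟩ := R_split I hmm h1 hconj
    obtain ⟨d, a2, ha2, rfl⟩ := R_split I (Finset.mem_insert_of_mem hmm) h2 ha1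
    have e : wg m m' (1 : K) * (p' * wg m' m'' 1 * q'') * xg m m' c * wg m m' 1 =
        (wg m m' 1 * p' * (wg m m' 1)⁻¹) *
          ((wg m m' 1 * wg m' m'' 1 * xg m m' c' * xg m m'' d * wg m m' 1) *
            ((wg m m' 1)⁻¹ * a2 * wg m m' 1) * ((wg m m' 1)⁻¹ * q'' * wg m m' 1)) := by
      calc wg m m' (1 : K) * (p' * wg m' m'' 1 * q'') * xg m m' c * wg m m' 1
          = wg m m' 1 * p' * wg m' m'' 1 * (q'' * xg m m' c * q''⁻¹) * q'' * wg m m' 1 := by group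
        _ = wg m m' 1 * p' * wg m' m'' 1 * (xg m m' c' * (xg m m'' d * a2)) * q'' * wg m m' 1 := by
            rw [hac]
        _ = _ := by group
    rw [e]
    refine S_left_P (conj_P'_mem h3 I hm h1 one_ne_zero p' hp') ?_
    exact S_right_Q (S_right_Q (crux4 I hm' hm'' h1 h2 h3' c' d) (hR00 a2 ha2)) (hQ'' q'' hq'')

/-- The normal form: `L(I) = Q ∪ P w Q`. -/
theorem NF_all [Finite K] (h3 : 3 ≤ n) : ∀ (k : ℕ) (I : Finset (Fin n)), I.card = k →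
    ∀ m ∈ I, ∀ m' ∈ I, m ≠ m' → ∀ g ∈ U K (RL I), g ∈ S K I m m' := by
  intro k
  induction k with
  | zero =>
    intro I hI m hm
    rw [Finset.card_eq_zero] at hI
    rw [hI] at hm
    exact absurd hm (Finset.notMem_empty _)
  | succ k ih =>
    intro I hI m hm m' hm' h1
    by_cases hex : ∃ m'' ∈ I, m ≠ m'' ∧ m' ≠ m''
    · obtain ⟨m'', hm'', h2, h3'⟩ := hex
      have hcard : (I.erase m).card = k := by
        rw [Finset.card_erase_of_mem hm, hI]; rfl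
      have IH := ih (I.erase m) hcard m' (Finset.mem_erase.mpr ⟨h1.symm, hm'⟩) m''
        (Finset.mem_erase.mpr ⟨h2.symm, hm''⟩) h3'
      exact S_of_crux h3 I hm hm' h1 (crux h3 I hm hm' hm'' h1 h2 h3' IH)
    · push Not at hex
      intro g hg
      have hmem : ∀ i ∈ I, i = m ∨ i = m' := by
        intro i hi
        by_cases him : i = m
        · exact Or.inl him
        · exact Or.inr (hex i hi (Ne.symm him)).symm
      have hle : U K (RL I) ≤ (psi h3 h1).range := by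
        apply U_le
        rintro i j ⟨hi, hj⟩ t
        rcases hmem i hi with hi' | hi' <;> rcases hmem j hj with hj' | hj' <;> rw [hi', hj']
        · rw [xg_self]; exact one_mem _
        · exact ⟨St2.xx t, psi_xx h3 h1 t⟩
        · exact ⟨St2.yy t, psi_yy h3 h1 t⟩
        · rw [xg_self]; exact one_mem _
      obtain ⟨z, rfl⟩ := hle hg
      exact psi_mem_S h3 I hm hm' h1 z

end Cfsg.Agent.Helper2.Stn
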