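import Mathlib
import Cfsg.Agent.Helper2.StnC

set_option autoImplicit false

/-! Steinberg presentation of `SL_n`: the map to `SL_n` and its bijectivity. -/

namespace Cfsg.Agent.Helper2.Stn

open Matrix

variable {K : Type*} [Field K] {n : ℕ}

/-- images of the generators -/
noncomputable def phiGen : Idx n × K → SpecialLinearGroup (Fin n) K :=
  fun p => SpecialLinearGroup.transvection p.1.2 p.2

theorem tv_comm {i j k l : Fin n} (hij : i ≠ j) (hkl : k ≠ l) (hil : i ≠ l) (hjk : j ≠ k)
    (t u : K) :
    SpecialLinearGroup.transvection hij t * SpecialLinearGroup.transvection hkl u =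
      SpecialLinearGroup.transvection hkl u * SpecialLinearGroup.transvection hij t := by
  apply SpecialLinearGroup.coeMonoidHom_injective
  simp only [map_mul, SpecialLinearGroup.coeMonoidHom_apply, SpecialLinearGroup.transvection_coe]
  simp only [mul_add, add_mul, mul_one, one_mul, single_mul_single_of_ne _ _ _ _ hjk,
    single_mul_single_of_ne _ _ _ _ hil.symm]
  abel

theorem tv_R3 {i j l : Fin n} (hij : i ≠ j) (hjl : j ≠ l) (hil : i ≠ l) (t u : K) :
    SpecialLinearGroup.transvection hij t * SpecialLinearGroup.transvection hjl u *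
      (SpecialLinearGroup.transvection hij t)⁻¹ * (SpecialLinearGroup.transvection hjl u)⁻¹ =
      SpecialLinearGroup.transvection hil (t * u) := by
  rw [SpecialLinearGroup.transvection_inv, SpecialLinearGroup.transvection_inv]
  apply SpecialLinearGroup.coeMonoidHom_injective
  simp only [map_mul, SpecialLinearGroup.coeMonoidHom_apply, SpecialLinearGroup.transvection_coe]
  rw [← single_neg, ← single_neg]
  rw [Cfsg.Agent.Helper2.comm_elt_eq (single i j t) (single j l u)
    (single_mul_single_of_ne _ _ _ _ hij.symm _) (single_mul_single_of_ne _ _ _ _ hjl.symm _)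
    (single_mul_single_of_ne _ _ _ _ hil.symm _), single_mul_single_same]

theorem phi_rels : ∀ r ∈ rels K n, FreeGroup.lift (phiGen (K := K) (n := n)) r = 1 := by
  rintro r ((⟨a, t, u, rfl⟩ | ⟨a, b, t, u, h1, h2, rfl⟩) | ⟨a, b, h, t, u, hab, rfl⟩)
  · simp only [map_mul, map_inv, FreeGroup.lift_apply_of, phiGen]
    rw [SpecialLinearGroup.transvection_add, mul_inv_cancel]
  · simp only [map_mul, map_inv, FreeGroup.lift_apply_of, phiGen]
    rw [tv_comm a.2 b.2 h1 h2, mul_inv_cancel_right, mul_inv_cancel]
  · obtain ⟨⟨i, j⟩, hij⟩ := a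
    obtain ⟨⟨j', l⟩, hjl⟩ := b
    simp only at hab h hij hjl
    subst hab
    simp only [map_mul, map_inv, FreeGroup.lift_apply_of, phiGen]
    rw [tv_R3 hij hjl h, mul_inv_cancel]

/-- the natural map to `SL_n` -/
noncomputable def phi : G K n →* SpecialLinearGroup (Fin n) K :=
  PresentedGroup.toGroup phi_rels

theorem phi_of (a : Idx n) (t : K) :
    phi (PresentedGroup.of (a, t)) = SpecialLinearGroup.transvection a.2 t :=
  PresentedGroup.toGroup.of phi_rels

theorem phi_xg {i j : Fin n} (hij : i ≠ j) (t : K) :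
    phi (xg i j t) = SpecialLinearGroup.transvection hij t := by
  rw [xg_of_ne hij]
  exact phi_of _ t

theorem tv_smul {i j : Fin n} (hij : i ≠ j) (t : K) (v : Fin n → K) :
    SpecialLinearGroup.transvection hij t • v = v + (t * v j) • Pi.single i 1 := by
  rw [Matrix.SpecialLinearGroup.smul_def, SpecialLinearGroup.transvection_coe, Matrix.smul_eq_mulVec,
    add_mulVec, one_mulVec, single_mulVec_eq]

/-- matrices whose `k`-th row is the `k`-th standard row -/
def rowFix (k : Fin n) : Subgroup (SpecialLinearGroup (Fin n) K) where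
  carrier := {M | ∀ v : Fin n → K, (M • v) k = v k}
  mul_mem' := by
    intro a b ha hb v
    rw [mul_smul, ha, hb]
  one_mem' := by
    intro v
    rw [one_smul]
  inv_mem' := by
    intro a ha v
    have h := ha (a⁻¹ • v)
    rw [smul_inv_smul] at h
    exact h.symm

theorem mem_rowFix {k : Fin n} {M : SpecialLinearGroup (Fin n) K} :
    M ∈ rowFix k ↔ ∀ v : Fin n → K, (M • v) k = v k := Iff.rfl

theorem eq_one_of_rowFix {M : SpecialLinearGroup (Fin n) K} (h : ∀ k, M ∈ rowFix k) : M = 1 := by
  apply Matrix.SpecialLinearGroup.ext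
  intro i j
  have h1 := h i (Pi.single j 1)
  rw [Matrix.SpecialLinearGroup.smul_def, Matrix.smul_eq_mulVec, Matrix.mulVec_single_one] at h1
  rw [Matrix.SpecialLinearGroup.coe_one, Matrix.one_apply]
  rw [Pi.single_apply] at h1
  exact h1

theorem phi_mem_stab {R : Fin n → Fin n → Prop} {k : Fin n} (h : ∀ i j, R i j → j ≠ k) :
    ∀ g ∈ U K R, phi g • (Pi.single k 1 : Fin n → K) = Pi.single k 1 := by
  intro g hg
  have hle : U K R ≤ (MulAction.stabilizer (SpecialLinearGroup (Fin n) K)
      (Pi.single k 1 : Fin n → K)).comap phi := by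
    apply U_le
    intro i j hR t
    rw [Subgroup.mem_comap, MulAction.mem_stabilizer_iff]
    by_cases hij : i = j
    · rw [hij, xg_self, map_one, one_smul]
    · rw [phi_xg hij, tv_smul, Pi.single_apply, if_neg (h i j hR), mul_zero, zero_smul, add_zero]
  exact hle hg

theorem phi_mem_rowFix {R : Fin n → Fin n → Prop} {k : Fin n} (h : ∀ i j, R i j → i ≠ k) :
    ∀ g ∈ U K R, phi g ∈ rowFix k := by
  intro g hg
  have hle : U K R ≤ (rowFix k).comap phi := by
    apply U_le
    intro i j hR t
    rw [Subgroup.mem_comap]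
    by_cases hij : i = j
    · rw [hij, xg_self, map_one]; exact one_mem _
    · rw [phi_xg hij, mem_rowFix]
      intro v
      rw [tv_smul, Pi.add_apply, Pi.smul_apply, Pi.single_apply, if_neg (Ne.symm (h i j hR)),
        smul_zero, add_zero]
  exact hle hg

theorem phi_wg_smul_fst {i j : Fin n} (hij : i ≠ j) {t : K} (ht : t ≠ 0) :
    phi (wg i j t) • (Pi.single i 1 : Fin n → K) = (-t⁻¹) • Pi.single j 1 := by
  have s1 : SpecialLinearGroup.transvection hij t • (Pi.single i 1 : Fin n → K) = Pi.single i 1 :=
    SpecialLinearGroup.transvection_smul_single_fst hij t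
  have s2 : SpecialLinearGroup.transvection hij.symm (-t⁻¹) • (Pi.single i 1 : Fin n → K) =
      Pi.single i 1 + (-t⁻¹) • Pi.single j 1 :=
    SpecialLinearGroup.transvection_smul_single_snd hij.symm (-t⁻¹)
  have s3 : SpecialLinearGroup.transvection hij t •
      ((Pi.single i 1 : Fin n → K) + (-t⁻¹) • Pi.single j 1) = (-t⁻¹) • Pi.single j 1 := by
    rw [smul_add, smul_comm, SpecialLinearGroup.transvection_smul_single_fst,
      SpecialLinearGroup.transvection_smul_single_snd, smul_add, smul_smul]
    have e : -t⁻¹ * t = -1 := by field_simp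
    rw [e, neg_one_smul]; abel
  rw [wg_def, map_mul, map_mul, phi_xg hij, phi_xg hij.symm, mul_smul, mul_smul, s1, s2, s3]

theorem phi_wg_smul_snd {i j : Fin n} (hij : i ≠ j) {t : K} (ht : t ≠ 0) :
    phi (wg i j t) • (Pi.single j 1 : Fin n → K) = t • Pi.single i 1 := by
  have s1 : SpecialLinearGroup.transvection hij t • (Pi.single j 1 : Fin n → K) =
      Pi.single j 1 + t • Pi.single i 1 :=
    SpecialLinearGroup.transvection_smul_single_snd hij t
  have s2 : SpecialLinearGroup.transvection hij.symm (-t⁻¹) •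
      ((Pi.single j 1 : Fin n → K) + t • Pi.single i 1) = t • Pi.single i 1 := by
    rw [smul_add, smul_comm, SpecialLinearGroup.transvection_smul_single_fst,
      SpecialLinearGroup.transvection_smul_single_snd, smul_add, smul_smul]
    have e : t * -t⁻¹ = -1 := by field_simp
    rw [e, neg_one_smul]; abel
  have s3 : SpecialLinearGroup.transvection hij t • (t • (Pi.single i 1 : Fin n → K)) =
      t • Pi.single i 1 := by
    rw [smul_comm, SpecialLinearGroup.transvection_smul_single_fst]
  rw [wg_def, map_mul, map_mul, phi_xg hij, phi_xg hij.symm, mul_smul, mul_smul, s1, s2, s3]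

theorem phi_hg_smul {i j : Fin n} (hij : i ≠ j) {t : K} (ht : t ≠ 0) :
    phi (hg i j t) • (Pi.single i 1 : Fin n → K) = t • Pi.single i 1 := by
  rw [hg_def, map_mul, mul_smul, phi_wg_smul_fst hij (neg_ne_zero.mpr one_ne_zero)]
  have e : -(-1 : K)⁻¹ = 1 := by rw [inv_neg, inv_one, neg_neg]
  rw [e, one_smul, phi_wg_smul_snd hij ht]

theorem phi_surjective (h2 : 2 ≤ n) : Function.Surjective (phi (K := K) (n := n)) := by
  have : Nontrivial (Fin n) := Fin.nontrivial_iff_two_le.mpr h2
  intro M
  refine Cfsg.Agent.Helper2.SL_transvection_induction (fun M => M ∈ (phi (K := K) (n := n)).range)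
    ?_ (fun A B hA hB => mul_mem hA hB) M
  intro i j hij c
  exact ⟨xg i j c, phi_xg hij c⟩

/-- injectivity on the subgroups `L(I)`, by induction on the size of `I` -/
theorem inj_all [Finite K] (h3 : 3 ≤ n) : ∀ (k : ℕ) (I : Finset (Fin n)), I.card = k →
    ∀ g ∈ U K (RL I), phi g = 1 → g = 1 := by
  intro k
  induction k with
  | zero =>
    intro I hI g hgU _
    rw [Finset.card_eq_zero] at hI
    have hbot : U K (RL I) = ⊥ := U_eq_bot (by
      rintro i j ⟨hi, _⟩
      rw [hI] at hi
      exact absurd hi (Finset.notMem_empty _))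
    rw [hbot] at hgU
    exact Subgroup.mem_bot.mp hgU
  | succ k ih =>
    intro I hI g hgU hφ
    by_cases hex : ∃ m ∈ I, ∃ m' ∈ I, m ≠ m'
    · obtain ⟨m, hm, m', hm', h1⟩ := hex
      have hcard : (I.erase m).card = k := by
        rw [Finset.card_erase_of_mem hm, hI]; rfl
      have hcard' : (I.erase m').card = k := by
        rw [Finset.card_erase_of_mem hm', hI]; rfl
      have hpstab : ∀ y ∈ U K (RP I m), phi y • (Pi.single m 1 : Fin n → K) = Pi.single m 1 :=
        phi_mem_stab (fun i j hR => hR.2.2)
      rcases NF_all h3 (k + 1) I hI m hm m' hm' h1 g hgU with hq | ⟨p, hp, q, hq, rfl⟩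
      · obtain ⟨p, hp, t, ht, rfl⟩ := Q_decomp h3 I h1 hq
        have h2 : phi (p * hg m m' t) • (Pi.single m 1 : Fin n → K) = Pi.single m 1 := by
          rw [hφ, one_smul]
        rw [map_mul, mul_smul, phi_hg_smul h1 ht, smul_comm, hpstab p hp] at h2
        have ht1 : t = 1 := by
          have h5 := congrFun h2 m
          simpa using h5
        rw [ht1, hg_one h3 h1, mul_one] at hφ ⊢
        obtain ⟨l, hl, a, ha, rfl⟩ := P_decomp I m hp
        have hφa : phi a = 1 := by
          have hM : phi a = phi l⁻¹ := by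
            rw [map_mul] at hφ
            rw [map_inv]
            exact eq_inv_of_mul_eq_one_right hφ
          apply eq_one_of_rowFix
          intro k'
          by_cases hk : k' = m
          · rw [hk, hM]
            exact phi_mem_rowFix (R := RL (I.erase m))
              (fun i j hR => (Finset.mem_erase.mp hR.1).1) _ (inv_mem hl)
          · exact phi_mem_rowFix (R := RR I m {m})
              (fun i j hR => by rw [hR.1]; exact Ne.symm hk) _ ha
        have hφl : phi l = 1 := by
          rw [map_mul, hφa, mul_one] at hφ; exact hφ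
        have hl1 : l = 1 := ih (I.erase m) hcard l hl hφl
        obtain ⟨c, a₀, ha₀, rfl⟩ := R_split I (Finset.mem_singleton_self m) h1 ha
        have ha₀stab : phi a₀ • (Pi.single m' 1 : Fin n → K) = Pi.single m' 1 :=
          phi_mem_stab (R := RR I m (insert m' {m}))
            (fun i j hR h => hR.2.2 (h ▸ Finset.mem_insert_self _ _)) a₀ ha₀
        have h4 : phi (xg m m' c * a₀) • (Pi.single m' 1 : Fin n → K) = Pi.single m' 1 := by
          rw [hφa, one_smul]
        rw [map_mul, mul_smul, ha₀stab, phi_xg h1,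
          SpecialLinearGroup.transvection_smul_single_snd] at h4
        have hc : c = 0 := by
          have h5 := congrFun h4 m
          simpa [Pi.single_apply, h1] using h5
        rw [hc, xg_zero, one_mul] at hφa ⊢
        have ha₀L : a₀ ∈ U K (RL (I.erase m')) := by
          refine U_mono ?_ ha₀
          rintro i j ⟨hi, hj, hjE⟩
          refine ⟨Finset.mem_erase.mpr ⟨by rw [hi]; exact h1, by rw [hi]; exact hm⟩,
            Finset.mem_erase.mpr ⟨fun h => hjE (h ▸ Finset.mem_insert_self _ _), hj⟩⟩
        have ha1 : a₀ = 1 := ih (I.erase m') hcard' a₀ ha₀L hφa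
        rw [hl1, ha1, mul_one]
      · exfalso
        obtain ⟨p₁, hp₁, t, ht, rfl⟩ := Q_decomp h3 I h1 hq
        have h2 : phi (p * wg m m' 1 * (p₁ * hg m m' t)) • (Pi.single m 1 : Fin n → K) =
            Pi.single m 1 := by
          rw [hφ, one_smul]
        rw [map_mul, map_mul, map_mul, mul_smul, mul_smul, mul_smul, phi_hg_smul h1 ht,
          smul_comm (phi p₁), hpstab p₁ hp₁, smul_comm (phi (wg m m' 1)),
          phi_wg_smul_fst h1 one_ne_zero] at h2
        have h5 : t • ((-(1 : K)⁻¹) • (Pi.single m' 1 : Fin n → K)) = Pi.single m 1 := by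
          have h6 := congrArg (fun v => (phi p)⁻¹ • v) h2
          simp only [inv_smul_smul] at h6
          rw [h6, ← map_inv]
          exact hpstab _ (inv_mem hp)
        have h7 := congrFun h5 m'
        simp [h1.symm] at h7
        exact ht h7
    · push Not at hex
      have hbot : U K (RL I) = ⊥ := U_eq_bot (fun i j hR => hex i hR.1 j hR.2)
      rw [hbot] at hgU
      exact Subgroup.mem_bot.mp hgU

theorem U_univ_eq_top : U K (RL (Finset.univ : Finset (Fin n))) = ⊤ := by
  rw [eq_top_iff, ← PresentedGroup.closure_range_of, Subgroup.closure_le]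
  rintro _ ⟨⟨a, t⟩, rfl⟩
  have h : xg a.1.1 a.1.2 t = PresentedGroup.of (a, t) := xg_of_ne a.2 t
  rw [SetLike.mem_coe, ← h]
  exact xg_mem_U ⟨Finset.mem_univ _, Finset.mem_univ _⟩ t

theorem phi_injective [Finite K] (h3 : 3 ≤ n) : Function.Injective (phi (K := K) (n := n)) := by
  rw [injective_iff_map_eq_one]
  intro g hgU
  have hmem : g ∈ U K (RL (Finset.univ : Finset (Fin n))) := by
    rw [U_univ_eq_top]; exact Subgroup.mem_top g
  exact inj_all h3 _ Finset.univ rfl g hmem hgU

/-- **Steinberg's presentation of `SL_n(K)`**, `n ≥ 3`, `K` a finite field. -/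
theorem main [Finite K] (h3 : 3 ≤ n) :
    ∃ e : G K n ≃* SpecialLinearGroup (Fin n) K, ∀ (a : Idx n) (t : K),
      ((e (PresentedGroup.of (a, t)) : SpecialLinearGroup (Fin n) K) : Matrix (Fin n) (Fin n) K) =
        Matrix.transvection a.1.1 a.1.2 t := by
  refine ⟨MulEquiv.ofBijective phi ⟨phi_injective h3, phi_surjective (by omega)⟩, ?_⟩
  intro a t
  show ((phi (PresentedGroup.of (a, t)) : SpecialLinearGroup (Fin n) K) : Matrix (Fin n) (Fin n) K) = _
  rw [phi_of]
  rfl

end Cfsg.Agent.Helper2.Stn
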