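import Mathlib
import Cfsg.Agent.Helper18.PSL27b

set_option autoImplicit false

namespace Cfsg.Agent.Helper2.L27

open Matrix OnePoint
open scoped MatrixGroups

abbrev V := Fin 3 → ZMod 2

instance fact7 : Fact (Nat.Prime 7) := ⟨by norm_num⟩

/-- points `t ↦ ζ^t` of `F_8` in the basis `1, ζ, ζ²` with `ζ³ = ζ + 1`. -/
def betaF : ZMod 7 → V :=
  ![![1,0,0], ![0,1,0], ![0,0,1], ![1,1,0], ![0,1,1], ![1,1,1], ![1,0,1]]

def beta (x : OnePoint (ZMod 7)) : V := x.elim 0 betaF

@[simp] lemma beta_infty : beta ∞ = 0 := rfl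
@[simp] lemma beta_coe (t : ZMod 7) : beta (t : OnePoint (ZMod 7)) = betaF t := rfl

def betaInv (v : V) : OnePoint (ZMod 7) :=
  if v = 0 then ∞ else
  if v = ![1,0,0] then ((0 : ZMod 7) : OnePoint (ZMod 7)) else
  if v = ![0,1,0] then ((1 : ZMod 7) : OnePoint (ZMod 7)) else
  if v = ![0,0,1] then ((2 : ZMod 7) : OnePoint (ZMod 7)) else
  if v = ![1,1,0] then ((3 : ZMod 7) : OnePoint (ZMod 7)) else
  if v = ![0,1,1] then ((4 : ZMod 7) : OnePoint (ZMod 7)) else
  if v = ![1,1,1] then ((5 : ZMod 7) : OnePoint (ZMod 7)) else ((6 : ZMod 7) : OnePoint (ZMod 7))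

lemma beta_betaInv : ∀ v : V, beta (betaInv v) = v := by decide

lemma beta_surj (v : V) : ∃ x, beta x = v := ⟨betaInv v, beta_betaInv v⟩

def AU : Matrix (Fin 3) (Fin 3) (ZMod 2) := !![0,0,1; 1,0,1; 0,1,0]
def AL : Matrix (Fin 3) (Fin 3) (ZMod 2) := !![1,0,1; 1,0,0; 0,1,0]
def bL : V := ![0,1,0]

lemma checkU : ∀ t : ZMod 7, betaF (t + 1) = AU *ᵥ betaF t := by decide

def lTab : ZMod 7 → ZMod 7 := ![0, 4, 3, 6, 5, 2, 0]

lemma lTab_spec : ∀ t : ZMod 7, t + 1 ≠ 0 → t = lTab t * (t + 1) := by decide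

lemma checkL : ∀ t : ZMod 7, (if t + 1 = 0 then (0 : V) else betaF (lTab t)) = AL *ᵥ betaF t + bL := by
  decide

/-- `g` acts on the 8 points as an affine map of `F_2^3`. -/
def P (g : SL(2, ZMod 7)) : Prop :=
  ∃ A : Matrix (Fin 3) (Fin 3) (ZMod 2), ∃ b : V, ∀ x : OnePoint (ZMod 7),
    beta (Matrix.SpecialLinearGroup.toGL g • x) = A *ᵥ beta x + b

lemma P_mul (g h : SL(2, ZMod 7)) (hg : P g) (hh : P h) : P (g * h) := by
  obtain ⟨A, b, hA⟩ := hg
  obtain ⟨B, c, hB⟩ := hh
  refine ⟨A * B, A *ᵥ c + b, fun x => ?_⟩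
  rw [map_mul, mul_smul, hA, hB, Matrix.mulVec_add, Matrix.mulVec_mulVec, add_assoc]

lemma P_one : P 1 := ⟨1, 0, fun x => by simp⟩

lemma u1_spec (x : OnePoint (ZMod 7)) :
    beta (Matrix.SpecialLinearGroup.toGL
      (Matrix.SpecialLinearGroup.transvection (zero_ne_one : (0 : Fin 2) ≠ 1) (1 : ZMod 7)) • x) =
      AU *ᵥ beta x + 0 := by
  cases x with
  | infty =>
    rw [smul_infty_eq_ite]
    simp [Matrix.SpecialLinearGroup.transvection_coe]
  | coe t =>
    rw [smul_some_eq_ite]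
    simp [Matrix.SpecialLinearGroup.transvection_coe]
    exact checkU t

lemma P_u1 : P (Matrix.SpecialLinearGroup.transvection (zero_ne_one : (0 : Fin 2) ≠ 1) (1 : ZMod 7)) :=
  ⟨AU, 0, u1_spec⟩

lemma P_l1 : P (Matrix.SpecialLinearGroup.transvection (one_ne_zero : (1 : Fin 2) ≠ 0) (1 : ZMod 7)) := by
  refine ⟨AL, bL, fun x => ?_⟩
  cases x with
  | infty =>
    rw [smul_infty_eq_ite]
    simp [Matrix.SpecialLinearGroup.transvection_coe]
    decide
  | coe t =>
    rw [smul_some_eq_ite]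
    simp [Matrix.SpecialLinearGroup.transvection_coe]
    rw [← checkL t]
    by_cases h : t + 1 = 0
    · simp [h]
    · have h2 : t / (t + 1) = lTab t := by
        rw [div_eq_iff h]; exact lTab_spec t h
      simp [h, h2]

lemma P_transv (i j : Fin 2) (hij : i ≠ j) (n : ℕ) :
    P (Matrix.SpecialLinearGroup.transvection hij (n : ZMod 7)) := by
  have h1 : P (Matrix.SpecialLinearGroup.transvection hij (1 : ZMod 7)) := by
    fin_cases i <;> fin_cases j
    · exact absurd rfl hij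
    · exact P_u1
    · exact P_l1
    · exact absurd rfl hij
  induction n with
  | zero =>
    rw [Nat.cast_zero, Matrix.SpecialLinearGroup.transvection_coeff_zero]; exact P_one
  | succ n ih =>
    rw [Nat.cast_succ, Matrix.SpecialLinearGroup.transvection_add]
    exact P_mul _ _ ih h1

lemma P_all (g : SL(2, ZMod 7)) : P g := by
  refine Matrix.SL2.transvection_induction P (fun i j hij c => ?_) P_mul g
  have := P_transv i j hij c.val
  rwa [ZMod.natCast_zmod_val] at this

lemma uniq {A A' : Matrix (Fin 3) (Fin 3) (ZMod 2)} {b b' : V}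
    (h : ∀ x : OnePoint (ZMod 7), A *ᵥ beta x + b = A' *ᵥ beta x + b') : A = A' := by
  have hb : b = b' := by simpa using h ∞
  subst hb
  apply Matrix.ext_of_mulVec_single
  intro i
  obtain ⟨x, hx⟩ := beta_surj (Pi.single i 1)
  have := h x
  rw [hx] at this
  exact add_right_cancel this

noncomputable def phiFun (g : SL(2, ZMod 7)) : Matrix (Fin 3) (Fin 3) (ZMod 2) :=
  Classical.choose (P_all g)

lemma phiFun_spec (g : SL(2, ZMod 7)) : ∃ b : V, ∀ x : OnePoint (ZMod 7),
    beta (Matrix.SpecialLinearGroup.toGL g • x) = phiFun g *ᵥ beta x + b :=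
  Classical.choose_spec (P_all g)

lemma phiFun_eq (g : SL(2, ZMod 7)) (A : Matrix (Fin 3) (Fin 3) (ZMod 2)) (b : V)
    (h : ∀ x : OnePoint (ZMod 7), beta (Matrix.SpecialLinearGroup.toGL g • x) = A *ᵥ beta x + b) :
    phiFun g = A := by
  obtain ⟨b', hb'⟩ := phiFun_spec g
  exact uniq (b := b') (b' := b) (fun x => by rw [← hb', h])

noncomputable def phi0 : SL(2, ZMod 7) →* Matrix (Fin 3) (Fin 3) (ZMod 2) where
  toFun := phiFun
  map_one' := phiFun_eq 1 1 0 (fun x => by simp)
  map_mul' g h := by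
    obtain ⟨b, hb⟩ := phiFun_spec g
    obtain ⟨c, hc⟩ := phiFun_spec h
    refine phiFun_eq _ _ (phiFun g *ᵥ c + b) (fun x => ?_)
    rw [map_mul, mul_smul, hb, hc, Matrix.mulVec_add, Matrix.mulVec_mulVec, add_assoc]

noncomputable def phi : SL(2, ZMod 7) →* GL (Fin 3) (ZMod 2) := phi0.toHomUnits

lemma phi_coe (g : SL(2, ZMod 7)) : ((phi g : GL (Fin 3) (ZMod 2)) : Matrix (Fin 3) (Fin 3) (ZMod 2)) = phiFun g := rfl


lemma phi_center (z : SL(2, ZMod 7)) (hz : z ∈ Subgroup.center (SL(2, ZMod 7))) : phi z = 1 := by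
  apply Units.ext
  rw [phi_coe]
  refine phiFun_eq z 1 0 (fun x => ?_)
  rw [Matrix.SpecialLinearGroup.mem_center_iff] at hz
  obtain ⟨r, hr, hz⟩ := hz
  have hr0 : r ≠ 0 := by
    rintro rfl
    simp at hr
  have h00 : (z : Matrix (Fin 2) (Fin 2) (ZMod 7)) 0 0 = r := by rw [← hz]; simp
  have h01 : (z : Matrix (Fin 2) (Fin 2) (ZMod 7)) 0 1 = 0 := by rw [← hz]; simp
  have h10 : (z : Matrix (Fin 2) (Fin 2) (ZMod 7)) 1 0 = 0 := by rw [← hz]; simp
  have h11 : (z : Matrix (Fin 2) (Fin 2) (ZMod 7)) 1 1 = r := by rw [← hz]; simp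
  cases x with
  | infty =>
    rw [smul_infty_eq_ite]
    simp [h10]
  | coe t =>
    rw [smul_some_eq_ite]
    simp [h00, h01, h10, h11, hr0]

lemma phi_u1_ne : phi (Matrix.SpecialLinearGroup.transvection (zero_ne_one : (0 : Fin 2) ≠ 1) (1 : ZMod 7)) ≠ 1 := by
  intro h
  have h1 := congrArg (fun g : GL (Fin 3) (ZMod 2) => (g : Matrix (Fin 3) (Fin 3) (ZMod 2))) h
  simp only [phi_coe] at h1
  rw [phiFun_eq _ AU 0 u1_spec] at h1
  revert h1
  decide

/-- the induced map on `PSL₂(7)` -/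
noncomputable def psi : Matrix.ProjectiveSpecialLinearGroup (Fin 2) (ZMod 7) →* GL (Fin 3) (ZMod 2) :=
  QuotientGroup.lift _ phi phi_center

lemma psi_injective : Function.Injective psi := by
  have : IsSimpleGroup (Matrix.ProjectiveSpecialLinearGroup (Fin 2) (ZMod 7)) :=
    Matrix.ProjectiveSpecialLinearGroup.rank_two_simple (by
      rw [Nat.card_eq_fintype_card, ZMod.card]; norm_num)
  rw [← MonoidHom.ker_eq_bot_iff]
  rcases (MonoidHom.normal_ker psi).eq_bot_or_eq_top with h | h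
  · exact h
  · exfalso
    apply phi_u1_ne
    have : (QuotientGroup.mk (Matrix.SpecialLinearGroup.transvection (zero_ne_one : (0 : Fin 2) ≠ 1) (1 : ZMod 7)) :
        Matrix.ProjectiveSpecialLinearGroup (Fin 2) (ZMod 7)) ∈ psi.ker := by
      rw [h]; trivial
    exact this

lemma card_GL3 : Nat.card (GL (Fin 3) (ZMod 2)) = 168 := by
  rw [Matrix.card_GL_field (𝔽 := ZMod 2) 3, ZMod.card, Fin.prod_univ_three]
  norm_num

lemma psi_bijective : Function.Bijective psi := by
  have : Finite (GL (Fin 3) (ZMod 2)) := Nat.finite_of_card_ne_zero (by rw [card_GL3]; norm_num)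
  have : Finite (Matrix.ProjectiveSpecialLinearGroup (Fin 2) (ZMod 7)) :=
    Nat.finite_of_card_ne_zero (by
      rw [Cfsg.Agent.Helper18.PSL27.card_psl27 (F := ZMod 7) (by rw [ZMod.card])]; norm_num)
  rw [Nat.bijective_iff_injective_and_card]
  refine ⟨psi_injective, ?_⟩
  rw [card_GL3, Cfsg.Agent.Helper18.PSL27.card_psl27 (F := ZMod 7) (by rw [ZMod.card])]

noncomputable def psiEquiv : Matrix.ProjectiveSpecialLinearGroup (Fin 2) (ZMod 7) ≃* GL (Fin 3) (ZMod 2) :=
  MulEquiv.ofBijective psi psi_bijective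

section congr

variable {n : Type*} [Fintype n] [DecidableEq n]

/-- transport of `SL_n` along a ring isomorphism -/
noncomputable def slCongrN {R S : Type*} [CommRing R] [CommRing S] (e : R ≃+* S) :
    Matrix.SpecialLinearGroup n R ≃* Matrix.SpecialLinearGroup n S where
  toFun := Matrix.SpecialLinearGroup.map e.toRingHom
  invFun := Matrix.SpecialLinearGroup.map e.symm.toRingHom
  left_inv g := by
    apply Subtype.ext
    ext i j
    simp [Matrix.SpecialLinearGroup.map_apply_coe]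
  right_inv g := by
    apply Subtype.ext
    ext i j
    simp [Matrix.SpecialLinearGroup.map_apply_coe]
  map_mul' := map_mul _

lemma map_center_of_mulEquiv {G H : Type*} [Group G] [Group H] (E : G ≃* H) :
    (Subgroup.center G).map E.toMonoidHom = Subgroup.center H := by
  ext y
  constructor
  · rintro ⟨x, hx, rfl⟩
    have hx : x ∈ Subgroup.center G := hx
    rw [Subgroup.mem_center_iff] at hx ⊢
    intro h
    obtain ⟨g, rfl⟩ := E.surjective h
    change E g * E x = E x * E g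
    rw [← map_mul, ← map_mul, hx g]
  · intro hy
    refine ⟨E.symm y, ?_, by simp⟩
    rw [Subgroup.mem_center_iff] at hy
    change E.symm y ∈ Subgroup.center G
    rw [Subgroup.mem_center_iff]
    intro g
    apply E.injective
    rw [map_mul, map_mul, E.apply_symm_apply]
    exact hy (E g)

/-- transport of `PSL_n` along a ring isomorphism -/
noncomputable def pslCongr {R S : Type*} [CommRing R] [CommRing S] (e : R ≃+* S) :
    Matrix.ProjectiveSpecialLinearGroup n R ≃* Matrix.ProjectiveSpecialLinearGroup n S :=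
  QuotientGroup.congr _ _ (slCongrN e) (map_center_of_mulEquiv (slCongrN e))

end congr

lemma units_zmod2 : ∀ u : (ZMod 2)ˣ, u = 1 := by decide

lemma toGL_bijective : Function.Bijective
    (Matrix.SpecialLinearGroup.toGL : SL(3, ZMod 2) →* GL (Fin 3) (ZMod 2)) := by
  refine ⟨Matrix.SpecialLinearGroup.toGL_injective, fun g => ?_⟩
  have hdet : (g : Matrix (Fin 3) (Fin 3) (ZMod 2)).det = 1 := by
    have := units_zmod2 (Matrix.GeneralLinearGroup.det g)
    have h2 := congrArg (fun u : (ZMod 2)ˣ => (u : ZMod 2)) this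
    simpa using h2
  exact ⟨⟨g, hdet⟩, Units.ext rfl⟩

lemma center_SL3 : Subgroup.center (SL(3, ZMod 2)) = ⊥ := by
  rw [eq_bot_iff]
  intro z hz
  rw [Matrix.SpecialLinearGroup.mem_center_iff] at hz
  obtain ⟨r, hr, hz⟩ := hz
  have hr1 : r = 1 := by
    have key : ∀ r : ZMod 2, r ^ 3 = 1 → r = 1 := by decide
    exact key r (by simpa using hr)
  subst hr1
  rw [Subgroup.mem_bot]
  apply Subtype.ext
  rw [← hz]
  simp

noncomputable def sl3Equiv : SL(3, ZMod 2) ≃* Matrix.ProjectiveSpecialLinearGroup (Fin 3) (ZMod 2) :=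
  (QuotientGroup.quotientBot (G := SL(3, ZMod 2))).symm.trans
    (QuotientGroup.quotientMulEquivOfEq center_SL3.symm)

theorem main {F K : Type*} [Field F] [Fintype F] [Field K] [Fintype K]
    (hF : Fintype.card F = 7) (hK : Fintype.card K = 2) :
    Nonempty (Matrix.ProjectiveSpecialLinearGroup (Fin 2) F ≃*
      Matrix.ProjectiveSpecialLinearGroup (Fin 3) K) := by
  let eF : ZMod 7 ≃+* F := ZMod.ringEquivOfPrime F (by norm_num) hF
  let eK : ZMod 2 ≃+* K := ZMod.ringEquivOfPrime K Nat.prime_two hK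
  exact ⟨(pslCongr eF).symm.trans (psiEquiv.trans
    ((MulEquiv.ofBijective _ toGL_bijective).symm.trans (sl3Equiv.trans (pslCongr eK))))⟩

end Cfsg.Agent.Helper2.L27
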