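import Mathlib
import Cfsg.Agent.Helper2.UnitaryCount
import Cfsg.Prelude.Def_LieClassical

/-! The order of the general unitary group. -/

set_option autoImplicit false
set_option linter.unusedSectionVars false
set_option linter.unusedVariables false

namespace Cfsg.Agent.Helper2.Herm

open Finset Matrix

variable {F : Type*} [Field F] [Fintype F] {q n : ℕ}

/-- columns of a matrix -/
def cols (M : Matrix (Fin n) (Fin n) F) : Fin n → (Fin n → F) := fun j i => M i j

theorem mulVec_eq_sum_cols (M : Matrix (Fin n) (Fin n) F) (u : Fin n → F) :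
    M *ᵥ u = ∑ j, u j • cols M j := by
  ext i
  simp [Matrix.mulVec, dotProduct, cols, mul_comm]

theorem mulVec_single (M : Matrix (Fin n) (Fin n) F) (j : Fin n) :
    M *ᵥ Pi.single j 1 = cols M j := by
  ext i
  simp [Matrix.mulVec, dotProduct, cols, Pi.single_apply]

theorem hf_single (hF : Fintype.card F = q ^ 2) (j k : Fin n) :
    Cfsg.hermForm n F q (Pi.single j 1) (Pi.single k 1) = if j = k then 1 else 0 := by
  have hq := two_le_q hF
  unfold Cfsg.hermForm
  by_cases h : j = k
  · subst h
    rw [if_pos rfl, Finset.sum_eq_single j]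
    · simp
    · intro i _ hij
      simp [Pi.single_apply, hij]
    · intro h; exact absurd (Finset.mem_univ j) h
  · rw [if_neg h]
    apply Finset.sum_eq_zero
    intro i _
    by_cases hi : i = j
    · subst hi
      have : (Pi.single k (1 : F) : Fin n → F) i = 0 := by simp [Pi.single_apply, h]
      rw [this, zero_pow (by omega), mul_zero]
    · have : (Pi.single j (1 : F) : Fin n → F) i = 0 := by simp [Pi.single_apply, hi]
      rw [this, zero_mul]

theorem hf_comb (hF : Fintype.card F = q ^ 2) {c : Fin n → (Fin n → F)} (hc : IsON q c)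
    (u v : Fin n → F) :
    Cfsg.hermForm n F q (∑ j, u j • c j) (∑ k, v k • c k) = Cfsg.hermForm n F q u v := by
  rw [hf_sum_right hF]
  unfold Cfsg.hermForm
  apply Finset.sum_congr rfl
  intro k _
  have := hf_smul_right hF (v k) (∑ j, u j • c j) (c k)
  unfold Cfsg.hermForm at this
  rw [this]
  have h2 := hf_comb_left c hc u k
  unfold Cfsg.hermForm at h2
  rw [h2, cj_apply]
  ring

theorem mem_GU_iff (hF : Fintype.card F = q ^ 2) (g : GL (Fin n) F) :
    g ∈ Cfsg.GU n F q ↔ IsON q (cols (g : Matrix (Fin n) (Fin n) F)) := by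
  constructor
  · intro hg j k
    have := hg (Pi.single j 1) (Pi.single k 1)
    rw [hf_single hF] at this
    rw [← this]
    change _ = Cfsg.hermForm n F q ((g : Matrix (Fin n) (Fin n) F) *ᵥ Pi.single j 1)
      ((g : Matrix (Fin n) (Fin n) F) *ᵥ Pi.single k 1)
    rw [mulVec_single, mulVec_single]
  · intro hc u v
    change Cfsg.hermForm n F q ((g : Matrix (Fin n) (Fin n) F) *ᵥ u)
      ((g : Matrix (Fin n) (Fin n) F) *ᵥ v) = _
    rw [mulVec_eq_sum_cols, mulVec_eq_sum_cols, hf_comb hF hc]

/-- a matrix with orthonormal columns is invertible -/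
theorem exists_unit_of_isON (hF : Fintype.card F = q ^ 2) {c : Fin n → (Fin n → F)}
    (hc : IsON q c) : ∃ g : GL (Fin n) F, cols (g : Matrix (Fin n) (Fin n) F) = c := by
  let M : Matrix (Fin n) (Fin n) F := Matrix.of (fun i j => c j i)
  let Ms : Matrix (Fin n) (Fin n) F := Matrix.of (fun j i => cj hF (c j i))
  have h1 : Ms * M = 1 := by
    ext j k
    rw [Matrix.mul_apply]
    have := hc k j
    unfold Cfsg.hermForm at this
    simp only [Ms, M, Matrix.of_apply]
    rw [Matrix.one_apply]
    have e : ∑ i, cj hF (c j i) * c k i = ∑ i, c k i * c j i ^ q :=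
      Finset.sum_congr rfl (fun i _ => by rw [cj_apply, mul_comm])
    rw [e, this]
    by_cases hjk : j = k
    · rw [if_pos hjk, if_pos hjk.symm]
    · rw [if_neg hjk, if_neg (Ne.symm hjk)]
  have h2 : M * Ms = 1 := mul_eq_one_comm.mp h1
  exact ⟨⟨M, Ms, h2, h1⟩, rfl⟩

theorem card_GU (hF : Fintype.card F = q ^ 2) (n : ℕ) :
    Nat.card (Cfsg.GU n F q) = A F q n n := by
  unfold A
  apply Nat.card_congr
  refine Equiv.ofBijective
    (fun g => ⟨cols ((g : GL (Fin n) F) : Matrix (Fin n) (Fin n) F), (mem_GU_iff hF g.1).mp g.2⟩)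
    ⟨?_, ?_⟩
  · intro g g' h
    have h1 : cols ((g : GL (Fin n) F) : Matrix (Fin n) (Fin n) F) =
        cols ((g' : GL (Fin n) F) : Matrix (Fin n) (Fin n) F) := congrArg Subtype.val h
    apply Subtype.ext
    apply Units.ext
    ext i j
    exact congrFun (congrFun h1 j) i
  · rintro ⟨c, hc⟩
    obtain ⟨g, hg⟩ := exists_unit_of_isON hF hc
    refine ⟨⟨g, (mem_GU_iff hF g).mpr (by rw [hg]; exact hc)⟩, ?_⟩
    apply Subtype.ext
    exact hg

theorem card_GU_closed (hF : Fintype.card F = q ^ 2) (n : ℕ) :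
    Nat.card (Cfsg.GU n F q) = q ^ (n * (n - 1) / 2) *
      ∏ i ∈ Finset.range n, (if Even i then q ^ (i + 1) + 1 else q ^ (i + 1) - 1) := by
  rw [card_GU hF, A_self_closed hF]

end Cfsg.Agent.Helper2.Herm
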