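import Mathlib
import Cfsg.Agent.Helper2.UnitaryGU
import Cfsg.Agent.Helper2.SLCard

/-! The order of the special unitary group. -/

set_option autoImplicit false
set_option linter.unusedSectionVars false
set_option linter.unusedVariables false

namespace Cfsg.Agent.Helper2.Herm

open Finset Matrix

variable {F : Type*} [Field F] [Fintype F] {q n : ℕ}

theorem conjTranspose_mul_self (hF : Fintype.card F = q ^ 2) {M : Matrix (Fin n) (Fin n) F}
    (hc : IsON q (cols M)) : (M.map (cj hF)).transpose * M = 1 := by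
  ext j k
  rw [Matrix.mul_apply]
  have := hc k j
  unfold Cfsg.hermForm at this
  simp only [Matrix.transpose_apply, Matrix.map_apply]
  rw [Matrix.one_apply]
  have e : ∑ i, cj hF (M i j) * M i k = ∑ i, cols M k i * cols M j i ^ q :=
    Finset.sum_congr rfl (fun i _ => by rw [cj_apply, mul_comm]; rfl)
  rw [e, this]
  by_cases hjk : j = k
  · rw [if_pos hjk, if_pos hjk.symm]
  · rw [if_neg hjk, if_neg (Ne.symm hjk)]

theorem det_pow_eq_one (hF : Fintype.card F = q ^ 2) {g : GL (Fin n) F}
    (hg : g ∈ Cfsg.GU n F q) : (Matrix.GeneralLinearGroup.det g) ^ (q + 1) = 1 := by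
  have h1 := conjTranspose_mul_self hF ((mem_GU_iff hF g).mp hg)
  have h2 := congrArg Matrix.det h1
  rw [Matrix.det_mul, Matrix.det_transpose, Matrix.det_one] at h2
  have h3 : ((g : Matrix (Fin n) (Fin n) F).map (cj hF)).det =
      cj hF (g : Matrix (Fin n) (Fin n) F).det := by
    rw [RingHom.map_det]
    rfl
  rw [h3, cj_apply] at h2
  apply Units.ext
  rw [Units.val_pow_eq_pow_val, Units.val_one, pow_succ]
  exact h2

/-- the determinant on `GU` -/
noncomputable def detGU (F : Type*) [Field F] [Fintype F] (q n : ℕ) : Cfsg.GU n F q →* Fˣ :=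
  (Matrix.GeneralLinearGroup.det).comp (Cfsg.GU n F q).subtype

/-- diagonal elements of `GU` -/
def diagGL (d : Fin n → Fˣ) : GL (Fin n) F :=
  ⟨Matrix.diagonal (fun i => (d i : F)), Matrix.diagonal (fun i => ((d i)⁻¹ : Fˣ)),
    by rw [Matrix.diagonal_mul_diagonal, ← Matrix.diagonal_one]; congr 1; funext i; simp,
    by rw [Matrix.diagonal_mul_diagonal, ← Matrix.diagonal_one]; congr 1; funext i; simp⟩

theorem diagGL_mem (hF : Fintype.card F = q ^ 2) (d : Fin n → Fˣ)
    (hd : ∀ i, (d i) ^ (q + 1) = 1) : diagGL d ∈ Cfsg.GU n F q := by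
  rw [mem_GU_iff hF]
  intro j k
  have hcol : ∀ j, cols (diagGL d : Matrix (Fin n) (Fin n) F) j = (d j : F) • Pi.single j 1 := by
    intro j
    ext i
    simp only [cols, diagGL, Pi.smul_apply, smul_eq_mul, Pi.single_apply]
    by_cases hij : i = j
    · subst hij; simp
    · rw [if_neg hij, mul_zero]
      exact Matrix.diagonal_apply_ne _ hij
  rw [hcol, hcol, hf_smul_left, hf_smul_right hF, hf_single hF]
  by_cases hjk : j = k
  · subst hjk
    rw [if_pos rfl, mul_one, cj_apply, ← pow_succ']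
    have := congrArg Units.val (hd j)
    simpa using this
  · rw [if_neg hjk, mul_zero, mul_zero]

theorem det_diagGL (d : Fin n → Fˣ) : Matrix.GeneralLinearGroup.det (diagGL d) = ∏ i, d i := by
  apply Units.ext
  rw [Matrix.GeneralLinearGroup.val_det_apply]
  change (Matrix.diagonal (fun i => (d i : F))).det = _
  rw [Matrix.det_diagonal]
  simp

theorem range_detGU (hF : Fintype.card F = q ^ 2) (n : ℕ) :
    (detGU F q (n + 1)).range = (powMonoidHom (q + 1) : Fˣ →* Fˣ).ker := by
  classical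
  ext z
  constructor
  · rintro ⟨g, rfl⟩
    rw [MonoidHom.mem_ker, powMonoidHom_apply]
    exact det_pow_eq_one hF g.2
  · intro hz
    rw [MonoidHom.mem_ker, powMonoidHom_apply] at hz
    let d : Fin (n + 1) → Fˣ := fun i => if i = 0 then z else 1
    have hd : ∀ i, (d i) ^ (q + 1) = 1 := by
      intro i
      simp only [d]
      split_ifs
      · exact hz
      · exact one_pow _
    refine ⟨⟨diagGL d, diagGL_mem hF d hd⟩, ?_⟩
    change Matrix.GeneralLinearGroup.det (diagGL d) = z
    rw [det_diagGL, Fin.prod_univ_succ]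
    simp [d, Fin.succ_ne_zero]

theorem mem_SU_iff (g : SpecialLinearGroup (Fin n) F) :
    g ∈ Cfsg.SU n F q ↔ SpecialLinearGroup.toGL g ∈ Cfsg.GU n F q := Iff.rfl

theorem card_ker_detGU : Nat.card (detGU F q n).ker = Nat.card (Cfsg.SU n F q) := by
  symm
  apply Nat.card_congr
  refine Equiv.ofBijective (fun s => ⟨⟨SpecialLinearGroup.toGL s.1, (mem_SU_iff s.1).mp s.2⟩, ?_⟩)
    ⟨?_, ?_⟩
  · rw [MonoidHom.mem_ker]
    change Matrix.GeneralLinearGroup.det (SpecialLinearGroup.toGL s.1) = 1
    apply Units.ext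
    rw [Matrix.GeneralLinearGroup.val_det_apply]
    exact s.1.2
  · intro s s' h
    have h1 : SpecialLinearGroup.toGL s.1 = SpecialLinearGroup.toGL s'.1 :=
      congrArg (fun x : (detGU F q n).ker => ((x : Cfsg.GU n F q) : GL (Fin n) F)) h
    exact Subtype.ext (SpecialLinearGroup.toGL_injective h1)
  · rintro ⟨⟨g, hg⟩, hdet⟩
    rw [MonoidHom.mem_ker] at hdet
    have hdet' : (g : Matrix (Fin n) (Fin n) F).det = 1 := by
      have := congrArg Units.val hdet
      simpa [detGU] using this
    let s : SpecialLinearGroup (Fin n) F := ⟨(g : Matrix (Fin n) (Fin n) F), hdet'⟩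
    have hs : SpecialLinearGroup.toGL s = g := by
      apply Units.ext
      rfl
    refine ⟨⟨s, ?_⟩, ?_⟩
    · rw [mem_SU_iff, hs]; exact hg
    · apply Subtype.ext
      apply Subtype.ext
      exact hs

theorem card_SU (hF : Fintype.card F = q ^ 2) (n : ℕ) (hn : 1 ≤ n) :
    (q + 1) * Nat.card (Cfsg.SU n F q) = Nat.card (Cfsg.GU n F q) := by
  obtain ⟨n, rfl⟩ : ∃ n', n = n' + 1 := ⟨n - 1, by omega⟩
  rw [← Subgroup.card_mul_index (detGU F q (n + 1)).ker, Subgroup.index_ker, range_detGU hF,
    card_ker_norm hF, card_ker_detGU, mul_comm]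

theorem card_SU_closed (hF : Fintype.card F = q ^ 2) (n : ℕ) (hn : 1 ≤ n) :
    (q + 1) * Nat.card (Cfsg.SU n F q) = q ^ (n * (n - 1) / 2) *
      ∏ i ∈ Finset.range n, (if Even i then q ^ (i + 1) + 1 else q ^ (i + 1) - 1) := by
  rw [card_SU hF n hn, card_GU_closed hF]

end Cfsg.Agent.Helper2.Herm
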