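import Mathlib
import Cfsg.Agent.Helper2.UnitarySU

/-! The centre of the special unitary group. -/

set_option autoImplicit false
set_option linter.unusedSectionVars false
set_option linter.unusedVariables false

namespace Cfsg.Agent.Helper2.Herm

open Finset Matrix

variable {F : Type*} [Field F] [Fintype F] {q n : ℕ}

theorem mem_SU_iff_isON (hF : Fintype.card F = q ^ 2) (g : SpecialLinearGroup (Fin n) F) :
    g ∈ Cfsg.SU n F q ↔ IsON q (cols g.1) := by
  rw [mem_SU_iff, mem_GU_iff hF]
  rfl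

/-- monomial frames are orthonormal -/
theorem isON_monomial (hF : Fintype.card F = q ^ 2) (σ : Equiv.Perm (Fin n)) (d : Fin n → F)
    (hd : ∀ j, d j * cj hF (d j) = 1) :
    IsON q (fun j => d j • (Pi.single (σ j) 1 : Fin n → F)) := by
  intro j k
  rw [hf_smul_left, hf_smul_right hF, hf_single hF]
  by_cases hjk : j = k
  · subst hjk
    rw [if_pos rfl, if_pos rfl, mul_one]
    exact hd j
  · rw [if_neg hjk, if_neg (fun h => hjk (σ.injective h)), mul_zero, mul_zero]

/-- the monomial matrix of a permutation and a weight -/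
def monoMat (σ : Equiv.Perm (Fin n)) (d : Fin n → F) : Matrix (Fin n) (Fin n) F :=
  (Matrix.diagonal d).submatrix σ id

theorem monoMat_apply (σ : Equiv.Perm (Fin n)) (d : Fin n → F) (i j : Fin n) :
    monoMat σ d i j = if σ i = j then d j else 0 := by
  unfold monoMat
  rw [Matrix.submatrix_apply, Matrix.diagonal_apply, id_eq]
  by_cases h : σ i = j
  · rw [if_pos h, if_pos h, h]
  · rw [if_neg h, if_neg h]

theorem det_monoMat (σ : Equiv.Perm (Fin n)) (d : Fin n → F) :
    (monoMat σ d).det = (Equiv.Perm.sign σ : ℤ) * ∏ i, d i := by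
  unfold monoMat
  rw [Matrix.det_permute, Matrix.det_diagonal]

theorem cols_monoMat (σ : Equiv.Perm (Fin n)) (d : Fin n → F) :
    cols (monoMat σ d) = fun j => d j • (Pi.single (σ⁻¹ j) 1 : Fin n → F) := by
  funext j i
  simp only [cols, monoMat_apply, Pi.smul_apply, smul_eq_mul, Pi.single_apply]
  by_cases h : σ i = j
  · rw [if_pos h, if_pos (by rw [← h]; simp), mul_one]
  · rw [if_neg h, if_neg (fun h' => h (by rw [h']; simp)), mul_zero]

theorem mul_monoMat (A : Matrix (Fin n) (Fin n) F) (σ : Equiv.Perm (Fin n)) (d : Fin n → F)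
    (i j : Fin n) : (A * monoMat σ d) i j = A i (σ⁻¹ j) * d j := by
  rw [Matrix.mul_apply, Finset.sum_eq_single (σ⁻¹ j)]
  · rw [monoMat_apply, if_pos (by simp)]
  · intro k _ hk
    rw [monoMat_apply, if_neg (fun h => hk (by rw [← h]; simp)), mul_zero]
  · intro h; exact absurd (Finset.mem_univ _) h

theorem monoMat_mul (A : Matrix (Fin n) (Fin n) F) (σ : Equiv.Perm (Fin n)) (d : Fin n → F)
    (i j : Fin n) : (monoMat σ d * A) i j = d (σ i) * A (σ i) j := by
  rw [Matrix.mul_apply, Finset.sum_eq_single (σ i)]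
  · rw [monoMat_apply, if_pos rfl]
  · intro k _ hk
    rw [monoMat_apply, if_neg (fun h => hk h.symm), zero_mul]
  · intro h; exact absurd (Finset.mem_univ _) h

/-- monomial elements of `SL` -/
def monoSL (σ : Equiv.Perm (Fin n)) (d : Fin n → F)
    (h : ((Equiv.Perm.sign σ : ℤ) : F) * ∏ i, d i = 1) : SpecialLinearGroup (Fin n) F :=
  ⟨monoMat σ d, by rw [det_monoMat]; exact h⟩

theorem monoSL_mem (hF : Fintype.card F = q ^ 2) (σ : Equiv.Perm (Fin n)) (d : Fin n → F)
    (h : ((Equiv.Perm.sign σ : ℤ) : F) * ∏ i, d i = 1) (hd : ∀ j, d j * cj hF (d j) = 1) :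
    monoSL σ d h ∈ Cfsg.SU n F q := by
  rw [mem_SU_iff_isON hF]
  change IsON q (cols (monoMat σ d))
  rw [cols_monoMat]
  exact isON_monomial hF σ⁻¹ d hd

/-- an element of norm one which is not of order dividing two -/
theorem exists_norm_one_sq_ne (hF : Fintype.card F = q ^ 2) :
    ∃ z : Fˣ, z ^ (q + 1) = 1 ∧ z ^ 2 ≠ 1 := by
  have hq := two_le_q hF
  have hc := card_ker_norm hF
  obtain ⟨g, hg⟩ := IsCyclic.exists_ofOrder_eq_natCard
    (α := (powMonoidHom (q + 1) : Fˣ →* Fˣ).ker)
  rw [hc] at hg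
  refine ⟨g.1, ?_, ?_⟩
  · have := g.2
    rwa [MonoidHom.mem_ker, powMonoidHom_apply] at this
  · intro h2
    have h3 : g ^ 2 = 1 := Subtype.ext h2
    have := orderOf_dvd_of_pow_eq_one h3
    rw [hg] at this
    have := Nat.le_of_dvd (by norm_num) this
    omega

section central

variable (hF : Fintype.card F = q ^ 2) (g : SpecialLinearGroup (Fin n) F)
  (hg : ∀ h ∈ Cfsg.SU n F q, h * g = g * h)

include hF hg

theorem central_offdiag (a b : Fin n) (hab : a ≠ b) : g.1 a b = 0 := by
  classical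
  obtain ⟨z, hz, hz2⟩ := exists_norm_one_sq_ne hF
  let d : Fin n → F := fun i => ((if i = a then z else 1) * (if i = b then z⁻¹ else 1) : Fˣ)
  have hprod : ((Equiv.Perm.sign (1 : Equiv.Perm (Fin n)) : ℤ) : F) * ∏ i, d i = 1 := by
    rw [Equiv.Perm.sign_one]
    simp only [d]
    rw [← Units.coe_prod, Finset.prod_mul_distrib, Finset.prod_ite_eq', Finset.prod_ite_eq']
    simp
  have hd : ∀ j, d j * cj hF (d j) = 1 := by
    intro j
    have hj : ((if j = a then z else 1) * (if j = b then z⁻¹ else 1) : Fˣ) ^ (q + 1) = 1 := by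
      rw [mul_pow]
      split_ifs <;> simp [hz]
    rw [cj_apply, ← pow_succ']
    have := congrArg Units.val hj
    rw [Units.val_pow_eq_pow_val, Units.val_one] at this
    exact this
  have h1 := hg _ (monoSL_mem hF 1 d hprod hd)
  have h2 : (monoMat 1 d * g.1) a b = (g.1 * monoMat 1 d) a b := by
    have := congrArg (fun x : SpecialLinearGroup (Fin n) F => x.1 a b) h1
    exact this
  rw [monoMat_mul, mul_monoMat] at h2
  simp only [Equiv.Perm.coe_one, id_eq, inv_one] at h2
  have hda : d a = (z : F) := by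
    simp [d, hab]
  have hdb : d b = ((z⁻¹ : Fˣ) : F) := by
    simp [d, Ne.symm hab]
  rw [hda, hdb] at h2
  by_contra hne
  have h3 : (z : F) = ((z⁻¹ : Fˣ) : F) := by
    have : ((z : F) - ((z⁻¹ : Fˣ) : F)) * g.1 a b = 0 := by
      rw [sub_mul, h2]; ring
    rcases mul_eq_zero.mp this with h | h
    · exact sub_eq_zero.mp h
    · exact absurd h hne
  apply hz2
  have : z = z⁻¹ := Units.ext h3
  rw [pow_two]
  nth_rewrite 2 [this]
  exact mul_inv_cancel z

theorem central_diag (a b : Fin n) : g.1 a a = g.1 b b := by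
  classical
  by_cases hab : a = b
  · rw [hab]
  let d : Fin n → F := fun i => if i = a then -1 else 1
  have hprod : ((Equiv.Perm.sign (Equiv.swap a b) : ℤ) : F) * ∏ i, d i = 1 := by
    rw [Equiv.Perm.sign_swap hab]
    simp only [d]
    rw [Finset.prod_ite_eq']
    simp
  have hd : ∀ j, d j * cj hF (d j) = 1 := by
    intro j
    simp only [d]
    split_ifs
    · rw [map_neg, map_one]; ring
    · rw [map_one]; ring
  have h1 := hg _ (monoSL_mem hF (Equiv.swap a b) d hprod hd)
  have h2 : (monoMat (Equiv.swap a b) d * g.1) a b = (g.1 * monoMat (Equiv.swap a b) d) a b := by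
    have := congrArg (fun x : SpecialLinearGroup (Fin n) F => x.1 a b) h1
    exact this
  rw [monoMat_mul, mul_monoMat] at h2
  have hdb : d b = 1 := by
    simp only [d]
    rw [if_neg (Ne.symm hab)]
  rw [Equiv.swap_inv, Equiv.swap_apply_left, Equiv.swap_apply_right, hdb, one_mul, mul_one] at h2
  exact h2.symm

end central

/-- scalar elements of `SU` -/
noncomputable def scalarSU (hF : Fintype.card F = q ^ 2) (n : ℕ)
    (z : (powMonoidHom (Nat.gcd n (q + 1)) : Fˣ →* Fˣ).ker) : Cfsg.SU n F q :=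
  have hz : (z : Fˣ) ^ (Nat.gcd n (q + 1)) = 1 := by
    have := z.2
    rwa [MonoidHom.mem_ker, powMonoidHom_apply] at this
  have hzn : (z : Fˣ) ^ n = 1 := (pow_gcd_eq_one.mp hz).1
  have hzq : (z : Fˣ) ^ (q + 1) = 1 := (pow_gcd_eq_one.mp hz).2
  ⟨monoSL 1 (fun _ => ((z : Fˣ) : F)) (by
      rw [Equiv.Perm.sign_one, Finset.prod_const, Finset.card_univ, Fintype.card_fin,
        ← Units.val_pow_eq_pow_val, hzn]; simp),
    monoSL_mem hF 1 _ _ (by
      intro j
      rw [cj_apply, ← pow_succ', ← Units.val_pow_eq_pow_val, hzq]; simp)⟩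

theorem scalarSU_apply (hF : Fintype.card F = q ^ 2) (n : ℕ)
    (z : (powMonoidHom (Nat.gcd n (q + 1)) : Fˣ →* Fˣ).ker) (i j : Fin n) :
    (scalarSU hF n z).1.1 i j = if i = j then ((z : Fˣ) : F) else 0 := by
  change monoMat 1 (fun _ => ((z : Fˣ) : F)) i j = _
  rw [monoMat_apply]
  rfl

theorem scalarSU_mem_center (hF : Fintype.card F = q ^ 2) (n : ℕ)
    (z : (powMonoidHom (Nat.gcd n (q + 1)) : Fˣ →* Fˣ).ker) :
    scalarSU hF n z ∈ Subgroup.center (Cfsg.SU n F q) := by
  rw [Subgroup.mem_center_iff]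
  intro h
  apply Subtype.ext
  apply Subtype.ext
  change h.1.1 * monoMat 1 (fun _ => ((z : Fˣ) : F)) = monoMat 1 (fun _ => ((z : Fˣ) : F)) * h.1.1
  ext i j
  rw [mul_monoMat, monoMat_mul]
  simp only [Equiv.Perm.coe_one, id_eq, inv_one]
  exact mul_comm _ _

theorem card_center_SU (hF : Fintype.card F = q ^ 2) (n : ℕ) (hn : 2 ≤ n) :
    Nat.card (Subgroup.center (Cfsg.SU n F q)) = Nat.gcd n (q + 1) := by
  classical
  have hq := two_le_q hF
  obtain ⟨m, rfl⟩ : ∃ m, n = m + 1 := ⟨n - 1, by omega⟩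
  have hcard : Nat.card (powMonoidHom (Nat.gcd (m + 1) (q + 1)) : Fˣ →* Fˣ).ker =
      Nat.gcd (m + 1) (q + 1) := by
    rw [IsCyclic.card_powMonoidHom_ker, card_units hF, factor hq]
    apply Nat.gcd_eq_right
    exact (Nat.gcd_dvd_right _ _).trans (dvd_mul_right _ _)
  rw [← hcard]
  symm
  apply Nat.card_congr
  refine Equiv.ofBijective
    (fun z => (⟨scalarSU hF (m + 1) z, scalarSU_mem_center hF (m + 1) z⟩ :
      Subgroup.center (Cfsg.SU (m + 1) F q))) ⟨?_, ?_⟩
  · intro z z' h
    have h1 : (scalarSU hF (m + 1) z).1.1 0 0 = (scalarSU hF (m + 1) z').1.1 0 0 := by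
      have := congrArg (fun x : Subgroup.center (Cfsg.SU (m + 1) F q) => x.1.1.1 0 0) h
      exact this
    rw [scalarSU_apply, scalarSU_apply, if_pos rfl, if_pos rfl] at h1
    exact Subtype.ext (Units.ext h1)
  · rintro ⟨⟨g, hgSU⟩, hgc⟩
    rw [Subgroup.mem_center_iff] at hgc
    have hg : ∀ h ∈ Cfsg.SU (m + 1) F q, h * g = g * h := by
      intro h hh
      have := hgc ⟨h, hh⟩
      exact congrArg Subtype.val this
    have hoff := central_offdiag hF g hg
    have hdiag := central_diag hF g hg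
    -- the scalar
    have hdet : (g.1 0 0) ^ (m + 1) = 1 := by
      have h1 : g.1 = Matrix.diagonal (fun _ => g.1 0 0) := by
        ext i j
        by_cases hij : i = j
        · subst hij; rw [Matrix.diagonal_apply_eq]; exact hdiag i 0
        · rw [Matrix.diagonal_apply_ne _ hij]; exact hoff i j hij
      have h2 := g.2
      rw [h1, Matrix.det_diagonal, Finset.prod_const, Finset.card_univ, Fintype.card_fin] at h2
      exact h2
    have hne : g.1 0 0 ≠ 0 := by
      intro h0
      rw [h0, zero_pow (by omega)] at hdet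
      exact zero_ne_one hdet
    have hnorm : (g.1 0 0) ^ (q + 1) = 1 := by
      have h1 := (mem_SU_iff_isON hF g).mp hgSU 0 0
      rw [if_pos rfl, hf_self, Finset.sum_eq_single 0] at h1
      · exact h1
      · intro i _ hi
        change (g.1 i 0) ^ (q + 1) = 0
        rw [hoff i 0 hi, zero_pow (by omega)]
      · intro h; exact absurd (Finset.mem_univ _) h
    let u : Fˣ := Units.mk0 (g.1 0 0) hne
    have hu1 : u ^ (m + 1) = 1 := by
      apply Units.ext
      rw [Units.val_pow_eq_pow_val, Units.val_one]; exact hdet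
    have hu2 : u ^ (q + 1) = 1 := by
      apply Units.ext
      rw [Units.val_pow_eq_pow_val, Units.val_one]; exact hnorm
    have hu : u ∈ (powMonoidHom (Nat.gcd (m + 1) (q + 1)) : Fˣ →* Fˣ).ker := by
      rw [MonoidHom.mem_ker, powMonoidHom_apply]
      exact pow_gcd_eq_one.mpr ⟨hu1, hu2⟩
    refine ⟨⟨u, hu⟩, ?_⟩
    apply Subtype.ext
    apply Subtype.ext
    apply Subtype.ext
    ext i j
    rw [scalarSU_apply]
    by_cases hij : i = j
    · subst hij
      rw [if_pos rfl]
      exact (hdiag i 0).symm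
    · rw [if_neg hij]
      exact (hoff i j hij).symm

theorem card_PSU_closed (hF : Fintype.card F = q ^ 2) (n : ℕ) (hn : 2 ≤ n) :
    Nat.gcd n (q + 1) * ((q + 1) * Nat.card (Cfsg.PSU n F q)) = q ^ (n * (n - 1) / 2) *
      ∏ i ∈ Finset.range n, (if Even i then q ^ (i + 1) + 1 else q ^ (i + 1) - 1) := by
  rw [← card_SU_closed hF n (by omega), ← card_center_SU hF n hn,
    Subgroup.card_eq_card_quotient_mul_card_subgroup (Subgroup.center (Cfsg.SU n F q))]
  ring

end Cfsg.Agent.Helper2.Herm
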