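import Mathlib
import Cfsg.Agent.Helper28.S3000Defs
import Cfsg.Agent.Helper14.S3000TKD3

/-! Board `s3000pieces`, piece TKD4: `Tool.Ri_act`, `Tool.Rc_act` (TK3 (a), (b), (c)). -/

set_option autoImplicit false

namespace Cfsg.Agent.S3000P

open Cfsg.Agent.S2789P Cfsg.Agent.S2999P
open scoped commutatorElement

variable {G : Type*} [Group G] [Finite G] {p : ℕ} [Fact p.Prime] {V P : Subgroup G} {T : Sylow p ↥P} {M : Subgroup ↥P} {q : ℕ}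
variable {A E H : Subgroup G} {w : G}

omit [Finite G] [Fact p.Prime] in
/-- conjugating by `h` and back -/
theorem TKD4_aux_conj_mem {h x : G} {R : Subgroup G} (hR : cjs h R = R) (hx : x ∈ R) : h * x * h⁻¹ ∈ R := by
  have := cj_mem_conj (g := h) (E := R) |>.mpr hx
  rwa [hR] at this

/-- TKD7 (M): TK3 (a), (b) on `Ř_∞`. -/
theorem Tool.Ri_act (Hy : Hyp p V P T M) (K : Tool p V P q A E H w) :
    (∀ h ∈ H, h ≠ 1 → ∀ y ∈ ⁅fixV V (cjs w A), H⁆, ∃ x ∈ ⁅fixV V (cjs w A), H⁆, h * x * h⁻¹ * x⁻¹ = y) ∧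
      ∃ h₁ ∈ H, ∃ h₂ ∈ H, h₁ ≠ 1 ∧ h₂ ≠ 1 ∧ ∀ x ∈ ⁅fixV V (cjs w A), H⁆, (h₁ * x * h₁⁻¹) * (h₂ * x * h₂⁻¹) = x := by
  obtain ⟨hsup, hinfA, -, -, hnorm⟩ := Tool.Ri Hy K
  set Ri := ⁅fixV V (cjs w A), H⁆ with hRi
  have hCA : fixV V E ≤ fixV V A := fix_anti K.hAE
  have hinfC : Ri ⊓ fixV V E = ⊥ := by
    apply le_antisymm _ bot_le
    rw [← hinfA]
    exact inf_le_inf_left _ hCA
  have hRiU : Ri ≤ fixV V (cjs w A) := by
    rw [← hsup]; exact le_sup_left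
  have hRiV : Ri ≤ V := hRiU.trans (fix_le V _)
  have htriv : ∀ x ∈ Ri, x ∈ fixV V E → x = 1 := by
    intro x hx hxC
    have : x ∈ Ri ⊓ fixV V E := ⟨hx, hxC⟩
    rw [hinfC] at this
    exact Subgroup.mem_bot.mp this
  constructor
  · intro h hh hh1 y hy
    let f : ↥Ri → ↥Ri := fun x =>
      ⟨h * (x : G) * h⁻¹ * (x : G)⁻¹, Ri.mul_mem (TKD4_aux_conj_mem (hnorm h hh) x.2) (Ri.inv_mem x.2)⟩
    have hinj : Function.Injective f := by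
      intro x y hxy
      have h1 : h * (x : G) * h⁻¹ * (x : G)⁻¹ = h * (y : G) * h⁻¹ * (y : G)⁻¹ := congrArg Subtype.val hxy
      have h2 : h * ((y : G)⁻¹ * (x : G)) * h⁻¹ = (y : G)⁻¹ * (x : G) := by
        have e1 : h * ((y : G)⁻¹ * (x : G)) * h⁻¹ =
            (h * (y : G) * h⁻¹)⁻¹ * ((h * (x : G) * h⁻¹ * (x : G)⁻¹) * (x : G)) := by group
        rw [e1, h1]; group
      have h3 : (y : G)⁻¹ * (x : G) ∈ Ri := Ri.mul_mem (Ri.inv_mem y.2) x.2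
      have h4 := K.hfixH h hh hh1 _ (hRiV h3) h2
      have h5 := htriv _ h3 h4
      apply Subtype.ext
      have : (x : G) = (y : G) * ((y : G)⁻¹ * (x : G)) := by group
      rw [this, h5, mul_one]
    have hsurj : Function.Surjective f := Finite.injective_iff_surjective.mp hinj
    obtain ⟨x, hx⟩ := hsurj ⟨y, hy⟩
    exact ⟨x, x.2, congrArg Subtype.val hx⟩
  · obtain ⟨h₁, hh₁, h₂, hh₂, hne₁, hne₂, hs⟩ := K.hsum
    refine ⟨h₁, hh₁, h₂, hh₂, hne₁, hne₂, ?_⟩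
    intro x hx
    have h1 := hs x (hRiU hx)
    have h2 : (h₁ * x * h₁⁻¹) * (h₂ * x * h₂⁻¹) * x⁻¹ ∈ Ri :=
      Ri.mul_mem (Ri.mul_mem (TKD4_aux_conj_mem (hnorm h₁ hh₁) hx) (TKD4_aux_conj_mem (hnorm h₂ hh₂) hx)) (Ri.inv_mem hx)
    have h3 := htriv _ h2 h1
    exact mul_inv_eq_one.mp h3

/-- TKD8 (M): `H` is transitive on `Ř_A \ 1`; TK3 (c). -/
theorem Tool.Rc_act (Hy : Hyp p V P T M) (hq2 : 2 < q) (K : Tool p V P q A E H w) :
    (∀ r ∈ ⁅fixV V A, H⁆, r ≠ 1 → ∀ r' ∈ ⁅fixV V A, H⁆, r' ≠ 1 → ∃ h ∈ H, h * r * h⁻¹ = r') ∧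
      ∀ r ∈ ⁅fixV V A, H⁆, r ≠ 1 → Subgroup.closure {x | ∃ h ∈ H, x = h * r * h⁻¹ * r⁻¹} = ⁅fixV V A, H⁆ := by
  obtain ⟨hsup, hinfC, -, hcard⟩ := Tool.Rc Hy K
  -- `H` normalises `Ř_A`
  have hnorm : ∀ h ∈ H, cjs h ⁅fixV V A, H⁆ = ⁅fixV V A, H⁆ := by
    intro h hh
    rw [cj_comm, ← cj_fix A (Hy.hPV (K.hEP (K.hHE hh))), K.hHA h hh, cj_self hh]
  set Rc := ⁅fixV V A, H⁆ with hRc
  have hRcU : Rc ≤ fixV V A := by
    rw [← hsup]; exact le_sup_left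
  have htriv : ∀ x ∈ Rc, x ∈ fixV V E → x = 1 := by
    intro x hx hxC
    have : x ∈ Rc ⊓ fixV V E := ⟨hx, hxC⟩
    rw [hinfC] at this
    exact Subgroup.mem_bot.mp this
  have htr : ∀ r ∈ Rc, r ≠ 1 → ∀ r' ∈ Rc, r' ≠ 1 → ∃ h ∈ H, h * r * h⁻¹ = r' := by
    intro r hr hr1 r' hr' hr'1
    obtain ⟨h, hh, hmem⟩ := K.htransR r (hRcU hr) (fun hC => hr1 (htriv r hr hC)) r' (hRcU hr')
      (fun hC => hr'1 (htriv r' hr' hC))
    refine ⟨h, hh, ?_⟩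
    have h2 : h * r * h⁻¹ * r'⁻¹ ∈ Rc := Rc.mul_mem (TKD4_aux_conj_mem (hnorm h hh) hr) (Rc.inv_mem hr')
    exact mul_inv_eq_one.mp (htriv _ h2 hmem)
  refine ⟨htr, ?_⟩
  intro r hr hr1
  set S := Subgroup.closure {x | ∃ h ∈ H, x = h * r * h⁻¹ * r⁻¹} with hS
  apply le_antisymm
  · rw [hS, Subgroup.closure_le]
    rintro x ⟨h, hh, rfl⟩
    exact Rc.mul_mem (TKD4_aux_conj_mem (hnorm h hh) hr) (Rc.inv_mem hr)
  · -- `r' r⁻¹ ∈ S` for all `1 ≠ r' ∈ Ř_A`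
    have hkey : ∀ r' ∈ Rc, r' ≠ 1 → r' * r⁻¹ ∈ S := by
      intro r' hr' hr'1
      obtain ⟨h, hh, hhr⟩ := htr r hr hr1 r' hr' hr'1
      apply Subgroup.subset_closure
      exact ⟨h, hh, by rw [hhr]⟩
    -- there is `r' ∈ Ř_A` other than `1, r`
    have hex : ∃ r' ∈ Rc, r' ≠ 1 ∧ r' ≠ r := by
      by_contra hcon
      push Not at hcon
      have hsub : (Rc : Set G) ⊆ {1, r} := by
        intro x hx
        by_cases hx1 : x = 1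
        · left; exact hx1
        · right; exact hcon x hx hx1
      have h1 : Nat.card ↥Rc = (Rc : Set G).ncard := rfl
      have h2 : (Rc : Set G).ncard ≤ ({1, r} : Set G).ncard := Set.ncard_le_ncard hsub (Set.toFinite _)
      have h3 : ({1, r} : Set G).ncard ≤ 2 := Set.ncard_insert_le _ _ |>.trans (by simp)
      omega
    obtain ⟨r', hr', hr'1, hr'r⟩ := hex
    have hs : r' * r⁻¹ ∈ S := hkey r' hr' hr'1
    have hsRc : r' * r⁻¹ ∈ Rc := Rc.mul_mem hr' (Rc.inv_mem hr)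
    have hs1 : r' * r⁻¹ ≠ 1 := fun h => hr'r (mul_inv_eq_one.mp h)
    have hs2 : (r' * r⁻¹) * r⁻¹ ∈ S := hkey _ hsRc hs1
    have hrS : r ∈ S := by
      have h1 : r⁻¹ ∈ S := by
        have := S.mul_mem (S.inv_mem hs) hs2
        have e : (r' * r⁻¹)⁻¹ * ((r' * r⁻¹) * r⁻¹) = r⁻¹ := by group
        rwa [e] at this
      exact (Subgroup.inv_mem_iff _).mp h1
    intro x hx
    by_cases hx1 : x = 1
    · rw [hx1]; exact S.one_mem
    · have := S.mul_mem (hkey x hx hx1) hrS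
      have e : x * r⁻¹ * r = x := by group
      rwa [e] at this

end Cfsg.Agent.S3000P
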