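import Mathlib
import Cfsg.Agent.Helper28.S3000Defs
import Cfsg.Agent.Helper22.S3000Z1B
import Cfsg.Agent.Helper17.S3000Z1C
import Cfsg.Agent.Helper28.S3000Z1D

/-! Board `s3000pieces`, pieces Z1 (from Z1B, Z1C, Z1D) and Z1conj. -/

set_option autoImplicit false

namespace Cfsg.Agent.S3000P

open Cfsg.Agent.S2789P Cfsg.Agent.S2999P
open scoped commutatorElement

variable {G : Type*} [Group G] [Finite G] {p : ℕ} [Fact p.Prime] {V P : Subgroup G} {T : Sylow p ↥P} {M : Subgroup ↥P} {q : ℕ}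
variable {A E H : Subgroup G} {w : G}

omit [Finite G] [Fact p.Prime] in
/-- elements of an elementary abelian subgroup commute -/
theorem Z1_aux_elab_comm {B : Subgroup G} (hB : Cfsg.IsElementaryAbelian p B) {x y : G} (hx : x ∈ B) (hy : y ∈ B) :
    x * y = y * x := by
  have := hB.1.is_comm.comm ⟨x, hx⟩ ⟨y, hy⟩
  exact congrArg Subtype.val this

omit [Finite G] [Fact p.Prime] in
/-- conjugates of members of `𝒜` by elements of `P` are members of `𝒜` -/
theorem Z1_aux_InA_conj (Hy : Hyp p V P T M) {A : Subgroup G} (hA : InA p V P q A) {x : G} (hx : x ∈ P) :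
    InA p V P q (cjs x A) :=
  ⟨cj_le_of_mem hx hA.le, hA.so.conj (Hy.hPV hx), by rw [cj_card]; exact hA.card⟩

/-- Z1 (S, from Z1A–D) -/
theorem Z1 (Hy : Hyp p V P T M) (hq : MinQ p V P q) (K : Tool p V P q A E H w) {D : Subgroup G} (hD : InA p V P q D)
    (hDA : D ≠ A) (hc : ∀ a ∈ A, ∀ d ∈ D, a * d = d * a) : ∀ d ∈ D, ∀ e ∈ E, d * e = e * d := by
  by_cases hH : ∀ h ∈ H, cjs h D = D
  · exact Z1B Hy K hD hDA hc hH
  · push Not at hH
    obtain ⟨F₁, hF, hFB, hFA, hFH⟩ := Z1D Hy hq K hD hDA hc hH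
    have hcF : ∀ a ∈ A, ∀ f ∈ F₁, a * f = f * a := by
      intro a ha f hf
      have h1 : A ⊔ D ≤ Subgroup.centralizer ({a} : Set G) := by
        refine sup_le ?_ ?_
        · intro b hb
          rw [Subgroup.mem_centralizer_iff]
          intro y hy
          rw [Set.mem_singleton_iff] at hy
          subst hy
          exact Z1_aux_elab_comm K.hA.so.hA ha hb
        · intro d hd
          rw [Subgroup.mem_centralizer_iff]
          intro y hy
          rw [Set.mem_singleton_iff] at hy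
          subst hy
          exact hc y ha d hd
      have h2 := h1 (hFB hf)
      rw [Subgroup.mem_centralizer_iff] at h2
      exact h2 a rfl
    have hFE := Z1B Hy K hF hFA hcF hFH
    have hDF := Z1C Hy K hD hDA hc hF hFB hFA hFE
    obtain ⟨h, hh, hne⟩ := hH
    exact absurd (hDF ▸ hFH h hh) hne

/-- Z1conj (M) -/
theorem Z1conj (Hy : Hyp p V P T M) (hq : MinQ p V P q) (K : Tool p V P q A E H w) {x : G} (hx : x ∈ P)
    (hne : cjs x A ≠ A) (hc : ∀ a ∈ A, ∀ b ∈ cjs x A, a * b = b * a) : ∀ e ∈ E, ∀ f ∈ cjs x E, e * f = f * e := by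
  -- step 1: `cjs x A` centralises `E`
  have h1 : ∀ d ∈ cjs x A, ∀ e ∈ E, d * e = e * d :=
    Z1 Hy hq K (Z1_aux_InA_conj Hy K.hA hx) hne hc
  -- `A` does not centralise `E`
  have hAnc : ¬ (∀ a ∈ A, ∀ e ∈ E, a * e = e * a) := by
    intro hAc
    apply K.hwA
    ext y
    rw [cj_mem]
    have hwc : ∀ a ∈ A, w * a = a * w := fun a ha => (hAc a ha w K.hwE).symm
    constructor
    · intro hy
      have e1 : y = w * (w⁻¹ * y * w) * w⁻¹ := by group
      rw [e1, hwc _ hy]
      simpa using hy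
    · intro hy
      have e1 : w⁻¹ * y * w = w⁻¹ * (y * w) := by group
      rw [e1, ← hwc y hy]
      simpa using hy
  -- step 2: every Sylow `cjs e A` of `E` centralises `cjs x E`
  have h2 : ∀ e ∈ E, ∀ b ∈ cjs e A, ∀ f ∈ cjs x E, b * f = f * b := by
    intro e he b hb f hf
    have hxinv : x⁻¹ ∈ P := P.inv_mem hx
    have hD : InA p V P q (cjs x⁻¹ (cjs e A)) :=
      Z1_aux_InA_conj Hy (Z1_aux_InA_conj Hy K.hA (K.hEP he)) hxinv
    have hDA : cjs x⁻¹ (cjs e A) ≠ A := by
      intro heq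
      have h3 : cjs e A = cjs x A := by
        have := congrArg (cjs x) heq
        rwa [cj_cj_inv] at this
      apply hAnc
      intro a ha e' he'
      -- `e a e⁻¹ ∈ cjs e A = cjs x A` centralises `E`
      have h4 : e * a * e⁻¹ ∈ cjs x A := by
        rw [← h3]; exact cj_mem_conj.mpr ha
      have h5 := h1 _ h4 (e * e' * e⁻¹) (E.mul_mem (E.mul_mem he he') (E.inv_mem he))
      have e1 : a * e' = e⁻¹ * ((e * a * e⁻¹) * (e * e' * e⁻¹)) * e := by group
      have e2 : e' * a = e⁻¹ * ((e * e' * e⁻¹) * (e * a * e⁻¹)) * e := by group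
      rw [e1, e2, h5]
    have hcD : ∀ a ∈ A, ∀ d ∈ cjs x⁻¹ (cjs e A), a * d = d * a := by
      intro a ha d hd
      rw [cj_mem, inv_inv] at hd
      -- `x d x⁻¹ ∈ cjs e A ≤ E`, `x a x⁻¹ ∈ cjs x A` centralises `E`
      have h6 : x * d * x⁻¹ ∈ E := by
        have : cjs e A ≤ E := cj_le_of_mem he K.hAE
        exact this hd
      have h7 : x * a * x⁻¹ ∈ cjs x A := cj_mem_conj.mpr ha
      have h8 := h1 _ h7 _ h6
      have e1 : a * d = x⁻¹ * ((x * a * x⁻¹) * (x * d * x⁻¹)) * x := by group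
      have e2 : d * a = x⁻¹ * ((x * d * x⁻¹) * (x * a * x⁻¹)) * x := by group
      rw [e1, e2, h8]
    have h9 := Z1 Hy hq K hD hDA hcD
    -- `x⁻¹ b x ∈ cjs x⁻¹ (cjs e A)`, `x⁻¹ f x ∈ E`
    have hb' : x⁻¹ * b * x ∈ cjs x⁻¹ (cjs e A) := by
      have := cj_mem_conj (g := x⁻¹) (E := cjs e A) |>.mpr hb
      rwa [inv_inv] at this
    have hf' : x⁻¹ * f * x ∈ E := cj_mem.mp hf
    have h10 := h9 _ hb' _ hf'
    have e1 : b * f = x * ((x⁻¹ * b * x) * (x⁻¹ * f * x)) * x⁻¹ := by group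
    have e2 : f * b = x * ((x⁻¹ * f * x) * (x⁻¹ * b * x)) * x⁻¹ := by group
    rw [e1, e2, h10]
  -- step 3: `E = A ⊔ cjs w A`
  have hE : A ⊔ cjs w A = E := K.hgen w K.hwE K.hwA
  have h3 : E ≤ Subgroup.centralizer ((cjs x E : Subgroup G) : Set G) := by
    refine hE.symm.le.trans ?_
    refine sup_le ?_ ?_
    · intro a ha
      rw [Subgroup.mem_centralizer_iff]
      intro f hf
      have := h2 1 E.one_mem a (by rw [cj_one]; exact ha) f hf
      exact this.symm
    · intro a ha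
      rw [Subgroup.mem_centralizer_iff]
      intro f hf
      exact (h2 w K.hwE a ha f hf).symm
  intro e he f hf
  have := h3 he
  rw [Subgroup.mem_centralizer_iff] at this
  exact (this f hf).symm

end Cfsg.Agent.S3000P
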