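import Mathlib
import Cfsg.Agent.Helper28.S3000Defs
import Cfsg.Agent.Helper10.S3000PKG2
import Cfsg.Agent.Helper28.S3000TOOL
import Cfsg.Agent.Helper22.S3000U
import Cfsg.Agent.Helper2.S3000Z1

/-! Board `s3000pieces`, pieces UT and COMM. -/

set_option autoImplicit false

namespace Cfsg.Agent.S3000P

open Cfsg.Agent.S2789P Cfsg.Agent.S2999P
open scoped commutatorElement

variable {G : Type*} [Group G] [Finite G] {p : ℕ} [Fact p.Prime] {V P : Subgroup G} {T : Sylow p ↥P} {M : Subgroup ↥P} {q : ℕ}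
variable {A E H : Subgroup G} {w : G}

/-- `T ≤ M` as subgroups of `G` -/
theorem UT_aux_TT_le_MM (Hy : Hyp p V P T M) : TT T ≤ MM M := Subgroup.map_mono Hy.hTM

/-- `T ≤ P` as subgroups of `G` -/
theorem UT_aux_TT_le (T : Sylow p ↥P) : TT T ≤ P := by
  rintro x ⟨y, -, rfl⟩
  exact y.2

/-- UT (M) -/
theorem UT (Hy : Hyp p V P T M) (hq : MinQ p V P q) (hq2 : 2 < q) (hK : Pack p V P q A E) (hB : Based (MM M) A E)
    (hAT : A ≤ TT T) {t : G} (ht : t ∈ TT T) (htA : cjs t A = A) : cjs t E = E := by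
  have htP : t ∈ P := UT_aux_TT_le T ht
  have hK' : Pack p V P q A (cjs t E) := by
    have := Pack.conj Hy hK htP
    rwa [htA] at this
  have hB' : Based (MM M) A (cjs t E) := by
    have := Based.conj hB t
    rwa [htA, cj_self (UT_aux_TT_le_MM Hy ht)] at this
  obtain ⟨H₁, w₁, K₁⟩ := TOOL Hy hq2 hK
  obtain ⟨H₂, w₂, K₂⟩ := TOOL Hy hq2 hK'
  exact (U Hy hq hq2 K₁ K₂ hB hB' hAT).symm

/-- COMM (M) -/
theorem COMM (Hy : Hyp p V P T M) (hq : MinQ p V P q) (hq2 : 2 < q) (hK : Pack p V P q A E) (hB : Based (MM M) A E)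
    (hAT : A ≤ TT T) : ∀ t ∈ TT T, cjs t E ≠ E → ∀ x ∈ E, ∀ y ∈ cjs t E, x * y = y * x := by
  intro t ht hne
  have htP : t ∈ P := UT_aux_TT_le T ht
  have hneA : cjs t A ≠ A := fun h => hne (UT Hy hq hq2 hK hB hAT ht h)
  obtain ⟨H₁, w₁, K₁⟩ := TOOL Hy hq2 hK
  have hA := hK.hA
  have htAT : cjs t A ≤ TT T := cj_le_of_mem ht hAT
  have hA' : InA p V P q (cjs t A) :=
    ⟨cj_le_of_mem htP hA.le, hA.so.conj (Hy.hPV htP), by rw [cj_card]; exact hA.card⟩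
  have hQ : IsPGroup p ↥(A ⊔ cjs t A) := by
    have hle : A ⊔ cjs t A ≤ TT T := sup_le hAT htAT
    have hT : IsPGroup p ↥(TT T) := J_aux_isPGroup_T P T
    exact hT.to_le hle
  have hc := LC Hy hA.le hA.so hA'.le hA'.so (by rw [hA.card, hA'.card]) hQ
  exact Z1conj Hy hq K₁ htP hneA hc

end Cfsg.Agent.S3000P
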