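import Mathlib
import Cfsg.Agent.Helper28.S3000Defs
import Cfsg.Agent.Helper9.S3000TKD2

/-! Board `s3000pieces`, piece VEC: for two tools `(A,E)`, `(A',E')` with `[E,E'] = 1`: `[V,E'] ≤ C_V(E)`. -/

set_option autoImplicit false

namespace Cfsg.Agent.S3000P

open Cfsg.Agent.S2789P Cfsg.Agent.S2999P
open scoped commutatorElement

variable {G : Type*} [Group G] [Finite G] {p : ℕ} [Fact p.Prime] {V P : Subgroup G} {T : Sylow p ↥P} {M : Subgroup ↥P} {q : ℕ}
variable {A E H : Subgroup G} {w : G}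

omit [Finite G] [Fact p.Prime] in
/-- elements of an elementary abelian subgroup commute -/
theorem VEC_aux_elab_comm {B : Subgroup G} (hB : Cfsg.IsElementaryAbelian p B) {x y : G} (hx : x ∈ B) (hy : y ∈ B) :
    x * y = y * x := by
  have := hB.1.is_comm.comm ⟨x, hx⟩ ⟨y, hy⟩
  exact congrArg Subtype.val this

omit [Finite G] [Fact p.Prime] in
/-- conjugates of members of `𝒜` by elements of `P` are members of `𝒜` -/
theorem VEC_aux_InA_conj (Hy : Hyp p V P T M) {A : Subgroup G} (hA : InA p V P q A) {x : G} (hx : x ∈ P) :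
    InA p V P q (cjs x A) :=
  ⟨cj_le_of_mem hx hA.le, hA.so.conj (Hy.hPV hx), by rw [cj_card]; exact hA.card⟩

/-- VEC (M) -/
theorem VEC (Hy : Hyp p V P T M) (K : Tool p V P q A E H w) {A' E' H' : Subgroup G} {w' : G}
    (K' : Tool p V P q A' E' H' w') (hc : ∀ x ∈ E, ∀ y ∈ E', x * y = y * x) : ⁅V, E'⁆ ≤ fixV V E := by
  -- the subgroup of elements of `N(V)` acting trivially on `V / C`
  have hCV : fixV V E ≤ V := fix_le V E
  let S : Subgroup G :=
    { carrier := {y | y ∈ Subgroup.normalizer (V : Set G) ∧ ∀ v ∈ V, y * v * y⁻¹ * v⁻¹ ∈ fixV V E}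
      one_mem' := by
        refine ⟨Subgroup.one_mem _, ?_⟩
        intro v hv
        simp
      mul_mem' := by
        rintro y z ⟨hyN, hy⟩ ⟨hzN, hz⟩
        refine ⟨Subgroup.mul_mem _ hyN hzN, ?_⟩
        intro v hv
        -- (yz) v (yz)⁻¹ v⁻¹ = y (z v z⁻¹ v⁻¹) y⁻¹ (z v z⁻¹ v⁻¹)⁻¹ · (z v z⁻¹ v⁻¹) · (y v y⁻¹ v⁻¹)
        have hc1 := hz v hv
        have hc1V : z * v * z⁻¹ * v⁻¹ ∈ V := hCV hc1
        have hc2 := hy _ hc1V
        have hc3 := hy v hv
        have e : y * z * v * (y * z)⁻¹ * v⁻¹ =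
            (y * (z * v * z⁻¹ * v⁻¹) * y⁻¹ * (z * v * z⁻¹ * v⁻¹)⁻¹) * (z * v * z⁻¹ * v⁻¹) *
              (y * v * y⁻¹ * v⁻¹) := by group
        rw [e]
        exact Subgroup.mul_mem _ (Subgroup.mul_mem _ hc2 hc1) hc3
      inv_mem' := by
        rintro y ⟨hyN, hy⟩
        refine ⟨Subgroup.inv_mem _ hyN, ?_⟩
        intro v hv
        have hv' : y⁻¹ * v * y ∈ V := by
          have := (Subgroup.mem_normalizer_iff.mp (Subgroup.inv_mem _ hyN) v).mp hv
          simpa using this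
        have h1 := hy _ hv'
        have e : y * (y⁻¹ * v * y) * y⁻¹ * (y⁻¹ * v * y)⁻¹ = (y⁻¹ * v * y⁻¹⁻¹ * v⁻¹)⁻¹ := by group
        rw [e] at h1
        exact (Subgroup.inv_mem_iff _).mp h1 }
  have hmemS : ∀ {F₀ : Subgroup G}, F₀ ≤ P → ⁅V, F₀⁆ ≤ fixV V E → F₀ ≤ S := by
    intro F₀ hF₀ hle y hy
    refine ⟨Hy.hPV (hF₀ hy), ?_⟩
    intro v hv
    have h1 : ⁅v, y⁆ ∈ ⁅V, F₀⁆ := Subgroup.commutator_mem_commutator hv hy
    have h2 := hle h1
    have e : y * v * y⁻¹ * v⁻¹ = ⁅v, y⁆⁻¹ := by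
      rw [commutatorElement_def]; group
    rw [e]
    exact Subgroup.inv_mem _ h2
  have hA'P : A' ≤ P := K'.hA.le
  have hwA' : InA p V P q (cjs w' A') := VEC_aux_InA_conj Hy K'.hA (K'.hEP K'.hwE)
  have h1 : A' ≤ S := by
    apply hmemS hA'P
    apply Tool.TK6 Hy K A' hA'P (F2_aux_isPGroup K'.hA.so.hA)
    intro x hx e he
    exact (hc e he x (K'.hAE hx)).symm
  have h2 : cjs w' A' ≤ S := by
    apply hmemS hwA'.le
    apply Tool.TK6 Hy K (cjs w' A') hwA'.le (F2_aux_isPGroup hwA'.so.hA)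
    intro x hx e he
    exact (hc e he x (cj_le_of_mem K'.hwE K'.hAE hx)).symm
  have hE' : A' ⊔ cjs w' A' = E' := K'.hgen w' K'.hwE K'.hwA
  have h3 : E' ≤ S := by
    rw [← hE']; exact sup_le h1 h2
  rw [Subgroup.commutator_le]
  intro v hv y hy
  have h4 := (h3 hy).2 v hv
  have e : ⁅v, y⁆ = (y * v * y⁻¹ * v⁻¹)⁻¹ := by
    rw [commutatorElement_def]; group
  rw [e]
  exact Subgroup.inv_mem _ h4

end Cfsg.Agent.S3000P
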