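import Cfsg.Agent.Helper11.S3786Defs
import Cfsg.Agent.Helper14.PCore
import Cfsg.Agent.Helper1.PGroup
import Cfsg.Agent.Helper15.OmegaFus
import Cfsg.Agent.Helper21.FrattiniAut
import Cfsg.Agent.Helper23.HallHigman
import Cfsg.Agent.Helper5.FrobModF
import Cfsg.Agent.Lead.FrattiniFaithful

/-! # S3786 board, row FRAT: the Frattini quotient of `O_p(X)` as a faithful module for `X / O_p(X)`. -/

set_option autoImplicit false
set_option linter.unusedSectionVars false

namespace Cfsg.Agent.S3786P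

open Subgroup
open scoped commutatorElement

universe u

section FRATaux

variable (X : Type u) [Group X] [Finite X] (p : ℕ) [Fact p.Prime]

/-- the Frattini quotient of `O_p(X)` -/
abbrev FRAT_aux_Q : Type u := ↥(Cfsg.pCore p X) ⧸ frattini ↥(Cfsg.pCore p X)

theorem FRAT_aux_comm (a b : FRAT_aux_Q X p) : a * b = b * a := by
  induction a using QuotientGroup.induction_on with
  | H a =>
    induction b using QuotientGroup.induction_on with
    | H b =>
      rw [← QuotientGroup.mk_mul, ← QuotientGroup.mk_mul, QuotientGroup.eq]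
      apply Cfsg.Agent.Helper1.IsPGroup.commutator_le_frattini
        (Cfsg.Agent.Helper14.pCore_isPGroup (G := X) p)
      have h : (a * b)⁻¹ * (b * a) = ⁅b⁻¹, a⁻¹⁆ := by
        rw [commutatorElement_def]; group
      rw [h]
      exact Subgroup.commutator_mem_commutator (Subgroup.mem_top _) (Subgroup.mem_top _)

/-- `R/Φ(R)` is commutative -/
@[reducible] noncomputable def FRAT_aux_cg : CommGroup (FRAT_aux_Q X p) :=
  { (inferInstance : Group (FRAT_aux_Q X p)) with
    mul_comm := FRAT_aux_comm X p }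

attribute [local instance] FRAT_aux_cg

theorem FRAT_aux_exp (v : Additive (FRAT_aux_Q X p)) : p • v = 0 := by
  induction v using Additive.rec with
  | ofMul v =>
    induction v using QuotientGroup.induction_on with
    | H a =>
      rw [← ofMul_pow, ← QuotientGroup.mk_pow]
      have h := Cfsg.Agent.Helper1.IsPGroup.pow_mem_frattini
        (Cfsg.Agent.Helper14.pCore_isPGroup (G := X) p) a
      rw [(QuotientGroup.eq_one_iff _).mpr h]
      rfl

/-- `R/Φ(R)` is an `𝔽_p`-module -/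
@[reducible] noncomputable def FRAT_aux_md : Module (ZMod p) (Additive (FRAT_aux_Q X p)) :=
  AddCommGroup.zmodModule (n := p) (FRAT_aux_exp X p)

attribute [local instance] FRAT_aux_md

/-- the conjugation action on `R/Φ(R)` -/
noncomputable def FRAT_aux_phi : X →* Monoid.End (FRAT_aux_Q X p) where
  toFun x := (Cfsg.Agent.Helper21.FrattiniAut.frattiniQuotHom ↥(Cfsg.pCore p X)
    (MulAut.conjNormal x)).toMonoidHom
  map_one' := by rw [map_one, map_one]; rfl
  map_mul' a b := by rw [map_mul, map_mul]; rfl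

theorem FRAT_aux_phi_mk (x : X) (r : ↥(Cfsg.pCore p X)) :
    FRAT_aux_phi X p x (r : FRAT_aux_Q X p) =
      ((MulAut.conjNormal x r : ↥(Cfsg.pCore p X)) : FRAT_aux_Q X p) := rfl

/-- the representation of `X` -/
noncomputable def FRAT_aux_rho : Representation (ZMod p) X (Additive (FRAT_aux_Q X p)) :=
  Cfsg.Agent.Helper5.FrobMod.endRep p (FRAT_aux_phi X p)

theorem FRAT_aux_rho_mk (x : X) (r : ↥(Cfsg.pCore p X)) :
    FRAT_aux_rho X p x (Additive.ofMul (r : FRAT_aux_Q X p)) =
      Additive.ofMul ((MulAut.conjNormal x r : ↥(Cfsg.pCore p X)) : FRAT_aux_Q X p) := rfl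

theorem FRAT_aux_ker (y : X) (hy : y ∈ Cfsg.pCore p X) : FRAT_aux_rho X p y = 1 := by
  refine LinearMap.ext fun v => ?_
  induction v using Additive.rec with
  | ofMul v =>
    induction v using QuotientGroup.induction_on with
    | H r =>
      rw [FRAT_aux_rho_mk, Module.End.one_apply]
      congr 1
      have h : (MulAut.conjNormal y r : ↥(Cfsg.pCore p X)) = ⟨y, hy⟩ * r * ⟨y, hy⟩⁻¹ := by
        apply Subtype.ext
        rw [MulAut.conjNormal_apply]
        rfl
      rw [h, QuotientGroup.mk_mul, QuotientGroup.mk_mul, QuotientGroup.mk_inv,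
        mul_comm, inv_mul_cancel_left]

/-- the representation of `X / O_p(X)` -/
noncomputable def FRAT_aux_rhob :
    Representation (ZMod p) (X ⧸ Cfsg.pCore p X) (Additive (FRAT_aux_Q X p)) :=
  QuotientGroup.lift (Cfsg.pCore p X) (FRAT_aux_rho X p)
    (fun y hy => MonoidHom.mem_ker.2 (FRAT_aux_ker X p y hy))

theorem FRAT_aux_rhob_mk (x : X) :
    FRAT_aux_rhob X p (QuotientGroup.mk' (Cfsg.pCore p X) x) = FRAT_aux_rho X p x := rfl

/-- the projection -/
noncomputable def FRAT_aux_pi :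
    ↥(Cfsg.pCore p X) →* Multiplicative (Additive (FRAT_aux_Q X p)) where
  toFun r := Multiplicative.ofAdd (Additive.ofMul (r : FRAT_aux_Q X p))
  map_one' := rfl
  map_mul' _ _ := rfl

theorem FRAT_aux_data (hsol : Cfsg.IsPSolvable p X) (hO : Cfsg.pPrimeCore p X = ⊥) :
    FratData p (Additive (FRAT_aux_Q X p)) (FRAT_aux_pi X p) (FRAT_aux_rhob X p) := by
  refine ⟨?_, ?_, ?_⟩
  · intro v
    obtain ⟨r, hr⟩ := QuotientGroup.mk_surjective (Additive.toMul (Multiplicative.toAdd v))
    exact ⟨r, by rw [FRAT_aux_pi]; change Multiplicative.ofAdd (Additive.ofMul _) = v; rw [hr]; rfl⟩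
  · rw [injective_iff_map_eq_one]
    intro q hq
    obtain ⟨x, rfl⟩ := QuotientGroup.mk'_surjective (Cfsg.pCore p X) q
    rw [FRAT_aux_rhob_mk] at hq
    rw [QuotientGroup.mk'_apply, QuotientGroup.eq_one_iff]
    have hRp : IsPGroup p ↥(Cfsg.pCore p X) := Cfsg.Agent.Helper14.pCore_isPGroup p
    rw [← Cfsg.Agent.Lead.mem_iff_trivial_on_frattini_quotient (Cfsg.pCore p X) hRp
      (fun C hCn hCp => Cfsg.Agent.Helper14.le_pCore p hCn hCp)
      (Cfsg.Agent.Helper23.centralizer_pCore_le_of_isPSolvable hsol hO) x]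
    intro y hy
    have h1 : FRAT_aux_rho X p x (Additive.ofMul ((⟨y, hy⟩ : ↥(Cfsg.pCore p X)) : FRAT_aux_Q X p))
        = Additive.ofMul ((⟨y, hy⟩ : ↥(Cfsg.pCore p X)) : FRAT_aux_Q X p) := by
      rw [hq, Module.End.one_apply]
    rw [FRAT_aux_rho_mk] at h1
    have h2 : ((MulAut.conjNormal x ⟨y, hy⟩ : ↥(Cfsg.pCore p X)) : FRAT_aux_Q X p)
        = ((⟨y, hy⟩ : ↥(Cfsg.pCore p X)) : FRAT_aux_Q X p) := Additive.ofMul.injective h1
    have h3 : (((MulAut.conjNormal x ⟨y, hy⟩ : ↥(Cfsg.pCore p X)) * (⟨y, hy⟩ : ↥(Cfsg.pCore p X))⁻¹ :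
        ↥(Cfsg.pCore p X)) : FRAT_aux_Q X p) = 1 := by
      rw [QuotientGroup.mk_mul, QuotientGroup.mk_inv, h2, mul_inv_cancel]
    rw [QuotientGroup.eq_one_iff] at h3
    refine ⟨_, h3, ?_⟩
    simp [MulAut.conjNormal_apply]
  · intro x r r' hrr
    rw [FRAT_aux_rhob_mk]
    change Additive.ofMul (r' : FRAT_aux_Q X p) = FRAT_aux_rho X p x (Additive.ofMul (r : FRAT_aux_Q X p))
    rw [FRAT_aux_rho_mk]
    congr 2
    apply Subtype.ext
    rw [MulAut.conjNormal_apply]
    exact hrr

theorem FRAT_aux_nontrivial [Nontrivial X] (hsol : Cfsg.IsPSolvable p X) (hO : Cfsg.pPrimeCore p X = ⊥) :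
    Nontrivial (Additive (FRAT_aux_Q X p)) := by
  have hR : Cfsg.pCore p X ≠ ⊥ := by
    intro h
    have hc := Cfsg.Agent.Helper23.centralizer_pCore_le_of_isPSolvable hsol hO
    rw [h] at hc
    obtain ⟨x, hx⟩ := exists_ne (1 : X)
    apply hx
    have : x ∈ centralizer ((⊥ : Subgroup X) : Set X) := by
      rw [mem_centralizer_iff]
      intro g hg
      have : g = 1 := hg
      rw [this, one_mul, mul_one]
    exact hc this
  have : Nontrivial ↥(Cfsg.pCore p X) := (Subgroup.nontrivial_iff_ne_bot _).2 hR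
  have hne := Cfsg.Agent.Helper15.frattini_ne_top_of_nontrivial (Q := ↥(Cfsg.pCore p X))
  obtain ⟨r, hr⟩ : ∃ r : ↥(Cfsg.pCore p X), r ∉ frattini ↥(Cfsg.pCore p X) := by
    by_contra hcon
    push Not at hcon
    exact hne (eq_top_iff.mpr fun r _ => hcon r)
  refine ⟨⟨Additive.ofMul (r : FRAT_aux_Q X p), 0, ?_⟩⟩
  intro h
  apply hr
  have h1 : (r : FRAT_aux_Q X p) = 1 := Additive.ofMul.injective h
  exact (QuotientGroup.eq_one_iff r).mp h1

end FRATaux

/-- F1. Existence of the Frattini module. -/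
theorem FRAT {X : Type u} [Group X] [Finite X] (p : ℕ) [Fact p.Prime] (hsol : Cfsg.IsPSolvable p X)
    (hO : Cfsg.pPrimeCore p X = ⊥) [Nontrivial X] :
    ∃ (V : Type u) (_ : AddCommGroup V) (_ : Module (ZMod p) V) (_ : Finite V) (_ : Nontrivial V)
      (π : ↥(Cfsg.pCore p X) →* Multiplicative V) (ρb : Representation (ZMod p) (X ⧸ Cfsg.pCore p X) V),
      FratData p V π ρb :=
  ⟨Additive (FRAT_aux_Q X p), @Additive.addCommGroup _ (FRAT_aux_cg X p), FRAT_aux_md X p,
    inferInstanceAs (Finite (FRAT_aux_Q X p)), FRAT_aux_nontrivial X p hsol hO,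
    FRAT_aux_pi X p, FRAT_aux_rhob X p, FRAT_aux_data X p hsol hO⟩

end Cfsg.Agent.S3786P
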