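import Mathlib
import Cfsg.Prelude.Def_Transfer

/-!
# S4130 (square-free class sizes): definitions for the solvability part

`Core G p P` : the hypotheses of the p-nilpotency theorem (abelian Sylow `p`-subgroup `P`, `p` the
smallest prime divisor of `|G|`, `p^2` divides no class size of an element of order prime to `p`).
The counting sets `Pall`, `Pin`, `Pout`, `Uset`, `Qout`, `Tset` are used in the double count.
-/

set_option autoImplicit false

namespace Cfsg.Agent.S4130P

/-- `z` is a `p`-element. -/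
def IsPEl {G : Type*} [Group G] (p : ℕ) (z : G) : Prop := ∃ k : ℕ, orderOf z = p ^ k

/-- `y` is a `p'`-element. -/
def IsPpEl {G : Type*} [Group G] (p : ℕ) (y : G) : Prop := (orderOf y).Coprime p

/-- Hypotheses of the core theorem. -/
structure Core (G : Type*) [Group G] (p : ℕ) [Fact p.Prime] (P : Sylow p G) : Prop where
  comm : ∀ a ∈ (P : Subgroup G), ∀ b ∈ (P : Subgroup G), a * b = b * a
  min : ∀ r : ℕ, r.Prime → r ∣ Nat.card G → p ≤ r
  cls : ∀ y : G, IsPpEl p y → ¬ p ^ 2 ∣ (Subgroup.centralizer ({y} : Set G)).index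

/-- Hypothesis (b): centralizers of the non-central elements of `P` are `p`-nilpotent
(in the form `N_G(P) ∩ C_G(x) ≤ C_G(P)`). -/
def HypB {G : Type*} [Group G] {p : ℕ} [Fact p.Prime] (P : Sylow p G) : Prop :=
  ∀ x ∈ (P : Subgroup G), x ∉ Subgroup.center G →
    Subgroup.normalizer ((P : Subgroup G) : Set G) ⊓ Subgroup.centralizer ({x} : Set G) ≤
      Subgroup.centralizer ((P : Subgroup G) : Set G)

/-- All commuting pairs (`p`-element, `p'`-element). -/
def Pall (p : ℕ) (G : Type*) [Group G] : Set (G × G) :=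
  {zy | IsPEl p zy.1 ∧ IsPpEl p zy.2 ∧ zy.1 * zy.2 = zy.2 * zy.1}

/-- The pairs of `Pall` whose `p`-element is central. -/
def Pin (p : ℕ) (G : Type*) [Group G] : Set (G × G) :=
  {zy | zy ∈ Pall p G ∧ zy.1 ∈ Subgroup.center G}

/-- The pairs of `Pall` whose `p`-element is not central. -/
def Pout (p : ℕ) (G : Type*) [Group G] : Set (G × G) :=
  {zy | zy ∈ Pall p G ∧ zy.1 ∉ Subgroup.center G}

/-- The `p'`-elements. -/
def Uset (p : ℕ) (G : Type*) [Group G] : Set G := {y | IsPpEl p y}

/-- Pairs (non-central `p`-element `z`, element of `C_G(z)`). -/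
def Qout (p : ℕ) (G : Type*) [Group G] : Set (G × G) :=
  {zg | IsPEl p zg.1 ∧ zg.1 ∉ Subgroup.center G ∧ zg.1 * zg.2 = zg.2 * zg.1}

/-- The conjugacy classes of non-central `p`-elements. -/
def Tset (p : ℕ) (G : Type*) [Group G] : Set (ConjClasses G) :=
  {κ | ∃ z : G, ConjClasses.mk z = κ ∧ IsPEl p z ∧ z ∉ Subgroup.center G}

/-- All conjugacy class sizes are square-free. -/
def SqfCls (G : Type*) [Group G] : Prop :=
  ∀ x : G, Squarefree (Subgroup.centralizer ({x} : Set G)).index

end Cfsg.Agent.S4130P
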