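import Mathlib
import Cfsg.Agent.Helper2.SpGen

/-! The symplectic groups are perfect (with three exceptions). -/

set_option autoImplicit false
set_option linter.unusedSectionVars false
set_option linter.unusedVariables false

namespace Cfsg.Agent.Helper2.Sp

open Matrix

variable {l : Type*} [DecidableEq l] [Fintype l] {F : Type*} [Field F]

local notation "V" => (l ⊕ l → F)
local notation "M" => Matrix (l ⊕ l) (l ⊕ l) F

theorem ext_mulVec {g h : symplecticGroup l F}
    (H : ∀ x : l ⊕ l → F, (g : Matrix (l ⊕ l) (l ⊕ l) F) *ᵥ x = (h : Matrix (l ⊕ l) (l ⊕ l) F) *ᵥ x) :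
    g = h :=
  Subtype.ext (Matrix.ext_iff_mulVec.mpr H)

theorem Tg_mulVec (v : l ⊕ l → F) (c : F) (x : l ⊕ l → F) :
    ((Tg v c : symplecticGroup l F) : Matrix (l ⊕ l) (l ⊕ l) F) *ᵥ x = x + (c * om v x) • v :=
  T_mulVec v c x

theorem mul_mulVec (g h : symplecticGroup l F) (x : l ⊕ l → F) :
    ((g * h : symplecticGroup l F) : Matrix (l ⊕ l) (l ⊕ l) F) *ᵥ x =
      (g : Matrix (l ⊕ l) (l ⊕ l) F) *ᵥ ((h : Matrix (l ⊕ l) (l ⊕ l) F) *ᵥ x) := by
  rw [coe_mul', mulVec_mulVec]

theorem om_g (g : symplecticGroup l F) (x y : l ⊕ l → F) :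
    om ((g : Matrix (l ⊕ l) (l ⊕ l) F) *ᵥ x) ((g : Matrix (l ⊕ l) (l ⊕ l) F) *ᵥ y) = om x y :=
  mem_symplectic_iff_om.mp g.2 x y

theorem Tg_add (v : l ⊕ l → F) (c d : F) : Tg v c * Tg v d = Tg v (c + d) := by
  apply ext_mulVec
  intro x
  rw [mul_mulVec, Tg_mulVec, Tg_mulVec, Tg_mulVec, om_add_right, om_smul_right, om_self]
  simp only [mul_zero, add_zero]
  rw [add_assoc, ← add_smul]
  congr 2
  ring

theorem Tg_zero (v : l ⊕ l → F) : Tg v 0 = 1 := by
  apply ext_mulVec
  intro x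
  rw [Tg_mulVec]
  simp

theorem Tg_inv (v : l ⊕ l → F) (c : F) : (Tg v c)⁻¹ = Tg v (-c) := by
  apply inv_eq_of_mul_eq_one_right
  rw [Tg_add, add_neg_cancel, Tg_zero]

theorem Tg_smul (a : F) (v : l ⊕ l → F) (c : F) : Tg (a • v) c = Tg v (a ^ 2 * c) := by
  apply ext_mulVec
  intro x
  rw [Tg_mulVec, Tg_mulVec, om_smul_left, smul_smul]
  congr 2
  ring

/-- conjugation of transvections -/
theorem conj_Tg (g : symplecticGroup l F) (v : l ⊕ l → F) (c : F) :
    g * Tg v c * g⁻¹ = Tg ((g : Matrix (l ⊕ l) (l ⊕ l) F) *ᵥ v) c := by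
  rw [mul_inv_eq_iff_eq_mul]
  apply ext_mulVec
  intro x
  rw [mul_mulVec, mul_mulVec, Tg_mulVec, Tg_mulVec, mulVec_add, mulVec_smul, om_g]

/-- the abelianisation map -/
abbrev ab : symplecticGroup l F →* Abelianization (symplecticGroup l F) := Abelianization.of

theorem ab_conj (g t : symplecticGroup l F) : ab (g * t * g⁻¹) = ab t := by
  rw [map_mul, map_mul, map_inv, mul_comm, ← mul_assoc, inv_mul_cancel, one_mul]

theorem ab_Tg_eq {v w : l ⊕ l → F} (hv : v ≠ 0) (hw : w ≠ 0) (c : F) :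
    ab (Tg v c) = ab (Tg w c) := by
  obtain ⟨g, hg⟩ := exists_symplectic_mulVec_eq v w hv hw
  rw [← hg, ← conj_Tg, ab_conj]

/-- the "short root element" attached to an orthogonal pair -/
def Rg (c : F) (a b : l ⊕ l → F) : symplecticGroup l F :=
  (Tg a c)⁻¹ * (Tg b c)⁻¹ * Tg (a + b) c

theorem Rg_mulVec {a b : l ⊕ l → F} (hab : om a b = 0) (c : F) (x : l ⊕ l → F) :
    ((Rg c a b : symplecticGroup l F) : Matrix (l ⊕ l) (l ⊕ l) F) *ᵥ x =
      x + c • (om a x • b + om b x • a) := by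
  have hba : om b a = 0 := by rw [om_swap a b, hab, neg_zero]
  unfold Rg
  rw [Tg_inv, Tg_inv, mul_mulVec, mul_mulVec, Tg_mulVec, Tg_mulVec, Tg_mulVec]
  simp only [om_add_left, om_add_right, om_smul_right, om_self, hab, hba, mul_zero, add_zero,
    zero_add]
  funext k
  simp only [Pi.add_apply, Pi.smul_apply, smul_eq_mul]
  ring

theorem ab_Rg {a b : l ⊕ l → F} (ha : a ≠ 0) (hb : b ≠ 0) (hab : a + b ≠ 0) (c : F) :
    ab (Rg c a b) = (ab (Tg a c))⁻¹ := by
  unfold Rg
  rw [map_mul, map_mul, map_inv, map_inv, ab_Tg_eq hb ha, ab_Tg_eq hab ha]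
  group

theorem Rg_add {a b d : l ⊕ l → F} (hab : om a b = 0) (had : om a d = 0) (hbd : om b d = 0)
    (c : F) : Rg c a (b + d) = Rg c a b * Rg c a d := by
  have habd : om a (b + d) = 0 := by rw [om_add_right, hab, had, add_zero]
  have hda : om d a = 0 := by rw [om_swap a d, had, neg_zero]
  have hba : om b a = 0 := by rw [om_swap a b, hab, neg_zero]
  apply ext_mulVec
  intro x
  rw [mul_mulVec, Rg_mulVec habd, Rg_mulVec hab, Rg_mulVec had]
  simp only [om_add_left, om_add_right, om_smul_right, om_self, hab, hba, had, hda, hbd, mul_zero,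
    add_zero, zero_add]
  funext k
  simp only [Pi.add_apply, Pi.smul_apply, smul_eq_mul]
  ring

theorem Tg_sub_mul {a b : l ⊕ l → F} (hab : om a b = 0) (c : F) :
    Tg (b - a) c * Tg (a + b) (-c) = Rg (-2 * c) a b := by
  have hba : om b a = 0 := by rw [om_swap a b, hab, neg_zero]
  apply ext_mulVec
  intro x
  rw [mul_mulVec, Rg_mulVec hab, Tg_mulVec, Tg_mulVec]
  simp only [om_add_left, om_add_right, om_sub_left, om_smul_right, om_self, hab, hba, mul_zero,
    add_zero, zero_add, sub_zero, zero_sub]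
  funext k
  simp only [Pi.add_apply, Pi.smul_apply, Pi.sub_apply, smul_eq_mul]
  ring

/-- if all transvections are commutators, the group is perfect -/
theorem commutator_eq_top_of {l : Type} [DecidableEq l] [Fintype l] {F : Type*} [Field F]
    {e : l ⊕ l → F} (he : e ≠ 0) (h : ∀ c : F, ab (Tg e c) = 1) :
    commutator (symplecticGroup l F) = ⊤ := by
  rw [eq_top_iff, ← TV_eq_top l F]
  unfold TV
  rw [Subgroup.closure_le]
  rintro _ ⟨⟨v, c⟩, rfl⟩
  rw [SetLike.mem_coe, ← Abelianization.ker_of, MonoidHom.mem_ker]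
  change ab (Tg v c) = 1
  by_cases hv : v = 0
  · have : Tg v c = 1 := by
      apply ext_mulVec
      intro x
      rw [Tg_mulVec, hv]
      simp
    rw [this, map_one]
  · rw [ab_Tg_eq hv he, h]

/-- large fields -/
theorem ab_Tg_of_card [Fintype F] (hq : 4 ≤ Fintype.card F) {e : l ⊕ l → F} (he : e ≠ 0) (c : F) :
    ab (Tg e c) = 1 := by
  classical
  -- a scalar with `a ≠ 0`, `a ^ 2 ≠ 1`
  obtain ⟨a, ha0, ha1⟩ : ∃ a : F, a ≠ 0 ∧ a ^ 2 ≠ 1 := by
    by_contra hcon
    push Not at hcon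
    have hsub : (Finset.univ : Finset F) ⊆ {0, 1, -1} := by
      intro a _
      by_cases ha : a = 0
      · simp [ha]
      · have h1 := hcon a ha
        have h2 : (a - 1) * (a + 1) = 0 := by ring_nf; rw [h1]; ring
        rcases mul_eq_zero.mp h2 with h3 | h3
        · simp [sub_eq_zero.mp h3]
        · simp [eq_neg_of_add_eq_zero_left h3]
    have := Finset.card_le_card hsub
    have h3 : ({0, 1, -1} : Finset F).card ≤ 3 := Finset.card_le_three
    rw [Finset.card_univ] at this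
    omega
  have hne : a ^ 2 - 1 ≠ 0 := sub_ne_zero.mpr ha1
  have hae : a • e ≠ 0 := smul_ne_zero ha0 he
  have h1 := ab_Tg_eq hae he (c / (a ^ 2 - 1))
  rw [Tg_smul] at h1
  have h2 : Tg e c = Tg e (a ^ 2 * (c / (a ^ 2 - 1))) * (Tg e (c / (a ^ 2 - 1)))⁻¹ := by
    rw [Tg_inv, Tg_add]
    congr 1
    field_simp
    ring
  rw [h2, map_mul, map_inv, h1, mul_inv_cancel]

/-- odd characteristic, rank at least two -/
theorem ab_Tg_of_odd (h2 : (2 : F) ≠ 0) {a b : l ⊕ l → F} (hab : om a b = 0) (ha : a ≠ 0)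
    (hb : b ≠ 0) (hs : a + b ≠ 0) (hd : b - a ≠ 0) (c : F) : ab (Tg a c) = 1 := by
  have key : ∀ c' : F, ab (Tg a (-2 * c')) = 1 := by
    intro c'
    have h1 := congrArg ab (Tg_sub_mul hab c')
    rw [map_mul, ab_Rg ha hb hs, ab_Tg_eq hd ha, ab_Tg_eq hs ha, ← map_mul, Tg_add, add_neg_cancel,
      Tg_zero, map_one] at h1
    exact inv_eq_one.mp h1.symm
  have := key (c / (-2))
  have e : -2 * (c / (-2)) = c := by field_simp
  rwa [e] at this

/-- rank at least three -/
theorem ab_Tg_of_three {a b d : l ⊕ l → F} (hab : om a b = 0) (had : om a d = 0)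
    (hbd : om b d = 0) (ha : a ≠ 0) (hb : b ≠ 0) (hd : d ≠ 0) (hab' : a + b ≠ 0)
    (had' : a + d ≠ 0) (hbd' : b + d ≠ 0) (habd : a + (b + d) ≠ 0) (c : F) : ab (Tg a c) = 1 := by
  have h1 := congrArg ab (Rg_add hab had hbd c)
  rw [map_mul, ab_Rg ha hbd' habd, ab_Rg ha hb hab', ab_Rg ha hd had'] at h1
  have : (ab (Tg a c))⁻¹ = 1 := by
    have h3 : (ab (Tg a c))⁻¹ * 1 = (ab (Tg a c))⁻¹ * (ab (Tg a c))⁻¹ := by rw [mul_one]; exact h1
    exact (mul_left_cancel h3).symm
  exact inv_eq_one.mp this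


/-- basis vector -/
def ei (i : l) : l ⊕ l → F := Pi.single (Sum.inl i) 1

theorem om_ei (i j : l) : om (ei i : l ⊕ l → F) (ei j) = 0 := by
  rw [om_eq_sum]
  apply Finset.sum_eq_zero
  intro k _
  simp [ei]

theorem ei_apply_self (i : l) : (ei i : l ⊕ l → F) (Sum.inl i) = 1 := by simp [ei]

theorem ei_apply_ne {i j : l} (h : i ≠ j) : (ei i : l ⊕ l → F) (Sum.inl j) = 0 := by
  simp [ei, Pi.single_apply, h.symm]

theorem commutator_symplectic_eq_top {F : Type*} [Field F] [Fintype F] (m : ℕ)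
    (h : 3 ≤ m ∨ (m = 2 ∧ 3 ≤ Fintype.card F) ∨ 4 ≤ Fintype.card F) :
    commutator (symplecticGroup (Fin m) F) = ⊤ := by
  have big : 4 ≤ Fintype.card F → commutator (symplecticGroup (Fin m) F) = ⊤ := by
    intro hq
    rcases Nat.eq_zero_or_pos m with rfl | hm
    · have : Subsingleton (symplecticGroup (Fin 0) F) := by
        constructor
        intro g g'
        apply Subtype.ext
        ext i j
        rcases i with i | i <;> exact i.elim0
      exact Subsingleton.elim _ _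
    · have he : (ei (⟨0, hm⟩ : Fin m) : Fin m ⊕ Fin m → F) ≠ 0 := by
        intro h0
        have := congrFun h0 (Sum.inl ⟨0, hm⟩)
        rw [ei_apply_self] at this
        exact one_ne_zero this
      exact commutator_eq_top_of he (fun c => ab_Tg_of_card hq he c)
  rcases h with h | ⟨rfl, h⟩ | h
  · -- rank at least three
    set i : Fin m := ⟨0, by omega⟩ with hi
    set j : Fin m := ⟨1, by omega⟩ with hj
    set k : Fin m := ⟨2, by omega⟩ with hk
    have hij : i ≠ j := by rw [hi, hj]; intro h; simp [Fin.ext_iff] at h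
    have hik : i ≠ k := by rw [hi, hk]; intro h; simp [Fin.ext_iff] at h
    have hjk : j ≠ k := by rw [hj, hk]; intro h; simp [Fin.ext_iff] at h
    have ne1 : ∀ {w : Fin m ⊕ Fin m → F} (t : Fin m), w (Sum.inl t) = 1 → w ≠ 0 := by
      intro w t hw h0
      rw [h0] at hw
      exact zero_ne_one hw
    have ha : (ei i : Fin m ⊕ Fin m → F) ≠ 0 := ne1 i (ei_apply_self i)
    refine commutator_eq_top_of ha (fun c => ab_Tg_of_three (a := ei i) (b := ei j) (d := ei k)
      (om_ei i j) (om_ei i k) (om_ei j k) ha (ne1 j (ei_apply_self j)) (ne1 k (ei_apply_self k))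
      (ne1 i ?_) (ne1 i ?_) (ne1 j ?_) (ne1 i ?_) c)
    · rw [Pi.add_apply, ei_apply_self, ei_apply_ne hij.symm, add_zero]
    · rw [Pi.add_apply, ei_apply_self, ei_apply_ne hik.symm, add_zero]
    · rw [Pi.add_apply, ei_apply_self, ei_apply_ne hjk.symm, add_zero]
    · rw [Pi.add_apply, Pi.add_apply, ei_apply_self, ei_apply_ne hij.symm, ei_apply_ne hik.symm,
        add_zero, add_zero]
  · -- rank two
    by_cases hq : 4 ≤ Fintype.card F
    · exact big hq
    have hF : Fintype.card F = 3 := by omega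
    have : Fact (Nat.Prime 3) := ⟨Nat.prime_three⟩
    have hchar : CharP F 3 := charP_of_card_eq_prime hF
    have h2 : (2 : F) ≠ 0 := by
      intro h0
      have h1 : ((2 : ℕ) : F) = 0 := by exact_mod_cast h0
      rw [CharP.cast_eq_zero_iff F 3] at h1
      omega
    have hij : (0 : Fin 2) ≠ 1 := by decide
    have ne1 : ∀ {w : Fin 2 ⊕ Fin 2 → F} (t : Fin 2), w (Sum.inl t) ≠ 0 → w ≠ 0 := by
      intro w t hw h0
      rw [h0] at hw
      exact hw rfl
    have ha : (ei (0 : Fin 2) : Fin 2 ⊕ Fin 2 → F) ≠ 0 :=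
      ne1 0 (by rw [ei_apply_self]; exact one_ne_zero)
    refine commutator_eq_top_of ha (fun c => ab_Tg_of_odd h2 (a := ei 0) (b := ei 1)
      (om_ei 0 1) ha (ne1 1 (by rw [ei_apply_self]; exact one_ne_zero)) (ne1 0 ?_) (ne1 1 ?_) c)
    · rw [Pi.add_apply, ei_apply_self, ei_apply_ne hij.symm, add_zero]; exact one_ne_zero
    · rw [Pi.sub_apply, ei_apply_self, ei_apply_ne hij, sub_zero]; exact one_ne_zero
  · exact big h

end Cfsg.Agent.Helper2.Sp
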