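import Mathlib

set_option autoImplicit false

namespace Cfsg.Agent.Helper2

theorem two_ne_zero_of_odd_card {F : Type*} [Field F] [Fintype F] (hF : Odd (Fintype.card F)) :
    (2 : F) ≠ 0 := by
  intro h
  have h1 : ringChar F ∣ 2 := ringChar.dvd (by exact_mod_cast h)
  have hp : (ringChar F).Prime := CharP.char_is_prime F (ringChar F)
  have h2 : ringChar F = 2 := (Nat.prime_dvd_prime_iff_eq hp Nat.prime_two).mp h1
  have h3 := FiniteField.even_card_of_char_two h2
  rw [Nat.odd_iff] at hF
  omega

end Cfsg.Agent.Helper2
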