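import Mathlib

/-! The standard symplectic form, symplectic transvections, transitivity on nonzero vectors. -/

namespace Cfsg.Agent.Helper2.Sp

open Matrix

variable {l : Type*} [DecidableEq l] [Fintype l] {R : Type*} [CommRing R]

/-- the standard symplectic form `ω(x, y) = xᵀ J y` -/
def om (x y : l ⊕ l → R) : R := x ⬝ᵥ (J l R *ᵥ y)

theorem om_add_left (x x' y : l ⊕ l → R) : om (x + x') y = om x y + om x' y := by
  unfold om; rw [add_dotProduct]

theorem om_add_right (x y y' : l ⊕ l → R) : om x (y + y') = om x y + om x y' := by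
  unfold om; rw [mulVec_add, dotProduct_add]

theorem om_smul_left (c : R) (x y : l ⊕ l → R) : om (c • x) y = c * om x y := by
  unfold om; rw [smul_dotProduct, smul_eq_mul]

theorem om_smul_right (c : R) (x y : l ⊕ l → R) : om x (c • y) = c * om x y := by
  unfold om; rw [mulVec_smul, dotProduct_smul, smul_eq_mul]

theorem om_sub_left (x x' y : l ⊕ l → R) : om (x - x') y = om x y - om x' y := by
  unfold om; rw [sub_dotProduct]

theorem om_sub_right (x y y' : l ⊕ l → R) : om x (y - y') = om x y - om x y' := by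
  unfold om; rw [mulVec_sub, dotProduct_sub]

theorem om_neg_left (x y : l ⊕ l → R) : om (-x) y = - om x y := by
  unfold om; rw [neg_dotProduct]

theorem om_eq_sum (x y : l ⊕ l → R) :
    om x y = ∑ i, (x (Sum.inr i) * y (Sum.inl i) - x (Sum.inl i) * y (Sum.inr i)) := by
  unfold om
  rw [dotProduct, Fintype.sum_sum_type, Finset.sum_sub_distrib, sub_eq_add_neg, add_comm]
  congr 1
  · apply Finset.sum_congr rfl
    intro i _
    congr 1
    simp [J, mulVec, dotProduct, Fintype.sum_sum_type, Matrix.one_apply]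
  · rw [← Finset.sum_neg_distrib]
    apply Finset.sum_congr rfl
    intro i _
    rw [← mul_neg]
    congr 1
    simp [J, mulVec, dotProduct, Fintype.sum_sum_type, Matrix.one_apply]

theorem om_self (x : l ⊕ l → R) : om x x = 0 := by
  rw [om_eq_sum]
  apply Finset.sum_eq_zero
  intro i _
  ring

theorem om_swap (x y : l ⊕ l → R) : om y x = - om x y := by
  rw [om_eq_sum, om_eq_sum, ← Finset.sum_neg_distrib]
  apply Finset.sum_congr rfl
  intro i _
  ring

theorem om_mulVec (A : Matrix (l ⊕ l) (l ⊕ l) R) (x y : l ⊕ l → R) :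
    om (A *ᵥ x) (A *ᵥ y) = x ⬝ᵥ ((Aᵀ * J l R * A) *ᵥ y) := by
  unfold om
  rw [← mulVec_mulVec, ← mulVec_mulVec, dotProduct_mulVec x Aᵀ, vecMul_transpose]

theorem mem_symplectic_iff_om {A : Matrix (l ⊕ l) (l ⊕ l) R} :
    A ∈ symplecticGroup l R ↔ ∀ x y, om (A *ᵥ x) (A *ᵥ y) = om x y := by
  rw [SymplecticGroup.mem_iff']
  constructor
  · intro h x y
    rw [om_mulVec, h]; rfl
  · intro h
    ext i j
    have := h (Pi.single i 1) (Pi.single j 1)
    rw [om_mulVec] at this
    unfold om at this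
    rw [mulVec_single_one, mulVec_single_one, single_one_dotProduct, single_one_dotProduct] at this
    exact this

/-- symplectic transvection `x ↦ x + c ω(v, x) v` -/
def T (v : l ⊕ l → R) (c : R) : Matrix (l ⊕ l) (l ⊕ l) R :=
  1 + c • vecMulVec v (v ᵥ* J l R)

theorem T_mulVec (v : l ⊕ l → R) (c : R) (x : l ⊕ l → R) :
    T v c *ᵥ x = x + (c * om v x) • v := by
  unfold T om
  rw [add_mulVec, one_mulVec, smul_mulVec, vecMulVec_mulVec, ← dotProduct_mulVec]
  ext i
  simp [mul_comm, mul_left_comm]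

theorem T_mem (v : l ⊕ l → R) (c : R) : T v c ∈ symplecticGroup l R := by
  rw [mem_symplectic_iff_om]
  intro x y
  rw [T_mulVec, T_mulVec, om_add_left, om_add_right, om_add_right, om_smul_left, om_smul_left,
    om_smul_right, om_smul_right, om_self, om_swap x v]
  ring

theorem exists_om_ne_zero {F : Type*} [Field F] {v : l ⊕ l → F} (hv : v ≠ 0) :
    ∃ x, om v x ≠ 0 := by
  obtain ⟨k, hk⟩ : ∃ k, v k ≠ 0 := by
    by_contra h
    push Not at h
    exact hv (funext h)
  refine ⟨-(J l F *ᵥ Pi.single k 1), ?_⟩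
  unfold om
  rw [mulVec_neg, mulVec_mulVec, J_squared, neg_mulVec, neg_neg, one_mulVec, dotProduct_single_one]
  exact hk


section Field

variable {F : Type*} [Field F]

theorem T_map_of_om_ne_zero {v w : l ⊕ l → F} (h : om v w ≠ 0) :
    T (v - w) (-(om v w)⁻¹) *ᵥ v = w := by
  rw [T_mulVec, om_sub_left, om_self, om_swap v w, zero_sub, neg_neg, neg_mul,
    inv_mul_cancel₀ h, neg_smul, one_smul]
  abel

theorem exists_om_ne_zero_both {v w : l ⊕ l → F} (hv : v ≠ 0) (hw : w ≠ 0) :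
    ∃ u, om v u ≠ 0 ∧ om u w ≠ 0 := by
  obtain ⟨x1, h1⟩ := exists_om_ne_zero hv
  obtain ⟨x2, h2⟩ := exists_om_ne_zero hw
  have h2' : ∀ x, om x w ≠ 0 ↔ om w x ≠ 0 := by
    intro x; rw [om_swap w x, neg_ne_zero]
  by_cases h3 : om w x1 = 0
  · by_cases h4 : om v x2 = 0
    · refine ⟨x1 + x2, ?_, ?_⟩
      · rw [om_add_right, h4, add_zero]; exact h1
      · rw [h2', om_add_right, h3, zero_add]; exact h2
    · exact ⟨x2, h4, (h2' x2).mpr h2⟩
  · exact ⟨x1, h1, (h2' x1).mpr h3⟩

theorem exists_symplectic_mulVec_eq (v w : l ⊕ l → F) (hv : v ≠ 0) (hw : w ≠ 0) :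
    ∃ g : symplecticGroup l F, (g : Matrix (l ⊕ l) (l ⊕ l) F) *ᵥ v = w := by
  by_cases h : om v w = 0
  · obtain ⟨u, h1, h2⟩ := exists_om_ne_zero_both hv hw
    refine ⟨⟨T (u - w) (-(om u w)⁻¹), T_mem _ _⟩ * ⟨T (v - u) (-(om v u)⁻¹), T_mem _ _⟩, ?_⟩
    show (T (u - w) (-(om u w)⁻¹) * T (v - u) (-(om v u)⁻¹)) *ᵥ v = w
    rw [← mulVec_mulVec, T_map_of_om_ne_zero h1, T_map_of_om_ne_zero h2]
  · exact ⟨⟨T (v - w) (-(om v w)⁻¹), T_mem _ _⟩, T_map_of_om_ne_zero h⟩

end Field

end Cfsg.Agent.Helper2.Sp
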