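import Mathlib

/-! Index-level combinatorics: a finite set `U` with an involution `τ`, `|U| = a·t`;
assign the elements of `U` to `t` blocks of size `a`, equivariantly for a permutation of the blocks. -/

set_option autoImplicit false

namespace Cfsg.Agent.Helper2.InvolComb

/-- the standard involution on `(P ⊕ P) ⊕ S` -/
def tauStd (P S : Type) : Equiv.Perm ((P ⊕ P) ⊕ S) :=
  Equiv.sumCongr (Equiv.sumComm P P) (Equiv.refl S)

/-- `(U, τ)` is isomorphic to a standard `((P ⊕ P) ⊕ S, tauStd)` -/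
def StdForm (U : Type) (τ : Equiv.Perm U) : Prop :=
  ∃ (P S : Type) (_ : Fintype P) (_ : Fintype S) (e : U ≃ (P ⊕ P) ⊕ S), ∀ u, e (τ u) = tauStd P S (e u)

lemma StdForm.empty : StdForm Empty 1 :=
  ⟨Empty, Empty, inferInstance, inferInstance,
    ⟨fun e => e.elim, fun x => by rcases x with (x | x) | x <;> exact x.elim,
      fun e => e.elim, fun x => by rcases x with (x | x) | x <;> exact x.elim⟩, fun u => u.elim⟩

lemma StdForm.add_single {U : Type} {τ : Equiv.Perm U} (h : StdForm U τ) :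
    StdForm (U ⊕ Unit) (Equiv.sumCongr τ 1) := by
  obtain ⟨P, S, hP, hS, e, he⟩ := h
  refine ⟨P, S ⊕ Unit, hP, inferInstance,
    (Equiv.sumCongr e (Equiv.refl Unit)).trans (Equiv.sumAssoc (P ⊕ P) S Unit), ?_⟩
  rintro (u | u)
  · simp only [Equiv.sumCongr_apply, Sum.map_inl, Equiv.trans_apply, he]
    rcases e u with (x | x) | x <;> rfl
  · rfl

lemma StdForm.add_pair {U : Type} {τ : Equiv.Perm U} (h : StdForm U τ) :
    StdForm (U ⊕ Bool) (Equiv.sumCongr τ (Equiv.swap false true)) := by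
  obtain ⟨P, S, hP, hS, e, he⟩ := h
  let E : ((P ⊕ P) ⊕ S) ⊕ Bool ≃ ((P ⊕ Unit) ⊕ (P ⊕ Unit)) ⊕ S :=
    { toFun := fun x => match x with
        | Sum.inl (Sum.inl (Sum.inl p)) => Sum.inl (Sum.inl (Sum.inl p))
        | Sum.inl (Sum.inl (Sum.inr p)) => Sum.inl (Sum.inr (Sum.inl p))
        | Sum.inl (Sum.inr s) => Sum.inr s
        | Sum.inr false => Sum.inl (Sum.inl (Sum.inr ()))
        | Sum.inr true => Sum.inl (Sum.inr (Sum.inr ()))
      invFun := fun x => match x with
        | Sum.inl (Sum.inl (Sum.inl p)) => Sum.inl (Sum.inl (Sum.inl p))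
        | Sum.inl (Sum.inr (Sum.inl p)) => Sum.inl (Sum.inl (Sum.inr p))
        | Sum.inr s => Sum.inl (Sum.inr s)
        | Sum.inl (Sum.inl (Sum.inr ())) => Sum.inr false
        | Sum.inl (Sum.inr (Sum.inr ())) => Sum.inr true
      left_inv := by
        rintro (((p | p) | s) | (_ | _)) <;> rfl
      right_inv := by
        rintro (((p | ⟨⟩) | (p | ⟨⟩)) | s) <;> rfl }
  refine ⟨P ⊕ Unit, S, inferInstance, hS, (Equiv.sumCongr e (Equiv.refl Bool)).trans E, ?_⟩
  rintro (u | u)
  · simp only [Equiv.sumCongr_apply, Sum.map_inl, Equiv.trans_apply, he]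
    rcases e u with (x | x) | x <;> rfl
  · cases u <;> rfl

/-- an equivariant assignment of the elements of `U` to blocks indexed by `ι`, each block of size `a` -/
def Comb (a : ℕ) (U : Type) (τ : Equiv.Perm U) (ι : Type) : Prop :=
  ∃ blk : U → ι, ∃ σ : Equiv.Perm ι, (∀ j, Nat.card {i // blk i = j} = a) ∧ ∀ i, blk (τ i) = σ (blk i)

variable {a : ℕ}

lemma Comb.sum {U₁ U₂ ι₁ ι₂ : Type} {τ₁ : Equiv.Perm U₁} {τ₂ : Equiv.Perm U₂}
    (h₁ : Comb a U₁ τ₁ ι₁) (h₂ : Comb a U₂ τ₂ ι₂) :
    Comb a (U₁ ⊕ U₂) (Equiv.sumCongr τ₁ τ₂) (ι₁ ⊕ ι₂) := by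
  obtain ⟨b₁, σ₁, hc₁, he₁⟩ := h₁
  obtain ⟨b₂, σ₂, hc₂, he₂⟩ := h₂
  refine ⟨Sum.map b₁ b₂, Equiv.sumCongr σ₁ σ₂, ?_, ?_⟩
  · rintro (j | j)
    · rw [← hc₁ j]
      refine Nat.card_congr ⟨fun x => ?_, fun x => ⟨Sum.inl x.1, by simp [x.2]⟩, ?_, ?_⟩
      · rcases x with ⟨x | x, hx⟩
        · exact ⟨x, by simpa using hx⟩
        · exact absurd hx (by simp)
      · rintro ⟨x | x, hx⟩
        · rfl
        · exact absurd hx (by simp)
      · rintro ⟨x, hx⟩; rfl
    · rw [← hc₂ j]
      refine Nat.card_congr ⟨fun x => ?_, fun x => ⟨Sum.inr x.1, by simp [x.2]⟩, ?_, ?_⟩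
      · rcases x with ⟨x | x, hx⟩
        · exact absurd hx (by simp)
        · exact ⟨x, by simpa using hx⟩
      · rintro ⟨x | x, hx⟩
        · exact absurd hx (by simp)
        · rfl
      · rintro ⟨x, hx⟩; rfl
  · rintro (i | i)
    · simp [he₁]
    · simp [he₂]

lemma Comb.congr {U U' ι ι' : Type} {τ : Equiv.Perm U} {τ' : Equiv.Perm U'} (h : Comb a U τ ι)
    (e : U' ≃ U) (he : ∀ u, e (τ' u) = τ (e u)) (f : ι ≃ ι') : Comb a U' τ' ι' := by
  obtain ⟨b, σ, hc, hb⟩ := h
  refine ⟨fun u => f (b (e u)), (f.symm.trans σ).trans f, ?_, ?_⟩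
  · intro j
    rw [← hc (f.symm j)]
    refine Nat.card_congr ⟨fun x => ⟨e x.1, ?_⟩, fun x => ⟨e.symm x.1, ?_⟩, ?_, ?_⟩
    · have := x.2
      simp only at this
      exact (Equiv.symm_apply_eq f).mpr this.symm |>.symm
    · have := x.2
      simp only [Equiv.apply_symm_apply, this, Equiv.apply_symm_apply]
    · rintro ⟨x, hx⟩; simp
    · rintro ⟨x, hx⟩; simp
  · intro u
    simp [he, hb]

lemma Comb.atomA {U : Type} [Fintype U] (τ : Equiv.Perm U) (h : Fintype.card U = a) : Comb a U τ Unit := by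
  refine ⟨fun _ => (), 1, ?_, fun _ => rfl⟩
  intro j
  rw [← h, ← Nat.card_eq_fintype_card]
  exact Nat.card_congr ⟨fun x => x.1, fun x => ⟨x, rfl⟩, fun _ => rfl, fun _ => rfl⟩

lemma Comb.atomB {P : Type} [Fintype P] (h : Fintype.card P = a) :
    Comb a ((P ⊕ P) ⊕ Empty) (tauStd P Empty) Bool := by
  refine ⟨fun x => match x with
      | Sum.inl (Sum.inl _) => false
      | Sum.inl (Sum.inr _) => true
      | Sum.inr e => e.elim, Equiv.swap false true, ?_, ?_⟩
  · intro j
    rw [← h, ← Nat.card_eq_fintype_card]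
    cases j
    · refine Nat.card_congr ⟨fun x => ?_, fun p => ⟨Sum.inl (Sum.inl p), rfl⟩, ?_, ?_⟩
      · rcases x with ⟨(p | p) | e, hx⟩
        · exact p
        · exact absurd hx (by simp)
        · exact e.elim
      · rintro ⟨(p | p) | e, hx⟩
        · rfl
        · exact absurd hx (by simp)
        · exact e.elim
      · intro p; rfl
    · refine Nat.card_congr ⟨fun x => ?_, fun p => ⟨Sum.inl (Sum.inr p), rfl⟩, ?_, ?_⟩
      · rcases x with ⟨(p | p) | e, hx⟩
        · exact absurd hx (by simp)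
        · exact p
        · exact e.elim
      · rintro ⟨(p | p) | e, hx⟩
        · exact absurd hx (by simp)
        · rfl
        · exact e.elim
      · intro p; rfl
  · rintro ((p | p) | e)
    · rfl
    · rfl
    · exact e.elim

/-- rearrangement `((A⊕B) ⊕ (A⊕B)) ⊕ (C ⊕ D) ≃ ((A⊕A)⊕C) ⊕ ((B⊕B)⊕D)` -/
def rearr (A B C D : Type) : ((A ⊕ B) ⊕ (A ⊕ B)) ⊕ (C ⊕ D) ≃ ((A ⊕ A) ⊕ C) ⊕ ((B ⊕ B) ⊕ D) where
  toFun := fun x => match x with
    | Sum.inl (Sum.inl (Sum.inl x)) => Sum.inl (Sum.inl (Sum.inl x))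
    | Sum.inl (Sum.inl (Sum.inr x)) => Sum.inr (Sum.inl (Sum.inl x))
    | Sum.inl (Sum.inr (Sum.inl x)) => Sum.inl (Sum.inl (Sum.inr x))
    | Sum.inl (Sum.inr (Sum.inr x)) => Sum.inr (Sum.inl (Sum.inr x))
    | Sum.inr (Sum.inl x) => Sum.inl (Sum.inr x)
    | Sum.inr (Sum.inr x) => Sum.inr (Sum.inr x)
  invFun := fun x => match x with
    | Sum.inl (Sum.inl (Sum.inl x)) => Sum.inl (Sum.inl (Sum.inl x))
    | Sum.inr (Sum.inl (Sum.inl x)) => Sum.inl (Sum.inl (Sum.inr x))
    | Sum.inl (Sum.inl (Sum.inr x)) => Sum.inl (Sum.inr (Sum.inl x))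
    | Sum.inr (Sum.inl (Sum.inr x)) => Sum.inl (Sum.inr (Sum.inr x))
    | Sum.inl (Sum.inr x) => Sum.inr (Sum.inl x)
    | Sum.inr (Sum.inr x) => Sum.inr (Sum.inr x)
  left_inv := by rintro (((x | x) | (x | x)) | (x | x)) <;> rfl
  right_inv := by rintro (((x | x) | x) | ((x | x) | x)) <;> rfl

lemma rearr_compat (A B C D : Type) (x : ((A ⊕ B) ⊕ (A ⊕ B)) ⊕ (C ⊕ D)) :
    rearr A B C D (tauStd (A ⊕ B) (C ⊕ D) x) =
      Equiv.sumCongr (tauStd A C) (tauStd B D) (rearr A B C D x) := by
  rcases x with ((x | x) | (x | x)) | (x | x) <;> rfl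

lemma Comb.split {P S A B C D ι₁ ι₂ : Type} (eP : P ≃ A ⊕ B) (eS : S ≃ C ⊕ D)
    (h₁ : Comb a ((A ⊕ A) ⊕ C) (tauStd A C) ι₁) (h₂ : Comb a ((B ⊕ B) ⊕ D) (tauStd B D) ι₂) :
    Comb a ((P ⊕ P) ⊕ S) (tauStd P S) (ι₁ ⊕ ι₂) := by
  refine (h₁.sum h₂).congr ((Equiv.sumCongr (Equiv.sumCongr eP eP) eS).trans (rearr A B C D)) ?_
    (Equiv.refl _)
  intro u
  rw [Equiv.trans_apply, Equiv.trans_apply, ← rearr_compat]
  congr 1
  rcases u with (u | u) | u <;> rfl

theorem Comb.main_std (ha : 1 ≤ a) : ∀ t : ℕ, ∀ (P S : Type) [Fintype P] [Fintype S],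
    2 * Fintype.card P + Fintype.card S = a * t → Comb a ((P ⊕ P) ⊕ S) (tauStd P S) (Fin t) := by
  intro t
  induction t using Nat.strong_induction_on with
  | _ t ih =>
    intro P S _ _ hsf
    set s := Fintype.card P with hs
    set f := Fintype.card S with hf
    -- step with an invariant block
    have stepA : ∀ (t' p m : ℕ), t = t' + 1 → p ≤ s → m ≤ f → 2 * p + m = a →
        Comb a ((P ⊕ P) ⊕ S) (tauStd P S) (Fin t) := by
      intro t' p m ht hp hm hpm
      subst ht
      have eP : P ≃ Fin p ⊕ Fin (s - p) :=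
        (Fintype.equivFinOfCardEq (by omega : Fintype.card P = p + (s - p))).trans finSumFinEquiv.symm
      have eS : S ≃ Fin m ⊕ Fin (f - m) :=
        (Fintype.equivFinOfCardEq (by omega : Fintype.card S = m + (f - m))).trans finSumFinEquiv.symm
      have h₁ : Comb a ((Fin p ⊕ Fin p) ⊕ Fin m) (tauStd _ _) Unit :=
        Comb.atomA _ (by simp; omega)
      have h₂ : Comb a ((Fin (s - p) ⊕ Fin (s - p)) ⊕ Fin (f - m)) (tauStd _ _) (Fin t') := by
        apply ih t' (Nat.lt_succ_self _)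
        simp only [Fintype.card_fin]
        have : a * (t' + 1) = a * t' + a := by ring
        omega
      exact (Comb.split eP eS h₁ h₂).congr (Equiv.refl _) (fun _ => rfl)
        (Fintype.equivFinOfCardEq (by simp [add_comm]))
    rcases t with _ | t
    · -- t = 0 : everything empty
      have hs0 : s = 0 := by omega
      have hf0 : f = 0 := by omega
      have : IsEmpty P := Fintype.card_eq_zero_iff.mp (hs ▸ hs0)
      have : IsEmpty S := Fintype.card_eq_zero_iff.mp (hf ▸ hf0)
      refine ⟨fun x => isEmptyElim x, 1, fun j => j.elim0, fun x => isEmptyElim x⟩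
    · rcases Nat.even_or_odd' a with ⟨a', ha' | ha'⟩
      · have h3 : min s a' ≤ a' := min_le_right _ _
        have h4 : min s a' ≤ s := min_le_left _ _
        have hexp : a * (t + 1) = a * t + a := by ring
        refine stepA t (min s a') (a - 2 * min s a') rfl h4 ?_ (by omega)
        rcases le_total s a' with h1 | h1
        · rw [min_eq_left h1]; omega
        · rw [min_eq_right h1]; omega
      · by_cases hsa : a ≤ s
        · rcases t with _ | t
          · exfalso
            simp only [zero_add, mul_one] at hsf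
            omega
          · have eP : P ≃ Fin a ⊕ Fin (s - a) :=
              (Fintype.equivFinOfCardEq (by omega : Fintype.card P = a + (s - a))).trans
                finSumFinEquiv.symm
            have eS : S ≃ Empty ⊕ S := (Equiv.emptySum Empty S).symm
            have h₁ : Comb a ((Fin a ⊕ Fin a) ⊕ Empty) (tauStd _ _) Bool := Comb.atomB (by simp)
            have h₂ : Comb a ((Fin (s - a) ⊕ Fin (s - a)) ⊕ S) (tauStd _ _) (Fin t) := by
              apply ih t (by omega)
              simp only [Fintype.card_fin]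
              have : a * (t + 1 + 1) = a * t + 2 * a := by ring
              omega
            exact (Comb.split eP eS h₁ h₂).congr (Equiv.refl _) (fun _ => rfl)
              (Fintype.equivFinOfCardEq (by simp; omega))
        · push Not at hsa
          have h3 : min s a' ≤ a' := min_le_right _ _
          have h4 : min s a' ≤ s := min_le_left _ _
          have hexp : a * (t + 1) = a * t + a := by ring
          refine stepA t (min s a') (a - 2 * min s a') rfl h4 ?_ (by omega)
          rcases le_total s a' with h1 | h1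
          · rw [min_eq_left h1]; omega
          · rw [min_eq_right h1]
            rcases t with _ | t
            · simp only [zero_add, mul_one] at hsf
              omega
            · have : a * (t + 1 + 1) = a * t + 2 * a := by ring
              omega

theorem Comb.of_stdForm (ha : 1 ≤ a) {U : Type} [Fintype U] {τ : Equiv.Perm U} (h : StdForm U τ)
    (t : ℕ) (hc : Fintype.card U = a * t) : Comb a U τ (Fin t) := by
  obtain ⟨P, S, hP, hS, e, he⟩ := h
  refine (Comb.main_std ha t P S ?_).congr e he (Equiv.refl _)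
  rw [← hc, Fintype.card_congr e]
  simp only [Fintype.card_sum]
  ring

end Cfsg.Agent.Helper2.InvolComb
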