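import Mathlib

/-! Linear maps `X` with `X² = z` (`z ≠ 0`): decompositions into `t` subspaces of dimension `a`
permuted by `X`. -/

set_option autoImplicit false

namespace Cfsg.Agent.Helper2.InvolDecomp

variable {F V : Type*} [Field F] [AddCommGroup V] [Module F V]

lemma iSupIndep_sum_elim {ι₁ ι₂ : Type*} {D₁ : ι₁ → Submodule F V} {D₂ : ι₂ → Submodule F V}
    (h₁ : iSupIndep D₁) (h₂ : iSupIndep D₂) (hd : Disjoint (iSup D₁) (iSup D₂)) :
    iSupIndep (Sum.elim D₁ D₂) := by
  intro j
  cases j with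
  | inl j =>
    have e : (⨆ (k) (_ : k ≠ Sum.inl j), Sum.elim D₁ D₂ k) = (⨆ (k) (_ : k ≠ j), D₁ k) ⊔ iSup D₂ := by
      rw [iSup_sum]
      simp
    rw [e]
    refine Disjoint.disjoint_sup_right_of_disjoint_sup_left (h₁ j) ?_
    refine hd.mono_left ?_
    refine sup_le (le_iSup D₁ j) ?_
    exact iSup₂_le (fun k _ => le_iSup D₁ k)
  | inr j =>
    have e : (⨆ (k) (_ : k ≠ Sum.inr j), Sum.elim D₁ D₂ k) = (⨆ (k) (_ : k ≠ j), D₂ k) ⊔ iSup D₁ := by
      rw [iSup_sum, sup_comm]
      simp
    rw [e]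
    refine Disjoint.disjoint_sup_right_of_disjoint_sup_left (h₂ j) ?_
    refine hd.symm.mono_left ?_
    refine sup_le (le_iSup D₂ j) ?_
    exact iSup₂_le (fun k _ => le_iSup D₂ k)

variable (a : ℕ) (X : V →ₗ[F] V)

/-- `M` is the direct sum of `ι`-many subspaces of dimension `a` permuted by `X`. -/
def Good (M : Submodule F V) (ι : Type*) : Prop :=
  ∃ D : ι → Submodule F V, (∀ j, Module.finrank F (D j) = a) ∧ iSupIndep D ∧ iSup D = M ∧
    ∃ σ : Equiv.Perm ι, ∀ j, (D j).map X = D (σ j)

variable {a X}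

lemma Good.sum {M₁ M₂ : Submodule F V} {ι₁ ι₂ : Type*} (h₁ : Good a X M₁ ι₁) (h₂ : Good a X M₂ ι₂)
    (hd : Disjoint M₁ M₂) : Good a X (M₁ ⊔ M₂) (ι₁ ⊕ ι₂) := by
  obtain ⟨D₁, hf₁, hi₁, hs₁, σ₁, hσ₁⟩ := h₁
  obtain ⟨D₂, hf₂, hi₂, hs₂, σ₂, hσ₂⟩ := h₂
  refine ⟨Sum.elim D₁ D₂, ?_, ?_, ?_, Equiv.sumCongr σ₁ σ₂, ?_⟩
  · rintro (j | j)
    · exact hf₁ j
    · exact hf₂ j
  · exact iSupIndep_sum_elim hi₁ hi₂ (by rw [hs₁, hs₂]; exact hd)
  · rw [iSup_sum]
    simp [hs₁, hs₂]
  · rintro (j | j)
    · exact hσ₁ j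
    · exact hσ₂ j

lemma Good.congr {M : Submodule F V} {ι ι' : Type*} (h : Good a X M ι) (e : ι ≃ ι') : Good a X M ι' := by
  obtain ⟨D, hf, hi, hs, σ, hσ⟩ := h
  refine ⟨D ∘ e.symm, fun j => hf _, hi.comp e.symm.injective, ?_, (e.symm.trans σ).trans e, ?_⟩
  · rw [← hs]
    exact e.symm.iSup_comp (g := D)
  · intro j
    simp [hσ]

/-- the family `w, X ∘ w, u` -/
def fam (X : V →ₗ[F] V) {P S : Type*} (w : P → V) (u : S → V) : (P ⊕ P) ⊕ S → V :=
  Sum.elim (Sum.elim w (X ∘ w)) u

variable (X) in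
/-- `M` has a basis consisting of pairs `w p, X (w p)` and eigenvectors `u k`. -/
def PS (M : Submodule F V) (P S : Type*) : Prop :=
  ∃ w : P → V, ∃ u : S → V, LinearIndependent F (fam X w u) ∧
    Submodule.span F (Set.range (fam X w u)) = M ∧ ∀ k, ∃ c : F, X (u k) = c • u k

lemma PS.congr {M : Submodule F V} {P S P' S' : Type*} (h : PS X M P S) (eP : P' ≃ P) (eS : S' ≃ S) :
    PS X M P' S' := by
  obtain ⟨w, u, hli, hsp, hu⟩ := h
  have e : fam X (w ∘ eP) (u ∘ eS) = fam X w u ∘ (Equiv.sumCongr (Equiv.sumCongr eP eP) eS) := by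
    funext i
    rcases i with (i | i) | i <;> rfl
  refine ⟨w ∘ eP, u ∘ eS, ?_, ?_, fun k => hu _⟩
  · rw [e]
    exact hli.comp _ (Equiv.injective _)
  · rw [e, Set.range_comp, Equiv.range_eq_univ, Set.image_univ, hsp]

lemma PS.split {M : Submodule F V} {P₁ P₂ S₁ S₂ : Type*} (h : PS X M (P₁ ⊕ P₂) (S₁ ⊕ S₂)) :
    ∃ M₁ M₂ : Submodule F V, Disjoint M₁ M₂ ∧ M₁ ⊔ M₂ = M ∧ PS X M₁ P₁ S₁ ∧ PS X M₂ P₂ S₂ := by
  obtain ⟨w, u, hli, hsp, hu⟩ := h
  let φ₁ : (P₁ ⊕ P₁) ⊕ S₁ → ((P₁ ⊕ P₂) ⊕ (P₁ ⊕ P₂)) ⊕ (S₁ ⊕ S₂) :=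
    Sum.map (Sum.map Sum.inl Sum.inl) Sum.inl
  let φ₂ : (P₂ ⊕ P₂) ⊕ S₂ → ((P₁ ⊕ P₂) ⊕ (P₁ ⊕ P₂)) ⊕ (S₁ ⊕ S₂) :=
    Sum.map (Sum.map Sum.inr Sum.inr) Sum.inr
  have e₁ : fam X (w ∘ Sum.inl) (u ∘ Sum.inl) = fam X w u ∘ φ₁ := by
    funext i
    rcases i with (i | i) | i <;> rfl
  have e₂ : fam X (w ∘ Sum.inr) (u ∘ Sum.inr) = fam X w u ∘ φ₂ := by
    funext i
    rcases i with (i | i) | i <;> rfl
  have hφ₁ : Function.Injective φ₁ := by
    rintro ((i | i) | i) ((j | j) | j) h <;> simp [φ₁] at h <;> simp [h]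
  have hφ₂ : Function.Injective φ₂ := by
    rintro ((i | i) | i) ((j | j) | j) h <;> simp [φ₂] at h <;> simp [h]
  have hdisj : Disjoint (Set.range φ₁) (Set.range φ₂) := by
    rw [Set.disjoint_left]
    rintro _ ⟨i, rfl⟩ ⟨j, hj⟩
    rcases i with (i | i) | i <;> rcases j with (j | j) | j <;> simp [φ₁, φ₂] at hj
  have hunion : Set.range φ₁ ∪ Set.range φ₂ = Set.univ := by
    rw [Set.eq_univ_iff_forall]
    rintro (((i | i) | (i | i)) | (i | i))
    · exact Or.inl ⟨Sum.inl (Sum.inl i), rfl⟩
    · exact Or.inr ⟨Sum.inl (Sum.inl i), rfl⟩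
    · exact Or.inl ⟨Sum.inl (Sum.inr i), rfl⟩
    · exact Or.inr ⟨Sum.inl (Sum.inr i), rfl⟩
    · exact Or.inl ⟨Sum.inr i, rfl⟩
    · exact Or.inr ⟨Sum.inr i, rfl⟩
  refine ⟨Submodule.span F (fam X w u '' Set.range φ₁), Submodule.span F (fam X w u '' Set.range φ₂),
    hli.disjoint_span_image hdisj, ?_, ?_, ?_⟩
  · rw [← Submodule.span_union, ← Set.image_union, hunion, Set.image_univ, hsp]
  · refine ⟨w ∘ Sum.inl, u ∘ Sum.inl, ?_, ?_, fun k => hu _⟩
    · rw [e₁]; exact hli.comp _ hφ₁
    · rw [e₁, Set.range_comp]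
  · refine ⟨w ∘ Sum.inr, u ∘ Sum.inr, ?_, ?_, fun k => hu _⟩
    · rw [e₂]; exact hli.comp _ hφ₂
    · rw [e₂, Set.range_comp]

section atoms

variable {z : F} (hz : z ≠ 0) (hXX : ∀ v, X (X v) = z • v)

include hz hXX in
lemma X_injective : Function.Injective X := by
  intro u v huv
  have := congrArg X huv
  rw [hXX, hXX] at this
  exact smul_right_injective _ hz this

include hXX in
lemma PS.map_le {M : Submodule F V} {P S : Type*} (h : PS X M P S) : M.map X ≤ M := by
  obtain ⟨w, u, hli, hsp, hu⟩ := h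
  rw [← hsp, Submodule.map_span, Submodule.span_le]
  rintro _ ⟨_, ⟨i, rfl⟩, rfl⟩
  rcases i with (i | i) | i
  · exact Submodule.subset_span ⟨Sum.inl (Sum.inr i), rfl⟩
  · change X (X (w i)) ∈ _
    rw [hXX]
    exact Submodule.smul_mem _ _ (Submodule.subset_span ⟨Sum.inl (Sum.inl i), rfl⟩)
  · obtain ⟨c, hc⟩ := hu i
    change X (u i) ∈ _
    rw [hc]
    exact Submodule.smul_mem _ _ (Submodule.subset_span ⟨Sum.inr i, rfl⟩)

lemma PS.finrank_eq {M : Submodule F V} {P S : Type*} [Fintype P] [Fintype S] (h : PS X M P S) :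
    Module.finrank F M = 2 * Fintype.card P + Fintype.card S := by
  obtain ⟨w, u, hli, hsp, hu⟩ := h
  rw [← hsp, finrank_span_eq_card hli]
  simp only [Fintype.card_sum]
  ring

variable [FiniteDimensional F V]

include hz hXX in
lemma map_eq_of_le {M : Submodule F V} (h : M.map X ≤ M) : M.map X = M :=
  Submodule.eq_of_le_of_finrank_eq h
    (LinearEquiv.finrank_eq (Submodule.equivMapOfInjective X (X_injective hz hXX) M)).symm

include hz hXX in
lemma atomA {M : Submodule F V} {P S : Type*} [Fintype P] [Fintype S] (h : PS X M P S)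
    (hc : 2 * Fintype.card P + Fintype.card S = a) : Good a X M Unit := by
  refine ⟨fun _ => M, fun _ => by rw [h.finrank_eq, hc], iSupIndep_subsingleton _, iSup_const, 1, fun _ => ?_⟩
  exact map_eq_of_le hz hXX (h.map_le hXX)

include hz hXX in
lemma atomB {M : Submodule F V} {P S : Type*} [Fintype P] [IsEmpty S] (h : PS X M P S)
    (hc : Fintype.card P = a) : Good a X M Bool := by
  obtain ⟨w, u, hli, hsp, hu⟩ := h
  have hw : LinearIndependent F w := by
    have := hli.comp (fun p => Sum.inl (Sum.inl p)) (by intro p q h; simpa using h)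
    exact this
  have hXw : LinearIndependent F (X ∘ w) := by
    have := hli.comp (fun p => Sum.inl (Sum.inr p)) (by intro p q h; simpa using h)
    exact this
  have hrange : Set.range (fam X w u) = Set.range w ∪ Set.range (X ∘ w) := by
    ext v
    constructor
    · rintro ⟨(i | i) | i, rfl⟩
      · exact Or.inl ⟨i, rfl⟩
      · exact Or.inr ⟨i, rfl⟩
      · exact isEmptyElim i
    · rintro (⟨i, rfl⟩ | ⟨i, rfl⟩)
      · exact ⟨Sum.inl (Sum.inl i), rfl⟩
      · exact ⟨Sum.inl (Sum.inr i), rfl⟩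
  have hdisj : Disjoint (Submodule.span F (Set.range w)) (Submodule.span F (Set.range (X ∘ w))) := by
    have h1 : Set.range w = fam X w u '' (Set.range (fun p : P => (Sum.inl (Sum.inl p) : (P ⊕ P) ⊕ S))) := by
      rw [← Set.range_comp]; rfl
    have h2 : Set.range (X ∘ w) = fam X w u '' (Set.range (fun p : P => (Sum.inl (Sum.inr p) : (P ⊕ P) ⊕ S))) := by
      rw [← Set.range_comp]; rfl
    rw [h1, h2]
    apply hli.disjoint_span_image
    rw [Set.disjoint_left]
    rintro _ ⟨i, rfl⟩ ⟨j, hj⟩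
    simp at hj
  refine ⟨fun b => cond b (Submodule.span F (Set.range (X ∘ w))) (Submodule.span F (Set.range w)),
    ?_, ?_, ?_, Equiv.swap false true, ?_⟩
  · intro b
    cases b
    · simp only [cond_false]
      rw [finrank_span_eq_card hw, hc]
    · simp only [cond_true]
      rw [finrank_span_eq_card hXw, hc]
  · rw [iSupIndep_pair (i := false) (j := true) (by simp) (by intro k; cases k <;> simp)]
    simpa using hdisj
  · rw [iSup_bool_eq]
    simp only [cond_true, cond_false]
    rw [← hsp, hrange, Submodule.span_union, sup_comm]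
  · intro b
    cases b
    · simp only [cond_false, Equiv.swap_apply_left, cond_true]
      rw [Submodule.map_span, ← Set.range_comp]
    · simp only [cond_true, Equiv.swap_apply_right, cond_false]
      rw [Submodule.map_span, ← Set.range_comp]
      have : (⇑X ∘ ⇑X ∘ w) = z • w := by
        funext p
        simp [hXX]
      rw [this]
      apply le_antisymm
      · rw [Submodule.span_le]
        rintro _ ⟨p, rfl⟩
        exact Submodule.smul_mem _ _ (Submodule.subset_span ⟨p, rfl⟩)
      · rw [Submodule.span_le]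
        rintro _ ⟨p, rfl⟩
        have : w p = z⁻¹ • (z • w) p := by simp [smul_smul, inv_mul_cancel₀ hz]
        rw [this]
        exact Submodule.smul_mem _ _ (Submodule.subset_span ⟨p, rfl⟩)

include hz hXX in
lemma stepA {M : Submodule F V} {s f p m t : ℕ} (h : PS X M (Fin s) (Fin f)) (hp : p ≤ s) (hm : m ≤ f)
    (hpm : 2 * p + m = a)
    (ih : ∀ M₂ : Submodule F V, PS X M₂ (Fin (s - p)) (Fin (f - m)) → Good a X M₂ (Fin t)) :
    Good a X M (Fin (t + 1)) := by
  have h' : PS X M (Fin p ⊕ Fin (s - p)) (Fin m ⊕ Fin (f - m)) :=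
    h.congr (finSumFinEquiv.trans (finCongr (by omega))) (finSumFinEquiv.trans (finCongr (by omega)))
  obtain ⟨M₁, M₂, hd, hsup, h₁, h₂⟩ := h'.split
  have g₁ : Good a X M₁ Unit := atomA hz hXX h₁ (by simp [hpm])
  have g₂ := ih M₂ h₂
  have := (g₁.sum g₂ hd).congr (Fintype.equivFinOfCardEq (n := t + 1) (by simp [add_comm]))
  rwa [hsup] at this

include hz hXX in
lemma stepB {M : Submodule F V} {s f t : ℕ} (h : PS X M (Fin s) (Fin f)) (hp : a ≤ s)
    (ih : ∀ M₂ : Submodule F V, PS X M₂ (Fin (s - a)) (Fin f) → Good a X M₂ (Fin t)) :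
    Good a X M (Fin (t + 2)) := by
  have h' : PS X M (Fin a ⊕ Fin (s - a)) (Fin 0 ⊕ Fin f) :=
    h.congr (finSumFinEquiv.trans (finCongr (by omega))) (finSumFinEquiv.trans (finCongr (by omega)))
  obtain ⟨M₁, M₂, hd, hsup, h₁, h₂⟩ := h'.split
  have g₁ : Good a X M₁ Bool := atomB hz hXX h₁ (by simp)
  have g₂ := ih M₂ h₂
  have := (g₁.sum g₂ hd).congr (Fintype.equivFinOfCardEq (n := t + 2) (by simp [add_comm]))
  rwa [hsup] at this

include hz hXX in
theorem main (ha : 1 ≤ a) : ∀ t : ℕ, ∀ (s f : ℕ) (M : Submodule F V), PS X M (Fin s) (Fin f) →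
    2 * s + f = a * t → Good a X M (Fin t) := by
  intro t
  induction t using Nat.strong_induction_on with
  | _ t ih =>
    intro s f M h hsf
    rcases t with _ | t
    · -- t = 0
      have hs : s = 0 := by omega
      have hf : f = 0 := by omega
      subst hs hf
      obtain ⟨w, u, hli, hsp, hu⟩ := h
      have hM : M = ⊥ := by
        rw [← hsp, Submodule.span_eq_bot]
        rintro _ ⟨i, rfl⟩
        rcases i with (i | i) | i <;> exact i.elim0
      refine ⟨fun _ => ⊥, fun j => j.elim0, iSupIndep_subsingleton _, ?_, 1, fun j => j.elim0⟩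
      rw [hM]
      simp
    · rcases Nat.even_or_odd' a with ⟨a', ha' | ha'⟩
      · -- a even
        have hle : a - 2 * min s a' ≤ f := by
          rcases le_total s a' with h1 | h1
          · rw [min_eq_left h1]
            have : a * (t + 1) = a * t + a := by ring
            omega
          · rw [min_eq_right h1]; omega
        refine stepA hz hXX h (p := min s a') (m := a - 2 * min s a') (min_le_left _ _) hle ?_ ?_
        · have : min s a' ≤ a' := min_le_right _ _
          omega
        · intro M₂ h₂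
          refine ih t (Nat.lt_succ_self t) _ _ M₂ h₂ ?_
          have h3 : min s a' ≤ a' := min_le_right _ _
          have h4 : min s a' ≤ s := min_le_left _ _
          have : a * (t + 1) = a * t + a := by ring
          omega
      · -- a odd
        by_cases hsa : a ≤ s
        · -- swap atom
          rcases t with _ | t
          · exfalso
            simp only [zero_add, mul_one] at hsf
            omega
          · refine stepB hz hXX h hsa ?_
            intro M₂ h₂
            refine ih t (by omega) _ _ M₂ h₂ ?_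
            have : a * (t + 1 + 1) = a * t + 2 * a := by ring
            omega
        · push Not at hsa
          have h3 : min s a' ≤ a' := min_le_right _ _
          have h4 : min s a' ≤ s := min_le_left _ _
          have hexp : a * (t + 1) = a * t + a := by ring
          have hle : a - 2 * min s a' ≤ f := by
            rcases le_total s a' with h1 | h1
            · rw [min_eq_left h1]; omega
            · rw [min_eq_right h1]
              -- a - 2a' = 1 ≤ f
              rcases t with _ | t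
              · simp only [zero_add, mul_one] at hsf
                omega
              · have : a * (t + 1 + 1) = a * t + 2 * a := by ring
                omega
          refine stepA hz hXX h (p := min s a') (m := a - 2 * min s a') h4 hle (by omega) ?_
          intro M₂ h₂
          refine ih t (Nat.lt_succ_self t) _ _ M₂ h₂ ?_
          omega

/-- every vector is "an eigenvector modulo `W ⊔ X W`" -/
def Sat (X : V →ₗ[F] V) (W : Submodule F V) : Prop :=
  ∀ v : V, ∃ α β : F, (α ≠ 0 ∨ β ≠ 0) ∧ α • v + β • X v ∈ W ⊔ W.map X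

include hz hXX in
lemma phase1 : ∀ k : ℕ, ∀ W : Submodule F V, Disjoint W (W.map X) →
    Module.finrank F V - Module.finrank F W = k → ∃ W' : Submodule F V, Disjoint W' (W'.map X) ∧ Sat X W' := by
  intro k
  induction k using Nat.strong_induction_on with
  | _ k ih =>
    intro W hW hk
    by_cases hsat : Sat X W
    · exact ⟨W, hW, hsat⟩
    · unfold Sat at hsat
      push Not at hsat
      obtain ⟨v, hv⟩ := hsat
      -- hv : ∀ α β, (α ≠ 0 ∨ β ≠ 0) → α • v + β • X v ∉ W ⊔ map X W
      have hvW : v ∉ W := by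
        intro h
        apply hv 1 0 (Or.inl one_ne_zero)
        simp only [one_smul, zero_smul, add_zero]
        exact Submodule.mem_sup_left h
      have hlt : W < W ⊔ Submodule.span F {v} := by
        refine lt_of_le_of_ne le_sup_left ?_
        intro h
        apply hvW
        rw [h]
        exact Submodule.mem_sup_right (Submodule.mem_span_singleton_self v)
      have hdisj : Disjoint (W ⊔ Submodule.span F {v}) ((W ⊔ Submodule.span F {v}).map X) := by
        rw [Submodule.disjoint_def]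
        intro y hy1 hy2
        rw [Submodule.map_sup, Submodule.map_span, Set.image_singleton] at hy2
        obtain ⟨w, hw, y1, hy1', rfl⟩ := Submodule.mem_sup.mp hy1
        obtain ⟨α, rfl⟩ := Submodule.mem_span_singleton.mp hy1'
        obtain ⟨w', hw', y2, hy2', hsum⟩ := Submodule.mem_sup.mp hy2
        obtain ⟨β, rfl⟩ := Submodule.mem_span_singleton.mp hy2'
        have hmem : α • v + (-β) • X v ∈ W ⊔ W.map X := by
          have : α • v + (-β) • X v = -w + w' := by
            have := hsum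
            rw [neg_smul]
            have e : α • v = w' + β • X v - w := by rw [hsum]; abel
            rw [e]; abel
          rw [this]
          exact Submodule.add_mem_sup (W.neg_mem hw) hw'
        have hαβ : α = 0 ∧ β = 0 := by
          by_contra hcon
          apply hv α (-β) ?_ hmem
          by_contra hc2
          push Not at hc2
          exact hcon ⟨hc2.1, neg_eq_zero.mp hc2.2⟩
        obtain ⟨rfl, rfl⟩ := hαβ
        simp only [zero_smul, add_zero] at hsum ⊢
        have : w ∈ W ⊓ W.map X := ⟨hw, hsum ▸ hw'⟩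
        rw [hW.eq_bot] at this
        exact this
      have hfr := Submodule.finrank_lt_finrank_of_lt hlt
      have hle : Module.finrank F ↥(W ⊔ Submodule.span F {v}) ≤ Module.finrank F V :=
        Submodule.finrank_le _
      exact ih (Module.finrank F V - Module.finrank F ↥(W ⊔ Submodule.span F {v})) (by omega) _ hdisj rfl

include hz hXX in
lemma exists_sat : ∃ W : Submodule F V, Disjoint W (W.map X) ∧ Sat X W :=
  phase1 hz hXX _ ⊥ (by simp) rfl

include hz hXX in
/-- modulo `W`, every vector outside `W ⊔ X W` is an eigenvector -/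
lemma eig_mod {W : Submodule F V} (hW : Disjoint W (W.map X)) (hsat : Sat X W) (v : V)
    (hv : v ∉ W ⊔ W.map X) : ∃ b ∈ W, ∃ c : F, X (v - b) = c • (v - b) := by
  obtain ⟨α, β, hαβ, hmem⟩ := hsat v
  have hinv : ∀ m ∈ W ⊔ W.map X, X m ∈ W ⊔ W.map X := by
    intro m hm
    obtain ⟨a₀, ha₀, y, hy, rfl⟩ := Submodule.mem_sup.mp hm
    obtain ⟨b₀, hb₀, rfl⟩ := hy
    rw [map_add, hXX, add_comm]
    exact Submodule.add_mem_sup (W.smul_mem _ hb₀) ⟨a₀, ha₀, rfl⟩
  have hβ : β ≠ 0 := by
    rintro rfl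
    have hα : α ≠ 0 := by simpa using hαβ
    apply hv
    simp only [zero_smul, add_zero] at hmem
    have := Submodule.smul_mem _ α⁻¹ hmem
    rwa [smul_smul, inv_mul_cancel₀ hα, one_smul] at this
  set c : F := -(α / β) with hc
  set m : V := β⁻¹ • (α • v + β • X v) with hm
  have hmM : m ∈ W ⊔ W.map X := Submodule.smul_mem _ _ hmem
  have hXv : X v = c • v + m := by
    rw [hm, hc, smul_add, smul_smul, smul_smul, inv_mul_cancel₀ hβ, one_smul, neg_smul, div_eq_inv_mul]
    abel
  -- z = c², X m = -c m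
  have h1 : (z - c * c) • v = c • m + X m := by
    have := hXX v
    rw [hXv, map_add, map_smul, hXv] at this
    rw [sub_smul, ← this]
    simp only [smul_add, smul_smul]
    abel
  have hzc : z = c * c := by
    by_contra hne
    have hne' : z - c * c ≠ 0 := sub_ne_zero.mpr hne
    apply hv
    have hmem2 : (z - c * c) • v ∈ W ⊔ W.map X := by
      rw [h1]
      exact Submodule.add_mem _ (Submodule.smul_mem _ _ hmM) (hinv m hmM)
    have := Submodule.smul_mem _ (z - c * c)⁻¹ hmem2
    rwa [smul_smul, inv_mul_cancel₀ hne', one_smul] at this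
  have hXm : X m = -(c • m) := by
    rw [hzc, sub_self, zero_smul] at h1
    exact (neg_eq_of_add_eq_zero_right h1.symm).symm
  obtain ⟨a₀, ha₀, y, hy, hsum⟩ := Submodule.mem_sup.mp hmM
  obtain ⟨b₀, hb₀, rfl⟩ := hy
  -- X (a₀ + c b₀) = - (z b₀ + c a₀) ∈ W ⊓ X W
  have h2 : X (a₀ + c • b₀) = -(z • b₀ + c • a₀) := by
    have := hXm
    rw [← hsum, map_add, hXX, smul_add] at this
    rw [map_add, map_smul]
    have e : X a₀ = -(c • a₀ + c • X b₀) - z • b₀ := by rw [← this]; abel
    rw [e]; abel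
  have h3 : X (a₀ + c • b₀) ∈ W ⊓ W.map X := by
    refine ⟨?_, ⟨_, W.add_mem ha₀ (W.smul_mem _ hb₀), rfl⟩⟩
    rw [h2]
    exact W.neg_mem (W.add_mem (W.smul_mem _ hb₀) (W.smul_mem _ ha₀))
  rw [hW.eq_bot, Submodule.mem_bot] at h3
  have h4 : a₀ + c • b₀ = 0 := by
    apply X_injective hz hXX
    rw [h3, map_zero]
  refine ⟨b₀, hb₀, c, ?_⟩
  have ha₀' : a₀ = -(c • b₀) := eq_neg_of_add_eq_zero_left h4
  rw [map_sub, hXv, ← hsum, ha₀', smul_sub]
  abel

include hz hXX in
theorem exists_PS_top : ∃ s f : ℕ, PS X (⊤ : Submodule F V) (Fin s) (Fin f) := by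
  classical
  obtain ⟨W, hW, hsat⟩ := exists_sat hz hXX (V := V)
  let bW := Module.finBasis F W
  set k := Module.finrank F W with hk
  let w : Fin k → V := fun i => (bW i : V)
  have hw : LinearIndependent F w :=
    bW.linearIndependent.map' W.subtype (Submodule.ker_subtype W)
  have hspw : Submodule.span F (Set.range w) = W := by
    have : Set.range w = W.subtype '' Set.range bW := by
      rw [← Set.range_comp]; rfl
    rw [this, ← Submodule.map_span, bW.span_eq, Submodule.map_subtype_top]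
  have hXw : LinearIndependent F (X ∘ w) :=
    hw.map' X (LinearMap.ker_eq_bot.mpr (X_injective hz hXX))
  have hspXw : Submodule.span F (Set.range (X ∘ w)) = W.map X := by
    rw [Set.range_comp, ← Submodule.map_span, hspw]
  let g₁ : Fin k ⊕ Fin k → V := Sum.elim w (X ∘ w)
  have hg₁ : LinearIndependent F g₁ := hw.sum_type hXw (by rw [hspw, hspXw]; exact hW)
  have hspg₁ : Submodule.span F (Set.range g₁) = W ⊔ W.map X := by
    rw [Set.Sum.elim_range, Submodule.span_union, hspw, hspXw]
  set s : Set V := Set.range g₁ with hs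
  let Eigv : Set V := {v | ∃ c : F, X v = c • v}
  obtain ⟨b, hbt, hsb, htb, hb⟩ := exists_linearIndepOn_id_extension (K := F)
    hg₁.linearIndepOn_id (Set.subset_union_left (s := s) (t := Eigv))
  have hspan_b : Submodule.span F b = ⊤ := by
    rw [eq_top_iff]
    intro v _
    by_cases hv : v ∈ W ⊔ W.map X
    · rw [← hspg₁] at hv
      exact Submodule.span_mono hsb hv
    · obtain ⟨b₀, hb₀, c, hc⟩ := eig_mod hz hXX hW hsat v hv
      have h1 : v - b₀ ∈ Submodule.span F b := htb (Or.inr ⟨c, hc⟩)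
      have h2 : b₀ ∈ Submodule.span F b := by
        have : b₀ ∈ W ⊔ W.map X := Submodule.mem_sup_left hb₀
        rw [← hspg₁] at this
        exact Submodule.span_mono hsb this
      have := Submodule.add_mem _ h1 h2
      rwa [sub_add_cancel] at this
  have hbfin : b.Finite := LinearIndependent.setFinite hb
  have hunion : s ∪ (b \ s) = b := Set.union_diff_cancel hsb
  have hb' : LinearIndepOn F id (s ∪ (b \ s)) := by rw [hunion]; exact hb
  rw [linearIndepOn_id_union_iff Set.disjoint_sdiff_right] at hb'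
  obtain ⟨-, hbs, hdj⟩ := hb'
  have : Fintype ↥(b \ s) := (hbfin.subset Set.diff_subset).fintype
  let u : ↥(b \ s) → V := Subtype.val
  have hu : LinearIndependent F u := hbs
  have hru : Set.range u = b \ s := Subtype.range_val
  have hfam : fam X w u = Sum.elim g₁ u := rfl
  have hPS : PS X (⊤ : Submodule F V) (Fin k) ↥(b \ s) := by
    refine ⟨w, u, ?_, ?_, ?_⟩
    · rw [hfam]
      exact hg₁.sum_type hu (by rw [hru]; exact hdj)
    · rw [hfam, Set.Sum.elim_range, hru, hunion, hspan_b]
    · intro x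
      have hx : (x : V) ∈ s ∪ Eigv := hbt x.2.1
      rcases hx with hx | hx
      · exact absurd hx x.2.2
      · exact hx
  exact ⟨k, Fintype.card ↥(b \ s), hPS.congr (Equiv.refl _) (Fintype.equivFin _).symm⟩

include hz hXX in
theorem exists_good_top (ha : 1 ≤ a) (t : ℕ) (hdim : Module.finrank F V = a * t) :
    Good a X (⊤ : Submodule F V) (Fin t) := by
  obtain ⟨s, f, hPS⟩ := exists_PS_top hz hXX (V := V)
  refine main hz hXX ha t s f ⊤ hPS ?_
  have := hPS.finrank_eq
  rw [finrank_top] at this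
  simpa [this] using hdim

end atoms

end Cfsg.Agent.Helper2.InvolDecomp
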