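import Mathlib

/-! Isometries `X` of an alternating form with `X² = ±1` (char ≠ 2): invariant Lagrangian pairs. -/

set_option autoImplicit false

namespace Cfsg.Agent.Helper2.SympInvol

variable {F V : Type*} [Field F] [AddCommGroup V] [Module F V]

/-- the part of `M` orthogonal to `u` and `w` -/
def perp2 (B : LinearMap.BilinForm F V) (M : Submodule F V) (u w : V) : Submodule F V where
  carrier := {m | m ∈ M ∧ B m u = 0 ∧ B m w = 0}
  add_mem' := by
    rintro a b ⟨ha, ha1, ha2⟩ ⟨hb, hb1, hb2⟩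
    refine ⟨M.add_mem ha hb, ?_, ?_⟩
    · simp [ha1, hb1]
    · simp [ha2, hb2]
  zero_mem' := ⟨M.zero_mem, by simp, by simp⟩
  smul_mem' := by
    rintro c a ⟨ha, ha1, ha2⟩
    refine ⟨M.smul_mem c ha, ?_, ?_⟩
    · simp [ha1]
    · simp [ha2]

lemma mem_perp2 {B : LinearMap.BilinForm F V} {M : Submodule F V} {u w m : V} :
    m ∈ perp2 B M u w ↔ m ∈ M ∧ B m u = 0 ∧ B m w = 0 := Iff.rfl

lemma perp2_le (B : LinearMap.BilinForm F V) (M : Submodule F V) (u w : V) : perp2 B M u w ≤ M :=
  fun _ h => h.1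

variable (B : LinearMap.BilinForm F V) (halt : ∀ v, B v v = 0)

include halt in
lemma skew (u v : V) : B u v = - B v u := by
  have h := halt (u + v)
  simp only [map_add, LinearMap.add_apply, halt, zero_add, add_zero] at h
  exact eq_neg_of_add_eq_zero_right h

include halt in
/-- decomposition of `m ∈ M` along a hyperbolic pair `u, w` -/
lemma decomp (M : Submodule F V) {u w : V} (hu : u ∈ M) (hw : w ∈ M) (huw : B u w ≠ 0) {m : V} (hm : m ∈ M) :
    ∃ α β : F, ∃ m' ∈ perp2 B M u w, m = α • u + β • w + m' := by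
  refine ⟨B m w / B u w, - (B m u / B u w), m - (B m w / B u w) • u + (B m u / B u w) • w, ⟨?_, ?_, ?_⟩, ?_⟩
  · exact M.add_mem (M.sub_mem hm (M.smul_mem _ hu)) (M.smul_mem _ hw)
  · simp only [map_add, map_sub, map_smul, LinearMap.add_apply, LinearMap.sub_apply, LinearMap.smul_apply,
      smul_eq_mul, halt]
    rw [skew B halt w u]
    field_simp
    ring
  · simp only [map_add, map_sub, map_smul, LinearMap.add_apply, LinearMap.sub_apply, LinearMap.smul_apply,
      smul_eq_mul, halt]
    field_simp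
    ring
  · simp only [neg_smul]
    abel

/-- `U, W` is a pair of complementary (inside `M`) totally isotropic subspaces -/
def LagPair (M U W : Submodule F V) : Prop :=
  U ⊓ W = ⊥ ∧ U ⊔ W = M ∧ (∀ a ∈ U, ∀ b ∈ U, B a b = 0) ∧ (∀ a ∈ W, ∀ b ∈ W, B a b = 0)

def Nondeg (M : Submodule F V) : Prop := ∀ m ∈ M, m ≠ 0 → ∃ v ∈ M, B m v ≠ 0

include halt in
lemma nondeg_perp2 (M : Submodule F V) (hM : Nondeg B M) {u w : V} (hu : u ∈ M) (hw : w ∈ M)
    (huw : B u w ≠ 0) : Nondeg B (perp2 B M u w) := by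
  intro m hm hm0
  obtain ⟨v, hv, hmv⟩ := hM m hm.1 hm0
  obtain ⟨α, β, v', hv', rfl⟩ := decomp B halt M hu hw huw hv
  refine ⟨v', hv', ?_⟩
  intro h0
  apply hmv
  simp [hm.2.1, hm.2.2, h0]

lemma perp2_lt (M : Submodule F V) {u w : V} (hu : u ∈ M) (huw : B u w ≠ 0) : perp2 B M u w < M := by
  refine lt_of_le_of_ne (perp2_le B M u w) ?_
  intro h
  have : u ∈ perp2 B M u w := by rw [h]; exact hu
  exact huw this.2.2

include halt in
lemma lagPair_step (M : Submodule F V) {u w : V} (hu : u ∈ M) (hw : w ∈ M) (huw : B u w ≠ 0)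
    {U' W' : Submodule F V} (h : LagPair B (perp2 B M u w) U' W') :
    LagPair B M (Submodule.span F {u} ⊔ U') (Submodule.span F {w} ⊔ W') := by
  obtain ⟨hinf, hsup, hU, hW⟩ := h
  have hU'le : U' ≤ perp2 B M u w := hsup ▸ le_sup_left
  have hW'le : W' ≤ perp2 B M u w := hsup ▸ le_sup_right
  refine ⟨?_, ?_, ?_, ?_⟩
  · rw [eq_bot_iff]
    rintro v ⟨hvU, hvW⟩
    obtain ⟨x, hx, a, ha, rfl⟩ := Submodule.mem_sup.mp hvU
    obtain ⟨y, hy, b, hb, hxy⟩ := Submodule.mem_sup.mp hvW
    obtain ⟨α, rfl⟩ := Submodule.mem_span_singleton.mp hx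
    obtain ⟨β, rfl⟩ := Submodule.mem_span_singleton.mp hy
    have ha' := hU'le ha
    have hb' := hW'le hb
    have e1 := congrArg (fun z => B z w) hxy
    have e2 := congrArg (fun z => B z u) hxy
    simp only [map_add, map_smul, LinearMap.add_apply, LinearMap.smul_apply, smul_eq_mul, halt,
      ha'.2.1, ha'.2.2, hb'.2.1, hb'.2.2, mul_zero, add_zero] at e1 e2
    have hα : α = 0 := by
      rcases mul_eq_zero.mp e1.symm with h | h
      · exact h
      · exact absurd h huw
    have hβ : β = 0 := by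
      rw [skew B halt w u] at e2
      rcases mul_eq_zero.mp e2 with h | h
      · exact h
      · exact absurd (neg_eq_zero.mp h) huw
    subst hα hβ
    simp only [zero_smul, zero_add] at hxy ⊢
    have : a ∈ U' ⊓ W' := ⟨ha, hxy ▸ hb⟩
    rw [hinf] at this
    exact this
  · apply le_antisymm
    · refine sup_le (sup_le ?_ ?_) (sup_le ?_ ?_)
      · rw [Submodule.span_singleton_le_iff_mem]; exact hu
      · exact hU'le.trans (perp2_le B M u w)
      · rw [Submodule.span_singleton_le_iff_mem]; exact hw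
      · exact hW'le.trans (perp2_le B M u w)
    · intro m hm
      obtain ⟨α, β, m', hm', rfl⟩ := decomp B halt M hu hw huw hm
      rw [← hsup] at hm'
      obtain ⟨a, ha, b, hb, rfl⟩ := Submodule.mem_sup.mp hm'
      have h1 : α • u + a ∈ Submodule.span F {u} ⊔ U' :=
        Submodule.add_mem_sup (Submodule.smul_mem _ _ (Submodule.mem_span_singleton_self u)) ha
      have h2 : β • w + b ∈ Submodule.span F {w} ⊔ W' :=
        Submodule.add_mem_sup (Submodule.smul_mem _ _ (Submodule.mem_span_singleton_self w)) hb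
      have : α • u + β • w + (a + b) = (α • u + a) + (β • w + b) := by abel
      rw [this]
      exact Submodule.add_mem_sup h1 h2
  · intro x hx y hy
    obtain ⟨x1, hx1, a, ha, rfl⟩ := Submodule.mem_sup.mp hx
    obtain ⟨y1, hy1, b, hb, rfl⟩ := Submodule.mem_sup.mp hy
    obtain ⟨α, rfl⟩ := Submodule.mem_span_singleton.mp hx1
    obtain ⟨β, rfl⟩ := Submodule.mem_span_singleton.mp hy1
    have ha' := hU'le ha
    have hb' := hU'le hb
    simp only [map_add, map_smul, LinearMap.add_apply, LinearMap.smul_apply, smul_eq_mul, halt,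
      ha'.2.1, hU a ha b hb, skew B halt u b, hb'.2.1]
    ring
  · intro x hx y hy
    obtain ⟨x1, hx1, a, ha, rfl⟩ := Submodule.mem_sup.mp hx
    obtain ⟨y1, hy1, b, hb, rfl⟩ := Submodule.mem_sup.mp hy
    obtain ⟨α, rfl⟩ := Submodule.mem_span_singleton.mp hx1
    obtain ⟨β, rfl⟩ := Submodule.mem_span_singleton.mp hy1
    have ha' := hW'le ha
    have hb' := hW'le hb
    simp only [map_add, map_smul, LinearMap.add_apply, LinearMap.smul_apply, smul_eq_mul, halt,
      ha'.2.2, hW a ha b hb, skew B halt w b, hb'.2.2]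
    ring

lemma lagPair_bot : LagPair B ⊥ ⊥ ⊥ := by
  refine ⟨by simp, by simp, ?_, ?_⟩ <;>
  · intro a ha b hb
    rw [Submodule.mem_bot] at ha
    subst ha
    simp

variable [FiniteDimensional F V] (h2 : (2 : F) ≠ 0) (X : V →ₗ[F] V) (hX : ∀ u v, B (X u) (X v) = B u v)

include halt h2 hX in
/-- `X² = 1`: an `X`-invariant Lagrangian pair. -/
theorem exists_lagPair_of_sq_eq_one (hXX : ∀ v, X (X v) = v) (M : Submodule F V)
    (hinv : ∀ m ∈ M, X m ∈ M) (hM : Nondeg B M) :
    ∃ U W, LagPair B M U W ∧ U.map X ≤ U ∧ W.map X ≤ W := by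
  induction' hn : Module.finrank F M using Nat.strong_induction_on with n ih generalizing M
  by_cases hbot : M = ⊥
  · subst hbot
    exact ⟨⊥, ⊥, lagPair_bot B, by simp, by simp⟩
  obtain ⟨m, hm, hm0⟩ := Submodule.exists_mem_ne_zero_of_ne_bot hbot
  -- an eigenvector
  obtain ⟨s, u, hs, hu, hu0, hXu⟩ : ∃ s : F, ∃ u : V, (s = 1 ∨ s = -1) ∧ u ∈ M ∧ u ≠ 0 ∧ X u = s • u := by
    by_cases h : m + X m = 0
    · refine ⟨-1, m, Or.inr rfl, hm, hm0, ?_⟩
      rw [neg_one_smul]
      exact (eq_neg_of_add_eq_zero_right h)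
    · refine ⟨1, m + X m, Or.inl rfl, M.add_mem hm (hinv m hm), h, ?_⟩
      rw [map_add, hXX, one_smul, add_comm]
  have hss : s * s = 1 := by rcases hs with rfl | rfl <;> simp
  obtain ⟨v, hv, huv⟩ := hM u hu hu0
  set w := v + s • X v with hw_def
  have hw : w ∈ M := M.add_mem hv (M.smul_mem _ (hinv v hv))
  have hXw : X w = s • w := by
    rw [hw_def, map_add, map_smul, hXX, smul_add, smul_smul, hss, one_smul, add_comm]
  have huw : B u w ≠ 0 := by
    have e : B u (X v) = s * B u v := by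
      have := hX u (X v)
      rw [hXX, hXu] at this
      rw [← this]
      simp
    rw [hw_def, map_add, map_smul, e, smul_eq_mul, ← mul_assoc, hss, one_mul, ← two_mul]
    exact mul_ne_zero h2 huv
  have hinv' : ∀ m ∈ perp2 B M u w, X m ∈ perp2 B M u w := by
    rintro m ⟨hmM, hmu, hmw⟩
    refine ⟨hinv m hmM, ?_, ?_⟩
    · have := hX m (X u)
      rw [hXX] at this
      rw [this, hXu]
      simp [hmu]
    · have := hX m (X w)
      rw [hXX] at this
      rw [this, hXw]
      simp [hmw]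
  have hlt := Submodule.finrank_lt_finrank_of_lt (perp2_lt B M hu huw)
  obtain ⟨U', W', hpair, hU', hW'⟩ := ih _ (hn ▸ hlt) (perp2 B M u w) hinv'
    (nondeg_perp2 B halt M hM hu hw huw) rfl
  refine ⟨_, _, lagPair_step B halt M hu hw huw hpair, ?_, ?_⟩
  · rw [Submodule.map_sup, Submodule.map_span, Set.image_singleton, hXu]
    refine sup_le_sup ?_ hU'
    rw [Submodule.span_singleton_le_iff_mem]
    exact Submodule.smul_mem _ _ (Submodule.mem_span_singleton_self u)
  · rw [Submodule.map_sup, Submodule.map_span, Set.image_singleton, hXw]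
    refine sup_le_sup ?_ hW'
    rw [Submodule.span_singleton_le_iff_mem]
    exact Submodule.smul_mem _ _ (Submodule.mem_span_singleton_self w)

include halt h2 hX in
/-- `X² = -1`: a Lagrangian pair swapped by `X`. -/
theorem exists_lagPair_of_sq_eq_neg_one (hXX : ∀ v, X (X v) = -v) (M : Submodule F V)
    (hinv : ∀ m ∈ M, X m ∈ M) (hM : Nondeg B M) :
    ∃ U W, LagPair B M U W ∧ U.map X ≤ W ∧ W.map X ≤ U := by
  induction' hn : Module.finrank F M using Nat.strong_induction_on with n ih generalizing M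
  by_cases hbot : M = ⊥
  · subst hbot
    exact ⟨⊥, ⊥, lagPair_bot B, by simp, by simp⟩
  obtain ⟨m, hm, hm0⟩ := Submodule.exists_mem_ne_zero_of_ne_bot hbot
  -- the symmetric form `h(a,b) = B a (X b)`
  have hsymm : ∀ a b, B a (X b) = B b (X a) := by
    intro a b
    have := hX (X a) b
    rw [hXX] at this
    rw [skew B halt b (X a), ← this]
    simp
  obtain ⟨u, hu, huXu⟩ : ∃ u ∈ M, B u (X u) ≠ 0 := by
    by_contra hcon
    push Not at hcon
    obtain ⟨v', hv', hmv'⟩ := hM m hm hm0
    apply hmv'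
    have hv : -(X v') ∈ M := M.neg_mem (hinv v' hv')
    have e : X (-(X v')) = v' := by rw [map_neg, hXX, neg_neg]
    rw [← e]
    have h1 := hcon (m + -(X v')) (M.add_mem hm hv)
    have h3 := hcon m hm
    have h4 := hcon _ hv
    rw [map_add (X), map_add (B _), map_add (B), LinearMap.add_apply, LinearMap.add_apply, h3, h4,
      hsymm (-(X v')) m, zero_add, add_zero, ← two_mul] at h1
    rcases mul_eq_zero.mp h1 with h | h
    · exact absurd h h2
    · exact h
  have hw : X u ∈ M := hinv u hu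
  have hinv' : ∀ m ∈ perp2 B M u (X u), X m ∈ perp2 B M u (X u) := by
    rintro m ⟨hmM, hmu, hmw⟩
    refine ⟨hinv m hmM, ?_, ?_⟩
    · have := hX m (X (-u))
      rw [hXX, neg_neg] at this
      rw [this, map_neg, map_neg, hmw, neg_zero]
    · rw [hX, hmu]
  have hlt := Submodule.finrank_lt_finrank_of_lt (perp2_lt B M hu huXu)
  obtain ⟨U', W', hpair, hU', hW'⟩ := ih _ (hn ▸ hlt) (perp2 B M u (X u)) hinv'
    (nondeg_perp2 B halt M hM hu hw huXu) rfl
  refine ⟨_, _, lagPair_step B halt M hu hw huXu hpair, ?_, ?_⟩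
  · rw [Submodule.map_sup, Submodule.map_span, Set.image_singleton]
    exact sup_le_sup le_rfl hU'
  · rw [Submodule.map_sup, Submodule.map_span, Set.image_singleton, hXX]
    refine sup_le_sup ?_ hW'
    rw [Submodule.span_singleton_le_iff_mem]
    exact Submodule.neg_mem _ (Submodule.mem_span_singleton_self u)

end Cfsg.Agent.Helper2.SympInvol
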