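import Mathlib
import Cfsg.Agent.Helper2.SympInvol
import Cfsg.Agent.Helper2.InvolComb
import Cfsg.Agent.Helper2.InvolDecomp

/-! Isometries `X` of an alternating form with `X² = ±1`: orthogonal decompositions into
nondegenerate subspaces of equal dimension permuted by `X`. -/

set_option autoImplicit false

namespace Cfsg.Agent.Helper2.SympUnits

open Cfsg.Agent.Helper2.SympInvol Cfsg.Agent.Helper2.InvolComb

variable {F V : Type*} [Field F] [AddCommGroup V] [Module F V]

variable (B : LinearMap.BilinForm F V)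

def Orth (M N : Submodule F V) : Prop := ∀ u ∈ M, ∀ v ∈ N, B u v = 0

variable {B}

lemma orth_biSup {U : Type*} (Φ : U → Submodule F V) (s t : Finset U)
    (h : ∀ i ∈ s, ∀ k ∈ t, Orth B (Φ i) (Φ k)) : Orth B (⨆ i ∈ s, Φ i) (⨆ k ∈ t, Φ k) := by
  classical
  intro u hu v hv
  obtain ⟨μ, rfl⟩ := (Submodule.mem_iSup_finset_iff_exists_sum Φ u).mp hu
  obtain ⟨ν, rfl⟩ := (Submodule.mem_iSup_finset_iff_exists_sum Φ v).mp hv
  simp only [map_sum, LinearMap.sum_apply]
  refine Finset.sum_eq_zero (fun k hk => ?_)
  exact Finset.sum_eq_zero (fun i hi => h i hi k hk _ (μ i).2 _ (ν k).2)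

lemma nondeg_biSup {U : Type*} (Φ : U → Submodule F V) (s : Finset U)
    (hnd : ∀ i ∈ s, Nondeg B (Φ i)) (horth : ∀ i ∈ s, ∀ k ∈ s, i ≠ k → Orth B (Φ i) (Φ k)) :
    Nondeg B (⨆ i ∈ s, Φ i) := by
  classical
  intro u hu hu0
  obtain ⟨μ, rfl⟩ := (Submodule.mem_iSup_finset_iff_exists_sum Φ u).mp hu
  obtain ⟨i, hi, hμi⟩ : ∃ i ∈ s, (μ i : V) ≠ 0 := by
    by_contra hcon
    push Not at hcon
    exact hu0 (Finset.sum_eq_zero hcon)
  obtain ⟨v, hv, hBv⟩ := hnd i hi _ (μ i).2 hμi
  refine ⟨v, ?_, ?_⟩
  · exact (le_iSup₂ (f := fun i (_ : i ∈ s) => Φ i) i hi) hv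
  · simp only [map_sum, LinearMap.sum_apply]
    rw [Finset.sum_eq_single_of_mem i hi]
    · exact hBv
    · intro k hk hki
      exact horth k hk i hi hki _ (μ k).2 _ hv

lemma finrank_biSup [FiniteDimensional F V] {U : Type*} (Φ : U → Submodule F V) (hind : iSupIndep Φ)
    (s : Finset U) : Module.finrank F ↥(⨆ i ∈ s, Φ i) = ∑ i ∈ s, Module.finrank F (Φ i) := by
  classical
  induction s using Finset.induction_on with
  | empty => simp
  | insert j s hj ih =>
    rw [Finset.iSup_insert, Finset.sum_insert hj, ← ih]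
    have hd : Disjoint (Φ j) (⨆ i ∈ s, Φ i) :=
      hind.disjoint_biSup (x := j) (y := (s : Set U)) (by simpa using hj)
    have := Submodule.finrank_sup_add_finrank_inf_eq (Φ j) (⨆ i ∈ s, Φ i)
    rw [hd.eq_bot, finrank_bot, add_zero] at this
    exact this

variable (B) in
/-- `M` is an orthogonal direct sum of nondegenerate planes `Φ i`, permuted by `X` according to `τ`. -/
def UnitSys (X : V →ₗ[F] V) (M : Submodule F V) (U : Type) (τ : Equiv.Perm U) : Prop :=
  ∃ Φ : U → Submodule F V, iSupIndep Φ ∧ iSup Φ = M ∧ (∀ i, Module.finrank F (Φ i) = 2) ∧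
    (∀ i, Nondeg B (Φ i)) ∧ (∀ i k, i ≠ k → Orth B (Φ i) (Φ k)) ∧ ∀ i, (Φ i).map X = Φ (τ i)

theorem blocks_of_units [FiniteDimensional F V] {X : V →ₗ[F] V} {M : Submodule F V} {U : Type}
    [Fintype U] {τ : Equiv.Perm U}
    (h : UnitSys B X M U τ) {a t : ℕ} (hc : Comb a U τ (Fin t)) :
    ∃ D : Fin t → Submodule F V, (∀ j, Module.finrank F (D j) = 2 * a) ∧ iSupIndep D ∧ iSup D = M ∧
      (∀ j, Nondeg B (D j)) ∧ (∀ j j', j ≠ j' → Orth B (D j) (D j')) ∧
      ∃ σ : Equiv.Perm (Fin t), ∀ j, (D j).map X = D (σ j) := by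
  classical
  obtain ⟨Φ, hind, hsup, hrk, hnd, horth, hperm⟩ := h
  obtain ⟨blk, σ, hcard, hblk⟩ := hc
  let fib : Fin t → Finset U := fun j => Finset.univ.filter (fun i => blk i = j)
  have hfib : ∀ j i, i ∈ fib j ↔ blk i = j := fun j i => by simp [fib]
  refine ⟨fun j => ⨆ i ∈ fib j, Φ i, ?_, ?_, ?_, ?_, ?_, σ, ?_⟩
  · intro j
    rw [finrank_biSup Φ hind, Finset.sum_congr rfl (fun i _ => hrk i), Finset.sum_const, smul_eq_mul, mul_comm]
    congr 1
    rw [← hcard j, Nat.card_eq_fintype_card, Fintype.card_subtype]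
  · intro j
    have hle : (⨆ (j') (_ : j' ≠ j), ⨆ i ∈ fib j', Φ i) ≤ ⨆ i ∈ ((fib j : Set U)ᶜ), Φ i := by
      refine iSup₂_le (fun j' hj' => iSup₂_le (fun i hi => ?_))
      refine le_iSup₂ (f := fun i (_ : i ∈ ((fib j : Set U)ᶜ)) => Φ i) i ?_
      simp only [Set.mem_compl_iff, Finset.mem_coe, hfib]
      rw [(hfib j' i).mp hi]
      exact hj'
    refine Disjoint.mono_right hle ?_
    exact hind.disjoint_biSup_biSup' (s := (fib j : Set U)) (t := (fib j : Set U)ᶜ)
      disjoint_compl_right (Finset.finite_toSet _)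
  · rw [← hsup]
    apply le_antisymm
    · exact iSup_le (fun j => iSup₂_le (fun i _ => le_iSup Φ i))
    · refine iSup_le (fun i => ?_)
      refine le_trans ?_ (le_iSup (fun j => ⨆ i ∈ fib j, Φ i) (blk i))
      exact le_iSup₂ (f := fun i' (_ : i' ∈ fib (blk i)) => Φ i') i ((hfib _ _).mpr rfl)
  · intro j
    exact nondeg_biSup Φ (fib j) (fun i _ => hnd i) (fun i _ k _ hik => horth i k hik)
  · intro j j' hjj'
    refine orth_biSup Φ (fib j) (fib j') (fun i hi k hk => horth i k ?_)
    rintro rfl
    exact hjj' (((hfib j i).mp hi).symm.trans ((hfib j' i).mp hk))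
  · intro j
    simp only [Submodule.map_iSup, hperm]
    apply le_antisymm
    · refine iSup₂_le (fun i hi => ?_)
      refine le_iSup₂ (f := fun i' (_ : i' ∈ fib (σ j)) => Φ i') (τ i) ?_
      rw [hfib, hblk, (hfib j i).mp hi]
    · refine iSup₂_le (fun i hi => ?_)
      have h1 : blk (τ.symm i) = j := by
        have := hblk (τ.symm i)
        rw [Equiv.apply_symm_apply, (hfib _ _).mp hi] at this
        exact (σ.injective this).symm
      have := le_iSup₂ (f := fun i' (_ : i' ∈ fib j) => Φ (τ i')) (τ.symm i) ((hfib _ _).mpr h1)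
      simpa using this

section sys

variable (halt : ∀ v, B v v = 0) {X : V →ₗ[F] V}

include halt in
lemma Orth.symm {M N : Submodule F V} (h : Orth B M N) : Orth B N M := by
  intro u hu v hv
  rw [skew B halt, h v hv u hu, neg_zero]

include halt in
lemma UnitSys.sum {M₁ M₂ : Submodule F V} {U₁ U₂ : Type} {τ₁ : Equiv.Perm U₁} {τ₂ : Equiv.Perm U₂}
    (h₁ : UnitSys B X M₁ U₁ τ₁) (h₂ : UnitSys B X M₂ U₂ τ₂) (hd : Disjoint M₁ M₂) (ho : Orth B M₁ M₂) :
    UnitSys B X (M₁ ⊔ M₂) (U₁ ⊕ U₂) (Equiv.sumCongr τ₁ τ₂) := by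
  obtain ⟨Φ₁, hi₁, hs₁, hr₁, hn₁, ho₁, hp₁⟩ := h₁
  obtain ⟨Φ₂, hi₂, hs₂, hr₂, hn₂, ho₂, hp₂⟩ := h₂
  have hle₁ : ∀ i, Φ₁ i ≤ M₁ := fun i => hs₁ ▸ le_iSup Φ₁ i
  have hle₂ : ∀ i, Φ₂ i ≤ M₂ := fun i => hs₂ ▸ le_iSup Φ₂ i
  refine ⟨Sum.elim Φ₁ Φ₂, ?_, ?_, ?_, ?_, ?_, ?_⟩
  · exact Cfsg.Agent.Helper2.InvolDecomp.iSupIndep_sum_elim hi₁ hi₂ (by rw [hs₁, hs₂]; exact hd)
  · rw [iSup_sum]; simp [hs₁, hs₂]
  · rintro (i | i)
    · exact hr₁ i
    · exact hr₂ i
  · rintro (i | i)
    · exact hn₁ i
    · exact hn₂ i
  · rintro (i | i) (k | k) hik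
    · exact ho₁ i k (by simpa using hik)
    · exact fun u hu v hv => ho u (hle₁ i hu) v (hle₂ k hv)
    · exact fun u hu v hv => (Orth.symm halt ho) u (hle₂ i hu) v (hle₁ k hv)
    · exact ho₂ i k (by simpa using hik)
  · rintro (i | i)
    · exact hp₁ i
    · exact hp₂ i

include halt in
lemma finrank_span_pair_of_ne {u w : V} (huw : B u w ≠ 0) :
    Module.finrank F ↥(Submodule.span F ({u, w} : Set V)) = 2 := by
  have hli : LinearIndependent F ![u, w] := by
    rw [LinearIndependent.pair_iff]
    intro a b hab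
    have e1 := congrArg (fun x => B x w) hab
    have e2 := congrArg (fun x => B u x) hab
    simp only [map_add, map_smul, LinearMap.add_apply, LinearMap.smul_apply, smul_eq_mul, halt,
      mul_zero, add_zero, zero_add, map_zero, LinearMap.zero_apply] at e1 e2
    exact ⟨(mul_eq_zero.mp e1).resolve_right huw, (mul_eq_zero.mp e2).resolve_right huw⟩
  have := finrank_span_eq_card hli
  rw [Fintype.card_fin] at this
  have hr : Set.range ![u, w] = ({u, w} : Set V) := by
    simp [Matrix.range_cons, Set.pair_comm]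
  rw [hr] at this
  exact this

include halt in
lemma nondeg_span_pair {u w : V} (huw : B u w ≠ 0) : Nondeg B (Submodule.span F ({u, w} : Set V)) := by
  intro x hx hx0
  obtain ⟨a, b, rfl⟩ := Submodule.mem_span_pair.mp hx
  by_cases ha : a = 0
  · subst ha
    have hb : b ≠ 0 := by
      rintro rfl
      simp at hx0
    refine ⟨u, Submodule.subset_span (by simp), ?_⟩
    simp only [zero_smul, zero_add, map_smul, LinearMap.smul_apply, smul_eq_mul]
    rw [skew B halt w u]
    exact mul_ne_zero hb (neg_ne_zero.mpr huw)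
  · refine ⟨w, Submodule.subset_span (by simp), ?_⟩
    simp only [map_add, map_smul, LinearMap.add_apply, LinearMap.smul_apply, smul_eq_mul, halt, mul_zero,
      add_zero]
    exact mul_ne_zero ha huw

lemma span_pair_le {M : Submodule F V} {u w : V} (hu : u ∈ M) (hw : w ∈ M) :
    Submodule.span F ({u, w} : Set V) ≤ M := by
  rw [Submodule.span_le]
  rintro x (rfl | rfl)
  · exact hu
  · exact hw

include halt in
lemma plane_split (M : Submodule F V) {u w : V} (hu : u ∈ M) (hw : w ∈ M) (huw : B u w ≠ 0) :
    Disjoint (Submodule.span F ({u, w} : Set V)) (perp2 B M u w) ∧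
    Submodule.span F ({u, w} : Set V) ⊔ perp2 B M u w = M ∧
    Orth B (Submodule.span F ({u, w} : Set V)) (perp2 B M u w) := by
  refine ⟨?_, ?_, ?_⟩
  · rw [Submodule.disjoint_def]
    intro x hx hx'
    obtain ⟨a, b, rfl⟩ := Submodule.mem_span_pair.mp hx
    have e1 := hx'.2.2
    have e2 := hx'.2.1
    simp only [map_add, map_smul, LinearMap.add_apply, LinearMap.smul_apply, smul_eq_mul, halt, mul_zero,
      add_zero, zero_add] at e1 e2
    rw [skew B halt w u] at e2
    have ha : a = 0 := (mul_eq_zero.mp e1).resolve_right huw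
    have hb : b = 0 := (mul_eq_zero.mp e2).resolve_right (neg_ne_zero.mpr huw)
    simp [ha, hb]
  · apply le_antisymm
    · exact sup_le (span_pair_le hu hw) (perp2_le B M u w)
    · intro m hm
      obtain ⟨α, β, m', hm', rfl⟩ := decomp B halt M hu hw huw hm
      refine Submodule.add_mem_sup ?_ hm'
      exact Submodule.mem_span_pair.mpr ⟨α, β, rfl⟩
  · intro x hx y hy
    obtain ⟨a, b, rfl⟩ := Submodule.mem_span_pair.mp hx
    simp only [map_add, map_smul, LinearMap.add_apply, LinearMap.smul_apply, smul_eq_mul]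
    rw [skew B halt u y, skew B halt w y, hy.2.1, hy.2.2]
    simp

include halt in
lemma unitSys_single {u w : V} (huw : B u w ≠ 0)
    (hR : (Submodule.span F ({u, w} : Set V)).map X = Submodule.span F ({u, w} : Set V)) :
    UnitSys B X (Submodule.span F ({u, w} : Set V)) Unit 1 :=
  ⟨fun _ => Submodule.span F ({u, w} : Set V), iSupIndep_subsingleton _, iSup_const,
    fun _ => finrank_span_pair_of_ne halt huw, fun _ => nondeg_span_pair halt huw,
    fun i k hik => absurd (Subsingleton.elim i k) hik, fun _ => hR⟩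

lemma nondeg_map {X : V →ₗ[F] V} (hX : ∀ u v, B (X u) (X v) = B u v) (hinj : Function.Injective X)
    {Q : Submodule F V} (hQ : Nondeg B Q) : Nondeg B (Q.map X) := by
  rintro _ ⟨q, hq, rfl⟩ hq0
  have : q ≠ 0 := by
    rintro rfl
    simp at hq0
  obtain ⟨q', hq', hB⟩ := hQ q hq this
  exact ⟨X q', ⟨q', hq', rfl⟩, by rwa [hX]⟩

include halt in
lemma disjoint_of_nondeg_orth {Q N : Submodule F V} (hQ : Nondeg B Q) (ho : Orth B Q N) : Disjoint Q N := by
  rw [Submodule.disjoint_def]
  intro x hxQ hxN
  by_contra hx0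
  obtain ⟨y, hy, hB⟩ := hQ x hxQ hx0
  apply hB
  rw [skew B halt]
  rw [ho y hy x hxN, neg_zero]

include halt in
lemma unitSys_pair {X : V →ₗ[F] V} [FiniteDimensional F V] (hX : ∀ u v, B (X u) (X v) = B u v)
    (hinj : Function.Injective X) {u w : V} (huw : B u w ≠ 0)
    (ho : Orth B (Submodule.span F ({u, w} : Set V)) ((Submodule.span F ({u, w} : Set V)).map X))
    (hQQ : ((Submodule.span F ({u, w} : Set V)).map X).map X = Submodule.span F ({u, w} : Set V)) :
    UnitSys B X (Submodule.span F ({u, w} : Set V) ⊔ (Submodule.span F ({u, w} : Set V)).map X) Bool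
      (Equiv.swap false true) := by
  set Q := Submodule.span F ({u, w} : Set V) with hQ
  have hQnd : Nondeg B Q := nondeg_span_pair halt huw
  refine ⟨fun b => cond b (Q.map X) Q, ?_, ?_, ?_, ?_, ?_, ?_⟩
  · rw [iSupIndep_pair (i := false) (j := true) (by simp) (by intro k; cases k <;> simp)]
    simpa using disjoint_of_nondeg_orth halt hQnd ho
  · rw [iSup_bool_eq]
    simp only [cond_true, cond_false]
    exact sup_comm _ _
  · intro b
    cases b
    · exact finrank_span_pair_of_ne halt huw
    · simp only [cond_true]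
      rw [← LinearEquiv.finrank_eq (Submodule.equivMapOfInjective X hinj Q)]
      exact finrank_span_pair_of_ne halt huw
  · intro b
    cases b
    · exact hQnd
    · exact nondeg_map hX hinj hQnd
  · intro b b' hbb'
    cases b <;> cases b'
    · exact absurd rfl hbb'
    · exact ho
    · exact Orth.symm halt ho
    · exact absurd rfl hbb'
  · intro b
    cases b
    · simp
    · simpa using hQQ

end sys

section main

variable [FiniteDimensional F V] (halt : ∀ v, B v v = 0) {X : V →ₗ[F] V}
  (hX : ∀ u v, B (X u) (X v) = B u v) {z : F} (hz : z = 1 ∨ z = -1) (hXX : ∀ v, X (X v) = z • v)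

/-- the goal of the induction -/
def HasUnits (B : LinearMap.BilinForm F V) (X : V →ₗ[F] V) (M : Submodule F V) : Prop :=
  ∃ (U : Type) (_ : Fintype U) (τ : Equiv.Perm U), UnitSys B X M U τ ∧ StdForm U τ

include halt in
lemma step_single {M : Submodule F V} {u w : V} (hu : u ∈ M) (hw : w ∈ M) (huw : B u w ≠ 0)
    (hR : (Submodule.span F ({u, w} : Set V)).map X = Submodule.span F ({u, w} : Set V))
    (ih : HasUnits B X (perp2 B M u w)) : HasUnits B X M := by
  obtain ⟨U, hU, τ, hsys, hstd⟩ := ih
  obtain ⟨hd, hsup, ho⟩ := plane_split halt M hu hw huw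
  refine ⟨U ⊕ Unit, inferInstance, Equiv.sumCongr τ 1, ?_, hstd.add_single⟩
  have := UnitSys.sum halt hsys (unitSys_single halt huw hR) hd.symm (Orth.symm halt ho)
  rwa [sup_comm, hsup] at this

include hz in
lemma z_ne_zero : z ≠ 0 := by
  rcases hz with rfl | rfl
  · exact one_ne_zero
  · exact neg_ne_zero.mpr one_ne_zero

include hz hXX in
lemma X_inj : Function.Injective X := by
  intro a b hab
  have := congrArg X hab
  rw [hXX, hXX] at this
  exact smul_right_injective _ (z_ne_zero hz) this

include halt hX hz hXX in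
theorem hasUnits (M : Submodule F V) (hinv : ∀ m ∈ M, X m ∈ M) (hM : Nondeg B M) : HasUnits B X M := by
  induction' hn : Module.finrank F M using Nat.strong_induction_on with n ih generalizing M
  have hz0 := z_ne_zero hz
  by_cases hbot : M = ⊥
  · subst hbot
    refine ⟨Empty, inferInstance, 1, ⟨fun e => e.elim, iSupIndep_subsingleton _, by simp,
      fun e => e.elim, fun e => e.elim, fun e => e.elim, fun e => e.elim⟩, StdForm.empty⟩
  obtain ⟨m, hm, hm0⟩ := Submodule.exists_mem_ne_zero_of_ne_bot hbot
  -- induction hypothesis in a convenient form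
  have IH : ∀ M' : Submodule F V, M' < M → (∀ m ∈ M', X m ∈ M') → Nondeg B M' → HasUnits B X M' :=
    fun M' hlt hi hnd => ih _ (hn ▸ Submodule.finrank_lt_finrank_of_lt hlt) M' hi hnd rfl
  by_cases h1 : ∃ u ∈ M, B u (X u) ≠ 0
  · -- case 1
    obtain ⟨u, hu, huXu⟩ := h1
    have hXu : X u ∈ M := hinv u hu
    refine step_single halt hu hXu huXu ?_ (IH _ (perp2_lt B M hu huXu) ?_
      (nondeg_perp2 B halt M hM hu hXu huXu))
    · rw [Submodule.map_span, Set.image_pair, hXX]
      apply le_antisymm
      · rw [Submodule.span_le, Set.pair_subset_iff]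
        exact ⟨Submodule.subset_span (by simp),
          Submodule.smul_mem _ _ (Submodule.subset_span (by simp))⟩
      · rw [Submodule.span_le, Set.pair_subset_iff]
        refine ⟨?_, Submodule.subset_span (by simp)⟩
        exact (Submodule.smul_mem_iff _ hz0).mp (Submodule.subset_span (by simp))
    · rintro m' ⟨hmM, hmu, hmw⟩
      refine ⟨hinv m' hmM, ?_, by rw [hX]; exact hmu⟩
      have := hX m' (X u)
      rw [hXX, map_smul, smul_eq_mul, hmw] at this
      exact (mul_eq_zero.mp this).resolve_left hz0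
  · push Not at h1
    have polar : ∀ u ∈ M, ∀ v ∈ M, B u (X v) + B v (X u) = 0 := by
      intro u hu v hv
      have := h1 (u + v) (M.add_mem hu hv)
      simp only [map_add, LinearMap.add_apply, h1 u hu, h1 v hv, zero_add, add_zero] at this
      rw [add_comm]
      exact this
    by_cases h2 : (2 : F) = 0
    · -- characteristic 2
      have hXX1 : ∀ v, X (X v) = v := by
        intro v
        rw [hXX]
        rcases hz with rfl | rfl
        · simp
        · have : (-1 : F) = 1 := by
            have : (1 : F) + 1 = 0 := by rw [← h2]; norm_num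
            exact (eq_neg_of_add_eq_zero_left this).symm
          rw [this, one_smul]
      by_cases hid : ∀ v ∈ M, X v = v
      · obtain ⟨w, hw, hmw⟩ := hM m hm hm0
        refine step_single halt hm hw hmw ?_ (IH _ (perp2_lt B M hm hmw) ?_
          (nondeg_perp2 B halt M hM hm hw hmw))
        · rw [Submodule.map_span, Set.image_pair, hid m hm, hid w hw]
        · intro m' hm'
          rw [hid m' hm'.1]
          exact hm'
      · push Not at hid
        obtain ⟨v, hv, hXv⟩ := hid
        set n := X v - v with hn_def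
        have hnM : n ∈ M := M.sub_mem (hinv v hv) hv
        have hn0 : n ≠ 0 := sub_ne_zero.mpr hXv
        obtain ⟨u, hu, hnu⟩ := hM n hnM hn0
        set lam := B u n with hlam
        have hlam0 : lam ≠ 0 := by
          rw [hlam, skew B halt]
          exact neg_ne_zero.mpr hnu
        set gam := (B u v + lam) / lam with hgam
        set v' := v + gam • n with hv'
        have hv'M : v' ∈ M := M.add_mem hv (M.smul_mem _ hnM)
        have hXn : X n = -n := by
          rw [hn_def, map_sub, hXX1]
          abel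
        have hBuXv : B u (X v) = B u v + lam := by
          have : X v = v + n := by rw [hn_def]; abel
          rw [this, map_add]
        have e1 : B u (X v') = 0 := by
          rw [hv', map_add, map_smul, hXn, map_add, map_smul, map_neg, hBuXv, smul_eq_mul, hgam]
          field_simp
          ring
        have e2 : B u v' = lam := by
          have : B u v + B u v = 0 := by rw [← two_mul, h2, zero_mul]
          rw [hv', map_add, map_smul, smul_eq_mul, ← hlam, hgam, div_mul_cancel₀ _ hlam0]
          linear_combination this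
        have huv' : B u v' ≠ 0 := by rw [e2]; exact hlam0
        have e3 : B v' (X u) = 0 := by
          have := polar u hu v' hv'M
          rw [e1, zero_add] at this
          exact this
        set Q := Submodule.span F ({u, v'} : Set V) with hQ
        have hXQ : Q.map X = Submodule.span F ({X u, X v'} : Set V) := by
          rw [hQ, Submodule.map_span, Set.image_pair]
        have hoQ : Orth B Q (Q.map X) := by
          rw [hXQ]
          intro x hx y hy
          obtain ⟨a, b, rfl⟩ := Submodule.mem_span_pair.mp hx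
          obtain ⟨c, d, rfl⟩ := Submodule.mem_span_pair.mp hy
          simp only [map_add, map_smul, LinearMap.add_apply, LinearMap.smul_apply, smul_eq_mul,
            h1 u hu, h1 v' hv'M, e1, e3]
          ring
        have hQQ : (Q.map X).map X = Q := by
          rw [hXQ, Submodule.map_span, Set.image_pair, hXX1, hXX1]
        have hsysN : UnitSys B X (Q ⊔ Q.map X) Bool (Equiv.swap false true) :=
          unitSys_pair halt hX (X_inj hz hXX) huv' hoQ hQQ
        -- complement
        set M₁ := perp2 B M u v' with hM₁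
        have hXuM₁ : X u ∈ M₁ := by
          refine ⟨hinv u hu, ?_, ?_⟩
          · rw [skew B halt, h1 u hu, neg_zero]
          · rw [skew B halt, e3, neg_zero]
        have hXv'M₁ : X v' ∈ M₁ := by
          refine ⟨hinv v' hv'M, ?_, ?_⟩
          · rw [skew B halt, e1, neg_zero]
          · rw [skew B halt, h1 v' hv'M, neg_zero]
        have hB2 : B (X u) (X v') ≠ 0 := by rw [hX]; exact huv'
        set M₂ := perp2 B M₁ (X u) (X v') with hM₂
        obtain ⟨hd1, hsup1, ho1⟩ := plane_split halt M hu hv'M huv'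
        obtain ⟨hd2, hsup2, ho2⟩ := plane_split halt M₁ hXuM₁ hXv'M₁ hB2
        have hM₁nd : Nondeg B M₁ := nondeg_perp2 B halt M hM hu hv'M huv'
        have hM₂nd : Nondeg B M₂ := nondeg_perp2 B halt M₁ hM₁nd hXuM₁ hXv'M₁ hB2
        have hM₂lt : M₂ < M :=
          lt_of_lt_of_le (perp2_lt B M₁ hXuM₁ hB2) (perp2_le B M u v')
        have hM₂inv : ∀ m' ∈ M₂, X m' ∈ M₂ := by
          rintro m' ⟨⟨hmM, hmu, hmv'⟩, hmXu, hmXv'⟩
          refine ⟨⟨hinv m' hmM, ?_, ?_⟩, ?_, ?_⟩
          · have := hX m' (X u)
            rw [hXX1] at this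
            rw [this, hmXu]
          · have := hX m' (X v')
            rw [hXX1] at this
            rw [this, hmXv']
          · rw [hX, hmu]
          · rw [hX, hmv']
        obtain ⟨U, hU, τ, hsys, hstd⟩ := IH M₂ hM₂lt hM₂inv hM₂nd
        have hsupM : M₂ ⊔ (Q ⊔ Q.map X) = M := by
          rw [hXQ, sup_comm, sup_assoc, hsup2, hsup1]
        have hoN : Orth B M₂ (Q ⊔ Q.map X) := by
          intro x hx y hy
          obtain ⟨q, hq, q', hq', rfl⟩ := Submodule.mem_sup.mp hy
          rw [map_add]
          have t1 : B x q = 0 := by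
            rw [skew B halt]
            rw [ho1 q hq x (perp2_le B M₁ _ _ hx), neg_zero]
          have t2 : B x q' = 0 := by
            rw [skew B halt]
            rw [hXQ] at hq'
            rw [ho2 q' hq' x hx, neg_zero]
          rw [t1, t2, add_zero]
        have hdN : Disjoint M₂ (Q ⊔ Q.map X) :=
          (disjoint_of_nondeg_orth halt hM₂nd hoN)
        refine ⟨U ⊕ Bool, inferInstance, Equiv.sumCongr τ (Equiv.swap false true), ?_, hstd.add_pair⟩
        have := UnitSys.sum halt hsys hsysN hdN hoN
        rwa [hsupM] at this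
    · -- characteristic ≠ 2
      rcases hz with rfl | rfl
      · -- z = 1 : eigenvectors
        have hXX1 : ∀ v, X (X v) = v := fun v => by rw [hXX, one_smul]
        obtain ⟨s, u, hs, hu, hu0, hXu⟩ : ∃ s : F, ∃ u : V, (s = 1 ∨ s = -1) ∧ u ∈ M ∧ u ≠ 0 ∧ X u = s • u := by
          by_cases h : m + X m = 0
          · refine ⟨-1, m, Or.inr rfl, hm, hm0, ?_⟩
            rw [neg_one_smul]
            exact (eq_neg_of_add_eq_zero_right h)
          · refine ⟨1, m + X m, Or.inl rfl, M.add_mem hm (hinv m hm), h, ?_⟩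
            rw [map_add, hXX1, one_smul, add_comm]
        have hss : s * s = 1 := by rcases hs with rfl | rfl <;> simp
        have hs0 : s ≠ 0 := by rintro rfl; simp at hss
        obtain ⟨v, hv, huv⟩ := hM u hu hu0
        set w := v + s • X v with hw_def
        have hw : w ∈ M := M.add_mem hv (M.smul_mem _ (hinv v hv))
        have hXw : X w = s • w := by
          rw [hw_def, map_add, map_smul, hXX1, smul_add, smul_smul, hss, one_smul, add_comm]
        have huw : B u w ≠ 0 := by
          have e : B u (X v) = s * B u v := by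
            have := hX u (X v)
            rw [hXX1, hXu] at this
            rw [← this]
            simp
          rw [hw_def, map_add, map_smul, e, smul_eq_mul, ← mul_assoc, hss, one_mul, ← two_mul]
          exact mul_ne_zero h2 huv
        refine step_single halt hu hw huw ?_ (IH _ (perp2_lt B M hu huw) ?_
          (nondeg_perp2 B halt M hM hu hw huw))
        · rw [Submodule.map_span, Set.image_pair, hXu, hXw]
          apply le_antisymm
          · rw [Submodule.span_le, Set.pair_subset_iff]
            exact ⟨Submodule.smul_mem _ _ (Submodule.subset_span (by simp)),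
              Submodule.smul_mem _ _ (Submodule.subset_span (by simp))⟩
          · rw [Submodule.span_le, Set.pair_subset_iff]
            exact ⟨(Submodule.smul_mem_iff _ hs0).mp (Submodule.subset_span (by simp)),
              (Submodule.smul_mem_iff _ hs0).mp (Submodule.subset_span (by simp))⟩
        · rintro m' ⟨hmM, hmu, hmw⟩
          refine ⟨hinv m' hmM, ?_, ?_⟩
          · have := hX m' (X u)
            rw [hXX1] at this
            rw [this, hXu]
            simp [hmu]
          · have := hX m' (X w)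
            rw [hXX1] at this
            rw [this, hXw]
            simp [hmw]
      · -- z = -1 : impossible
        exfalso
        obtain ⟨v', hv', hmv'⟩ := hM m hm hm0
        apply hmv'
        have hv : -(X v') ∈ M := M.neg_mem (hinv v' hv')
        have e : X (-(X v')) = v' := by rw [map_neg, hXX, neg_one_smul, neg_neg]
        rw [← e]
        have hsymm : B m (X (-(X v'))) = B (-(X v')) (X m) := by
          have := hX (X m) (-(X v'))
          rw [hXX, neg_one_smul] at this
          rw [skew B halt (-(X v')) (X m), ← this]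
          simp
        have := polar m hm _ hv
        rw [← hsymm, ← two_mul] at this
        exact (mul_eq_zero.mp this).resolve_left h2

include halt hX hz hXX in
theorem exists_blocks (hnd : Nondeg B ⊤) {a t : ℕ} (ha : 1 ≤ a) (hdim : Module.finrank F V = 2 * a * t) :
    ∃ D : Fin t → Submodule F V, (∀ j, Module.finrank F (D j) = 2 * a) ∧ iSupIndep D ∧ iSup D = ⊤ ∧
      (∀ j, Nondeg B (D j)) ∧ (∀ j j', j ≠ j' → Orth B (D j) (D j')) ∧
      ∃ σ : Equiv.Perm (Fin t), ∀ j, (D j).map X = D (σ j) := by
  classical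
  obtain ⟨U, hU, τ, hsys, hstd⟩ := hasUnits halt hX hz hXX ⊤ (fun _ _ => trivial) hnd
  have hcard : Fintype.card U = a * t := by
    obtain ⟨Φ, hind, hsup, hrk, -⟩ := hsys
    have h1 := finrank_biSup Φ hind Finset.univ
    have h2 : (⨆ i ∈ (Finset.univ : Finset U), Φ i) = ⊤ := by
      rw [← hsup]; simp
    rw [h2, finrank_top, hdim, Finset.sum_congr rfl (fun i _ => hrk i), Finset.sum_const, smul_eq_mul,
      Finset.card_univ] at h1
    have : 2 * (a * t) = 2 * Fintype.card U := by rw [← mul_assoc, h1, mul_comm]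
    omega
  exact blocks_of_units hsys (Comb.of_stdForm ha hstd t hcard)

end main

end Cfsg.Agent.Helper2.SympUnits
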