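import Mathlib
import Cfsg.Agent.Helper28.QWitt
import Cfsg.Agent.Helper28.WittOmega

set_option autoImplicit false
set_option linter.unusedSectionVars false

/-! Characteristic two: two isometries of a quadratic form with non-degenerate polar form that are
conjugate in the symplectic group of the polar form are conjugate in the orthogonal group. -/

namespace Cfsg.Agent.Helper2.OInv

open Matrix Cfsg.Agent.Helper28.QWitt Cfsg.Agent.Helper28.IsoTransport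

variable {F : Type*} [Field F] {ι : Type} [Fintype ι] [DecidableEq ι] (Q : QuadraticForm F (ι → F))

theorem mat_ext {A B : Matrix ι ι F} (h : ∀ x, A *ᵥ x = B *ᵥ x) : A = B := by
  ext i j
  have := congrFun (h (Pi.single j 1)) i
  simpa using this

theorem P_mulVec (M : Matrix ι ι F) (hM : ∀ v, Q (M *ᵥ v) = Q v) (x y : ι → F) :
    P Q (M *ᵥ x) (M *ᵥ y) = P Q x y := by
  show QuadraticMap.polar ⇑Q (M *ᵥ x) (M *ᵥ y) = QuadraticMap.polar ⇑Q x y
  unfold QuadraticMap.polar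
  rw [← Matrix.mulVec_add, hM, hM, hM]

/-- `Q(Tv - v) = P(v, Tv)` for an isometry in characteristic two -/
theorem Q_sub_self (h2 : (2 : F) = 0) (T : Matrix ι ι F) (hT : ∀ v, Q (T *ᵥ v) = Q v)
    (v : ι → F) : Q (T *ᵥ v - v) = P Q v (T *ᵥ v) := by
  have h := Q_add Q (T *ᵥ v - v) v
  rw [sub_add_cancel, hT] at h
  have h3 : P Q (T *ᵥ v - v) v = P Q (T *ᵥ v) v - P Q v v := P_sub_left Q _ _ _
  rw [h3, P_self, h2, zero_mul, sub_zero, P_comm] at h
  have hneg : ∀ a : F, -a = a := fun a =>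
    neg_eq_of_add_eq_zero_left (by rw [← two_mul, h2, zero_mul])
  have : Q (T *ᵥ v - v) = - P Q v (T *ᵥ v) := by linear_combination -h
  rw [this, hneg]

/-- a vector orthogonal to the image of `S - 1` is fixed by the isometry `S` -/
theorem fix_of_perp (hQ : (QuadraticMap.polarBilin Q).Nondegenerate) (S S' : Matrix ι ι F)
    (hSS' : S * S' = 1) (hS : ∀ v, Q (S *ᵥ v) = Q v) (d : ι → F)
    (hd : ∀ z, P Q d (S *ᵥ z - z) = 0) : S *ᵥ d = d := by
  have key : ∀ w, P Q (S *ᵥ d - d) w = 0 := by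
    intro w
    have hw : w = S *ᵥ (S' *ᵥ w) := by
      rw [Matrix.mulVec_mulVec, hSS', Matrix.one_mulVec]
    rw [hw, P_sub_left, P_mulVec Q S hS]
    have := hd (S' *ᵥ w)
    rw [P_sub_right] at this
    linear_combination -this
  have h0 : S *ᵥ d - d = 0 := hQ.1 _ key
  exact sub_eq_zero.1 h0

theorem isConj_of_polar_conj (h2 : (2 : F) = 0)
    (hQ : (QuadraticMap.polarBilin Q).Nondegenerate)
    (t s : ↥(Cfsg.isometryGroup F ⇑Q)) (g : GL ι F)
    (hg : ∀ u v, P Q (g.1 *ᵥ u) (g.1 *ᵥ v) = P Q u v)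
    (hgts : g * (t : GL ι F) * g⁻¹ = (s : GL ι F)) : IsConj t s := by
  have hT : ∀ v, Q ((t : GL ι F).1 *ᵥ v) = Q v := (mem_isometryGroup_iff _ _).1 t.2
  have hS : ∀ v, Q ((s : GL ι F).1 *ᵥ v) = Q v := (mem_isometryGroup_iff _ _).1 s.2
  have hGT : g.1 * (t : GL ι F).1 = (s : GL ι F).1 * g.1 := by
    have h1 : g * (t : GL ι F) = (s : GL ι F) * g := by
      rw [← hgts]; group
    exact congrArg (fun x : GL ι F => x.1) h1
  have hgi : g.1 * (g⁻¹).1 = 1 := by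
    rw [← Units.val_mul, mul_inv_cancel, Units.val_one]
  have hig : (g⁻¹).1 * g.1 = 1 := by
    rw [← Units.val_mul, inv_mul_cancel, Units.val_one]
  have hss : (s : GL ι F).1 * ((s : GL ι F)⁻¹).1 = 1 := by
    rw [← Units.val_mul, mul_inv_cancel, Units.val_one]
  obtain ⟨T, hTdef⟩ : ∃ T : Matrix ι ι F, T = (t : GL ι F).1 := ⟨_, rfl⟩
  obtain ⟨S, hSdef⟩ : ∃ S : Matrix ι ι F, S = (s : GL ι F).1 := ⟨_, rfl⟩
  obtain ⟨G, hGdef⟩ : ∃ G : Matrix ι ι F, G = g.1 := ⟨_, rfl⟩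
  rw [← hTdef] at hT hGT
  rw [← hSdef] at hS hGT hss
  rw [← hGdef] at hg hGT hgi hig
  -- the image of `T - 1`
  have hGim : ∀ x, G *ᵥ (T *ᵥ x - x) = S *ᵥ (G *ᵥ x) - G *ᵥ x := by
    intro x
    rw [Matrix.mulVec_sub, Matrix.mulVec_mulVec, hGT, ← Matrix.mulVec_mulVec]
  have hGinj : Function.Injective (fun v : ι → F => G *ᵥ v) := by
    intro a b hab
    have := congrArg (fun v => (g⁻¹).1 *ᵥ v) hab
    simp only [Matrix.mulVec_mulVec, hig, Matrix.one_mulVec] at this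
    exact this
  let U : Submodule F (ι → F) := LinearMap.range (Matrix.mulVecLin (T - 1))
  have hU : ∀ u : U, ∃ x, T *ᵥ x - x = u.1 := by
    intro u
    obtain ⟨x, hx⟩ := u.2
    refine ⟨x, ?_⟩
    rw [← hx, Matrix.mulVecLin_apply, Matrix.sub_mulVec, Matrix.one_mulVec]
  have hmemU : ∀ x, T *ᵥ x - x ∈ U := by
    intro x
    refine ⟨x, ?_⟩
    rw [Matrix.mulVecLin_apply, Matrix.sub_mulVec, Matrix.one_mulVec]
  obtain ⟨h₀, hh₀Q, hh₀⟩ := witt_aux Q hQ (Module.finrank F U) U U.subtype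
    ((Matrix.mulVecLin G).comp U.subtype) rfl U.subtype_injective
    (by
      intro a b hab
      apply U.subtype_injective
      exact hGinj hab)
    (by
      intro u
      obtain ⟨x, hx⟩ := hU u
      show Q u.1 = Q (G *ᵥ u.1)
      have e : S *ᵥ (G *ᵥ x) = G *ᵥ (T *ᵥ x) := by
        rw [Matrix.mulVec_mulVec, ← hGT, ← Matrix.mulVec_mulVec]
      rw [← hx, hGim, Q_sub_self Q h2 T hT, Q_sub_self Q h2 S hS, e, hg])
  obtain ⟨M, hM⟩ := Cfsg.Agent.Helper28.WO.exists_isom Q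
    (LinearEquiv.ofInjectiveEndo h₀ (isom_injective Q hQ hh₀Q)) (fun v => hh₀Q v)
  have hM' : ∀ x, ((M : GL ι F).1) *ᵥ x = h₀ x := fun x => hM x
  obtain ⟨Mx, hMxdef⟩ : ∃ Mx : Matrix ι ι F, Mx = (M : GL ι F).1 := ⟨_, rfl⟩
  rw [← hMxdef] at hM'
  have hMQ : ∀ v, Q (Mx *ᵥ v) = Q v := by
    intro v
    rw [hM', hh₀Q]
  have hMU : ∀ x, Mx *ᵥ (T *ᵥ x - x) = G *ᵥ (T *ᵥ x - x) := by
    intro x
    rw [hM']
    exact hh₀ ⟨_, hmemU x⟩
  -- the key matrix identity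
  have hkey : Mx * T = S * Mx := by
    apply mat_ext
    intro x
    have hfix : S *ᵥ (G *ᵥ x - Mx *ᵥ x) = G *ᵥ x - Mx *ᵥ x := by
      apply fix_of_perp Q hQ S ((s : GL ι F)⁻¹).1 hss hS
      intro z
      have hz : S *ᵥ z - z = G *ᵥ (T *ᵥ ((g⁻¹).1 *ᵥ z) - (g⁻¹).1 *ᵥ z) := by
        have e : G *ᵥ ((g⁻¹).1 *ᵥ z) = z := by
          rw [Matrix.mulVec_mulVec, hgi, Matrix.one_mulVec]
        rw [hGim, e]
      rw [hz, P_sub_left, hg]
      rw [← hMU, P_mulVec Q Mx hMQ, sub_self]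
    have e1 : Mx *ᵥ (T *ᵥ x) = Mx *ᵥ (T *ᵥ x - x) + Mx *ᵥ x := by
      rw [← Matrix.mulVec_add, sub_add_cancel]
    rw [← Matrix.mulVec_mulVec, ← Matrix.mulVec_mulVec, e1, hMU, hGim]
    rw [Matrix.mulVec_sub] at hfix
    have : S *ᵥ (Mx *ᵥ x) = S *ᵥ (G *ᵥ x) - (G *ᵥ x - Mx *ᵥ x) := by
      rw [← hfix]; abel
    rw [this]; abel
  rw [isConj_iff]
  refine ⟨M, ?_⟩
  rw [mul_inv_eq_iff_eq_mul]
  apply Subtype.ext
  apply Units.ext
  show (M : GL ι F).1 * (t : GL ι F).1 = (s : GL ι F).1 * (M : GL ι F).1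
  rw [← hMxdef, ← hTdef, ← hSdef]
  exact hkey

theorem isConj_iff_polar_conj (h2 : (2 : F) = 0)
    (hQ : (QuadraticMap.polarBilin Q).Nondegenerate)
    (t s : ↥(Cfsg.isometryGroup F ⇑Q)) :
    IsConj t s ↔ ∃ g ∈ Cfsg.preserving (Units.coeHom (Matrix ι ι F))
      (fun u v => Q (u + v) - Q u - Q v), g * (t : GL ι F) * g⁻¹ = (s : GL ι F) := by
  constructor
  · intro h
    obtain ⟨c, hc⟩ := isConj_iff.1 h
    refine ⟨(c : GL ι F), ?_, ?_⟩
    · intro u v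
      have hc' := (mem_isometryGroup_iff _ _).1 c.2
      show Q ((c : GL ι F).1 *ᵥ u + (c : GL ι F).1 *ᵥ v) - Q ((c : GL ι F).1 *ᵥ u)
        - Q ((c : GL ι F).1 *ᵥ v) = Q (u + v) - Q u - Q v
      rw [← Matrix.mulVec_add, hc', hc', hc']
    · have := congrArg Subtype.val hc
      exact this
  · rintro ⟨g, hg, hgts⟩
    exact isConj_of_polar_conj Q h2 hQ t s g (fun u v => hg u v) hgts

end Cfsg.Agent.Helper2.OInv
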