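import Mathlib
import Cfsg.Agent.Helper2.SpCard

/-! Symplectic transvections relative to a non-degenerate subspace: transitivity on hyperbolic
pairs inside the subspace by transvections fixing its orthogonal pointwise. -/

set_option autoImplicit false

namespace Cfsg.Agent.Helper2.Sp

open Matrix Module

variable {l : Type*} [DecidableEq l] [Fintype l] {F : Type*} [Field F]

theorem mat_ext' {M M' : Matrix (l ⊕ l) (l ⊕ l) F} (H : ∀ x, M *ᵥ x = M' *ᵥ x) : M = M' := by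
  ext i j
  have := congrFun (H (Pi.single j 1)) i
  simpa using this

/-- the matrix preserves the standard symplectic form -/
def PresS (M : Matrix (l ⊕ l) (l ⊕ l) F) : Prop := ∀ x y, om (M *ᵥ x) (M *ᵥ y) = om x y

theorem PresS.mul {M M' : Matrix (l ⊕ l) (l ⊕ l) F} (hM : PresS M) (hM' : PresS M') :
    PresS (M * M') := by
  intro x y
  rw [← mulVec_mulVec, ← mulVec_mulVec, hM, hM']

theorem PresS_one : PresS (1 : Matrix (l ⊕ l) (l ⊕ l) F) := by
  intro x y
  rw [one_mulVec, one_mulVec]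

theorem PresS_T (v : l ⊕ l → F) (c : F) : PresS (T v c) := mem_symplectic_iff_om.mp (T_mem v c)

theorem om_zero_left (y : l ⊕ l → F) : om (0 : l ⊕ l → F) y = 0 := by
  unfold om
  rw [zero_dotProduct]

theorem om_zero_right (x : l ⊕ l → F) : om x (0 : l ⊕ l → F) = 0 := by
  rw [om_swap, om_zero_left, neg_zero]

theorem T_conjS (G : Matrix (l ⊕ l) (l ⊕ l) F) (hG : PresS G) (v : l ⊕ l → F) (c : F) :
    G * T v c = T (G *ᵥ v) c * G := by
  apply mat_ext'
  intro x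
  rw [← mulVec_mulVec, ← mulVec_mulVec, T_mulVec, T_mulVec, hG, mulVec_add, mulVec_smul]

theorem T_mulS (v : l ⊕ l → F) (c d : F) : T v c * T v d = T v (c + d) := by
  apply mat_ext'
  intro x
  rw [← mulVec_mulVec, T_mulVec, T_mulVec, T_mulVec, om_add_right, om_smul_right, om_self, mul_zero,
    add_zero]
  module

theorem T_zeroS (v : l ⊕ l → F) : T v (0 : F) = 1 := by
  apply mat_ext'
  intro x
  rw [T_mulVec, zero_mul, zero_smul, add_zero, one_mulVec]

/-- the orthogonal of a subspace -/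
def perpS (X : Submodule F (l ⊕ l → F)) : Submodule F (l ⊕ l → F) where
  carrier := {y | ∀ x ∈ X, om y x = 0}
  add_mem' := by
    intro a b ha hb x hx
    rw [om_add_left, ha x hx, hb x hx, add_zero]
  zero_mem' := by
    intro x _
    exact om_zero_left x
  smul_mem' := by
    intro c a ha x hx
    rw [om_smul_left, ha x hx, mul_zero]

theorem mem_perpS {X : Submodule F (l ⊕ l → F)} {y : l ⊕ l → F} :
    y ∈ perpS X ↔ ∀ x ∈ X, om y x = 0 := Iff.rfl

theorem perpS_anti {X X' : Submodule F (l ⊕ l → F)} (hXX : X ≤ X') : perpS X' ≤ perpS X :=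
  fun _ hy x hx => hy x (hXX hx)

/-- non-degenerate subspace -/
def NonDegS (Y : Submodule F (l ⊕ l → F)) : Prop :=
  ∀ y ∈ Y, (∀ y' ∈ Y, om y y' = 0) → y = 0

/-- the monoid generated by the transvections with centre in a subspace -/
def GenS (Y : Submodule F (l ⊕ l → F)) : Submonoid (Matrix (l ⊕ l) (l ⊕ l) F) :=
  Submonoid.closure {M | ∃ (v : l ⊕ l → F) (c : F), v ∈ Y ∧ M = T v c}

theorem T_mem_GenS {Y : Submodule F (l ⊕ l → F)} {v : l ⊕ l → F} (hv : v ∈ Y) (c : F) :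
    T v c ∈ GenS Y := Submonoid.subset_closure ⟨v, c, hv, rfl⟩

theorem GenS_mono {Y Y' : Submodule F (l ⊕ l → F)} (hYY : Y ≤ Y') : GenS Y ≤ GenS Y' := by
  apply Submonoid.closure_mono
  rintro M ⟨v, c, hv, rfl⟩
  exact ⟨v, c, hYY hv, rfl⟩

theorem GenS_pres {Y : Submodule F (l ⊕ l → F)} {M : Matrix (l ⊕ l) (l ⊕ l) F}
    (hM : M ∈ GenS Y) : PresS M := by
  induction hM using Submonoid.closure_induction with
  | mem M hM =>
    obtain ⟨v, c, -, rfl⟩ := hM
    exact PresS_T v c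
  | one => exact PresS_one
  | mul A B _ _ hA hB => exact hA.mul hB

theorem GenS_fix {Y : Submodule F (l ⊕ l → F)} {M : Matrix (l ⊕ l) (l ⊕ l) F}
    (hM : M ∈ GenS Y) : ∀ z, (∀ y ∈ Y, om y z = 0) → M *ᵥ z = z := by
  induction hM using Submonoid.closure_induction with
  | mem M hM =>
    obtain ⟨v, c, hv, rfl⟩ := hM
    intro z hz
    rw [T_mulVec, hz v hv, mul_zero, zero_smul, add_zero]
  | one => intro z _; rw [one_mulVec]
  | mul A B _ _ hA hB =>
    intro z hz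
    rw [← mulVec_mulVec, hB z hz, hA z hz]

theorem GenS_maps {Y : Submodule F (l ⊕ l → F)} {M : Matrix (l ⊕ l) (l ⊕ l) F}
    (hM : M ∈ GenS Y) : ∀ z ∈ Y, M *ᵥ z ∈ Y := by
  induction hM using Submonoid.closure_induction with
  | mem M hM =>
    obtain ⟨v, c, hv, rfl⟩ := hM
    intro z hz
    rw [T_mulVec]
    exact Y.add_mem hz (Y.smul_mem _ hv)
  | one => intro z hz; rw [one_mulVec]; exact hz
  | mul A B _ _ hA hB =>
    intro z hz
    rw [← mulVec_mulVec]
    exact hA _ (hB z hz)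

theorem GenS_inv {Y : Submodule F (l ⊕ l → F)} {M : Matrix (l ⊕ l) (l ⊕ l) F}
    (hM : M ∈ GenS Y) : ∃ M' ∈ GenS Y, M' * M = 1 ∧ M * M' = 1 := by
  induction hM using Submonoid.closure_induction with
  | mem M hM =>
    obtain ⟨v, c, hv, rfl⟩ := hM
    refine ⟨T v (-c), T_mem_GenS hv _, ?_, ?_⟩
    · rw [T_mulS, neg_add_cancel, T_zeroS]
    · rw [T_mulS, add_neg_cancel, T_zeroS]
  | one => exact ⟨1, Submonoid.one_mem _, by rw [mul_one], by rw [mul_one]⟩
  | mul A B _ _ hA hB =>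
    obtain ⟨A', hA', h1, h2⟩ := hA
    obtain ⟨B', hB', h3, h4⟩ := hB
    refine ⟨B' * A', Submonoid.mul_mem _ hB' hA', ?_, ?_⟩
    · calc B' * A' * (A * B) = B' * ((A' * A) * B) := by simp only [Matrix.mul_assoc]
        _ = 1 := by rw [h1, Matrix.one_mul, h3]
    · calc A * B * (B' * A') = A * ((B * B') * A') := by simp only [Matrix.mul_assoc]
        _ = 1 := by rw [h4, Matrix.one_mul, h2]

theorem rel_exists_ne {Y : Submodule F (l ⊕ l → F)} (hY : NonDegS Y) {v : l ⊕ l → F} (hv : v ∈ Y)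
    (hv0 : v ≠ 0) : ∃ u ∈ Y, om v u ≠ 0 := by
  by_contra hcon
  push Not at hcon
  exact hv0 (hY v hv hcon)

theorem rel_exists_both {Y : Submodule F (l ⊕ l → F)} (hY : NonDegS Y) {v w : l ⊕ l → F}
    (hv : v ∈ Y) (hw : w ∈ Y) (hv0 : v ≠ 0) (hw0 : w ≠ 0) :
    ∃ u ∈ Y, om v u ≠ 0 ∧ om u w ≠ 0 := by
  obtain ⟨x1, hx1, h1⟩ := rel_exists_ne hY hv hv0
  obtain ⟨x2, hx2, h2⟩ := rel_exists_ne hY hw hw0
  have h2' : ∀ x, om x w ≠ 0 ↔ om w x ≠ 0 := by
    intro x; rw [om_swap w x, neg_ne_zero]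
  by_cases h3 : om w x1 = 0
  · by_cases h4 : om v x2 = 0
    · refine ⟨x1 + x2, Y.add_mem hx1 hx2, ?_, ?_⟩
      · rw [om_add_right, h4, add_zero]; exact h1
      · rw [h2', om_add_right, h3, zero_add]; exact h2
    · exact ⟨x2, hx2, h4, (h2' x2).mpr h2⟩
  · exact ⟨x1, hx1, h1, (h2' x1).mpr h3⟩

theorem trans_vecS {Y : Submodule F (l ⊕ l → F)} (hY : NonDegS Y) {v w : l ⊕ l → F}
    (hv : v ∈ Y) (hw : w ∈ Y) (hv0 : v ≠ 0) (hw0 : w ≠ 0) : ∃ t ∈ GenS Y, t *ᵥ v = w := by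
  by_cases h0 : om v w = 0
  · obtain ⟨u, hu, h1, h2⟩ := rel_exists_both hY hv hw hv0 hw0
    refine ⟨T (u - w) (-(om u w)⁻¹) * T (v - u) (-(om v u)⁻¹),
      Submonoid.mul_mem _ (T_mem_GenS (Y.sub_mem hu hw) _) (T_mem_GenS (Y.sub_mem hv hu) _), ?_⟩
    rw [← mulVec_mulVec, T_map_of_om_ne_zero h1, T_map_of_om_ne_zero h2]
  · exact ⟨T (v - w) (-(om v w)⁻¹), T_mem_GenS (Y.sub_mem hv hw) _, T_map_of_om_ne_zero h0⟩

theorem fix_mapS {Y : Submodule F (l ⊕ l → F)} {e f1 f2 : l ⊕ l → F} (he : e ∈ Y) (hf1 : f1 ∈ Y)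
    (hf2 : f2 ∈ Y) (h1 : om e f1 = 1) (h2 : om e f2 = 1) :
    ∃ t ∈ GenS Y, t *ᵥ e = e ∧ t *ᵥ f1 = f2 := by
  by_cases h0 : om f1 f2 = 0
  · have h3 : om e (f1 + e) = 1 := by rw [om_add_right, om_self, add_zero, h1]
    have h4 : om f1 (f1 + e) ≠ 0 := by
      rw [om_add_right, om_self, zero_add, om_swap e f1, h1]; simp
    have h5 : om (f1 + e) f2 ≠ 0 := by
      rw [om_add_left, h0, zero_add, h2]; exact one_ne_zero
    refine ⟨T ((f1 + e) - f2) (-(om (f1 + e) f2)⁻¹) * T (f1 - (f1 + e)) (-(om f1 (f1 + e))⁻¹),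
      Submonoid.mul_mem _ (T_mem_GenS (Y.sub_mem (Y.add_mem hf1 he) hf2) _)
        (T_mem_GenS (Y.sub_mem hf1 (Y.add_mem hf1 he)) _), ?_, ?_⟩
    · rw [← mulVec_mulVec, T_fix_of_om_eq (h1.trans h3.symm), T_fix_of_om_eq (h3.trans h2.symm)]
    · rw [← mulVec_mulVec, T_map_of_om_ne_zero h4, T_map_of_om_ne_zero h5]
  · exact ⟨T (f1 - f2) (-(om f1 f2)⁻¹), T_mem_GenS (Y.sub_mem hf1 hf2) _,
      T_fix_of_om_eq (h1.trans h2.symm) _, T_map_of_om_ne_zero h0⟩

/-- transitivity on hyperbolic pairs of a non-degenerate subspace -/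
theorem trans_pairS {Y : Submodule F (l ⊕ l → F)} (hY : NonDegS Y) {e f e' f' : l ⊕ l → F}
    (he : e ∈ Y) (hf : f ∈ Y) (he' : e' ∈ Y) (hf' : f' ∈ Y) (hp : om e f = 1)
    (hp' : om e' f' = 1) : ∃ t ∈ GenS Y, t *ᵥ e = e' ∧ t *ᵥ f = f' := by
  have hne : e ≠ 0 := by
    rintro rfl
    rw [om_zero_left] at hp
    exact zero_ne_one hp
  have hne' : e' ≠ 0 := by
    rintro rfl
    rw [om_zero_left] at hp'
    exact zero_ne_one hp'
  obtain ⟨g1, hg1T, hg1⟩ := trans_vecS hY he he' hne hne'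
  have h1 : om e' (g1 *ᵥ f) = 1 := by rw [← hg1, GenS_pres hg1T, hp]
  obtain ⟨g2, hg2T, hg2, hg2'⟩ := fix_mapS he' (GenS_maps hg1T f hf) hf' h1 hp'
  refine ⟨g2 * g1, Submonoid.mul_mem _ hg2T hg1T, ?_, ?_⟩
  · rw [← mulVec_mulVec, hg1, hg2]
  · rw [← mulVec_mulVec, hg2']

theorem mem_perpS_sup_pair (X : Submodule F (l ⊕ l → F)) (u v y : l ⊕ l → F) :
    y ∈ perpS (X ⊔ Submodule.span F {u, v}) ↔ y ∈ perpS X ∧ om y u = 0 ∧ om y v = 0 := by
  constructor
  · intro hy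
    exact ⟨fun x hx => hy x (Submodule.mem_sup_left hx),
      hy u (Submodule.mem_sup_right (Submodule.subset_span (by simp))),
      hy v (Submodule.mem_sup_right (Submodule.subset_span (by simp)))⟩
  · rintro ⟨h1, h2, h3⟩ z hz
    obtain ⟨x1, hx1, x2, hx2, rfl⟩ := Submodule.mem_sup.mp hz
    obtain ⟨a, b, rfl⟩ := Submodule.mem_span_pair.mp hx2
    rw [om_add_right, om_add_right, om_smul_right, om_smul_right, h1 x1 hx1, h2, h3]
    ring

/-- the component of `z` orthogonal to a hyperbolic pair -/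
theorem proj_mem {X : Submodule F (l ⊕ l → F)} {u v z : l ⊕ l → F} (hu : u ∈ perpS X)
    (hv : v ∈ perpS X) (huv : om u v = 1) (hz : z ∈ perpS X) :
    z - om z v • u + om z u • v ∈ perpS (X ⊔ Submodule.span F {u, v}) := by
  rw [mem_perpS_sup_pair]
  refine ⟨(perpS X).add_mem ((perpS X).sub_mem hz ((perpS X).smul_mem _ hu))
    ((perpS X).smul_mem _ hv), ?_, ?_⟩
  · rw [om_add_left, om_sub_left, om_smul_left, om_smul_left, om_self, om_swap u v, huv]; ring
  · rw [om_add_left, om_sub_left, om_smul_left, om_smul_left, om_self, huv]; ring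

theorem nonDeg_cutS {X : Submodule F (l ⊕ l → F)} (hY : NonDegS (perpS X)) {u v : l ⊕ l → F}
    (hu : u ∈ perpS X) (hv : v ∈ perpS X) (huv : om u v = 1) :
    NonDegS (perpS (X ⊔ Submodule.span F {u, v})) := by
  intro y' hy' hall
  rw [mem_perpS_sup_pair] at hy'
  obtain ⟨hy'X, hy'u, hy'v⟩ := hy'
  apply hY y' hy'X
  intro z hz
  have h1 := hall _ (proj_mem hu hv huv hz)
  rw [om_add_right, om_sub_right, om_smul_right, om_smul_right, hy'u, hy'v] at h1
  simpa using h1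

theorem finrank_cut_ltS (X : Submodule F (l ⊕ l → F)) {u v : l ⊕ l → F} (hu : u ∈ perpS X)
    (huv : om u v = 1) :
    finrank F (perpS (X ⊔ Submodule.span F {u, v})) < finrank F (perpS X) := by
  apply Submodule.finrank_lt_finrank_of_lt
  refine lt_of_le_of_ne (perpS_anti le_sup_left) ?_
  intro heq
  have h1 : u ∈ perpS (X ⊔ Submodule.span F {u, v}) := by rw [heq]; exact hu
  have h3 := ((mem_perpS_sup_pair X u v u).mp h1).2.2
  rw [huv] at h3
  exact one_ne_zero h3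

theorem rank_pos_of_ne_zero' {A : Matrix (l ⊕ l) (l ⊕ l) F} (hA : A ≠ 0) : A.rank ≠ 0 := by
  intro h0
  apply hA
  unfold Matrix.rank at h0
  have hbot : LinearMap.range A.mulVecLin = ⊥ := Submodule.finrank_eq_zero.mp h0
  apply mat_ext'
  intro x
  have h1 : A.mulVecLin x ∈ LinearMap.range A.mulVecLin := ⟨x, rfl⟩
  rw [hbot, Submodule.mem_bot] at h1
  rw [zero_mulVec]
  exact h1

theorem rank_conj' (A B M : Matrix (l ⊕ l) (l ⊕ l) F) (hAB : A * B = 1) :
    (A * M * B - 1).rank = (M - 1).rank := by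
  have hdetA : IsUnit A.det := by
    have h1 := congrArg Matrix.det hAB
    rw [det_mul, det_one] at h1
    exact IsUnit.of_mul_eq_one _ h1
  have hdetB : IsUnit B.det := by
    have h1 := congrArg Matrix.det hAB
    rw [det_mul, det_one, mul_comm] at h1
    exact IsUnit.of_mul_eq_one _ h1
  have h2 : A * M * B - 1 = A * (M - 1) * B := by
    rw [Matrix.mul_sub, Matrix.sub_mul, Matrix.mul_one, hAB]
  rw [h2, Matrix.rank_mul_eq_left_of_isUnit_det _ _ hdetB,
    Matrix.rank_mul_eq_right_of_isUnit_det _ _ hdetA]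

theorem rank_add_nul' (M : Matrix (l ⊕ l) (l ⊕ l) F) :
    M.rank + finrank F (LinearMap.ker M.mulVecLin) = Fintype.card (l ⊕ l) := by
  have h1 := LinearMap.finrank_range_add_finrank_ker M.mulVecLin
  rw [Module.finrank_fintype_fun_eq_card] at h1
  exact h1

end Cfsg.Agent.Helper2.Sp
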