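import Mathlib
import Cfsg.Agent.Helper2.SpRel

/-! Involutions of the symplectic group in characteristic two: conjugacy. -/

set_option autoImplicit false

namespace Cfsg.Agent.Helper2.Sp

open Matrix Module

variable {l : Type*} [DecidableEq l] [Fintype l] {F : Type*} [Field F]

/-- involutive isometry fixing a subspace pointwise -/
structure InvS (X : Submodule F (l ⊕ l → F)) (A : Matrix (l ⊕ l) (l ⊕ l) F) : Prop where
  pres : PresS A
  sq : A * A = 1
  fix : ∀ z ∈ X, A *ᵥ z = z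

theorem sub_one_mulVec (A : Matrix (l ⊕ l) (l ⊕ l) F) (y : l ⊕ l → F) :
    (A - 1) *ᵥ y = A *ᵥ y - y := by
  rw [Matrix.sub_mulVec, Matrix.one_mulVec]

section basics

variable {X : Submodule F (l ⊕ l → F)} {A : Matrix (l ⊕ l) (l ⊕ l) F} (hA : InvS X A)

include hA

theorem InvS.sqv (y : l ⊕ l → F) : A *ᵥ (A *ᵥ y) = y := by
  rw [Matrix.mulVec_mulVec, hA.sq, Matrix.one_mulVec]

theorem InvS.adj (x y : l ⊕ l → F) : om (A *ᵥ x) y = om x (A *ᵥ y) := by
  have h0 := hA.pres x (A *ᵥ y)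
  rw [hA.sqv] at h0
  exact h0

theorem InvS.Nadj (x y : l ⊕ l → F) : om ((A - 1) *ᵥ x) y = om x ((A - 1) *ᵥ y) := by
  rw [sub_one_mulVec, sub_one_mulVec, om_sub_left, om_sub_right, hA.adj]

theorem InvS.NY (y : l ⊕ l → F) : (A - 1) *ᵥ y ∈ perpS X := by
  rw [mem_perpS]
  intro z hz
  rw [hA.Nadj, sub_one_mulVec, hA.fix z hz, sub_self, om_zero_right]

theorem InvS.lam_eq (x : l ⊕ l → F) : om ((A - 1) *ᵥ x) x = om (A *ᵥ x) x := by
  rw [sub_one_mulVec, om_sub_left, om_self, sub_zero]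

theorem InvS.lam_add (x y : l ⊕ l → F) :
    om (A *ᵥ (x + y)) (x + y) = om (A *ᵥ x) x + om (A *ᵥ y) y := by
  rw [Matrix.mulVec_add, om_add_left, om_add_right, om_add_right, hA.adj y x, om_swap (A *ᵥ x) y]
  ring

theorem InvS.lam_smul (c : F) (x : l ⊕ l → F) :
    om (A *ᵥ (c • x)) (c • x) = c * c * om (A *ᵥ x) x := by
  rw [Matrix.mulVec_smul, om_smul_left, om_smul_right]
  ring

theorem InvS.mono {X' : Submodule F (l ⊕ l → F)} (hXX : X' ≤ X) : InvS X' A :=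
  ⟨hA.pres, hA.sq, fun z hz => hA.fix z (hXX hz)⟩

variable (h2 : (2 : F) = 0)

include h2

theorem InvS.NN (y : l ⊕ l → F) : (A - 1) *ᵥ ((A - 1) *ᵥ y) = 0 := by
  have hvv : ∀ v : l ⊕ l → F, v + v = 0 := fun v => by rw [← two_smul F v, h2, zero_smul]
  rw [sub_one_mulVec, sub_one_mulVec, Matrix.mulVec_sub, hA.sqv]
  calc y - A *ᵥ y - (A *ᵥ y - y) = (y - A *ᵥ y) + (y - A *ᵥ y) := by abel
    _ = 0 := hvv _

theorem InvS.Niso (x y : l ⊕ l → F) : om ((A - 1) *ᵥ x) ((A - 1) *ᵥ y) = 0 := by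
  rw [hA.Nadj, hA.NN h2, om_zero_right]

theorem InvS.fixN (y : l ⊕ l → F) : A *ᵥ ((A - 1) *ᵥ y) = (A - 1) *ᵥ y := by
  have h0 := hA.NN h2 y
  rw [sub_one_mulVec, sub_eq_zero] at h0
  exact h0

end basics

theorem invS_one (X : Submodule F (l ⊕ l → F)) : InvS X (1 : Matrix (l ⊕ l) (l ⊕ l) F) :=
  ⟨PresS_one, Matrix.one_mul 1, fun z _ => Matrix.one_mulVec z⟩

theorem T_sub_one' (v : l ⊕ l → F) (c : F) : T v c - 1 = c • vecMulVec v (v ᵥ* J l F) := by
  unfold T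
  rw [add_sub_cancel_left]

theorem rank_T_sub_one_le (v : l ⊕ l → F) : (T v (1 : F) - 1).rank ≤ 1 := by
  rw [T_sub_one', one_smul]
  exact Matrix.rank_vecMulVec_le _ _

/-- a vector with `λ(x) = 1` -/
theorem exists_lam_one [Finite F] (h2 : (2 : F) = 0) {X : Submodule F (l ⊕ l → F)}
    {A : Matrix (l ⊕ l) (l ⊕ l) F} (hA : InvS X A)
    (hnalt : ∃ v ∈ perpS X, om (A *ᵥ v) v ≠ 0) : ∃ x ∈ perpS X, om (A *ᵥ x) x = 1 := by
  obtain ⟨x₀, hx₀Y, hx₀⟩ := hnalt
  have hchar : CharP F 2 := CharTwo.of_one_ne_zero_of_two_eq_zero one_ne_zero h2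
  obtain ⟨m, hm⟩ := isSquare_of_charTwo' (om (A *ᵥ x₀) x₀)⁻¹
  refine ⟨m • x₀, (perpS X).smul_mem _ hx₀Y, ?_⟩
  rw [hA.lam_smul, ← hm, inv_mul_cancel₀ hx₀]

/-- a good choice of the vector to peel off -/
theorem choose_x [Finite F] (h2 : (2 : F) = 0) {X : Submodule F (l ⊕ l → F)}
    (hY : NonDegS (perpS X)) {A : Matrix (l ⊕ l) (l ⊕ l) F} (hA : InvS X A)
    (hnalt : ∃ v ∈ perpS X, om (A *ᵥ v) v ≠ 0) (hr : 2 ≤ (A - 1).rank) :
    ∃ x ∈ perpS X, om (A *ᵥ x) x = 1 ∧ ∃ v ∈ perpS X,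
      om (A *ᵥ v) v + om ((A - 1) *ᵥ x) v * om ((A - 1) *ᵥ x) v ≠ 0 := by
  have hneg : ∀ a : F, -a = a := fun a =>
    neg_eq_of_add_eq_zero_left (by rw [← two_mul, h2, zero_mul])
  have hvv : ∀ v : l ⊕ l → F, v + v = 0 := fun v => by rw [← two_smul F v, h2, zero_smul]
  obtain ⟨x₁, hx₁Y, hx₁⟩ := exists_lam_one h2 hA hnalt
  by_cases hgood : ∃ v ∈ perpS X,
      om (A *ᵥ v) v + om ((A - 1) *ᵥ x₁) v * om ((A - 1) *ᵥ x₁) v ≠ 0
  · exact ⟨x₁, hx₁Y, hx₁, hgood⟩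
  push Not at hgood
  obtain ⟨w₁, hw₁⟩ : ∃ w₁, w₁ = (A - 1) *ᵥ x₁ := ⟨_, rfl⟩
  rw [← hw₁] at hgood
  have hw₁Y : w₁ ∈ perpS X := by rw [hw₁]; exact hA.NY x₁
  have hw₁x : om w₁ x₁ = 1 := by rw [hw₁, hA.lam_eq, hx₁]
  obtain ⟨y, hyY, hy0, hNy⟩ : ∃ y ∈ perpS X, om w₁ y = 0 ∧ (A - 1) *ᵥ y ≠ 0 := by
    by_contra hcon
    push Not at hcon
    have hNy : ∀ y ∈ perpS X, (A - 1) *ᵥ y = om w₁ y • w₁ := by
      intro y hy
      have h1 : om w₁ (y + om w₁ y • x₁) = 0 := by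
        rw [om_add_right, om_smul_right, hw₁x, mul_one, ← two_mul, h2, zero_mul]
      have h3 := hcon _ ((perpS X).add_mem hy ((perpS X).smul_mem _ hx₁Y)) h1
      rw [Matrix.mulVec_add, Matrix.mulVec_smul, ← hw₁] at h3
      calc (A - 1) *ᵥ y = (A - 1) *ᵥ y + (om w₁ y • w₁ + om w₁ y • w₁) := by
            rw [hvv, add_zero]
        _ = om w₁ y • w₁ := by rw [← add_assoc, h3, zero_add]
    have hNall : ∀ v, (A - 1) *ᵥ v = om w₁ v • w₁ := by
      intro v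
      have h1 : (A - 1) *ᵥ v - om w₁ v • w₁ = 0 := by
        apply hY _ ((perpS X).sub_mem (hA.NY v) ((perpS X).smul_mem _ hw₁Y))
        intro y hy
        rw [om_sub_left, hA.Nadj, hNy y hy, om_smul_right, om_smul_left, om_swap w₁ v, hneg]
        ring
      exact sub_eq_zero.mp h1
    have hAT : A - 1 = T w₁ 1 - 1 := by
      apply mat_ext'
      intro v
      rw [hNall, sub_one_mulVec, T_mulVec, one_mul, add_sub_cancel_left]
    have h4 := rank_T_sub_one_le w₁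
    rw [← hAT] at h4
    omega
  refine ⟨x₁ + y, (perpS X).add_mem hx₁Y hyY, ?_, ?_⟩
  · have h5 := hgood y hyY
    rw [hy0, mul_zero, add_zero] at h5
    rw [hA.lam_add, hx₁, h5, add_zero]
  · obtain ⟨v, hvY, hv⟩ := rel_exists_ne hY (hA.NY y) hNy
    refine ⟨v, hvY, ?_⟩
    rw [Matrix.mulVec_add, ← hw₁, om_add_left]
    have h6 : om (A *ᵥ v) v + (om w₁ v + om ((A - 1) *ᵥ y) v) * (om w₁ v + om ((A - 1) *ᵥ y) v)
        = (om (A *ᵥ v) v + om w₁ v * om w₁ v) + om ((A - 1) *ᵥ y) v * om ((A - 1) *ᵥ y) v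
          + (om w₁ v * om ((A - 1) *ᵥ y) v) * 2 := by ring
    rw [h6, hgood v hvY, h2, mul_zero, add_zero, zero_add]
    exact mul_ne_zero hv hv

/-- peeling off a transvection in the non-alternating case -/
theorem peelB [Finite F] (h2 : (2 : F) = 0) {X : Submodule F (l ⊕ l → F)}
    (hY : NonDegS (perpS X)) {A : Matrix (l ⊕ l) (l ⊕ l) F} (hA : InvS X A)
    (hnalt : ∃ v ∈ perpS X, om (A *ᵥ v) v ≠ 0) :
    ∃ (w u : l ⊕ l → F) (A' : Matrix (l ⊕ l) (l ⊕ l) F), w ∈ perpS X ∧ u ∈ perpS X ∧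
      om w u = 1 ∧ InvS (X ⊔ Submodule.span F {w, u}) A' ∧ A = T w 1 * A' ∧
      (A' - 1).rank + 1 = (A - 1).rank ∧
      (A' ≠ 1 → ∃ v ∈ perpS (X ⊔ Submodule.span F {w, u}), om (A' *ᵥ v) v ≠ 0) := by
  have hneg : ∀ a : F, -a = a := fun a =>
    neg_eq_of_add_eq_zero_left (by rw [← two_mul, h2, zero_mul])
  have hvv : ∀ v : l ⊕ l → F, v + v = 0 := fun v => by rw [← two_smul F v, h2, zero_smul]
  obtain ⟨x, hxY, hx1, hgood⟩ : ∃ x ∈ perpS X, om (A *ᵥ x) x = 1 ∧ (2 ≤ (A - 1).rank →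
      ∃ v ∈ perpS X, om (A *ᵥ v) v + om ((A - 1) *ᵥ x) v * om ((A - 1) *ᵥ x) v ≠ 0) := by
    by_cases hr : 2 ≤ (A - 1).rank
    · obtain ⟨x, hxY, hx1, hv⟩ := choose_x h2 hY hA hnalt hr
      exact ⟨x, hxY, hx1, fun _ => hv⟩
    · obtain ⟨x, hxY, hx1⟩ := exists_lam_one h2 hA hnalt
      exact ⟨x, hxY, hx1, fun h => absurd h hr⟩
  obtain ⟨w, hw⟩ : ∃ w, w = (A - 1) *ᵥ x := ⟨_, rfl⟩
  rw [← hw] at hgood
  have hwY : w ∈ perpS X := by rw [hw]; exact hA.NY x
  have hwx : om w x = 1 := by rw [hw, hA.lam_eq, hx1]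
  have hAw : A *ᵥ w = w := by rw [hw]; exact hA.fixN h2 x
  have hAx : A *ᵥ x = x + w := by rw [hw, sub_one_mulVec]; abel
  have hw0 : w ≠ 0 := by
    rintro rfl
    rw [om_zero_left] at hwx
    exact zero_ne_one hwx
  have hTT : T w (1 : F) * T w 1 = 1 := by
    rw [T_mulS, one_add_one_eq_two, h2, T_zeroS]
  have hcomm : A * T w 1 = T w 1 * A := by
    have h8 := T_conjS A hA.pres w (1 : F)
    rwa [hAw] at h8
  have hA'w : (T w 1 * A) *ᵥ w = w := by
    rw [← Matrix.mulVec_mulVec, hAw, T_mulVec, om_self, mul_zero, zero_smul, add_zero]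
  have hA'x : (T w 1 * A) *ᵥ x = x := by
    rw [← Matrix.mulVec_mulVec, hAx, T_mulVec, om_add_right, hwx, om_self, add_zero, mul_one,
      one_smul, add_assoc, hvv, add_zero]
  have hInv : InvS (X ⊔ Submodule.span F {w, x}) (T w 1 * A) := by
    refine ⟨(PresS_T w 1).mul hA.pres, ?_, ?_⟩
    · calc T w 1 * A * (T w 1 * A) = T w 1 * (A * T w 1) * A := by simp only [Matrix.mul_assoc]
        _ = T w 1 * (T w 1 * A) * A := by rw [hcomm]
        _ = (T w 1 * T w 1) * (A * A) := by simp only [Matrix.mul_assoc]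
        _ = 1 := by rw [hTT, hA.sq, Matrix.one_mul]
    · intro z hz
      obtain ⟨x1, hx1', x2, hx2, rfl⟩ := Submodule.mem_sup.mp hz
      obtain ⟨a, b, rfl⟩ := Submodule.mem_span_pair.mp hx2
      have e1 : (T w 1 * A) *ᵥ x1 = x1 := by
        rw [← Matrix.mulVec_mulVec, hA.fix x1 hx1', T_mulVec, hwY x1 hx1', mul_zero, zero_smul,
          add_zero]
      rw [mulVec_add, mulVec_add, mulVec_smul, mulVec_smul, e1, hA'w, hA'x]
  have hlam' : ∀ v, om ((T w 1 * A) *ᵥ v) v = om (A *ᵥ v) v + om w v * om w v := by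
    intro v
    have h9 : om w (A *ᵥ v) = om w v := by
      have h10 := hA.pres w v
      rwa [hAw] at h10
    rw [← Matrix.mulVec_mulVec, T_mulVec, one_mul, h9, om_add_left, om_smul_left]
  refine ⟨w, x, T w 1 * A, hwY, hxY, hwx, hInv, ?_, ?_, ?_⟩
  · rw [← Matrix.mul_assoc, hTT, Matrix.one_mul]
  · -- the rank drops by one
    have hN'v : ∀ y, (T w 1 * A - 1) *ᵥ y = (A - 1) *ᵥ y + om w y • w := by
      intro y
      have h9 : om w (A *ᵥ y) = om w y := by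
        have h10 := hA.pres w y
        rwa [hAw] at h10
      rw [sub_one_mulVec, sub_one_mulVec, ← Matrix.mulVec_mulVec, T_mulVec, one_mul, h9]
      abel
    have hk1 : LinearMap.ker (A - 1).mulVecLin ⊔ Submodule.span F {x}
        = LinearMap.ker (T w 1 * A - 1).mulVecLin := by
      apply le_antisymm
      · apply sup_le
        · intro y hy
          rw [LinearMap.mem_ker, Matrix.mulVecLin_apply] at hy ⊢
          have h9 : om w y = 0 := by rw [hw, hA.Nadj, hy, om_zero_right]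
          rw [hN'v, hy, zero_add, h9, zero_smul]
        · rw [Submodule.span_le, Set.singleton_subset_iff]
          show x ∈ LinearMap.ker _
          rw [LinearMap.mem_ker, Matrix.mulVecLin_apply, hN'v, hwx, one_smul, ← hw, hvv]
      · intro y hy
        rw [LinearMap.mem_ker, Matrix.mulVecLin_apply, hN'v] at hy
        have e1 : (A - 1) *ᵥ (y + om w y • x) = 0 := by
          rw [Matrix.mulVec_add, Matrix.mulVec_smul, ← hw]; exact hy
        have e2 : y = (y + om w y • x) + om w y • x := by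
          rw [add_assoc, hvv, add_zero]
        rw [e2]
        refine Submodule.add_mem _ (Submodule.mem_sup_left ?_)
          (Submodule.mem_sup_right (Submodule.smul_mem _ _ (Submodule.mem_span_singleton_self x)))
        rw [LinearMap.mem_ker, Matrix.mulVecLin_apply]; exact e1
    have hx0 : x ≠ 0 := by
      rintro rfl
      rw [om_zero_right] at hwx
      exact zero_ne_one hwx
    have hinf : LinearMap.ker (A - 1).mulVecLin ⊓ Submodule.span F {x} = ⊥ := by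
      rw [eq_bot_iff]
      rintro y ⟨hy1, hy2⟩
      obtain ⟨b, rfl⟩ := Submodule.mem_span_singleton.mp hy2
      have hy1' : (A - 1) *ᵥ (b • x) = 0 := by
        have h10 := hy1
        rw [SetLike.mem_coe, LinearMap.mem_ker, Matrix.mulVecLin_apply] at h10
        exact h10
      rw [Matrix.mulVec_smul, ← hw] at hy1'
      rcases smul_eq_zero.mp hy1' with hb | hb
      · rw [hb, zero_smul]; exact Submodule.zero_mem _
      · exact absurd hb hw0
    have hfr := Submodule.finrank_sup_add_finrank_inf_eq (LinearMap.ker (A - 1).mulVecLin)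
      (Submodule.span F {x})
    rw [hinf, finrank_bot, add_zero, finrank_span_singleton hx0, hk1] at hfr
    have r1 := rank_add_nul' (A - 1)
    have r2 := rank_add_nul' (T w 1 * A - 1)
    omega
  · intro hA'1
    have hr : 2 ≤ (A - 1).rank := by
      have h0 : T w 1 * A - 1 ≠ 0 := fun h0 => hA'1 (sub_eq_zero.mp h0)
      have h1 := rank_pos_of_ne_zero' h0
      -- reuse the rank computation
      have hN'v : ∀ y, (T w 1 * A - 1) *ᵥ y = (A - 1) *ᵥ y + om w y • w := by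
        intro y
        have h9 : om w (A *ᵥ y) = om w y := by
          have h10 := hA.pres w y
          rwa [hAw] at h10
        rw [sub_one_mulVec, sub_one_mulVec, ← Matrix.mulVec_mulVec, T_mulVec, one_mul, h9]
        abel
      by_contra hlt
      push Not at hlt
      -- rank (A - 1) ≤ 1 forces A - 1 = T w 1 - 1
      apply h0
      apply mat_ext'
      intro y
      rw [hN'v, zero_mulVec]
      -- (A - 1) y lies in the line spanned by w
      have hrange : LinearMap.range (A - 1).mulVecLin = Submodule.span F {w} := by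
        symm
        apply Submodule.eq_of_le_of_finrank_le
        · rw [Submodule.span_le, Set.singleton_subset_iff]
          exact ⟨x, by rw [Matrix.mulVecLin_apply, hw]⟩
        · rw [finrank_span_singleton hw0]
          have : finrank F (LinearMap.range (A - 1).mulVecLin) = (A - 1).rank := rfl
          omega
      have hmem : (A - 1) *ᵥ y ∈ Submodule.span F {w} := by
        rw [← hrange]; exact ⟨y, rfl⟩
      obtain ⟨c, hc⟩ := Submodule.mem_span_singleton.mp hmem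
      have hc' : c = om w y := by
        have h11 : om ((A - 1) *ᵥ y) x = om y w := by rw [hA.Nadj, ← hw]
        rw [← hc, om_smul_left, hwx, mul_one] at h11
        rw [h11, om_swap w y, hneg]
      rw [← hc, hc', hvv]
    obtain ⟨v, hvY, hv⟩ := hgood hr
    refine ⟨v - om v x • w + om v w • x, proj_mem hwY hxY hwx hvY, ?_⟩
    have hs : (T w 1 * A) *ᵥ (-(om v x • w) + om v w • x) = -(om v x • w) + om v w • x := by
      rw [mulVec_add, mulVec_neg, mulVec_smul, mulVec_smul, hA'w, hA'x]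
    have hdec : v - om v x • w + om v w • x = v + (-(om v x • w) + om v w • x) := by abel
    rw [hdec, hInv.lam_add, hs, om_self, add_zero, hlam']
    exact hv

/-- the rank two involution attached to two orthogonal vectors -/
def Rm (w₁ w₂ : l ⊕ l → F) : Matrix (l ⊕ l) (l ⊕ l) F := T (w₁ + w₂) 1 * T w₁ 1 * T w₂ 1

theorem PresS_Rm (w₁ w₂ : l ⊕ l → F) : PresS (Rm w₁ w₂) :=
  ((PresS_T _ _).mul (PresS_T _ _)).mul (PresS_T _ _)

theorem Rm_mulVec (h2 : (2 : F) = 0) {w₁ w₂ : l ⊕ l → F} (h12 : om w₁ w₂ = 0) (v : l ⊕ l → F) :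
    Rm w₁ w₂ *ᵥ v = v + om w₂ v • w₁ + om w₁ v • w₂ := by
  have hvv : ∀ v : l ⊕ l → F, v + v = 0 := fun v => by rw [← two_smul F v, h2, zero_smul]
  have h21 : om w₂ w₁ = 0 := by rw [om_swap, h12, neg_zero]
  have e1 : T w₂ 1 *ᵥ v = v + om w₂ v • w₂ := by rw [T_mulVec, one_mul]
  have e2 : T w₁ 1 *ᵥ (v + om w₂ v • w₂) = v + om w₂ v • w₂ + om w₁ v • w₁ := by
    rw [T_mulVec, one_mul, om_add_right, om_smul_right, h12, mul_zero, add_zero]
  have e4 : om (w₁ + w₂) (v + om w₂ v • w₂ + om w₁ v • w₁) = om w₁ v + om w₂ v := by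
    simp only [om_add_left, om_add_right, om_smul_right, om_self, h12, h21]
    ring
  have e3 : T (w₁ + w₂) 1 *ᵥ (v + om w₂ v • w₂ + om w₁ v • w₁)
      = v + om w₂ v • w₂ + om w₁ v • w₁ + (om w₁ v + om w₂ v) • (w₁ + w₂) := by
    rw [T_mulVec, one_mul, e4]
  unfold Rm
  rw [← mulVec_mulVec, ← mulVec_mulVec, e1, e2, e3]
  calc v + om w₂ v • w₂ + om w₁ v • w₁ + (om w₁ v + om w₂ v) • (w₁ + w₂)
      = v + om w₂ v • w₁ + om w₁ v • w₂ + ((om w₁ v • w₁ + om w₁ v • w₁)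
        + (om w₂ v • w₂ + om w₂ v • w₂)) := by module
    _ = v + om w₂ v • w₁ + om w₁ v • w₂ := by rw [hvv, hvv, add_zero, add_zero]

theorem Rm_sq (h2 : (2 : F) = 0) {w₁ w₂ : l ⊕ l → F} (h12 : om w₁ w₂ = 0) :
    Rm w₁ w₂ * Rm w₁ w₂ = 1 := by
  have hvv : ∀ v : l ⊕ l → F, v + v = 0 := fun v => by rw [← two_smul F v, h2, zero_smul]
  have h21 : om w₂ w₁ = 0 := by rw [om_swap, h12, neg_zero]
  apply mat_ext'
  intro v
  rw [← mulVec_mulVec, Rm_mulVec h2 h12 v, Rm_mulVec h2 h12, one_mulVec]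
  have e1 : om w₂ (v + om w₂ v • w₁ + om w₁ v • w₂) = om w₂ v := by
    simp only [om_add_right, om_smul_right, om_self, h21]
    ring
  have e2 : om w₁ (v + om w₂ v • w₁ + om w₁ v • w₂) = om w₁ v := by
    simp only [om_add_right, om_smul_right, om_self, h12]
    ring
  rw [e1, e2]
  calc v + om w₂ v • w₁ + om w₁ v • w₂ + om w₂ v • w₁ + om w₁ v • w₂
      = v + ((om w₂ v • w₁ + om w₂ v • w₁) + (om w₁ v • w₂ + om w₁ v • w₂)) := by abel
    _ = v := by rw [hvv, hvv, add_zero, add_zero]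

theorem Rm_conj (G : Matrix (l ⊕ l) (l ⊕ l) F) (hG : PresS G) (w₁ w₂ : l ⊕ l → F) :
    G * Rm w₁ w₂ = Rm (G *ᵥ w₁) (G *ᵥ w₂) * G := by
  unfold Rm
  calc G * (T (w₁ + w₂) 1 * T w₁ 1 * T w₂ 1)
      = (G * T (w₁ + w₂) 1) * T w₁ 1 * T w₂ 1 := by simp only [Matrix.mul_assoc]
    _ = T (G *ᵥ w₁ + G *ᵥ w₂) 1 * (G * T w₁ 1) * T w₂ 1 := by
        rw [T_conjS G hG, mulVec_add]; simp only [Matrix.mul_assoc]
    _ = T (G *ᵥ w₁ + G *ᵥ w₂) 1 * T (G *ᵥ w₁) 1 * (G * T w₂ 1) := by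
        rw [T_conjS G hG]; simp only [Matrix.mul_assoc]
    _ = T (G *ᵥ w₁ + G *ᵥ w₂) 1 * T (G *ᵥ w₁) 1 * T (G *ᵥ w₂) 1 * G := by
        rw [T_conjS G hG]; simp only [Matrix.mul_assoc]

/-- peeling off a rank two factor in the alternating case -/
theorem peelA (h2 : (2 : F) = 0) {X : Submodule F (l ⊕ l → F)}
    (hY : NonDegS (perpS X)) {A : Matrix (l ⊕ l) (l ⊕ l) F} (hA : InvS X A)
    (halt : ∀ v ∈ perpS X, om (A *ᵥ v) v = 0) (hA1 : A ≠ 1) :
    ∃ (w1 u1 w2 u2 : l ⊕ l → F) (A' : Matrix (l ⊕ l) (l ⊕ l) F), w1 ∈ perpS X ∧ u1 ∈ perpS X ∧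
      w2 ∈ perpS X ∧ u2 ∈ perpS X ∧ om w1 u1 = 1 ∧ om w2 u2 = 1 ∧ om w2 w1 = 0 ∧ om w2 u1 = 0 ∧
      om u2 w1 = 0 ∧ om u2 u1 = 0 ∧
      InvS ((X ⊔ Submodule.span F {w1, u1}) ⊔ Submodule.span F {w2, u2}) A' ∧
      A = Rm w1 w2 * A' ∧ (A' - 1).rank + 2 = (A - 1).rank ∧
      (∀ v ∈ perpS X, om (A' *ᵥ v) v = 0) := by
  have hneg : ∀ a : F, -a = a := fun a =>
    neg_eq_of_add_eq_zero_left (by rw [← two_mul, h2, zero_mul])
  have hvv : ∀ v : l ⊕ l → F, v + v = 0 := fun v => by rw [← two_smul F v, h2, zero_smul]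
  obtain ⟨x, hxY, hNx⟩ : ∃ x ∈ perpS X, (A - 1) *ᵥ x ≠ 0 := by
    by_contra hcon
    push Not at hcon
    apply hA1
    apply mat_ext'
    intro v
    have h1 : (A - 1) *ᵥ v = 0 := by
      apply hY _ (hA.NY v)
      intro y hy
      rw [hA.Nadj, hcon y hy, om_zero_right]
    rw [sub_one_mulVec, sub_eq_zero] at h1
    rw [h1, one_mulVec]
  obtain ⟨w₁, hw₁⟩ : ∃ w₁, w₁ = (A - 1) *ᵥ x := ⟨_, rfl⟩
  rw [← hw₁] at hNx
  have hw₁Y : w₁ ∈ perpS X := by rw [hw₁]; exact hA.NY x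
  obtain ⟨y₀, hy₀Y, hy₀⟩ := rel_exists_ne hY hw₁Y hNx
  obtain ⟨y, hy⟩ : ∃ y, y = (om w₁ y₀)⁻¹ • y₀ := ⟨_, rfl⟩
  have hyY : y ∈ perpS X := by rw [hy]; exact (perpS X).smul_mem _ hy₀Y
  have hw₁y : om w₁ y = 1 := by rw [hy, om_smul_right, inv_mul_cancel₀ hy₀]
  obtain ⟨w₂, hw₂⟩ : ∃ w₂, w₂ = (A - 1) *ᵥ y := ⟨_, rfl⟩
  have hw₂Y : w₂ ∈ perpS X := by rw [hw₂]; exact hA.NY y
  have hw₁x : om w₁ x = 0 := by rw [hw₁, hA.lam_eq]; exact halt x hxY
  have hw₂y : om w₂ y = 0 := by rw [hw₂, hA.lam_eq]; exact halt y hyY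
  have hw₂x : om w₂ x = 1 := by
    rw [hw₂, hA.Nadj, ← hw₁, om_swap w₁ y, hw₁y, hneg]
  have h12 : om w₁ w₂ = 0 := by rw [hw₁, hw₂]; exact hA.Niso h2 x y
  have h21 : om w₂ w₁ = 0 := by rw [om_swap, h12, neg_zero]
  obtain ⟨y₁, hy₁⟩ : ∃ y₁, y₁ = y + om x y • w₂ := ⟨_, rfl⟩
  have hy₁Y : y₁ ∈ perpS X := by rw [hy₁]; exact (perpS X).add_mem hyY ((perpS X).smul_mem _ hw₂Y)
  have hNw₂ : (A - 1) *ᵥ w₂ = 0 := by rw [hw₂]; exact hA.NN h2 y
  have hNy₁ : (A - 1) *ᵥ y₁ = w₂ := by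
    rw [hy₁, mulVec_add, mulVec_smul, hNw₂, smul_zero, add_zero, hw₂]
  have hw₁y₁ : om w₁ y₁ = 1 := by
    rw [hy₁, om_add_right, om_smul_right, h12, mul_zero, add_zero, hw₁y]
  have hw₂y₁ : om w₂ y₁ = 0 := by
    rw [hy₁, om_add_right, om_smul_right, om_self, mul_zero, add_zero, hw₂y]
  have hxw₂ : om x w₂ = -1 := by rw [om_swap w₂ x, hw₂x]
  have hxy₁ : om x y₁ = 0 := by
    rw [hy₁, om_add_right, om_smul_right, hxw₂]; ring
  have hxw₁ : om x w₁ = 0 := by rw [om_swap w₁ x, hw₁x, neg_zero]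
  have hAw₁ : A *ᵥ w₁ = w₁ := by rw [hw₁]; exact hA.fixN h2 x
  have hAw₂ : A *ᵥ w₂ = w₂ := by rw [hw₂]; exact hA.fixN h2 y
  have hAx : A *ᵥ x = x + w₁ := by rw [hw₁, sub_one_mulVec]; abel
  have hAy₁ : A *ᵥ y₁ = y₁ + w₂ := by rw [← hNy₁, sub_one_mulVec]; abel
  have hcomm : A * Rm w₁ w₂ = Rm w₁ w₂ * A := by
    have h8 := Rm_conj A hA.pres w₁ w₂
    rwa [hAw₁, hAw₂] at h8
  have hRR := Rm_sq h2 h12
  have hA'v : ∀ v, (Rm w₁ w₂ * A) *ᵥ v = A *ᵥ v + om w₂ v • w₁ + om w₁ v • w₂ := by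
    intro v
    have h9 : om w₁ (A *ᵥ v) = om w₁ v := by
      have h10 := hA.pres w₁ v
      rwa [hAw₁] at h10
    have h9' : om w₂ (A *ᵥ v) = om w₂ v := by
      have h10 := hA.pres w₂ v
      rwa [hAw₂] at h10
    rw [← mulVec_mulVec, Rm_mulVec h2 h12, h9, h9']
  have hA'w₁ : (Rm w₁ w₂ * A) *ᵥ w₁ = w₁ := by
    rw [hA'v, hAw₁, h21, om_self, zero_smul, zero_smul, add_zero, add_zero]
  have hA'w₂ : (Rm w₁ w₂ * A) *ᵥ w₂ = w₂ := by
    rw [hA'v, hAw₂, h12, om_self, zero_smul, zero_smul, add_zero, add_zero]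
  have hA'x : (Rm w₁ w₂ * A) *ᵥ x = x := by
    rw [hA'v, hAx, hw₂x, hw₁x, one_smul, zero_smul, add_zero, add_assoc, hvv, add_zero]
  have hA'y₁ : (Rm w₁ w₂ * A) *ᵥ y₁ = y₁ := by
    rw [hA'v, hAy₁, hw₂y₁, hw₁y₁, one_smul, zero_smul, add_zero, add_assoc, hvv, add_zero]
  have hInv : InvS ((X ⊔ Submodule.span F {w₁, y₁}) ⊔ Submodule.span F {w₂, x})
      (Rm w₁ w₂ * A) := by
    refine ⟨(PresS_Rm w₁ w₂).mul hA.pres, ?_, ?_⟩
    · calc Rm w₁ w₂ * A * (Rm w₁ w₂ * A) = Rm w₁ w₂ * (A * Rm w₁ w₂) * A := by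
            simp only [Matrix.mul_assoc]
        _ = Rm w₁ w₂ * (Rm w₁ w₂ * A) * A := by rw [hcomm]
        _ = (Rm w₁ w₂ * Rm w₁ w₂) * (A * A) := by simp only [Matrix.mul_assoc]
        _ = 1 := by rw [hRR, hA.sq, Matrix.one_mul]
    · intro z hz
      obtain ⟨z1, hz1, z2, hz2, rfl⟩ := Submodule.mem_sup.mp hz
      obtain ⟨x1, hx1', x2, hx2, rfl⟩ := Submodule.mem_sup.mp hz1
      obtain ⟨a, b, rfl⟩ := Submodule.mem_span_pair.mp hx2
      obtain ⟨c, d, rfl⟩ := Submodule.mem_span_pair.mp hz2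
      have e1 : (Rm w₁ w₂ * A) *ᵥ x1 = x1 := by
        rw [hA'v, hA.fix x1 hx1', hw₂Y x1 hx1', hw₁Y x1 hx1', zero_smul, zero_smul, add_zero,
          add_zero]
      simp only [mulVec_add, mulVec_smul, e1, hA'w₁, hA'w₂, hA'x, hA'y₁]
  refine ⟨w₁, y₁, w₂, x, Rm w₁ w₂ * A, hw₁Y, hy₁Y, hw₂Y, hxY, hw₁y₁, hw₂x, h21, hw₂y₁, hxw₁,
    hxy₁, hInv, ?_, ?_, ?_⟩
  · rw [← Matrix.mul_assoc, hRR, Matrix.one_mul]
  · -- the rank drops by two
    have hN'v : ∀ v, (Rm w₁ w₂ * A - 1) *ᵥ v = (A - 1) *ᵥ v + om w₂ v • w₁ + om w₁ v • w₂ := by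
      intro v
      rw [sub_one_mulVec, sub_one_mulVec, hA'v]
      abel
    have hk1 : LinearMap.ker (A - 1).mulVecLin ⊔ Submodule.span F {x, y₁}
        = LinearMap.ker (Rm w₁ w₂ * A - 1).mulVecLin := by
      apply le_antisymm
      · apply sup_le
        · intro v hv
          rw [LinearMap.mem_ker, Matrix.mulVecLin_apply] at hv ⊢
          have h9 : om w₁ v = 0 := by rw [hw₁, hA.Nadj, hv, om_zero_right]
          have h9' : om w₂ v = 0 := by rw [hw₂, hA.Nadj, hv, om_zero_right]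
          rw [hN'v, hv, h9, h9', zero_smul, zero_smul, add_zero, add_zero]
        · rw [Submodule.span_le]
          intro v hv
          rcases hv with rfl | rfl
          · show v ∈ LinearMap.ker _
            rw [LinearMap.mem_ker, Matrix.mulVecLin_apply, hN'v, ← hw₁, hw₂x, hw₁x, one_smul,
              zero_smul, add_zero, hvv]
          · show v ∈ LinearMap.ker _
            rw [LinearMap.mem_ker, Matrix.mulVecLin_apply, hN'v, hNy₁, hw₂y₁, hw₁y₁, one_smul,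
              zero_smul, add_zero, hvv]
      · intro v hv
        rw [LinearMap.mem_ker, Matrix.mulVecLin_apply, hN'v] at hv
        have e1 : (A - 1) *ᵥ (v + (om w₂ v • x + om w₁ v • y₁)) = 0 := by
          rw [Matrix.mulVec_add, Matrix.mulVec_add, Matrix.mulVec_smul, Matrix.mulVec_smul, ← hw₁,
            hNy₁, ← add_assoc]
          exact hv
        have e2 : v = (v + (om w₂ v • x + om w₁ v • y₁)) + (om w₂ v • x + om w₁ v • y₁) := by
          rw [add_assoc, hvv, add_zero]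
        rw [e2]
        refine Submodule.add_mem _ (Submodule.mem_sup_left ?_) (Submodule.mem_sup_right ?_)
        · rw [LinearMap.mem_ker, Matrix.mulVecLin_apply]; exact e1
        · exact Submodule.add_mem _
            (Submodule.smul_mem _ _ (Submodule.subset_span (by simp)))
            (Submodule.smul_mem _ _ (Submodule.subset_span (by simp)))
    have hzero : ∀ a b : F, a • w₁ + b • w₂ = 0 → a = 0 ∧ b = 0 := by
      intro a b hab
      have h1 : om (a • w₁ + b • w₂) y₁ = 0 := by rw [hab, om_zero_left]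
      have h3 : om (a • w₁ + b • w₂) x = 0 := by rw [hab, om_zero_left]
      rw [om_add_left, om_smul_left, om_smul_left, hw₁y₁, hw₂y₁] at h1
      rw [om_add_left, om_smul_left, om_smul_left, hw₁x, hw₂x] at h3
      exact ⟨by linear_combination h1, by linear_combination h3⟩
    have hinf : LinearMap.ker (A - 1).mulVecLin ⊓ Submodule.span F {x, y₁} = ⊥ := by
      rw [eq_bot_iff]
      rintro v ⟨hv1, hv2⟩
      obtain ⟨a, b, rfl⟩ := Submodule.mem_span_pair.mp hv2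
      have hv1' : (A - 1) *ᵥ (a • x + b • y₁) = 0 := by
        have h10 := hv1
        rw [SetLike.mem_coe, LinearMap.mem_ker, Matrix.mulVecLin_apply] at h10
        exact h10
      rw [Matrix.mulVec_add, Matrix.mulVec_smul, Matrix.mulVec_smul, ← hw₁, hNy₁] at hv1'
      obtain ⟨ha, hb⟩ := hzero a b hv1'
      rw [ha, hb, zero_smul, zero_smul, add_zero]
      exact Submodule.zero_mem _
    have hli : LinearIndependent F ![x, y₁] := by
      rw [LinearIndependent.pair_iff]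
      intro a b hab
      have h1 : (A - 1) *ᵥ (a • x + b • y₁) = 0 := by rw [hab, mulVec_zero]
      rw [Matrix.mulVec_add, Matrix.mulVec_smul, Matrix.mulVec_smul, ← hw₁, hNy₁] at h1
      exact hzero a b h1
    have hrange : Set.range ![x, y₁] = {x, y₁} := by
      simp
      exact Set.pair_comm y₁ x
    have hfr2 : finrank F (Submodule.span F ({x, y₁} : Set (l ⊕ l → F))) = 2 := by
      rw [← hrange, finrank_span_eq_card hli, Fintype.card_fin]
    have hfr := Submodule.finrank_sup_add_finrank_inf_eq (LinearMap.ker (A - 1).mulVecLin)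
      (Submodule.span F {x, y₁})
    rw [hinf, finrank_bot, add_zero, hfr2, hk1] at hfr
    have r1 := rank_add_nul' (A - 1)
    have r2 := rank_add_nul' (Rm w₁ w₂ * A - 1)
    omega
  · intro v hv
    rw [hA'v, om_add_left, om_add_left, om_smul_left, om_smul_left, halt v hv, zero_add]
    linear_combination (om w₂ v * om w₁ v) * h2

/-- alternating type relative to `X^⊥` -/
def AltS (X : Submodule F (l ⊕ l → F)) (A : Matrix (l ⊕ l) (l ⊕ l) F) : Prop :=
  ∀ v ∈ perpS X, om (A *ᵥ v) v = 0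

theorem InvS.conj {Xa Xb : Submodule F (l ⊕ l → F)} {A' : Matrix (l ⊕ l) (l ⊕ l) F}
    (hA' : InvS Xa A') {t t' : Matrix (l ⊕ l) (l ⊕ l) F} (hPt : PresS t) (hPt' : PresS t')
    (h1 : t' * t = 1) (h2' : t * t' = 1) (hmap : ∀ z ∈ Xb, t' *ᵥ z ∈ Xa) :
    InvS Xb (t * A' * t') := by
  refine ⟨(hPt.mul hA'.pres).mul hPt', ?_, ?_⟩
  · calc t * A' * t' * (t * A' * t') = t * (A' * ((t' * t) * A')) * t' := by
          simp only [Matrix.mul_assoc]
      _ = 1 := by rw [h1, Matrix.one_mul, hA'.sq, Matrix.mul_one, h2']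
  · intro z hz
    rw [← mulVec_mulVec, ← mulVec_mulVec, hA'.fix _ (hmap z hz), mulVec_mulVec, h2', one_mulVec]

theorem sup_pair_map {Xa Xb : Submodule F (l ⊕ l → F)} {t' : Matrix (l ⊕ l) (l ⊕ l) F}
    (hmap : ∀ z ∈ Xb, t' *ᵥ z ∈ Xa) {w u w' u' : l ⊕ l → F} (hw : t' *ᵥ w' = w)
    (hu : t' *ᵥ u' = u) :
    ∀ z ∈ Xb ⊔ Submodule.span F {w', u'}, t' *ᵥ z ∈ Xa ⊔ Submodule.span F {w, u} := by
  intro z hz
  obtain ⟨x1, hx1, x2, hx2, rfl⟩ := Submodule.mem_sup.mp hz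
  obtain ⟨a, b, rfl⟩ := Submodule.mem_span_pair.mp hx2
  rw [mulVec_add, mulVec_add, mulVec_smul, mulVec_smul, hw, hu]
  exact Submodule.add_mem _ (Submodule.mem_sup_left (hmap x1 hx1))
    (Submodule.mem_sup_right (Submodule.add_mem _
      (Submodule.smul_mem _ _ (Submodule.subset_span (by simp)))
      (Submodule.smul_mem _ _ (Submodule.subset_span (by simp)))))

theorem lam_conj {A' t t' : Matrix (l ⊕ l) (l ⊕ l) F} (hPt : PresS t) (h1 : t' * t = 1)
    (v : l ⊕ l → F) : om ((t * A' * t') *ᵥ (t *ᵥ v)) (t *ᵥ v) = om (A' *ᵥ v) v := by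
  rw [mulVec_mulVec, Matrix.mul_assoc (t * A'), h1, Matrix.mul_one, ← mulVec_mulVec, hPt]

theorem final_calc {A A' B B' E E' t t' M₁ : Matrix (l ⊕ l) (l ⊕ l) F} (hAeq : A = E * A')
    (hBeq : B = E' * B') (htE : t * E = E' * t) (hME : M₁ * E' = E' * M₁) (h1 : t' * t = 1)
    (hM₁ : M₁ * (t * A' * t') = B' * M₁) : M₁ * t * A = B * (M₁ * t) := by
  calc M₁ * t * A = M₁ * (t * E) * A' := by rw [hAeq]; simp only [Matrix.mul_assoc]
    _ = (M₁ * E') * (t * A') := by rw [htE]; simp only [Matrix.mul_assoc]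
    _ = (E' * M₁) * (t * A' * t' * t) := by
        rw [hME, Matrix.mul_assoc (t * A'), h1, Matrix.mul_one]
    _ = E' * (M₁ * (t * A' * t')) * t := by simp only [Matrix.mul_assoc]
    _ = E' * (B' * M₁) * t := by rw [hM₁]
    _ = B * (M₁ * t) := by rw [hBeq]; simp only [Matrix.mul_assoc]

/-- the main induction: involutive isometries fixing `X` pointwise with the same rank and the
same type are conjugate under a product of transvections with centres in `X^⊥` -/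
theorem invol_conjS [Finite F] (h2 : (2 : F) = 0) :
    ∀ (d : ℕ) (X : Submodule F (l ⊕ l → F)), NonDegS (perpS X) → finrank F (perpS X) = d →
    ∀ A B : Matrix (l ⊕ l) (l ⊕ l) F, InvS X A → InvS X B → (A - 1).rank = (B - 1).rank →
    (AltS X A ↔ AltS X B) → ∃ M ∈ GenS (perpS X), M * A = B * M := by
  intro d
  induction d using Nat.strong_induction_on with
  | _ d ih =>
  intro X hY hd A B hA hB hrank hiff
  have hrk1 : ∀ C : Matrix (l ⊕ l) (l ⊕ l) F, (C - 1).rank = 0 → C = 1 := by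
    intro C hC
    by_contra hC1
    exact rank_pos_of_ne_zero' (fun h0 => hC1 (sub_eq_zero.mp h0)) hC
  by_cases hA1 : A = 1
  · have hB1 : B = 1 := hrk1 B (by rw [← hrank, hA1, sub_self, Matrix.rank_zero])
    exact ⟨1, Submonoid.one_mem _, by rw [hA1, hB1]⟩
  have hB1 : B ≠ 1 := by
    intro hB1
    exact hA1 (hrk1 A (by rw [hrank, hB1, sub_self, Matrix.rank_zero]))
  have hfixX : ∀ {s : Matrix (l ⊕ l) (l ⊕ l) F}, s ∈ GenS (perpS X) → ∀ z ∈ X, s *ᵥ z = z :=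
    fun hs z hz => GenS_fix hs z (fun y hy => hy z hz)
  by_cases halt : AltS X A
  · have haltB : AltS X B := hiff.mp halt
    obtain ⟨w1, u1, w2, u2, A', hw1, hu1, hw2, hu2, h11, h22, h21, h2u1, hu2w1, hu2u1, hInvA',
      hAeq, hrA, haltA'⟩ := peelA h2 hY hA halt hA1
    obtain ⟨w1', u1', w2', u2', B', hw1', hu1', hw2', hu2', h11', h22', h21', h2u1', hu2w1',
      hu2u1', hInvB', hBeq, hrB, haltB'⟩ := peelA h2 hY hB haltB hB1
    obtain ⟨t₁, ht₁, ht₁w, ht₁u⟩ := trans_pairS hY hw1 hu1 hw1' hu1' h11 h11'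
    have hPt₁ := GenS_pres ht₁
    have hY₁ := nonDeg_cutS hY hw1' hu1' h11'
    have hm : ∀ z ∈ perpS X, om z w1 = 0 → om z u1 = 0 →
        t₁ *ᵥ z ∈ perpS (X ⊔ Submodule.span F {w1', u1'}) := by
      intro z hz h1 h3
      rw [mem_perpS_sup_pair]
      refine ⟨GenS_maps ht₁ z hz, ?_, ?_⟩
      · rw [← ht₁w, hPt₁, h1]
      · rw [← ht₁u, hPt₁, h3]
    have hw2m := hm w2 hw2 h21 h2u1
    have hu2m := hm u2 hu2 hu2w1 hu2u1
    have hw2'm : w2' ∈ perpS (X ⊔ Submodule.span F {w1', u1'}) := by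
      rw [mem_perpS_sup_pair]; exact ⟨hw2', h21', h2u1'⟩
    have hu2'm : u2' ∈ perpS (X ⊔ Submodule.span F {w1', u1'}) := by
      rw [mem_perpS_sup_pair]; exact ⟨hu2', hu2w1', hu2u1'⟩
    obtain ⟨t₂, ht₂, ht₂w, ht₂u⟩ := trans_pairS hY₁ hw2m hu2m hw2'm hu2'm
      (by rw [hPt₁, h22]) h22'
    have ht₂Y : t₂ ∈ GenS (perpS X) := GenS_mono (perpS_anti le_sup_left) ht₂
    have ht₂w1 : t₂ *ᵥ w1' = w1' := GenS_fix ht₂ w1'
      (fun y hy => ((mem_perpS_sup_pair X w1' u1' y).mp hy).2.1)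
    have ht₂u1 : t₂ *ᵥ u1' = u1' := GenS_fix ht₂ u1'
      (fun y hy => ((mem_perpS_sup_pair X w1' u1' y).mp hy).2.2)
    obtain ⟨t, htdef⟩ : ∃ t, t = t₂ * t₁ := ⟨_, rfl⟩
    have ht : t ∈ GenS (perpS X) := by rw [htdef]; exact Submonoid.mul_mem _ ht₂Y ht₁
    have htw1 : t *ᵥ w1 = w1' := by rw [htdef, ← mulVec_mulVec, ht₁w, ht₂w1]
    have htu1 : t *ᵥ u1 = u1' := by rw [htdef, ← mulVec_mulVec, ht₁u, ht₂u1]
    have htw2 : t *ᵥ w2 = w2' := by rw [htdef, ← mulVec_mulVec, ht₂w]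
    have htu2 : t *ᵥ u2 = u2' := by rw [htdef, ← mulVec_mulVec, ht₂u]
    obtain ⟨t', ht', h1, h3⟩ := GenS_inv ht
    have hPt := GenS_pres ht
    have hPt' := GenS_pres ht'
    have hinvv : ∀ {a b : l ⊕ l → F}, t *ᵥ a = b → t' *ᵥ b = a := by
      intro a b hab
      rw [← hab, mulVec_mulVec, h1, one_mulVec]
    have hmap0 : ∀ z ∈ X, t' *ᵥ z ∈ X := fun z hz => by rw [hfixX ht' z hz]; exact hz
    have hmap := sup_pair_map (sup_pair_map hmap0 (hinvv htw1) (hinvv htu1)) (hinvv htw2)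
      (hinvv htu2)
    have hInvA'' := hInvA'.conj hPt hPt' h1 h3 hmap
    have hY₂ := nonDeg_cutS hY₁ hw2'm hu2'm h22'
    have hlt1 := finrank_cut_ltS X hw1' h11'
    have hlt2 := finrank_cut_ltS (X ⊔ Submodule.span F {w1', u1'}) hw2'm h22'
    have hrank'' : (t * A' * t' - 1).rank = (B' - 1).rank := by
      rw [rank_conj' t t' A' h3]; omega
    have hle : perpS ((X ⊔ Submodule.span F {w1', u1'}) ⊔ Submodule.span F {w2', u2'}) ≤ perpS X :=
      perpS_anti (le_trans le_sup_left le_sup_left)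
    have haltA'' : AltS ((X ⊔ Submodule.span F {w1', u1'}) ⊔ Submodule.span F {w2', u2'})
        (t * A' * t') := by
      intro v hv
      have hv' : v = t *ᵥ (t' *ᵥ v) := by rw [mulVec_mulVec, h3, one_mulVec]
      rw [hv', lam_conj hPt h1]
      exact haltA' _ (GenS_maps ht' v (hle hv))
    have haltB'' : AltS ((X ⊔ Submodule.span F {w1', u1'}) ⊔ Submodule.span F {w2', u2'}) B' :=
      fun v hv => haltB' v (hle hv)
    obtain ⟨M₁, hM₁, hM₁eq⟩ := ih _ (by rw [← hd]; exact lt_trans hlt2 hlt1) _ hY₂ rfl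
      (t * A' * t') B' hInvA'' hInvB' hrank'' ⟨fun _ => haltB'', fun _ => haltA''⟩
    have hM₁w1 : M₁ *ᵥ w1' = w1' := GenS_fix hM₁ w1' (fun y hy =>
      hy w1' (Submodule.mem_sup_left (Submodule.mem_sup_right (Submodule.subset_span (by simp)))))
    have hM₁w2 : M₁ *ᵥ w2' = w2' := GenS_fix hM₁ w2' (fun y hy =>
      hy w2' (Submodule.mem_sup_right (Submodule.subset_span (by simp))))
    refine ⟨M₁ * t, Submonoid.mul_mem _ (GenS_mono hle hM₁) ht, ?_⟩
    have htE : t * Rm w1 w2 = Rm w1' w2' * t := by rw [Rm_conj t hPt, htw1, htw2]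
    have hME : M₁ * Rm w1' w2' = Rm w1' w2' * M₁ := by
      rw [Rm_conj M₁ (GenS_pres hM₁), hM₁w1, hM₁w2]
    exact final_calc hAeq hBeq htE hME h1 hM₁eq
  · have haltB : ¬ AltS X B := fun hb => halt (hiff.mpr hb)
    have hnA : ∃ v ∈ perpS X, om (A *ᵥ v) v ≠ 0 := by
      unfold AltS at halt
      push Not at halt
      exact halt
    have hnB : ∃ v ∈ perpS X, om (B *ᵥ v) v ≠ 0 := by
      unfold AltS at haltB
      push Not at haltB
      exact haltB
    obtain ⟨w, u, A', hw, hu, hwu, hInvA', hAeq, hrA, hgoodA⟩ := peelB h2 hY hA hnA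
    obtain ⟨w', u', B', hw', hu', hwu', hInvB', hBeq, hrB, hgoodB⟩ := peelB h2 hY hB hnB
    obtain ⟨t, ht, htw, htu⟩ := trans_pairS hY hw hu hw' hu' hwu hwu'
    obtain ⟨t', ht', h1, h3⟩ := GenS_inv ht
    have hPt := GenS_pres ht
    have hPt' := GenS_pres ht'
    have hinvv : ∀ {a b : l ⊕ l → F}, t *ᵥ a = b → t' *ᵥ b = a := by
      intro a b hab
      rw [← hab, mulVec_mulVec, h1, one_mulVec]
    have hmap0 : ∀ z ∈ X, t' *ᵥ z ∈ X := fun z hz => by rw [hfixX ht' z hz]; exact hz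
    have hmap := sup_pair_map hmap0 (hinvv htw) (hinvv htu)
    have hInvA'' := hInvA'.conj hPt hPt' h1 h3 hmap
    have hY₁ := nonDeg_cutS hY hw' hu' hwu'
    have hlt1 := finrank_cut_ltS X hw' hwu'
    have hrank' : (A' - 1).rank = (B' - 1).rank := by omega
    have hrank'' : (t * A' * t' - 1).rank = (B' - 1).rank := by
      rw [rank_conj' t t' A' h3]; exact hrank'
    have hiff'' : AltS (X ⊔ Submodule.span F {w', u'}) (t * A' * t') ↔
        AltS (X ⊔ Submodule.span F {w', u'}) B' := by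
      by_cases hA'1 : A' = 1
      · have hB'1 : B' = 1 := hrk1 B' (by rw [← hrank', hA'1, sub_self, Matrix.rank_zero])
        have e1 : t * A' * t' = 1 := by rw [hA'1, Matrix.mul_one, h3]
        rw [e1, hB'1]
      · have hB'1 : B' ≠ 1 := by
          intro hB'1
          exact hA'1 (hrk1 A' (by rw [hrank', hB'1, sub_self, Matrix.rank_zero]))
        apply iff_of_false
        · intro hcon
          obtain ⟨v, hv, hvne⟩ := hgoodA hA'1
          apply hvne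
          rw [← lam_conj (A' := A') hPt h1 v]
          apply hcon
          rw [mem_perpS]
          intro z hz
          have hz' : z = t *ᵥ (t' *ᵥ z) := by rw [mulVec_mulVec, h3, one_mulVec]
          rw [hz', hPt]
          exact hv _ (hmap z hz)
        · intro hcon
          obtain ⟨v, hv, hvne⟩ := hgoodB hB'1
          exact hvne (hcon v hv)
    obtain ⟨M₁, hM₁, hM₁eq⟩ := ih _ (by rw [← hd]; exact hlt1) _ hY₁ rfl
      (t * A' * t') B' hInvA'' hInvB' hrank'' hiff''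
    have hM₁w : M₁ *ᵥ w' = w' := GenS_fix hM₁ w' (fun y hy =>
      hy w' (Submodule.mem_sup_right (Submodule.subset_span (by simp))))
    refine ⟨M₁ * t, Submonoid.mul_mem _ (GenS_mono (perpS_anti le_sup_left) hM₁) ht, ?_⟩
    have htE : t * T w 1 = T w' 1 * t := by rw [T_conjS t hPt, htw]
    have hME : M₁ * T w' 1 = T w' 1 * M₁ := by
      rw [T_conjS M₁ (GenS_pres hM₁), hM₁w]
    exact final_calc hAeq hBeq htE hME h1 hM₁eq

theorem perpS_bot : perpS (⊥ : Submodule F (l ⊕ l → F)) = ⊤ := by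
  ext y
  simp only [Submodule.mem_top, iff_true]
  intro x hx
  rw [(Submodule.mem_bot F).mp hx, om_zero_right]

theorem nonDegS_top : NonDegS (⊤ : Submodule F (l ⊕ l → F)) := by
  intro y _ hall
  by_contra hy
  obtain ⟨x, hx⟩ := exists_om_ne_zero hy
  exact hx (hall x Submodule.mem_top)

/-- involutions of `Sp` with the same rank and type are conjugate -/
theorem conj_of_rank_type [Finite F] (h2 : (2 : F) = 0) {a b : symplecticGroup l F}
    (ha : a * a = 1) (hb : b * b = 1)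
    (hr : ((a : Matrix (l ⊕ l) (l ⊕ l) F) - 1).rank = ((b : Matrix (l ⊕ l) (l ⊕ l) F) - 1).rank)
    (hiff : (∀ v, om v ((a : Matrix (l ⊕ l) (l ⊕ l) F) *ᵥ v) = 0) ↔
      (∀ v, om v ((b : Matrix (l ⊕ l) (l ⊕ l) F) *ᵥ v) = 0)) : IsConj a b := by
  have hInv : ∀ c : symplecticGroup l F, c * c = 1 →
      InvS (⊥ : Submodule F (l ⊕ l → F)) (c : Matrix (l ⊕ l) (l ⊕ l) F) := by
    intro c hc
    refine ⟨mem_symplectic_iff_om.mp c.2, ?_, fun z hz => by
      rw [(Submodule.mem_bot F).mp hz, mulVec_zero]⟩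
    exact congrArg Subtype.val hc
  have halt : ∀ c : symplecticGroup l F,
      AltS (⊥ : Submodule F (l ⊕ l → F)) (c : Matrix (l ⊕ l) (l ⊕ l) F) ↔
        ∀ v, om v ((c : Matrix (l ⊕ l) (l ⊕ l) F) *ᵥ v) = 0 := by
    intro c
    constructor
    · intro h v
      rw [om_swap, h v (by rw [perpS_bot]; exact Submodule.mem_top), neg_zero]
    · intro h v _
      rw [om_swap, h v, neg_zero]
  obtain ⟨M, hM, hMeq⟩ := invol_conjS h2 _ (⊥ : Submodule F (l ⊕ l → F))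
    (by rw [perpS_bot]; exact nonDegS_top) rfl _ _ (hInv a ha) (hInv b hb) hr
    (by rw [halt a, halt b]; exact hiff)
  have hmem : M ∈ symplecticGroup l F := mem_symplectic_iff_om.mpr (GenS_pres hM)
  rw [isConj_iff]
  refine ⟨⟨M, hmem⟩, ?_⟩
  rw [mul_inv_eq_iff_eq_mul]
  apply Subtype.ext
  exact hMeq

theorem card_V_conj {A B G G' : Matrix (l ⊕ l) (l ⊕ l) F} (hG : PresS G) (h1 : G * G' = 1)
    (h3 : G' * G = 1) (hB : B = G * A * G') :
    Nat.card {v : l ⊕ l → F // om v (A *ᵥ v) = 0} = Nat.card {v : l ⊕ l → F // om v (B *ᵥ v) = 0} := by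
  subst hB
  have key1 : ∀ v : l ⊕ l → F, om v (A *ᵥ v) = 0 → om (G *ᵥ v) ((G * A * G') *ᵥ (G *ᵥ v)) = 0 := by
    intro v hv
    rw [mulVec_mulVec, Matrix.mul_assoc (G * A), h3, Matrix.mul_one, ← mulVec_mulVec, hG]
    exact hv
  have key2 : ∀ v : l ⊕ l → F, om v ((G * A * G') *ᵥ v) = 0 → om (G' *ᵥ v) (A *ᵥ (G' *ᵥ v)) = 0 := by
    intro v hv
    rw [← mulVec_mulVec, ← mulVec_mulVec] at hv
    have h5 : v = G *ᵥ (G' *ᵥ v) := by rw [mulVec_mulVec, h1, one_mulVec]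
    rw [h5, hG, ← h5] at hv
    exact hv
  apply Nat.card_congr
  refine ⟨fun v => ⟨G *ᵥ v.1, key1 v.1 v.2⟩, fun v => ⟨G' *ᵥ v.1, key2 v.1 v.2⟩, ?_, ?_⟩
  · intro v
    apply Subtype.ext
    show G' *ᵥ (G *ᵥ v.1) = v.1
    rw [mulVec_mulVec, h3, one_mulVec]
  · intro v
    apply Subtype.ext
    show G *ᵥ (G' *ᵥ v.1) = v.1
    rw [mulVec_mulVec, h1, one_mulVec]

theorem alt_iff_card [Finite F] (A : Matrix (l ⊕ l) (l ⊕ l) F) :
    (∀ v, om v (A *ᵥ v) = 0) ↔
      Nat.card {v : l ⊕ l → F // om v (A *ᵥ v) = 0} = Nat.card (l ⊕ l → F) := by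
  classical
  have hfin : Fintype F := Fintype.ofFinite F
  constructor
  · intro h
    exact Nat.card_congr (Equiv.subtypeUnivEquiv h)
  · intro h
    by_contra hcon
    push Not at hcon
    obtain ⟨v, hv⟩ := hcon
    have h1 := Fintype.card_subtype_lt (p := fun v : l ⊕ l → F => om v (A *ᵥ v) = 0) hv
    rw [Nat.card_eq_fintype_card, Nat.card_eq_fintype_card] at h
    omega

end Cfsg.Agent.Helper2.Sp
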