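import Mathlib
import Cfsg.Agent.Helper2.SpInvol

/-! Counting the classes of involutions of `Sp_{2m}(F)`, `F` finite of characteristic two. -/

set_option autoImplicit false

namespace Cfsg.Agent.Helper2.Sp

open Matrix Module

variable {l : Type*} [DecidableEq l] [Fintype l] {F : Type*} [Field F]

/-- nilpotent block matrix -/
def NB (D : Matrix l l F) : Matrix (l ⊕ l) (l ⊕ l) F := fromBlocks 0 D 0 0

/-- unipotent block matrix -/
def UB (D : Matrix l l F) : Matrix (l ⊕ l) (l ⊕ l) F := fromBlocks 1 D 0 1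

theorem UB_sub_one (D : Matrix l l F) : UB D - 1 = NB D := by
  ext (i | i) (j | j) <;> simp [UB, NB, Matrix.one_apply]

theorem UB_mem {D : Matrix l l F} (hD : Dᵀ = D) : UB D ∈ symplecticGroup l F := by
  rw [SymplecticGroup.mem_iff]
  simp [UB, J, fromBlocks_multiply, fromBlocks_transpose, hD]

theorem UB_sq (h2 : (2 : F) = 0) (D : Matrix l l F) : UB D * UB D = 1 := by
  have hDD : D + D = 0 := by rw [← two_smul F D, h2, zero_smul]
  unfold UB
  rw [fromBlocks_multiply]
  simp [hDD]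

theorem rank_NB (D : Matrix l l F) : (NB D).rank = D.rank := by
  apply le_antisymm
  · have e : NB D = (fromRows (1 : Matrix l l F) (0 : Matrix l l F) * D) *
        fromCols (0 : Matrix l l F) (1 : Matrix l l F) := by
      rw [fromRows_mul, fromRows_mul_fromCols]
      simp [NB]
    rw [e]
    exact (rank_mul_le_left _ _).trans (rank_mul_le_right _ _)
  · have e : D = (NB D).submatrix Sum.inl Sum.inr := by
      ext i j
      simp [NB]
    conv_lhs => rw [e]
    exact rank_submatrix_le _ _ _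

theorem NB_mulVec_inl (D : Matrix l l F) (v : l ⊕ l → F) (i : l) :
    (NB D *ᵥ v) (Sum.inl i) = (D *ᵥ (v ∘ Sum.inr)) i := by
  rw [NB, fromBlocks_mulVec]
  simp

theorem NB_mulVec_inr (D : Matrix l l F) (v : l ⊕ l → F) (i : l) :
    (NB D *ᵥ v) (Sum.inr i) = 0 := by
  rw [NB, fromBlocks_mulVec]
  simp

theorem UB_lam (D : Matrix l l F) (v : l ⊕ l → F) :
    om (UB D *ᵥ v) v = om (NB D *ᵥ v) v := by
  rw [← UB_sub_one, sub_one_mulVec, om_sub_left, om_self, sub_zero]

theorem lam_NB (D : Matrix l l F) (v : l ⊕ l → F) :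
    om (NB D *ᵥ v) v = -((D *ᵥ (v ∘ Sum.inr)) ⬝ᵥ (v ∘ Sum.inr)) := by
  rw [om_eq_sum, dotProduct, ← Finset.sum_neg_distrib]
  apply Finset.sum_congr rfl
  intro i _
  rw [NB_mulVec_inl, NB_mulVec_inr]
  simp

theorem lam_NB_inl (D : Matrix l l F) (j : l) :
    om (NB D *ᵥ Pi.single (Sum.inl j) 1) (Pi.single (Sum.inl j) (1 : F)) = 0 := by
  have h0 : (Pi.single (Sum.inl j) (1 : F) : l ⊕ l → F) ∘ Sum.inr = 0 := by
    funext i
    simp
  rw [lam_NB, h0, mulVec_zero, dotProduct_zero, neg_zero]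

theorem lam_NB_inr (D : Matrix l l F) (j : l) :
    om (NB D *ᵥ Pi.single (Sum.inr j) 1) (Pi.single (Sum.inr j) (1 : F)) = -D j j := by
  have h0 : (Pi.single (Sum.inr j) (1 : F) : l ⊕ l → F) ∘ Sum.inr = Pi.single j 1 := by
    funext i
    simp [Pi.single_apply]
  rw [lam_NB, h0, mulVec_single_one, dotProduct_single_one]
  rfl

/-- the alternating property can be tested on the standard basis -/
theorem alt_of_basis {X : Submodule F (l ⊕ l → F)} {A : Matrix (l ⊕ l) (l ⊕ l) F} (hA : InvS X A)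
    (h : ∀ a, om (A *ᵥ Pi.single a 1) (Pi.single a (1 : F)) = 0) (v : l ⊕ l → F) :
    om (A *ᵥ v) v = 0 := by
  have key : ∀ s : Finset (l ⊕ l), om (A *ᵥ (∑ a ∈ s, v a • Pi.single a (1 : F)))
      (∑ a ∈ s, v a • Pi.single a (1 : F)) = 0 := by
    intro s
    induction s using Finset.induction_on with
    | empty => rw [Finset.sum_empty, om_zero_right]
    | insert a s ha ih =>
      rw [Finset.sum_insert ha, hA.lam_add, hA.lam_smul, h, ih]
      ring
  have hv : v = ∑ a, v a • Pi.single a (1 : F) := by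
    ext b
    simp [Finset.sum_apply, Pi.single_apply]
  have h1 := key Finset.univ
  rwa [← hv] at h1

theorem invS_UB (h2 : (2 : F) = 0) {D : Matrix l l F} (hD : Dᵀ = D) :
    InvS (⊥ : Submodule F (l ⊕ l → F)) (UB D) :=
  ⟨mem_symplectic_iff_om.mp (UB_mem hD), UB_sq h2 D, fun z hz => by
    rw [(Submodule.mem_bot F).mp hz, mulVec_zero]⟩

theorem UB_alt (h2 : (2 : F) = 0) {D : Matrix l l F} (hD : Dᵀ = D) (hdiag : ∀ j, D j j = 0)
    (v : l ⊕ l → F) : om v (UB D *ᵥ v) = 0 := by
  rw [om_swap]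
  rw [alt_of_basis (invS_UB h2 hD) _ v, neg_zero]
  rintro (j | j)
  · rw [UB_lam, lam_NB_inl]
  · rw [UB_lam, lam_NB_inr, hdiag, neg_zero]

theorem UB_lam_inr (D : Matrix l l F) (j : l) :
    om (Pi.single (Sum.inr j) (1 : F)) (UB D *ᵥ Pi.single (Sum.inr j) 1) = D j j := by
  rw [om_swap, UB_lam, lam_NB_inr, neg_neg]

/-- the model involution attached to a symmetric matrix -/
def mdl {D : Matrix l l F} (hD : Dᵀ = D) : symplecticGroup l F := ⟨UB D, UB_mem hD⟩

theorem mdl_sq (h2 : (2 : F) = 0) {D : Matrix l l F} (hD : Dᵀ = D) : mdl hD * mdl hD = 1 :=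
  Subtype.ext (UB_sq h2 D)

theorem mdl_rank {D : Matrix l l F} (hD : Dᵀ = D) : ((mdl hD).1 - 1).rank = D.rank := by
  show (UB D - 1).rank = D.rank
  rw [UB_sub_one, rank_NB]

theorem sub_one_rank_one : (((1 : symplecticGroup l F) : Matrix (l ⊕ l) (l ⊕ l) F) - 1).rank = 0 := by
  show ((1 : Matrix (l ⊕ l) (l ⊕ l) F) - 1).rank = 0
  rw [sub_self, Matrix.rank_zero]

theorem mdl_order (h2 : (2 : F) = 0) {D : Matrix l l F} (hD : Dᵀ = D) (hr : D.rank ≠ 0) :
    orderOf (mdl hD) = 2 := by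
  apply orderOf_eq_prime
  · rw [sq]; exact mdl_sq h2 hD
  · intro h
    apply hr
    rw [← mdl_rank hD, h]
    exact sub_one_rank_one

theorem sq_of_order {g : symplecticGroup l F} (h : orderOf g = 2) : g * g = 1 ∧ g ≠ 1 := by
  constructor
  · have h1 := pow_orderOf_eq_one g
    rwa [h, sq] at h1
  · intro h1
    rw [h1, orderOf_one] at h
    norm_num at h

theorem invS_of_sq {c : symplecticGroup l F} (hc : c * c = 1) :
    InvS (⊥ : Submodule F (l ⊕ l → F)) (c : Matrix (l ⊕ l) (l ⊕ l) F) :=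
  ⟨mem_symplectic_iff_om.mp c.2, congrArg Subtype.val hc, fun z hz => by
    rw [(Submodule.mem_bot F).mp hz, mulVec_zero]⟩

theorem rank_isConj {a b : symplecticGroup l F} (h : IsConj a b) :
    ((a : Matrix (l ⊕ l) (l ⊕ l) F) - 1).rank = ((b : Matrix (l ⊕ l) (l ⊕ l) F) - 1).rank := by
  obtain ⟨c, hc⟩ := isConj_iff.mp h
  have h1 : (c : Matrix (l ⊕ l) (l ⊕ l) F) * (c⁻¹).1 = 1 := congrArg Subtype.val (mul_inv_cancel c)
  have hb : b.1 = c.1 * a.1 * (c⁻¹).1 := by rw [← hc]; rfl
  rw [hb, rank_conj' _ _ _ h1]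

theorem alt_isConj {a b : symplecticGroup l F} (h : IsConj a b)
    (ha : ∀ v, om v ((a : Matrix (l ⊕ l) (l ⊕ l) F) *ᵥ v) = 0) (v : l ⊕ l → F) :
    om v ((b : Matrix (l ⊕ l) (l ⊕ l) F) *ᵥ v) = 0 := by
  obtain ⟨c, hc⟩ := isConj_iff.mp h
  have hP : PresS (c⁻¹).1 := mem_symplectic_iff_om.mp (c⁻¹).2
  have h1 : (c⁻¹).1 * (c : Matrix (l ⊕ l) (l ⊕ l) F) = 1 := congrArg Subtype.val (inv_mul_cancel c)
  have hb : b.1 = c.1 * a.1 * (c⁻¹).1 := by rw [← hc]; rfl
  rw [← hP v (b.1 *ᵥ v), hb, mulVec_mulVec, ← Matrix.mul_assoc, ← Matrix.mul_assoc, h1,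
    Matrix.one_mul, ← mulVec_mulVec]
  exact ha _

theorem InvS.rank_le (h2 : (2 : F) = 0) {X : Submodule F (l ⊕ l → F)}
    {A : Matrix (l ⊕ l) (l ⊕ l) F} (hA : InvS X A) :
    2 * (A - 1).rank ≤ Fintype.card (l ⊕ l) := by
  have h1 : LinearMap.range (A - 1).mulVecLin ≤ LinearMap.ker (A - 1).mulVecLin := by
    rintro _ ⟨y, rfl⟩
    rw [LinearMap.mem_ker, Matrix.mulVecLin_apply, Matrix.mulVecLin_apply]
    exact hA.NN h2 y
  have h3 := Submodule.finrank_mono h1
  have h4 := rank_add_nul' (A - 1)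
  have h5 : finrank F (LinearMap.range (A - 1).mulVecLin) = (A - 1).rank := rfl
  omega

theorem even_rank_of_alt (h2 : (2 : F) = 0) : ∀ (n : ℕ) (A : Matrix (l ⊕ l) (l ⊕ l) F),
    InvS (⊥ : Submodule F (l ⊕ l → F)) A →
    (∀ v ∈ perpS (⊥ : Submodule F (l ⊕ l → F)), om (A *ᵥ v) v = 0) → (A - 1).rank = n →
    Even n := by
  intro n
  induction n using Nat.strong_induction_on with
  | _ n ih =>
  intro A hA halt hr
  by_cases hA1 : A = 1
  · rw [hA1, sub_self, Matrix.rank_zero] at hr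
    rw [← hr]
    exact ⟨0, rfl⟩
  · obtain ⟨w1, u1, w2, u2, A', -, -, -, -, -, -, -, -, -, -, hInv, -, hrk, halt'⟩ :=
      peelA h2 (by rw [perpS_bot]; exact nonDegS_top) hA halt hA1
    have h1 := ih ((A' - 1).rank) (by omega) A' (hInv.mono bot_le) halt' rfl
    rw [← hr, ← hrk]
    exact h1.add even_two

/-! ### the explicit models over `Fin m` -/

section models

variable (F) (m : ℕ)

/-- diagonal matrix with `r` ones -/
def dg (r : ℕ) : Matrix (Fin m) (Fin m) F := diagonal (fun i => if i.val < r then 1 else 0)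

/-- antidiagonal matrix of size `2k` -/
def ad (k : ℕ) : Matrix (Fin m) (Fin m) F :=
  of fun i j => if i.val + j.val + 1 = 2 * k then 1 else 0

theorem dg_transpose (r : ℕ) : (dg F m r)ᵀ = dg F m r := diagonal_transpose _

theorem ad_transpose (k : ℕ) : (ad F m k)ᵀ = ad F m k := by
  ext i j
  simp only [ad, transpose_apply, of_apply]
  rw [add_comm j.val i.val]

theorem ad_diag (k : ℕ) (i : Fin m) : ad F m k i i = 0 := by
  simp only [ad, of_apply]
  rw [if_neg (by omega)]

variable {m}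

theorem rank_dg {r : ℕ} (hr : r ≤ m) : (dg F m r).rank = r := by
  classical
  unfold dg
  rw [rank_diagonal]
  refine (Fintype.card_congr (Equiv.subtypeEquivRight ?_)).trans (Fintype.card_fin_lt_of_le hr)
  intro i
  by_cases h : i.val < r <;> simp [h]

/-- reversal of the first `2k` indices -/
def rev (k : ℕ) (hk : 2 * k ≤ m) (i : Fin m) : Fin m :=
  ⟨if i.val < 2 * k then 2 * k - 1 - i.val else i.val, by
    have := i.2
    split_ifs <;> omega⟩

theorem rev_val_lt {k : ℕ} (hk : 2 * k ≤ m) {i : Fin m} (hi : i.val < 2 * k) :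
    (rev k hk i).val = 2 * k - 1 - i.val := by
  show (if i.val < 2 * k then 2 * k - 1 - i.val else i.val) = _
  rw [if_pos hi]

theorem rev_val_ge {k : ℕ} (hk : 2 * k ≤ m) {i : Fin m} (hi : ¬ i.val < 2 * k) :
    (rev k hk i).val = i.val := by
  show (if i.val < 2 * k then 2 * k - 1 - i.val else i.val) = _
  rw [if_neg hi]

theorem rev_rev {k : ℕ} (hk : 2 * k ≤ m) (i : Fin m) : rev k hk (rev k hk i) = i := by
  apply Fin.ext
  by_cases hi : i.val < 2 * k
  · have h1 := rev_val_lt hk hi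
    have h3 : (rev k hk i).val < 2 * k := by omega
    rw [rev_val_lt hk h3]
    omega
  · have h1 := rev_val_ge hk hi
    have h3 : ¬ (rev k hk i).val < 2 * k := by omega
    rw [rev_val_ge hk h3]
    exact h1

theorem ad_eq {k : ℕ} (hk : 2 * k ≤ m) :
    ad F m k = (dg F m (2 * k)).submatrix (rev k hk) id := by
  ext i j
  simp only [ad, dg, submatrix_apply, diagonal_apply, of_apply, id]
  by_cases hi : i.val < 2 * k
  · have h1 := rev_val_lt hk hi
    by_cases h : i.val + j.val + 1 = 2 * k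
    · have h3 : rev k hk i = j := Fin.ext (by omega)
      rw [if_pos h, if_pos h3, if_pos (by omega)]
    · have h3 : rev k hk i ≠ j := fun h3 => h (by rw [← h3]; omega)
      rw [if_neg h, if_neg h3]
  · have h1 := rev_val_ge hk hi
    rw [if_neg (by omega)]
    by_cases h3 : rev k hk i = j
    · rw [if_pos h3, if_neg (by omega)]
    · rw [if_neg h3]

theorem rank_ad {k : ℕ} (hk : 2 * k ≤ m) : (ad F m k).rank = 2 * k := by
  have h1 := rank_submatrix (dg F m (2 * k))
    (Function.Involutive.toPerm (rev k hk) (rev_rev hk)) (Equiv.refl _)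
  rw [ad_eq F hk]
  exact h1.trans (rank_dg F hk)

variable (m)

/-- non-alternating model of rank `r` -/
def nb (r : ℕ) : symplecticGroup (Fin m) F := mdl (dg_transpose F m r)

/-- alternating model of rank `2k` -/
def na (k : ℕ) : symplecticGroup (Fin m) F := mdl (ad_transpose F m k)

variable {m}

theorem nb_rank {r : ℕ} (hr : r ≤ m) :
    (((nb F m r) : Matrix (Fin m ⊕ Fin m) (Fin m ⊕ Fin m) F) - 1).rank = r := by
  unfold nb
  rw [mdl_rank, rank_dg F hr]

theorem na_rank {k : ℕ} (hk : 2 * k ≤ m) :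
    (((na F m k) : Matrix (Fin m ⊕ Fin m) (Fin m ⊕ Fin m) F) - 1).rank = 2 * k := by
  unfold na
  rw [mdl_rank, rank_ad F hk]

theorem nb_order (h2 : (2 : F) = 0) {r : ℕ} (hr1 : 1 ≤ r) (hr : r ≤ m) :
    orderOf (nb F m r) = 2 := by
  unfold nb
  apply mdl_order h2
  rw [rank_dg F hr]
  omega

theorem na_order (h2 : (2 : F) = 0) {k : ℕ} (hk1 : 1 ≤ k) (hk : 2 * k ≤ m) :
    orderOf (na F m k) = 2 := by
  unfold na
  apply mdl_order h2
  rw [rank_ad F hk]
  omega

theorem na_alt (h2 : (2 : F) = 0) (k : ℕ) (v : Fin m ⊕ Fin m → F) :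
    om v (((na F m k) : Matrix (Fin m ⊕ Fin m) (Fin m ⊕ Fin m) F) *ᵥ v) = 0 :=
  UB_alt h2 (ad_transpose F m k) (ad_diag F m k) v

theorem nb_nonalt {r : ℕ} (hr1 : 1 ≤ r) (hm : 1 ≤ m) :
    ¬ ∀ v, om v (((nb F m r) : Matrix (Fin m ⊕ Fin m) (Fin m ⊕ Fin m) F) *ᵥ v) = 0 := by
  intro h
  have h1 := h (Pi.single (Sum.inr ⟨0, hm⟩) 1)
  have h3 : ((nb F m r) : Matrix (Fin m ⊕ Fin m) (Fin m ⊕ Fin m) F) = UB (dg F m r) := rfl
  rw [h3, UB_lam_inr] at h1
  simp only [dg, diagonal_apply_eq] at h1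
  rw [if_pos (by omega)] at h1
  exact one_ne_zero h1

end models

/-- the number of classes of involutions -/
theorem class_count [Finite F] (h2 : (2 : F) = 0) {m : ℕ} (hm : 1 ≤ m) :
    Nat.card {C : ConjClasses ↥(symplecticGroup (Fin m) F) //
      ∃ g : symplecticGroup (Fin m) F, ConjClasses.mk g = C ∧ orderOf g = 2} = m + m / 2 := by
  have hcardV : Fintype.card (Fin m ⊕ Fin m) = m + m := by
    rw [Fintype.card_sum, Fintype.card_fin]
  have haltiff : ∀ c : symplecticGroup (Fin m) F,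
      (∀ v ∈ perpS (⊥ : Submodule F (Fin m ⊕ Fin m → F)),
        om ((c : Matrix (Fin m ⊕ Fin m) (Fin m ⊕ Fin m) F) *ᵥ v) v = 0) ↔
        ∀ v, om v ((c : Matrix (Fin m ⊕ Fin m) (Fin m ⊕ Fin m) F) *ᵥ v) = 0 := by
    intro c
    constructor
    · intro h v
      rw [om_swap, h v (by rw [perpS_bot]; exact Submodule.mem_top), neg_zero]
    · intro h v _
      rw [om_swap, h v, neg_zero]
  let Ψ : Fin m ⊕ Fin (m / 2) → {C : ConjClasses ↥(symplecticGroup (Fin m) F) //
      ∃ g : symplecticGroup (Fin m) F, ConjClasses.mk g = C ∧ orderOf g = 2} :=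
    Sum.elim
      (fun i => ⟨ConjClasses.mk (nb F m (i.val + 1)), nb F m (i.val + 1), rfl,
        nb_order F h2 (by omega) (by have := i.2; omega)⟩)
      (fun j => ⟨ConjClasses.mk (na F m (j.val + 1)), na F m (j.val + 1), rfl,
        na_order F h2 (by omega) (by have := j.2; omega)⟩)
  have hinj : Function.Injective Ψ := by
    rintro (i | j) (i' | j') h
    · have h1 : IsConj (nb F m (i.val + 1)) (nb F m (i'.val + 1)) :=
        ConjClasses.mk_eq_mk_iff_isConj.mp (congrArg Subtype.val h)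
      have h3 := rank_isConj h1
      rw [nb_rank F (by have := i.2; omega), nb_rank F (by have := i'.2; omega)] at h3
      exact congrArg Sum.inl (Fin.ext (by omega))
    · exfalso
      have h1 : IsConj (nb F m (i.val + 1)) (na F m (j'.val + 1)) :=
        ConjClasses.mk_eq_mk_iff_isConj.mp (congrArg Subtype.val h)
      exact nb_nonalt F (by omega) hm (alt_isConj h1.symm (na_alt F h2 _))
    · exfalso
      have h1 : IsConj (na F m (j.val + 1)) (nb F m (i'.val + 1)) :=
        ConjClasses.mk_eq_mk_iff_isConj.mp (congrArg Subtype.val h)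
      exact nb_nonalt F (by omega) hm (alt_isConj h1 (na_alt F h2 _))
    · have h1 : IsConj (na F m (j.val + 1)) (na F m (j'.val + 1)) :=
        ConjClasses.mk_eq_mk_iff_isConj.mp (congrArg Subtype.val h)
      have h3 := rank_isConj h1
      rw [na_rank F (by have := j.2; omega), na_rank F (by have := j'.2; omega)] at h3
      exact congrArg Sum.inr (Fin.ext (by omega))
  have hsurj : Function.Surjective Ψ := by
    rintro ⟨C, g, hgC, hord⟩
    obtain ⟨hgg, hg1⟩ := sq_of_order hord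
    have hInv := invS_of_sq hgg
    have hle := hInv.rank_le h2
    rw [hcardV] at hle
    have hpos : ((g : Matrix (Fin m ⊕ Fin m) (Fin m ⊕ Fin m) F) - 1).rank ≠ 0 := by
      apply rank_pos_of_ne_zero'
      intro h0
      apply hg1
      apply Subtype.ext
      exact sub_eq_zero.mp h0
    obtain ⟨r, hr⟩ : ∃ r, r = ((g : Matrix (Fin m ⊕ Fin m) (Fin m ⊕ Fin m) F) - 1).rank := ⟨_, rfl⟩
    rw [← hr] at hle hpos
    by_cases halt : ∀ v, om v ((g : Matrix (Fin m ⊕ Fin m) (Fin m ⊕ Fin m) F) *ᵥ v) = 0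
    · have hev : Even r := even_rank_of_alt h2 r _ hInv ((haltiff g).mpr halt) hr.symm
      obtain ⟨t, ht⟩ := hev
      have hj : t - 1 < m / 2 := by omega
      have hconj : IsConj g (na F m ((t - 1) + 1)) := by
        apply conj_of_rank_type h2 hgg
        · have h5 := na_order F h2 (k := (t - 1) + 1) (m := m) (by omega) (by omega)
          exact (sq_of_order h5).1
        · rw [na_rank F (by omega), ← hr]
          omega
        · exact iff_of_true halt (na_alt F h2 _)
      refine ⟨Sum.inr ⟨t - 1, hj⟩, ?_⟩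
      apply Subtype.ext
      show ConjClasses.mk (na F m ((t - 1) + 1)) = C
      rw [← hgC]
      exact (ConjClasses.mk_eq_mk_iff_isConj.mpr hconj).symm
    · have hi : r - 1 < m := by omega
      have hconj : IsConj g (nb F m ((r - 1) + 1)) := by
        apply conj_of_rank_type h2 hgg
        · have h5 := nb_order F h2 (r := (r - 1) + 1) (m := m) (by omega) (by omega)
          exact (sq_of_order h5).1
        · rw [nb_rank F (by omega), ← hr]
          omega
        · exact iff_of_false halt (nb_nonalt F (by omega) hm)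
      refine ⟨Sum.inl ⟨r - 1, hi⟩, ?_⟩
      apply Subtype.ext
      show ConjClasses.mk (nb F m ((r - 1) + 1)) = C
      rw [← hgC]
      exact (ConjClasses.mk_eq_mk_iff_isConj.mpr hconj).symm
  rw [← Nat.card_congr (Equiv.ofBijective Ψ ⟨hinj, hsurj⟩), Nat.card_eq_fintype_card,
    Fintype.card_sum, Fintype.card_fin, Fintype.card_fin]

end Cfsg.Agent.Helper2.Sp
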