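import Mathlib
import Cfsg.Agent.Helper2.OInvA
import Cfsg.Agent.Helper2.SpInvolCount
import Cfsg.Agent.Helper28.SympFrame

set_option autoImplicit false
set_option linter.unusedSectionVars false

/-! Characteristic two: involutions of `O(Q)` are classified by rank and type (transport to the
symplectic classification through a symplectic frame of the polar form). -/

namespace Cfsg.Agent.Helper2.OInv

open Matrix Module Cfsg.Agent.Helper28.QWitt Cfsg.Agent.Helper28.IsoTransport Cfsg.Agent.Helper2.Sp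

/-- generic: classes of involutions are counted by a complete irredundant list of representatives -/
theorem card_classes_of_reps {G : Type*} [Group G] {L : Type*} [Fintype L] (reps : L → G)
    (hord : ∀ i, orderOf (reps i) = 2) (hinj : ∀ i j, IsConj (reps i) (reps j) → i = j)
    (hsurj : ∀ g : G, orderOf g = 2 → ∃ i, IsConj g (reps i)) :
    Nat.card {C : ConjClasses G // ∃ g : G, ConjClasses.mk g = C ∧ orderOf g = 2} =
      Fintype.card L := by
  let Ψ : L → {C : ConjClasses G // ∃ g : G, ConjClasses.mk g = C ∧ orderOf g = 2} :=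
    fun i => ⟨ConjClasses.mk (reps i), reps i, rfl, hord i⟩
  have h1 : Function.Injective Ψ := by
    intro i j h
    exact hinj i j (ConjClasses.mk_eq_mk_iff_isConj.mp (congrArg Subtype.val h))
  have h2 : Function.Surjective Ψ := by
    rintro ⟨C, g, hgC, hg⟩
    obtain ⟨i, hi⟩ := hsurj g hg
    refine ⟨i, ?_⟩
    apply Subtype.ext
    show ConjClasses.mk (reps i) = C
    rw [← hgC]
    exact (ConjClasses.mk_eq_mk_iff_isConj.mpr hi).symm
  rw [← Nat.card_congr (Equiv.ofBijective Ψ ⟨h1, h2⟩), Nat.card_eq_fintype_card]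

variable {F : Type*} [Field F] {ι : Type} [Fintype ι] [DecidableEq ι] (Q : QuadraticForm F (ι → F))

theorem mat_ext2 {κ : Type*} [Fintype κ] [DecidableEq κ] {α : Type*} {A B : Matrix α κ F}
    (h : ∀ x, A *ᵥ x = B *ᵥ x) : A = B := by
  ext i j
  have := congrFun (h (Pi.single j 1)) i
  simpa using this

theorem exists_sframe (h2 : (2 : F) = 0) (hQ : (QuadraticMap.polarBilin Q).Nondegenerate)
    {k : ℕ} (hcard : Fintype.card ι = 2 * k) :
    ∃ (Φ : Matrix ι (Fin k ⊕ Fin k) F) (Φ' : Matrix (Fin k ⊕ Fin k) ι F),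
      Φ * Φ' = 1 ∧ Φ' * Φ = 1 ∧ ∀ x y, P Q (Φ *ᵥ x) (Φ *ᵥ y) = om x y := by
  have hA : (QuadraticMap.polarBilin Q).IsAlt := by
    intro v
    show P Q v v = 0
    rw [P_self, h2, zero_mul]
  have hfr : finrank F (⊤ : Submodule F (ι → F)) = 2 * k := by
    rw [finrank_top, Module.finrank_fintype_fun_eq_card, hcard]
  obtain ⟨e, f, -, -, hee, hff, hef⟩ :=
    Cfsg.Agent.Helper28.SympFrame.exists_alt_frame (QuadraticMap.polarBilin Q) hA k ⊤ hfr
      (fun u _ hu => hQ.1 u (fun v => hu v Submodule.mem_top))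
  have hee' : ∀ i i', P Q (e i) (e i') = 0 := hee
  have hff' : ∀ i i', P Q (f i) (f i') = 0 := hff
  have hef' : ∀ i i', P Q (e i) (f i') = if i = i' then 1 else 0 := hef
  have hfe' : ∀ i i', P Q (f i) (e i') = if i = i' then 1 else 0 := by
    intro i i'
    rw [P_comm, hef']
    simp only [eq_comm]
  let u : Fin k ⊕ Fin k → (ι → F) := Sum.elim e f
  let Φ : Matrix ι (Fin k ⊕ Fin k) F := Matrix.of (fun a b => u b a)
  have hΦ : ∀ x, Φ *ᵥ x = ∑ b, x b • u b := by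
    intro x
    funext a
    simp only [Matrix.mulVec, dotProduct, Finset.sum_apply, Pi.smul_apply, smul_eq_mul, Φ,
      Matrix.of_apply]
    apply Finset.sum_congr rfl
    intro b _
    ring
  have hneg : ∀ a : F, -a = a := fun a =>
    neg_eq_of_add_eq_zero_left (by rw [← two_mul, h2, zero_mul])
  have hL : ∀ (x : Fin k ⊕ Fin k → F) (y : ι → F),
      P Q (∑ b, x b • u b) y = ∑ b, x b * P Q (u b) y := by
    intro x y
    show QuadraticMap.polarBilin Q (∑ b, x b • u b) y = _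
    rw [map_sum, LinearMap.sum_apply]
    apply Finset.sum_congr rfl
    intro b _
    rw [map_smul, LinearMap.smul_apply, smul_eq_mul]
    rfl
  have hR : ∀ (z : ι → F) (y : Fin k ⊕ Fin k → F),
      P Q z (∑ b, y b • u b) = ∑ b, y b * P Q z (u b) := by
    intro z y
    show QuadraticMap.polarBilin Q z (∑ b, y b • u b) = _
    rw [map_sum]
    apply Finset.sum_congr rfl
    intro b _
    rw [map_smul, smul_eq_mul]
    rfl
  have hP : ∀ x y, P Q (Φ *ᵥ x) (Φ *ᵥ y) = om x y := by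
    intro x y
    rw [hΦ, hΦ, hL]
    simp only [hR]
    rw [om_eq_sum]
    simp only [Fintype.sum_sum_type, u, Sum.elim_inl, Sum.elim_inr, hee', hff', hef', hfe',
      mul_zero, Finset.sum_const_zero, zero_add, add_zero, mul_ite, mul_one,
      Finset.sum_ite_eq, Finset.mem_univ, if_true]
    rw [← Finset.sum_add_distrib]
    apply Finset.sum_congr rfl
    intro i _
    rw [sub_eq_add_neg, hneg]
    ring
  have hinj : Function.Injective (Matrix.mulVecLin Φ) := by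
    rw [injective_iff_map_eq_zero]
    intro x hx
    by_contra hx0
    obtain ⟨y, hy⟩ := exists_om_ne_zero hx0
    apply hy
    rw [← hP]
    rw [Matrix.mulVecLin_apply] at hx
    rw [hx]
    exact QuadraticMap.polar_zero_left _ _
  have hfin : finrank F (Fin k ⊕ Fin k → F) = finrank F (ι → F) := by
    rw [Module.finrank_fintype_fun_eq_card, Module.finrank_fintype_fun_eq_card, hcard,
      Fintype.card_sum, Fintype.card_fin]
    ring
  have hsurj := (LinearMap.injective_iff_surjective_of_finrank_eq_finrank hfin).1 hinj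
  let E := LinearEquiv.ofBijective (Matrix.mulVecLin Φ) ⟨hinj, hsurj⟩
  refine ⟨Φ, LinearMap.toMatrix' E.symm.toLinearMap, ?_, ?_, hP⟩
  · apply mat_ext2
    intro v
    rw [← Matrix.mulVec_mulVec, LinearMap.toMatrix'_mulVec, Matrix.one_mulVec]
    exact E.apply_symm_apply v
  · apply mat_ext2
    intro x
    rw [← Matrix.mulVec_mulVec, LinearMap.toMatrix'_mulVec, Matrix.one_mulVec]
    exact E.symm_apply_apply x

theorem transport {k : ℕ} (Φ : Matrix ι (Fin k ⊕ Fin k) F) (Φ' : Matrix (Fin k ⊕ Fin k) ι F)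
    (h1 : Φ * Φ' = 1) (h1' : Φ' * Φ = 1) (hP : ∀ x y, P Q (Φ *ᵥ x) (Φ *ᵥ y) = om x y)
    (T : Matrix ι ι F) (hT : ∀ v, Q (T *ᵥ v) = Q v) (hTT : T * T = 1) :
    (Φ' * T * Φ) ∈ symplecticGroup (Fin k) F ∧ (Φ' * T * Φ) * (Φ' * T * Φ) = 1 ∧
    (Φ' * T * Φ - 1).rank = (T - 1).rank ∧
    ((∀ v, om v ((Φ' * T * Φ) *ᵥ v) = 0) ↔ ∀ w, P Q w (T *ᵥ w) = 0) := by
  have hΦA : Φ * (Φ' * T * Φ) = T * Φ := by
    rw [← Matrix.mul_assoc, ← Matrix.mul_assoc, h1, Matrix.one_mul]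
  have hΦAv : ∀ v, Φ *ᵥ ((Φ' * T * Φ) *ᵥ v) = T *ᵥ (Φ *ᵥ v) := by
    intro v
    rw [Matrix.mulVec_mulVec, hΦA, ← Matrix.mulVec_mulVec]
  refine ⟨?_, ?_, ?_, ?_⟩
  · rw [mem_symplectic_iff_om]
    intro x y
    rw [← hP, hΦAv, hΦAv, P_mulVec Q T hT, hP]
  · calc Φ' * T * Φ * (Φ' * T * Φ) = Φ' * T * (Φ * Φ') * T * Φ := by
          simp only [Matrix.mul_assoc]
      _ = 1 := by
          rw [h1, Matrix.mul_one, Matrix.mul_assoc Φ' T T, hTT, Matrix.mul_one, h1']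
  · have hsub : Φ' * T * Φ - 1 = Φ' * (T - 1) * Φ := by
      rw [Matrix.mul_sub, Matrix.sub_mul, Matrix.mul_one, h1']
    have hsub' : T - 1 = Φ * (Φ' * (T - 1) * Φ) * Φ' := by
      rw [← Matrix.mul_assoc, ← Matrix.mul_assoc, h1, Matrix.one_mul, Matrix.mul_assoc, h1,
        Matrix.mul_one]
    apply le_antisymm
    · rw [hsub]
      exact (Matrix.rank_mul_le_left _ _).trans (Matrix.rank_mul_le_right _ _)
    · rw [hsub]
      conv_lhs => rw [hsub']
      exact (Matrix.rank_mul_le_left _ _).trans (Matrix.rank_mul_le_right _ _)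
  · constructor
    · intro h w
      have hw : w = Φ *ᵥ (Φ' *ᵥ w) := by
        rw [Matrix.mulVec_mulVec, h1, Matrix.one_mulVec]
      rw [hw, ← hΦAv, hP]
      exact h _
    · intro h v
      rw [← hP, hΦAv]
      exact h _

theorem rank_conj (A B M : Matrix ι ι F) (hAB : A * B = 1) :
    (A * M * B - 1).rank = (M - 1).rank := by
  have hdetA : IsUnit A.det := by
    have h1 := congrArg Matrix.det hAB
    rw [det_mul, det_one] at h1
    exact IsUnit.of_mul_eq_one _ h1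
  have hdetB : IsUnit B.det := by
    have h1 := congrArg Matrix.det hAB
    rw [det_mul, det_one, mul_comm] at h1
    exact IsUnit.of_mul_eq_one _ h1
  have h2 : A * M * B - 1 = A * (M - 1) * B := by
    rw [Matrix.mul_sub, Matrix.sub_mul, Matrix.mul_one, hAB]
  rw [h2, Matrix.rank_mul_eq_left_of_isUnit_det _ _ hdetB,
    Matrix.rank_mul_eq_right_of_isUnit_det _ _ hdetA]

/-- the matrix of an element of `O(Q)` -/
abbrev mt (t : ↥(Cfsg.isometryGroup F ⇑Q)) : Matrix ι ι F := ((t : GL ι F) : Matrix ι ι F)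

theorem mt_isom (t : ↥(Cfsg.isometryGroup F ⇑Q)) (v : ι → F) : Q (mt Q t *ᵥ v) = Q v :=
  (mem_isometryGroup_iff _ _).1 t.2 v

theorem mt_mul (t s : ↥(Cfsg.isometryGroup F ⇑Q)) : mt Q (t * s) = mt Q t * mt Q s := rfl

theorem mt_one : mt Q (1 : ↥(Cfsg.isometryGroup F ⇑Q)) = 1 := rfl

theorem mt_mul_inv (t : ↥(Cfsg.isometryGroup F ⇑Q)) : mt Q t * mt Q t⁻¹ = 1 := by
  rw [← mt_mul, mul_inv_cancel, mt_one]

theorem mt_inv_mul (t : ↥(Cfsg.isometryGroup F ⇑Q)) : mt Q t⁻¹ * mt Q t = 1 := by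
  rw [← mt_mul, inv_mul_cancel, mt_one]

theorem mt_injective : Function.Injective (mt Q) := by
  intro a b h
  apply Subtype.ext
  apply Units.ext
  exact h

/-- `Q` vanishes on the image of `t - 1` -/
def IsAltO (t : ↥(Cfsg.isometryGroup F ⇑Q)) : Prop := ∀ v, Q ((mt Q t - 1) *ᵥ v) = 0

theorem isAltO_iff (h2 : (2 : F) = 0) (t : ↥(Cfsg.isometryGroup F ⇑Q)) :
    IsAltO Q t ↔ ∀ w, P Q w (mt Q t *ᵥ w) = 0 := by
  unfold IsAltO
  constructor
  · intro h w
    rw [← Q_sub_self Q h2 _ (mt_isom Q t)]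
    have := h w
    rwa [Matrix.sub_mulVec, Matrix.one_mulVec] at this
  · intro h w
    rw [Matrix.sub_mulVec, Matrix.one_mulVec, Q_sub_self Q h2 _ (mt_isom Q t)]
    exact h w

theorem rank_isConjO {t s : ↥(Cfsg.isometryGroup F ⇑Q)} (h : IsConj t s) :
    (mt Q t - 1).rank = (mt Q s - 1).rank := by
  obtain ⟨c, hc⟩ := isConj_iff.mp h
  have hb : mt Q s = mt Q c * mt Q t * mt Q c⁻¹ := by rw [← hc]; rfl
  rw [hb, rank_conj _ _ _ (mt_mul_inv Q c)]

theorem alt_isConjO {t s : ↥(Cfsg.isometryGroup F ⇑Q)} (h : IsConj t s) (ha : IsAltO Q t) :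
    IsAltO Q s := by
  obtain ⟨c, hc⟩ := isConj_iff.mp h
  have hb : mt Q s = mt Q c * mt Q t * mt Q c⁻¹ := by rw [← hc]; rfl
  intro v
  have e : mt Q s - 1 = mt Q c * (mt Q t - 1) * mt Q c⁻¹ := by
    rw [hb, Matrix.mul_sub, Matrix.sub_mul, Matrix.mul_one, mt_mul_inv]
  rw [e, ← Matrix.mulVec_mulVec, ← Matrix.mulVec_mulVec, mt_isom]
  exact ha _

theorem sq_zero_of_sq_one (h2 : (2 : F) = 0) (T : Matrix ι ι F) (hTT : T * T = 1) :
    (T - 1) * (T - 1) = 0 := by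
  rw [Matrix.mul_sub, Matrix.sub_mul, Matrix.sub_mul, hTT, Matrix.one_mul, Matrix.mul_one,
    Matrix.one_mul]
  have : (1 : Matrix ι ι F) - T - (T - 1) = (2 : F) • (1 - T) := by
    rw [two_smul]; abel
  rw [this, h2, zero_smul]

theorem two_rank_le (h2 : (2 : F) = 0) (T : Matrix ι ι F) (hTT : T * T = 1) :
    2 * (T - 1).rank ≤ Fintype.card ι := by
  have h1 : LinearMap.range (T - 1).mulVecLin ≤ LinearMap.ker (T - 1).mulVecLin := by
    rintro _ ⟨y, rfl⟩
    rw [LinearMap.mem_ker, Matrix.mulVecLin_apply, Matrix.mulVecLin_apply, Matrix.mulVec_mulVec,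
      sq_zero_of_sq_one h2 T hTT, Matrix.zero_mulVec]
  have h3 := Submodule.finrank_mono h1
  have h4 := LinearMap.finrank_range_add_finrank_ker (T - 1).mulVecLin
  rw [Module.finrank_fintype_fun_eq_card] at h4
  have h5 : finrank F (LinearMap.range (T - 1).mulVecLin) = (T - 1).rank := rfl
  omega

theorem sq_mt {t : ↥(Cfsg.isometryGroup F ⇑Q)} (ht : t * t = 1) : mt Q t * mt Q t = 1 := by
  rw [← mt_mul, ht, mt_one]

theorem isConj_of_rank_type [Finite F] (h2 : (2 : F) = 0)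
    (hQ : (QuadraticMap.polarBilin Q).Nondegenerate) {k : ℕ} (hcard : Fintype.card ι = 2 * k)
    (t s : ↥(Cfsg.isometryGroup F ⇑Q)) (ht : t * t = 1) (hs : s * s = 1)
    (hr : (mt Q t - 1).rank = (mt Q s - 1).rank) (hiff : IsAltO Q t ↔ IsAltO Q s) :
    IsConj t s := by
  obtain ⟨Φ, Φ', h1, h1', hP⟩ := exists_sframe Q h2 hQ hcard
  obtain ⟨ha1, ha2, ha3, ha4⟩ := transport Q Φ Φ' h1 h1' hP (mt Q t) (mt_isom Q t) (sq_mt Q ht)
  obtain ⟨hb1, hb2, hb3, hb4⟩ := transport Q Φ Φ' h1 h1' hP (mt Q s) (mt_isom Q s) (sq_mt Q hs)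
  have hconj : IsConj (⟨_, ha1⟩ : symplecticGroup (Fin k) F) ⟨_, hb1⟩ := by
    apply conj_of_rank_type h2
    · exact Subtype.ext ha2
    · exact Subtype.ext hb2
    · show (Φ' * mt Q t * Φ - 1).rank = (Φ' * mt Q s * Φ - 1).rank
      rw [ha3, hb3, hr]
    · show (∀ v, om v ((Φ' * mt Q t * Φ) *ᵥ v) = 0) ↔ (∀ v, om v ((Φ' * mt Q s * Φ) *ᵥ v) = 0)
      rw [ha4, hb4, ← isAltO_iff Q h2, ← isAltO_iff Q h2]
      exact hiff
  obtain ⟨c, hc⟩ := isConj_iff.mp hconj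
  have hc' : c.1 * (Φ' * mt Q t * Φ) * (c⁻¹).1 = Φ' * mt Q s * Φ := congrArg Subtype.val hc
  have hcc : c.1 * (c⁻¹).1 = 1 := congrArg Subtype.val (mul_inv_cancel c)
  have hcc' : (c⁻¹).1 * c.1 = 1 := congrArg Subtype.val (inv_mul_cancel c)
  have hg1 : (Φ * c.1 * Φ') * (Φ * (c⁻¹).1 * Φ') = 1 := by
    calc (Φ * c.1 * Φ') * (Φ * (c⁻¹).1 * Φ') = Φ * c.1 * (Φ' * Φ) * (c⁻¹).1 * Φ' := by
          simp only [Matrix.mul_assoc]
      _ = 1 := by rw [h1', Matrix.mul_one, Matrix.mul_assoc Φ, hcc, Matrix.mul_one, h1]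
  have hg2 : (Φ * (c⁻¹).1 * Φ') * (Φ * c.1 * Φ') = 1 := by
    calc (Φ * (c⁻¹).1 * Φ') * (Φ * c.1 * Φ') = Φ * (c⁻¹).1 * (Φ' * Φ) * c.1 * Φ' := by
          simp only [Matrix.mul_assoc]
      _ = 1 := by rw [h1', Matrix.mul_one, Matrix.mul_assoc Φ, hcc', Matrix.mul_one, h1]
  let g : GL ι F := ⟨Φ * c.1 * Φ', Φ * (c⁻¹).1 * Φ', hg1, hg2⟩
  have hcP : PresS c.1 := mem_symplectic_iff_om.mp c.2
  apply isConj_of_polar_conj Q h2 hQ t s g
  · intro u v
    show P Q ((Φ * c.1 * Φ') *ᵥ u) ((Φ * c.1 * Φ') *ᵥ v) = P Q u v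
    have e : ∀ w, (Φ * c.1 * Φ') *ᵥ w = Φ *ᵥ (c.1 *ᵥ (Φ' *ᵥ w)) := by
      intro w
      rw [Matrix.mulVec_mulVec, Matrix.mulVec_mulVec, Matrix.mul_assoc]
    rw [e, e, hP, hcP, ← hP, Matrix.mulVec_mulVec, Matrix.mulVec_mulVec, h1, Matrix.one_mulVec,
      Matrix.one_mulVec]
  · apply Units.ext
    show (Φ * c.1 * Φ') * mt Q t * (Φ * (c⁻¹).1 * Φ') = mt Q s
    calc (Φ * c.1 * Φ') * mt Q t * (Φ * (c⁻¹).1 * Φ')
        = Φ * (c.1 * (Φ' * mt Q t * Φ) * (c⁻¹).1) * Φ' := by simp only [Matrix.mul_assoc]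
      _ = mt Q s := by
          rw [hc', ← Matrix.mul_assoc, ← Matrix.mul_assoc, h1, Matrix.one_mul, Matrix.mul_assoc,
            h1, Matrix.mul_one]

theorem even_rank_of_altO (h2 : (2 : F) = 0)
    (hQ : (QuadraticMap.polarBilin Q).Nondegenerate) {k : ℕ} (hcard : Fintype.card ι = 2 * k)
    (t : ↥(Cfsg.isometryGroup F ⇑Q)) (ht : t * t = 1) (halt : IsAltO Q t) :
    Even (mt Q t - 1).rank := by
  obtain ⟨Φ, Φ', h1, h1', hP⟩ := exists_sframe Q h2 hQ hcard
  obtain ⟨ha1, ha2, ha3, ha4⟩ := transport Q Φ Φ' h1 h1' hP (mt Q t) (mt_isom Q t) (sq_mt Q ht)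
  have hInv := invS_of_sq (c := (⟨_, ha1⟩ : symplecticGroup (Fin k) F)) (Subtype.ext ha2)
  have h5 := even_rank_of_alt h2 _ _ hInv (by
    intro v _
    rw [om_swap, (ha4.2 ((isAltO_iff Q h2 t).1 halt)) v, neg_zero]) rfl
  rw [← ha3]
  exact h5

end Cfsg.Agent.Helper2.OInv
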