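import Mathlib
import Cfsg.Agent.Helper2.OInvB
import Cfsg.Agent.Helper28.Spin6
import Cfsg.Agent.Helper28.OrthSum

set_option autoImplicit false
set_option linter.unusedSectionVars false

/-! Characteristic two: the classes of involutions of `O⁺_{2m}(q)`. -/

namespace Cfsg.Agent.Helper2.OInv

open Matrix Module Cfsg.Agent.Helper28.QWitt Cfsg.Agent.Helper28.IsoTransport Cfsg.Agent.Helper2.Sp
  Cfsg.Agent.Helper28.Spin

section blocks

variable {F : Type*} [Field F] {ι₁ ι₂ : Type} [Fintype ι₁] [DecidableEq ι₁] [Fintype ι₂]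
  [DecidableEq ι₂]

theorem rank_fromBlocks_diag (A : Matrix ι₁ ι₁ F) (D : Matrix ι₂ ι₂ F) :
    (fromBlocks A 0 0 D).rank = A.rank + D.rank := by
  have hsplit : fromBlocks A 0 0 D = fromBlocks A 0 0 (0 : Matrix ι₂ ι₂ F) +
      fromBlocks (0 : Matrix ι₁ ι₁ F) 0 0 D := by
    rw [fromBlocks_add]; simp
  have hsup : LinearMap.range (fromBlocks A 0 0 D).mulVecLin =
      LinearMap.range (fromBlocks A 0 0 (0 : Matrix ι₂ ι₂ F)).mulVecLin ⊔
      LinearMap.range (fromBlocks (0 : Matrix ι₁ ι₁ F) 0 0 D).mulVecLin := by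
    apply le_antisymm
    · rintro _ ⟨y, rfl⟩
      rw [Submodule.mem_sup]
      refine ⟨_, ⟨y, rfl⟩, _, ⟨y, rfl⟩, ?_⟩
      rw [Matrix.mulVecLin_apply, Matrix.mulVecLin_apply, Matrix.mulVecLin_apply, hsplit,
        Matrix.add_mulVec]
    · apply sup_le
      · rintro _ ⟨y, rfl⟩
        refine ⟨Sum.elim (y ∘ Sum.inl) 0, ?_⟩
        rw [Matrix.mulVecLin_apply, Matrix.mulVecLin_apply, fromBlocks_mulVec, fromBlocks_mulVec]
        funext s
        rcases s with i | i <;> simp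
      · rintro _ ⟨y, rfl⟩
        refine ⟨Sum.elim 0 (y ∘ Sum.inr), ?_⟩
        rw [Matrix.mulVecLin_apply, Matrix.mulVecLin_apply, fromBlocks_mulVec, fromBlocks_mulVec]
        funext s
        rcases s with i | i <;> simp
  have hdisj : LinearMap.range (fromBlocks A 0 0 (0 : Matrix ι₂ ι₂ F)).mulVecLin ⊓
      LinearMap.range (fromBlocks (0 : Matrix ι₁ ι₁ F) 0 0 D).mulVecLin = ⊥ := by
    rw [eq_bot_iff]
    rintro v ⟨⟨y, hy⟩, ⟨y', hy'⟩⟩
    rw [Submodule.mem_bot]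
    rw [Matrix.mulVecLin_apply, fromBlocks_mulVec] at hy hy'
    funext s
    rcases s with i | i
    · have := congrFun hy' (Sum.inl i)
      simpa using this.symm
    · have := congrFun hy (Sum.inr i)
      simpa using this.symm
  have h1 := Submodule.finrank_sup_add_finrank_inf_eq
    (LinearMap.range (fromBlocks A 0 0 (0 : Matrix ι₂ ι₂ F)).mulVecLin)
    (LinearMap.range (fromBlocks (0 : Matrix ι₁ ι₁ F) 0 0 D).mulVecLin)
  rw [hdisj, finrank_bot, add_zero, ← hsup] at h1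
  have e1 := Cfsg.Agent.Helper28.OrthSum.rank_fromBlocks_left (ι₂ := ι₂) A
  have e2 := Cfsg.Agent.Helper28.OrthSum.rank_fromBlocks_right (ι₁ := ι₁) D
  have r0 : finrank F (LinearMap.range (fromBlocks A 0 0 D).mulVecLin) =
      (fromBlocks A 0 0 D).rank := rfl
  have r1 : finrank F (LinearMap.range (fromBlocks A 0 0 (0 : Matrix ι₂ ι₂ F)).mulVecLin) =
      (fromBlocks A 0 0 (0 : Matrix ι₂ ι₂ F)).rank := rfl
  have r2 : finrank F (LinearMap.range (fromBlocks (0 : Matrix ι₁ ι₁ F) 0 0 D).mulVecLin) =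
      (fromBlocks (0 : Matrix ι₁ ι₁ F) 0 0 D).rank := rfl
  rw [r0, r1, r2, e1, e2] at h1
  exact h1

end blocks

section general

variable {F : Type*} [Field F] {ι : Type} [Fintype ι] [DecidableEq ι] (Q : QuadraticForm F (ι → F))

theorem rank_ne_zero_of_ne_zero {A : Matrix ι ι F} (hA : A ≠ 0) : A.rank ≠ 0 := by
  intro h0
  apply hA
  unfold Matrix.rank at h0
  have hbot : LinearMap.range A.mulVecLin = ⊥ := Submodule.finrank_eq_zero.mp h0
  apply mat_ext
  intro x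
  have h1 : A.mulVecLin x ∈ LinearMap.range A.mulVecLin := ⟨x, rfl⟩
  rw [hbot, Submodule.mem_bot] at h1
  rw [zero_mulVec]
  exact h1

/-- an involutory isometry as an element of `O(Q)` -/
def mkO (T : Matrix ι ι F) (hTT : T * T = 1) (hT : ∀ v, Q (T *ᵥ v) = Q v) :
    ↥(Cfsg.isometryGroup F ⇑Q) :=
  ⟨⟨T, T, hTT, hTT⟩, (mem_isometryGroup_iff _ _).2 hT⟩

theorem mt_mkO (T : Matrix ι ι F) (hTT : T * T = 1) (hT : ∀ v, Q (T *ᵥ v) = Q v) :
    mt Q (mkO Q T hTT hT) = T := rfl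

theorem mkO_sq (T : Matrix ι ι F) (hTT : T * T = 1) (hT : ∀ v, Q (T *ᵥ v) = Q v) :
    mkO Q T hTT hT * mkO Q T hTT hT = 1 := by
  apply mt_injective Q
  rw [mt_mul, mt_mkO, hTT, mt_one]

theorem mkO_order (T : Matrix ι ι F) (hTT : T * T = 1) (hT : ∀ v, Q (T *ᵥ v) = Q v)
    (hr : (T - 1).rank ≠ 0) : orderOf (mkO Q T hTT hT) = 2 := by
  apply orderOf_eq_prime
  · rw [sq]; exact mkO_sq Q T hTT hT
  · intro h1
    apply hr
    have := congrArg (mt Q) h1
    rw [mt_mkO, mt_one] at this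
    rw [this, sub_self, Matrix.rank_zero]

theorem sq_of_orderO {g : ↥(Cfsg.isometryGroup F ⇑Q)} (h : orderOf g = 2) :
    g * g = 1 ∧ (mt Q g - 1).rank ≠ 0 := by
  constructor
  · have h1 := pow_orderOf_eq_one g
    rwa [h, sq] at h1
  · apply rank_ne_zero_of_ne_zero
    intro h0
    have h1 : g = 1 := by
      apply mt_injective Q
      rw [mt_one]
      exact sub_eq_zero.mp h0
    rw [h1, orderOf_one] at h
    norm_num at h

end general

section plus

variable (F : Type*) [Field F] (m : ℕ)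

/-- alternating model: `[[1, D], [0, 1]]` -/
theorem UB_isom (h2 : (2 : F) = 0) {D : Matrix (Fin m) (Fin m) F} (hD : Dᵀ = D)
    (hdiag : ∀ j, D j j = 0) (v : Fin m ⊕ Fin m → F) :
    QfPlus m F (UB D *ᵥ v) = QfPlus m F v := by
  have hDy : (D *ᵥ (v ∘ Sum.inr)) ⬝ᵥ (v ∘ Sum.inr) = 0 := by
    have h1 := UB_alt h2 hD hdiag v
    rw [om_swap, UB_lam, lam_NB, neg_neg] at h1
    exact h1
  show Cfsg.quadFormPlus m F (UB D *ᵥ v) = Cfsg.quadFormPlus m F v
  unfold Cfsg.quadFormPlus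
  have e1 : ∀ i, (UB D *ᵥ v) (Sum.inl i) = v (Sum.inl i) + (D *ᵥ (v ∘ Sum.inr)) i := by
    intro i
    rw [UB, fromBlocks_mulVec]
    simp
  have e2 : ∀ i, (UB D *ᵥ v) (Sum.inr i) = v (Sum.inr i) := by
    intro i
    rw [UB, fromBlocks_mulVec]
    simp
  simp only [e1, e2, add_mul, Finset.sum_add_distrib]
  have : ∑ i, (D *ᵥ (v ∘ Sum.inr)) i * v (Sum.inr i) = 0 := hDy
  rw [this, add_zero]

theorem UB_altO (D : Matrix (Fin m) (Fin m) F) (v : Fin m ⊕ Fin m → F) :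
    QfPlus m F ((UB D - 1) *ᵥ v) = 0 := by
  rw [UB_sub_one]
  show Cfsg.quadFormPlus m F (NB D *ᵥ v) = 0
  unfold Cfsg.quadFormPlus
  apply Finset.sum_eq_zero
  intro i _
  rw [NB_mulVec_inr, mul_zero]

/-- the nilpotent part of the swap model -/
def NS (r : ℕ) : Matrix (Fin m ⊕ Fin m) (Fin m ⊕ Fin m) F :=
  fromBlocks (dg F m r) (dg F m r) (dg F m r) (dg F m r)

/-- the swap model -/
def SWm (r : ℕ) : Matrix (Fin m ⊕ Fin m) (Fin m ⊕ Fin m) F := 1 + NS F m r

theorem NS_sq (h2 : (2 : F) = 0) (r : ℕ) : NS F m r * NS F m r = 0 := by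
  unfold NS
  rw [fromBlocks_multiply]
  have : dg F m r * dg F m r + dg F m r * dg F m r = 0 := by
    rw [← two_smul F (dg F m r * dg F m r), h2, zero_smul]
  rw [this]
  simp

theorem SWm_sq (h2 : (2 : F) = 0) (r : ℕ) : SWm F m r * SWm F m r = 1 := by
  unfold SWm
  rw [Matrix.mul_add, Matrix.add_mul, Matrix.add_mul, Matrix.one_mul, Matrix.mul_one,
    Matrix.one_mul, NS_sq F m h2]
  have : (1 : Matrix (Fin m ⊕ Fin m) (Fin m ⊕ Fin m) F) + NS F m r + (NS F m r + 0) =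
      1 + (2 : F) • NS F m r := by
    rw [two_smul]; abel
  rw [this, h2, zero_smul, add_zero]

theorem NS_mulVec_inl (r : ℕ) (v : Fin m ⊕ Fin m → F) (i : Fin m) :
    (NS F m r *ᵥ v) (Sum.inl i) =
      (if i.val < r then 1 else 0) * (v (Sum.inl i) + v (Sum.inr i)) := by
  unfold NS dg
  rw [fromBlocks_mulVec]
  simp only [Sum.elim_inl, Pi.add_apply, mulVec_diagonal, Function.comp_apply]
  ring

theorem NS_mulVec_inr (r : ℕ) (v : Fin m ⊕ Fin m → F) (i : Fin m) :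
    (NS F m r *ᵥ v) (Sum.inr i) =
      (if i.val < r then 1 else 0) * (v (Sum.inl i) + v (Sum.inr i)) := by
  unfold NS dg
  rw [fromBlocks_mulVec]
  simp only [Sum.elim_inr, Pi.add_apply, mulVec_diagonal, Function.comp_apply]
  ring

theorem SWm_isom (h2 : (2 : F) = 0) (r : ℕ) (v : Fin m ⊕ Fin m → F) :
    QfPlus m F (SWm F m r *ᵥ v) = QfPlus m F v := by
  show Cfsg.quadFormPlus m F (SWm F m r *ᵥ v) = Cfsg.quadFormPlus m F v
  unfold Cfsg.quadFormPlus SWm
  rw [Matrix.add_mulVec, Matrix.one_mulVec]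
  apply Finset.sum_congr rfl
  intro i _
  rw [Pi.add_apply, Pi.add_apply, NS_mulVec_inl, NS_mulVec_inr]
  by_cases h : i.val < r
  · rw [if_pos h]
    linear_combination (v (Sum.inl i) + v (Sum.inr i)) ^ 2 * h2
  · rw [if_neg h]
    ring

theorem SWm_sub_one (r : ℕ) : SWm F m r - 1 = NS F m r := by
  unfold SWm; abel

theorem rank_NS (h2 : (2 : F) = 0) {r : ℕ} (hr : r ≤ m) : (NS F m r).rank = r := by
  have h11 : (1 : Matrix (Fin m) (Fin m) F) + 1 = 0 := by
    rw [← two_smul F (1 : Matrix (Fin m) (Fin m) F), h2, zero_smul]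
  obtain ⟨L, hL⟩ : ∃ L : Matrix (Fin m ⊕ Fin m) (Fin m ⊕ Fin m) F,
      L = fromBlocks (1 : Matrix (Fin m) (Fin m) F) (0 : Matrix (Fin m) (Fin m) F)
        (1 : Matrix (Fin m) (Fin m) F) (1 : Matrix (Fin m) (Fin m) F) := ⟨_, rfl⟩
  obtain ⟨R, hR⟩ : ∃ R : Matrix (Fin m ⊕ Fin m) (Fin m ⊕ Fin m) F,
      R = fromBlocks (1 : Matrix (Fin m) (Fin m) F) (1 : Matrix (Fin m) (Fin m) F)
        (0 : Matrix (Fin m) (Fin m) F) (1 : Matrix (Fin m) (Fin m) F) := ⟨_, rfl⟩
  have hLL : L * L = 1 := by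
    rw [hL, fromBlocks_multiply]
    simp [h11]
  have hRR : R * R = 1 := by
    rw [hR, fromBlocks_multiply]
    simp [h11]
  have hdetL : IsUnit L.det := by
    have h1 := congrArg Matrix.det hLL
    rw [det_mul, det_one] at h1
    exact IsUnit.of_mul_eq_one _ h1
  have hdetR : IsUnit R.det := by
    have h1 := congrArg Matrix.det hRR
    rw [det_mul, det_one] at h1
    exact IsUnit.of_mul_eq_one _ h1
  have e : NS F m r = L *
      fromBlocks (dg F m r) 0 0 (0 : Matrix (Fin m) (Fin m) F) * R := by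
    unfold NS
    rw [hL, hR, fromBlocks_multiply, fromBlocks_multiply]
    simp
  rw [e, Matrix.rank_mul_eq_left_of_isUnit_det _ _ hdetR,
    Matrix.rank_mul_eq_right_of_isUnit_det _ _ hdetL,
    Cfsg.Agent.Helper28.OrthSum.rank_fromBlocks_left, rank_dg F hr]

theorem NS_nonalt {r : ℕ} (hr1 : 1 ≤ r) (hm : 1 ≤ m) :
    QfPlus m F (NS F m r *ᵥ Pi.single (Sum.inl ⟨0, hm⟩) 1) = 1 := by
  show Cfsg.quadFormPlus m F (NS F m r *ᵥ Pi.single (Sum.inl ⟨0, hm⟩) 1) = 1
  unfold Cfsg.quadFormPlus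
  rw [Finset.sum_eq_single (⟨0, hm⟩ : Fin m)]
  · rw [NS_mulVec_inl, NS_mulVec_inr, if_pos (by show 0 < r; omega)]
    simp
  · intro b _ hb
    rw [NS_mulVec_inl]
    have : (Pi.single (Sum.inl (⟨0, hm⟩ : Fin m)) (1 : F) : Fin m ⊕ Fin m → F) (Sum.inl b) = 0 := by
      rw [Pi.single_apply, if_neg]
      intro h
      exact hb (Sum.inl.inj h)
    rw [this]
    simp
  · intro h
    exact absurd (Finset.mem_univ _) h

/-- the alternating model of rank `2k` in `O⁺` -/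
def uaO (h2 : (2 : F) = 0) (k : ℕ) : ↥(Cfsg.isometryGroup F ⇑(QfPlus m F)) :=
  mkO (QfPlus m F) (UB (ad F m k)) (UB_sq h2 _)
    (UB_isom F m h2 (ad_transpose F m k) (ad_diag F m k))

/-- the non-alternating model of rank `r` in `O⁺` -/
def swO (h2 : (2 : F) = 0) (r : ℕ) : ↥(Cfsg.isometryGroup F ⇑(QfPlus m F)) :=
  mkO (QfPlus m F) (SWm F m r) (SWm_sq F m h2 r) (SWm_isom F m h2 r)

theorem uaO_rank (h2 : (2 : F) = 0) {k : ℕ} (hk : 2 * k ≤ m) :
    (mt (QfPlus m F) (uaO F m h2 k) - 1).rank = 2 * k := by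
  show (UB (ad F m k) - 1).rank = 2 * k
  rw [UB_sub_one, rank_NB, rank_ad F hk]

theorem swO_rank (h2 : (2 : F) = 0) {r : ℕ} (hr : r ≤ m) :
    (mt (QfPlus m F) (swO F m h2 r) - 1).rank = r := by
  show (SWm F m r - 1).rank = r
  rw [SWm_sub_one, rank_NS F m h2 hr]

theorem uaO_alt (h2 : (2 : F) = 0) (k : ℕ) : IsAltO (QfPlus m F) (uaO F m h2 k) := by
  intro v
  exact UB_altO F m _ v

theorem swO_nonalt (h2 : (2 : F) = 0) {r : ℕ} (hr1 : 1 ≤ r) (hm : 1 ≤ m) :
    ¬ IsAltO (QfPlus m F) (swO F m h2 r) := by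
  intro h
  have h1 := h (Pi.single (Sum.inl ⟨0, hm⟩) 1)
  have h3 : mt (QfPlus m F) (swO F m h2 r) - 1 = NS F m r := SWm_sub_one F m r
  rw [h3, NS_nonalt F m hr1 hm] at h1
  exact one_ne_zero h1

theorem class_count_plus [Fintype F] (h2 : (2 : F) = 0) (hm : 1 ≤ m) :
    Nat.card {C : ConjClasses ↥(Cfsg.isometryGroup F ⇑(QfPlus m F)) //
      ∃ g : ↥(Cfsg.isometryGroup F ⇑(QfPlus m F)), ConjClasses.mk g = C ∧ orderOf g = 2} =
      m + m / 2 := by
  have hcard : Fintype.card (Fin m ⊕ Fin m) = 2 * m := by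
    rw [Fintype.card_sum, Fintype.card_fin]; ring
  have hQ := QfPlus_nondeg (F := F) m
  let reps : Fin m ⊕ Fin (m / 2) → ↥(Cfsg.isometryGroup F ⇑(QfPlus m F)) :=
    Sum.elim (fun i => swO F m h2 (i.val + 1)) (fun j => uaO F m h2 (j.val + 1))
  have hcount := card_classes_of_reps reps ?_ ?_ ?_
  · rw [hcount, Fintype.card_sum, Fintype.card_fin, Fintype.card_fin]
  · rintro (i | j)
    · exact mkO_order (QfPlus m F) (SWm F m (i.val + 1)) (SWm_sq F m h2 _) (SWm_isom F m h2 _)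
        (by rw [SWm_sub_one, rank_NS F m h2 (by have := i.2; omega)]; omega)
    · exact mkO_order (QfPlus m F) (UB (ad F m (j.val + 1))) (UB_sq h2 _)
        (UB_isom F m h2 (ad_transpose F m _) (ad_diag F m _))
        (by rw [UB_sub_one, rank_NB, rank_ad F (by have := j.2; omega)]; omega)
  · rintro (i | j) (i' | j') h
    · have h3 := rank_isConjO _ h
      have e1 := swO_rank F m h2 (r := i.val + 1) (by have := i.2; omega)
      have e2 := swO_rank F m h2 (r := i'.val + 1) (by have := i'.2; omega)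
      have h4 : i.val + 1 = i'.val + 1 := by rw [← e1, ← e2]; exact h3
      exact congrArg Sum.inl (Fin.ext (by omega))
    · exfalso
      exact swO_nonalt F m h2 (by omega) hm (alt_isConjO _ h.symm (uaO_alt F m h2 _))
    · exfalso
      exact swO_nonalt F m h2 (by omega) hm (alt_isConjO _ h (uaO_alt F m h2 _))
    · have h3 := rank_isConjO _ h
      have e1 := uaO_rank F m h2 (k := j.val + 1) (by have := j.2; omega)
      have e2 := uaO_rank F m h2 (k := j'.val + 1) (by have := j'.2; omega)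
      have h4 : 2 * (j.val + 1) = 2 * (j'.val + 1) := by rw [← e1, ← e2]; exact h3
      exact congrArg Sum.inr (Fin.ext (by omega))
  · intro g hg
    obtain ⟨hgg, hpos⟩ := sq_of_orderO _ hg
    have hle := two_rank_le h2 _ (sq_mt _ hgg)
    rw [hcard] at hle
    obtain ⟨r, hr⟩ : ∃ r, r = (mt (QfPlus m F) g - 1).rank := ⟨_, rfl⟩
    rw [← hr] at hle hpos
    by_cases halt : IsAltO (QfPlus m F) g
    · have hev : Even r := by
        rw [hr]
        exact even_rank_of_altO _ h2 hQ hcard g hgg halt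
      obtain ⟨t, ht⟩ := hev
      have hj : t - 1 < m / 2 := by omega
      refine ⟨Sum.inr ⟨t - 1, hj⟩, ?_⟩
      apply isConj_of_rank_type _ h2 hQ hcard g _ hgg (mkO_sq _ _ _ _)
      · show (mt (QfPlus m F) g - 1).rank = (mt (QfPlus m F) (uaO F m h2 (t - 1 + 1)) - 1).rank
        rw [uaO_rank F m h2 (by omega), ← hr]
        omega
      · exact iff_of_true halt (uaO_alt F m h2 _)
    · have hi : r - 1 < m := by omega
      refine ⟨Sum.inl ⟨r - 1, hi⟩, ?_⟩
      apply isConj_of_rank_type _ h2 hQ hcard g _ hgg (mkO_sq _ _ _ _)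
      · show (mt (QfPlus m F) g - 1).rank = (mt (QfPlus m F) (swO F m h2 (r - 1 + 1)) - 1).rank
        rw [swO_rank F m h2 (by omega), ← hr]
        omega
      · exact iff_of_false halt (swO_nonalt F m h2 (by omega) hm)

end plus

end Cfsg.Agent.Helper2.OInv
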