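import Mathlib
import Cfsg.Agent.Helper2.SpInvolCount

/-! Involutions of `Sp` in characteristic two: peeling with prescribed vectors, relative
conjugacy with prescribed images. -/

set_option autoImplicit false

namespace Cfsg.Agent.Helper2.Sp

open Matrix Module

variable {l : Type*} [DecidableEq l] [Fintype l] {F : Type*} [Field F]

/-- peeling off the transvection attached to a prescribed vector `x` with `λ(x) = 1` -/
theorem pB_spec (h2 : (2 : F) = 0) {X : Submodule F (l ⊕ l → F)}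
    {A : Matrix (l ⊕ l) (l ⊕ l) F} (hA : InvS X A) {x w : l ⊕ l → F} (hxY : x ∈ perpS X)
    (hx1 : om (A *ᵥ x) x = 1) (hw : w = (A - 1) *ᵥ x) :
    w ∈ perpS X ∧ om w x = 1 ∧ A *ᵥ w = w ∧ InvS (X ⊔ Submodule.span F {w, x}) (T w 1 * A) ∧
      A = T w 1 * (T w 1 * A) ∧ (T w 1 * A - 1).rank + 1 = (A - 1).rank ∧
      (∀ v, om ((T w 1 * A) *ᵥ v) v = om (A *ᵥ v) v + om w v * om w v) ∧
      (T w 1 * A) *ᵥ w = w ∧ (T w 1 * A) *ᵥ x = x := by
  have hneg : ∀ a : F, -a = a := fun a =>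
    neg_eq_of_add_eq_zero_left (by rw [← two_mul, h2, zero_mul])
  have hvv : ∀ v : l ⊕ l → F, v + v = 0 := fun v => by rw [← two_smul F v, h2, zero_smul]
  have hwY : w ∈ perpS X := by rw [hw]; exact hA.NY x
  have hwx : om w x = 1 := by rw [hw, hA.lam_eq, hx1]
  have hAw : A *ᵥ w = w := by rw [hw]; exact hA.fixN h2 x
  have hAx : A *ᵥ x = x + w := by rw [hw, sub_one_mulVec]; abel
  have hw0 : w ≠ 0 := by
    rintro rfl
    rw [om_zero_left] at hwx
    exact zero_ne_one hwx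
  have hTT : T w (1 : F) * T w 1 = 1 := by
    rw [T_mulS, one_add_one_eq_two, h2, T_zeroS]
  have hcomm : A * T w 1 = T w 1 * A := by
    have h8 := T_conjS A hA.pres w (1 : F)
    rwa [hAw] at h8
  have hA'w : (T w 1 * A) *ᵥ w = w := by
    rw [← Matrix.mulVec_mulVec, hAw, T_mulVec, om_self, mul_zero, zero_smul, add_zero]
  have hA'x : (T w 1 * A) *ᵥ x = x := by
    rw [← Matrix.mulVec_mulVec, hAx, T_mulVec, om_add_right, hwx, om_self, add_zero, mul_one,
      one_smul, add_assoc, hvv, add_zero]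
  have hInv : InvS (X ⊔ Submodule.span F {w, x}) (T w 1 * A) := by
    refine ⟨(PresS_T w 1).mul hA.pres, ?_, ?_⟩
    · calc T w 1 * A * (T w 1 * A) = T w 1 * (A * T w 1) * A := by simp only [Matrix.mul_assoc]
        _ = T w 1 * (T w 1 * A) * A := by rw [hcomm]
        _ = (T w 1 * T w 1) * (A * A) := by simp only [Matrix.mul_assoc]
        _ = 1 := by rw [hTT, hA.sq, Matrix.one_mul]
    · intro z hz
      obtain ⟨x1, hx1', x2, hx2, rfl⟩ := Submodule.mem_sup.mp hz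
      obtain ⟨a, b, rfl⟩ := Submodule.mem_span_pair.mp hx2
      have e1 : (T w 1 * A) *ᵥ x1 = x1 := by
        rw [← Matrix.mulVec_mulVec, hA.fix x1 hx1', T_mulVec, hwY x1 hx1', mul_zero, zero_smul,
          add_zero]
      rw [mulVec_add, mulVec_add, mulVec_smul, mulVec_smul, e1, hA'w, hA'x]
  have hlam' : ∀ v, om ((T w 1 * A) *ᵥ v) v = om (A *ᵥ v) v + om w v * om w v := by
    intro v
    have h9 : om w (A *ᵥ v) = om w v := by
      have h10 := hA.pres w v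
      rwa [hAw] at h10
    rw [← Matrix.mulVec_mulVec, T_mulVec, one_mul, h9, om_add_left, om_smul_left]
  refine ⟨hwY, hwx, hAw, hInv, ?_, ?_, hlam', hA'w, hA'x⟩
  · rw [← Matrix.mul_assoc, hTT, Matrix.one_mul]
  · -- the rank drops by one
    have hN'v : ∀ y, (T w 1 * A - 1) *ᵥ y = (A - 1) *ᵥ y + om w y • w := by
      intro y
      have h9 : om w (A *ᵥ y) = om w y := by
        have h10 := hA.pres w y
        rwa [hAw] at h10
      rw [sub_one_mulVec, sub_one_mulVec, ← Matrix.mulVec_mulVec, T_mulVec, one_mul, h9]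
      abel
    have hk1 : LinearMap.ker (A - 1).mulVecLin ⊔ Submodule.span F {x}
        = LinearMap.ker (T w 1 * A - 1).mulVecLin := by
      apply le_antisymm
      · apply sup_le
        · intro y hy
          rw [LinearMap.mem_ker, Matrix.mulVecLin_apply] at hy ⊢
          have h9 : om w y = 0 := by rw [hw, hA.Nadj, hy, om_zero_right]
          rw [hN'v, hy, zero_add, h9, zero_smul]
        · rw [Submodule.span_le, Set.singleton_subset_iff]
          show x ∈ LinearMap.ker _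
          rw [LinearMap.mem_ker, Matrix.mulVecLin_apply, hN'v, hwx, one_smul, ← hw, hvv]
      · intro y hy
        rw [LinearMap.mem_ker, Matrix.mulVecLin_apply, hN'v] at hy
        have e1 : (A - 1) *ᵥ (y + om w y • x) = 0 := by
          rw [Matrix.mulVec_add, Matrix.mulVec_smul, ← hw]; exact hy
        have e2 : y = (y + om w y • x) + om w y • x := by
          rw [add_assoc, hvv, add_zero]
        rw [e2]
        refine Submodule.add_mem _ (Submodule.mem_sup_left ?_)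
          (Submodule.mem_sup_right (Submodule.smul_mem _ _ (Submodule.mem_span_singleton_self x)))
        rw [LinearMap.mem_ker, Matrix.mulVecLin_apply]; exact e1
    have hx0 : x ≠ 0 := by
      rintro rfl
      rw [om_zero_right] at hwx
      exact zero_ne_one hwx
    have hinf : LinearMap.ker (A - 1).mulVecLin ⊓ Submodule.span F {x} = ⊥ := by
      rw [eq_bot_iff]
      rintro y ⟨hy1, hy2⟩
      obtain ⟨b, rfl⟩ := Submodule.mem_span_singleton.mp hy2
      have hy1' : (A - 1) *ᵥ (b • x) = 0 := by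
        have h10 := hy1
        rw [SetLike.mem_coe, LinearMap.mem_ker, Matrix.mulVecLin_apply] at h10
        exact h10
      rw [Matrix.mulVec_smul, ← hw] at hy1'
      rcases smul_eq_zero.mp hy1' with hb | hb
      · rw [hb, zero_smul]; exact Submodule.zero_mem _
      · exact absurd hb hw0
    have hfr := Submodule.finrank_sup_add_finrank_inf_eq (LinearMap.ker (A - 1).mulVecLin)
      (Submodule.span F {x})
    rw [hinf, finrank_bot, add_zero, finrank_span_singleton hx0, hk1] at hfr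
    have r1 := rank_add_nul' (A - 1)
    have r2 := rank_add_nul' (T w 1 * A - 1)
    omega

/-- peeling off a rank two factor attached to a prescribed pair `x, y` -/
theorem pA_spec (h2 : (2 : F) = 0) {X : Submodule F (l ⊕ l → F)}
    {A : Matrix (l ⊕ l) (l ⊕ l) F} (hA : InvS X A)
    (halt : ∀ v ∈ perpS X, om (A *ᵥ v) v = 0) {x y w₁ w₂ : l ⊕ l → F} (hxY : x ∈ perpS X)
    (hyY : y ∈ perpS X) (hw₁ : w₁ = (A - 1) *ᵥ x) (hw₂ : w₂ = (A - 1) *ᵥ y)
    (hw₁y : om w₁ y = 1) (hxy : om x y = 0) :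
    w₁ ∈ perpS X ∧ w₂ ∈ perpS X ∧ om w₂ x = 1 ∧ om w₂ w₁ = 0 ∧ om w₂ y = 0 ∧ om x w₁ = 0 ∧
      InvS ((X ⊔ Submodule.span F {w₁, y}) ⊔ Submodule.span F {w₂, x}) (Rm w₁ w₂ * A) ∧
      A = Rm w₁ w₂ * (Rm w₁ w₂ * A) ∧ (Rm w₁ w₂ * A - 1).rank + 2 = (A - 1).rank ∧
      (∀ v ∈ perpS X, om ((Rm w₁ w₂ * A) *ᵥ v) v = 0) := by
  have hneg : ∀ a : F, -a = a := fun a =>
    neg_eq_of_add_eq_zero_left (by rw [← two_mul, h2, zero_mul])
  have hvv : ∀ v : l ⊕ l → F, v + v = 0 := fun v => by rw [← two_smul F v, h2, zero_smul]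
  have hw₁Y : w₁ ∈ perpS X := by rw [hw₁]; exact hA.NY x
  have hw₂Y : w₂ ∈ perpS X := by rw [hw₂]; exact hA.NY y
  have hw₁x : om w₁ x = 0 := by rw [hw₁, hA.lam_eq]; exact halt x hxY
  have hw₂y : om w₂ y = 0 := by rw [hw₂, hA.lam_eq]; exact halt y hyY
  have hw₂x : om w₂ x = 1 := by
    rw [hw₂, hA.Nadj, ← hw₁, om_swap w₁ y, hw₁y, hneg]
  have h12 : om w₁ w₂ = 0 := by rw [hw₁, hw₂]; exact hA.Niso h2 x y
  have h21 : om w₂ w₁ = 0 := by rw [om_swap, h12, neg_zero]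
  have hNy : (A - 1) *ᵥ y = w₂ := hw₂.symm
  have hxw₁ : om x w₁ = 0 := by rw [om_swap w₁ x, hw₁x, neg_zero]
  have hAw₁ : A *ᵥ w₁ = w₁ := by rw [hw₁]; exact hA.fixN h2 x
  have hAw₂ : A *ᵥ w₂ = w₂ := by rw [hw₂]; exact hA.fixN h2 y
  have hAx : A *ᵥ x = x + w₁ := by rw [hw₁, sub_one_mulVec]; abel
  have hAy : A *ᵥ y = y + w₂ := by rw [← hNy, sub_one_mulVec]; abel
  have hcomm : A * Rm w₁ w₂ = Rm w₁ w₂ * A := by
    have h8 := Rm_conj A hA.pres w₁ w₂
    rwa [hAw₁, hAw₂] at h8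
  have hRR := Rm_sq h2 h12
  have hA'v : ∀ v, (Rm w₁ w₂ * A) *ᵥ v = A *ᵥ v + om w₂ v • w₁ + om w₁ v • w₂ := by
    intro v
    have h9 : om w₁ (A *ᵥ v) = om w₁ v := by
      have h10 := hA.pres w₁ v
      rwa [hAw₁] at h10
    have h9' : om w₂ (A *ᵥ v) = om w₂ v := by
      have h10 := hA.pres w₂ v
      rwa [hAw₂] at h10
    rw [← mulVec_mulVec, Rm_mulVec h2 h12, h9, h9']
  have hA'w₁ : (Rm w₁ w₂ * A) *ᵥ w₁ = w₁ := by
    rw [hA'v, hAw₁, h21, om_self, zero_smul, zero_smul, add_zero, add_zero]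
  have hA'w₂ : (Rm w₁ w₂ * A) *ᵥ w₂ = w₂ := by
    rw [hA'v, hAw₂, h12, om_self, zero_smul, zero_smul, add_zero, add_zero]
  have hA'x : (Rm w₁ w₂ * A) *ᵥ x = x := by
    rw [hA'v, hAx, hw₂x, hw₁x, one_smul, zero_smul, add_zero, add_assoc, hvv, add_zero]
  have hA'y : (Rm w₁ w₂ * A) *ᵥ y = y := by
    rw [hA'v, hAy, hw₂y, hw₁y, one_smul, zero_smul, add_zero, add_assoc, hvv, add_zero]
  have hInv : InvS ((X ⊔ Submodule.span F {w₁, y}) ⊔ Submodule.span F {w₂, x})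
      (Rm w₁ w₂ * A) := by
    refine ⟨(PresS_Rm w₁ w₂).mul hA.pres, ?_, ?_⟩
    · calc Rm w₁ w₂ * A * (Rm w₁ w₂ * A) = Rm w₁ w₂ * (A * Rm w₁ w₂) * A := by
            simp only [Matrix.mul_assoc]
        _ = Rm w₁ w₂ * (Rm w₁ w₂ * A) * A := by rw [hcomm]
        _ = (Rm w₁ w₂ * Rm w₁ w₂) * (A * A) := by simp only [Matrix.mul_assoc]
        _ = 1 := by rw [hRR, hA.sq, Matrix.one_mul]
    · intro z hz
      obtain ⟨z1, hz1, z2, hz2, rfl⟩ := Submodule.mem_sup.mp hz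
      obtain ⟨x1, hx1', x2, hx2, rfl⟩ := Submodule.mem_sup.mp hz1
      obtain ⟨a, b, rfl⟩ := Submodule.mem_span_pair.mp hx2
      obtain ⟨c, d, rfl⟩ := Submodule.mem_span_pair.mp hz2
      have e1 : (Rm w₁ w₂ * A) *ᵥ x1 = x1 := by
        rw [hA'v, hA.fix x1 hx1', hw₂Y x1 hx1', hw₁Y x1 hx1', zero_smul, zero_smul, add_zero,
          add_zero]
      simp only [mulVec_add, mulVec_smul, e1, hA'w₁, hA'w₂, hA'x, hA'y]
  refine ⟨hw₁Y, hw₂Y, hw₂x, h21, hw₂y, hxw₁, hInv, ?_, ?_, ?_⟩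
  · rw [← Matrix.mul_assoc, hRR, Matrix.one_mul]
  · -- the rank drops by two
    have hN'v : ∀ v, (Rm w₁ w₂ * A - 1) *ᵥ v = (A - 1) *ᵥ v + om w₂ v • w₁ + om w₁ v • w₂ := by
      intro v
      rw [sub_one_mulVec, sub_one_mulVec, hA'v]
      abel
    have hk1 : LinearMap.ker (A - 1).mulVecLin ⊔ Submodule.span F {x, y}
        = LinearMap.ker (Rm w₁ w₂ * A - 1).mulVecLin := by
      apply le_antisymm
      · apply sup_le
        · intro v hv
          rw [LinearMap.mem_ker, Matrix.mulVecLin_apply] at hv ⊢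
          have h9 : om w₁ v = 0 := by rw [hw₁, hA.Nadj, hv, om_zero_right]
          have h9' : om w₂ v = 0 := by rw [hw₂, hA.Nadj, hv, om_zero_right]
          rw [hN'v, hv, h9, h9', zero_smul, zero_smul, add_zero, add_zero]
        · rw [Submodule.span_le]
          intro v hv
          rcases hv with rfl | rfl
          · show v ∈ LinearMap.ker _
            rw [LinearMap.mem_ker, Matrix.mulVecLin_apply, hN'v, ← hw₁, hw₂x, hw₁x, one_smul,
              zero_smul, add_zero, hvv]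
          · show v ∈ LinearMap.ker _
            rw [LinearMap.mem_ker, Matrix.mulVecLin_apply, hN'v, hNy, hw₂y, hw₁y, one_smul,
              zero_smul, add_zero, hvv]
      · intro v hv
        rw [LinearMap.mem_ker, Matrix.mulVecLin_apply, hN'v] at hv
        have e1 : (A - 1) *ᵥ (v + (om w₂ v • x + om w₁ v • y)) = 0 := by
          rw [Matrix.mulVec_add, Matrix.mulVec_add, Matrix.mulVec_smul, Matrix.mulVec_smul, ← hw₁,
            hNy, ← add_assoc]
          exact hv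
        have e2 : v = (v + (om w₂ v • x + om w₁ v • y)) + (om w₂ v • x + om w₁ v • y) := by
          rw [add_assoc, hvv, add_zero]
        rw [e2]
        refine Submodule.add_mem _ (Submodule.mem_sup_left ?_) (Submodule.mem_sup_right ?_)
        · rw [LinearMap.mem_ker, Matrix.mulVecLin_apply]; exact e1
        · exact Submodule.add_mem _
            (Submodule.smul_mem _ _ (Submodule.subset_span (by simp)))
            (Submodule.smul_mem _ _ (Submodule.subset_span (by simp)))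
    have hzero : ∀ a b : F, a • w₁ + b • w₂ = 0 → a = 0 ∧ b = 0 := by
      intro a b hab
      have h1 : om (a • w₁ + b • w₂) y = 0 := by rw [hab, om_zero_left]
      have h3 : om (a • w₁ + b • w₂) x = 0 := by rw [hab, om_zero_left]
      rw [om_add_left, om_smul_left, om_smul_left, hw₁y, hw₂y] at h1
      rw [om_add_left, om_smul_left, om_smul_left, hw₁x, hw₂x] at h3
      exact ⟨by linear_combination h1, by linear_combination h3⟩
    have hinf : LinearMap.ker (A - 1).mulVecLin ⊓ Submodule.span F {x, y} = ⊥ := by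
      rw [eq_bot_iff]
      rintro v ⟨hv1, hv2⟩
      obtain ⟨a, b, rfl⟩ := Submodule.mem_span_pair.mp hv2
      have hv1' : (A - 1) *ᵥ (a • x + b • y) = 0 := by
        have h10 := hv1
        rw [SetLike.mem_coe, LinearMap.mem_ker, Matrix.mulVecLin_apply] at h10
        exact h10
      rw [Matrix.mulVec_add, Matrix.mulVec_smul, Matrix.mulVec_smul, ← hw₁, hNy] at hv1'
      obtain ⟨ha, hb⟩ := hzero a b hv1'
      rw [ha, hb, zero_smul, zero_smul, add_zero]
      exact Submodule.zero_mem _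
    have hli : LinearIndependent F ![x, y] := by
      rw [LinearIndependent.pair_iff]
      intro a b hab
      have h1 : (A - 1) *ᵥ (a • x + b • y) = 0 := by rw [hab, mulVec_zero]
      rw [Matrix.mulVec_add, Matrix.mulVec_smul, Matrix.mulVec_smul, ← hw₁, hNy] at h1
      exact hzero a b h1
    have hrange : Set.range ![x, y] = {x, y} := by
      simp
      exact Set.pair_comm y x
    have hfr2 : finrank F (Submodule.span F ({x, y} : Set (l ⊕ l → F))) = 2 := by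
      rw [← hrange, finrank_span_eq_card hli, Fintype.card_fin]
    have hfr := Submodule.finrank_sup_add_finrank_inf_eq (LinearMap.ker (A - 1).mulVecLin)
      (Submodule.span F {x, y})
    rw [hinf, finrank_bot, add_zero, hfr2, hk1] at hfr
    have r1 := rank_add_nul' (A - 1)
    have r2 := rank_add_nul' (Rm w₁ w₂ * A - 1)
    omega
  · intro v hv
    rw [hA'v, om_add_left, om_add_left, om_smul_left, om_smul_left, halt v hv, zero_add]
    linear_combination (om w₂ v * om w₁ v) * h2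

/-- transport of the alternating property under conjugation -/
theorem altS_conj {Xa Xb : Submodule F (l ⊕ l → F)} {A' t t' : Matrix (l ⊕ l) (l ⊕ l) F}
    (hPt : PresS t) (h1 : t' * t = 1) (h3 : t * t' = 1) (hmap : ∀ z ∈ Xb, t' *ᵥ z ∈ Xa)
    (hmap' : ∀ z ∈ Xa, t *ᵥ z ∈ Xb) : AltS Xb (t * A' * t') ↔ AltS Xa A' := by
  constructor
  · intro h v hv
    rw [← lam_conj (A' := A') hPt h1 v]
    apply h
    rw [mem_perpS]
    intro z hz
    have hz' : z = t *ᵥ (t' *ᵥ z) := by rw [mulVec_mulVec, h3, one_mulVec]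
    rw [hz', hPt]
    exact hv _ (hmap z hz)
  · intro h v hv
    have hv' : v = t *ᵥ (t' *ᵥ v) := by rw [mulVec_mulVec, h3, one_mulVec]
    rw [hv', lam_conj hPt h1]
    apply h
    rw [mem_perpS]
    intro z hz
    have e1 : om (t' *ᵥ v) z = om (t *ᵥ (t' *ᵥ v)) (t *ᵥ z) := (hPt _ _).symm
    rw [e1, ← hv']
    exact hv _ (hmap' z hz)

/-- relative conjugacy (non-alternating step) with prescribed vectors -/
theorem conjB [Finite F] (h2 : (2 : F) = 0) {X : Submodule F (l ⊕ l → F)}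
    (hY : NonDegS (perpS X)) {A B : Matrix (l ⊕ l) (l ⊕ l) F} (hA : InvS X A) (hB : InvS X B)
    (hrank : (A - 1).rank = (B - 1).rank) {x x' w w' : l ⊕ l → F} (hxY : x ∈ perpS X)
    (hx'Y : x' ∈ perpS X) (hx1 : om (A *ᵥ x) x = 1) (hx'1 : om (B *ᵥ x') x' = 1)
    (hw : w = (A - 1) *ᵥ x) (hw' : w' = (B - 1) *ᵥ x')
    (hiff : AltS (X ⊔ Submodule.span F {w, x}) (T w 1 * A) ↔
      AltS (X ⊔ Submodule.span F {w', x'}) (T w' 1 * B)) :
    ∃ M ∈ GenS (perpS X), M * A = B * M ∧ M *ᵥ x = x' := by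
  obtain ⟨hwY, hwx, -, hInvA', hAeq, hrA, -, -, -⟩ := pB_spec h2 hA hxY hx1 hw
  obtain ⟨hw'Y, hw'x', -, hInvB', hBeq, hrB, -, -, -⟩ := pB_spec h2 hB hx'Y hx'1 hw'
  obtain ⟨t, ht, htw, htx⟩ := trans_pairS hY hwY hxY hw'Y hx'Y hwx hw'x'
  obtain ⟨t', ht', h1, h3⟩ := GenS_inv ht
  have hPt := GenS_pres ht
  have hPt' := GenS_pres ht'
  have hfixX : ∀ {s : Matrix (l ⊕ l) (l ⊕ l) F}, s ∈ GenS (perpS X) → ∀ z ∈ X, s *ᵥ z = z :=
    fun hs z hz => GenS_fix hs z (fun y hy => hy z hz)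
  have hinvv : ∀ {a b : l ⊕ l → F}, t *ᵥ a = b → t' *ᵥ b = a := by
    intro a b hab
    rw [← hab, mulVec_mulVec, h1, one_mulVec]
  have hmap0 : ∀ z ∈ X, t' *ᵥ z ∈ X := fun z hz => by rw [hfixX ht' z hz]; exact hz
  have hmap0' : ∀ z ∈ X, t *ᵥ z ∈ X := fun z hz => by rw [hfixX ht z hz]; exact hz
  have hmap := sup_pair_map hmap0 (hinvv htw) (hinvv htx)
  have hmap' := sup_pair_map hmap0' htw htx
  have hInvA'' := hInvA'.conj hPt hPt' h1 h3 hmap
  have hY₁ := nonDeg_cutS hY hw'Y hx'Y hw'x'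
  have hrank'' : (t * (T w 1 * A) * t' - 1).rank = (T w' 1 * B - 1).rank := by
    rw [rank_conj' t t' _ h3]; omega
  have hiff'' : AltS (X ⊔ Submodule.span F {w', x'}) (t * (T w 1 * A) * t') ↔
      AltS (X ⊔ Submodule.span F {w', x'}) (T w' 1 * B) :=
    (altS_conj hPt h1 h3 hmap hmap').trans hiff
  obtain ⟨M₁, hM₁, hM₁eq⟩ := invol_conjS h2 _ _ hY₁ rfl _ _ hInvA'' hInvB' hrank'' hiff''
  have hM₁w : M₁ *ᵥ w' = w' := GenS_fix hM₁ w' (fun y hy =>
    hy w' (Submodule.mem_sup_right (Submodule.subset_span (by simp))))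
  have hM₁x : M₁ *ᵥ x' = x' := GenS_fix hM₁ x' (fun y hy =>
    hy x' (Submodule.mem_sup_right (Submodule.subset_span (by simp))))
  refine ⟨M₁ * t, Submonoid.mul_mem _ (GenS_mono (perpS_anti le_sup_left) hM₁) ht, ?_, ?_⟩
  · have htE : t * T w 1 = T w' 1 * t := by rw [T_conjS t hPt, htw]
    have hME : M₁ * T w' 1 = T w' 1 * M₁ := by
      rw [T_conjS M₁ (GenS_pres hM₁), hM₁w]
    exact final_calc hAeq hBeq htE hME h1 hM₁eq
  · rw [← mulVec_mulVec, htx, hM₁x]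

/-- relative conjugacy (alternating step) with prescribed pairs -/
theorem conjA [Finite F] (h2 : (2 : F) = 0) {X : Submodule F (l ⊕ l → F)}
    (hY : NonDegS (perpS X)) {A B : Matrix (l ⊕ l) (l ⊕ l) F} (hA : InvS X A) (hB : InvS X B)
    (haltA : AltS X A) (haltB : AltS X B)
    (hrank : (A - 1).rank = (B - 1).rank) {x y x' y' : l ⊕ l → F} (hxY : x ∈ perpS X)
    (hyY : y ∈ perpS X) (hx'Y : x' ∈ perpS X) (hy'Y : y' ∈ perpS X)
    (h1y : om ((A - 1) *ᵥ x) y = 1) (hxy : om x y = 0)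
    (h1y' : om ((B - 1) *ᵥ x') y' = 1) (hxy' : om x' y' = 0) :
    ∃ M ∈ GenS (perpS X), M * A = B * M ∧ M *ᵥ x = x' ∧ M *ᵥ y = y' := by
  obtain ⟨w1, hw1def⟩ : ∃ w1, w1 = (A - 1) *ᵥ x := ⟨_, rfl⟩
  obtain ⟨w2, hw2def⟩ : ∃ w2, w2 = (A - 1) *ᵥ y := ⟨_, rfl⟩
  obtain ⟨w1', hw1'def⟩ : ∃ w1', w1' = (B - 1) *ᵥ x' := ⟨_, rfl⟩
  obtain ⟨w2', hw2'def⟩ : ∃ w2', w2' = (B - 1) *ᵥ y' := ⟨_, rfl⟩
  rw [← hw1def] at h1y
  rw [← hw1'def] at h1y'
  obtain ⟨hw1, hw2, h22, h21, h2u1, hu2w1, hInvA', hAeq, hrA, haltA'⟩ :=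
    pA_spec h2 hA haltA hxY hyY hw1def hw2def h1y hxy
  obtain ⟨hw1', hw2', h22', h21', h2u1', hu2w1', hInvB', hBeq, hrB, haltB'⟩ :=
    pA_spec h2 hB haltB hx'Y hy'Y hw1'def hw2'def h1y' hxy'
  have hfixX : ∀ {s : Matrix (l ⊕ l) (l ⊕ l) F}, s ∈ GenS (perpS X) → ∀ z ∈ X, s *ᵥ z = z :=
    fun hs z hz => GenS_fix hs z (fun y hy => hy z hz)
  obtain ⟨t₁, ht₁, ht₁w, ht₁u⟩ := trans_pairS hY hw1 hyY hw1' hy'Y h1y h1y'
  have hPt₁ := GenS_pres ht₁
  have hY₁ := nonDeg_cutS hY hw1' hy'Y h1y'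
  have hm : ∀ z ∈ perpS X, om z w1 = 0 → om z y = 0 →
      t₁ *ᵥ z ∈ perpS (X ⊔ Submodule.span F {w1', y'}) := by
    intro z hz h1 h3
    rw [mem_perpS_sup_pair]
    refine ⟨GenS_maps ht₁ z hz, ?_, ?_⟩
    · rw [← ht₁w, hPt₁, h1]
    · rw [← ht₁u, hPt₁, h3]
  have hw2m := hm w2 hw2 h21 h2u1
  have hu2m := hm x hxY hu2w1 hxy
  have hw2'm : w2' ∈ perpS (X ⊔ Submodule.span F {w1', y'}) := by
    rw [mem_perpS_sup_pair]; exact ⟨hw2', h21', h2u1'⟩
  have hu2'm : x' ∈ perpS (X ⊔ Submodule.span F {w1', y'}) := by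
    rw [mem_perpS_sup_pair]; exact ⟨hx'Y, hu2w1', hxy'⟩
  obtain ⟨t₂, ht₂, ht₂w, ht₂u⟩ := trans_pairS hY₁ hw2m hu2m hw2'm hu2'm
    (by rw [hPt₁, h22]) h22'
  have ht₂Y : t₂ ∈ GenS (perpS X) := GenS_mono (perpS_anti le_sup_left) ht₂
  have ht₂w1 : t₂ *ᵥ w1' = w1' := GenS_fix ht₂ w1'
    (fun y hy => ((mem_perpS_sup_pair X w1' y' y).mp hy).2.1)
  have ht₂u1 : t₂ *ᵥ y' = y' := GenS_fix ht₂ y'
    (fun y hy => ((mem_perpS_sup_pair X w1' y' y).mp hy).2.2)
  obtain ⟨t, htdef⟩ : ∃ t, t = t₂ * t₁ := ⟨_, rfl⟩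
  have ht : t ∈ GenS (perpS X) := by rw [htdef]; exact Submonoid.mul_mem _ ht₂Y ht₁
  have htw1 : t *ᵥ w1 = w1' := by rw [htdef, ← mulVec_mulVec, ht₁w, ht₂w1]
  have htu1 : t *ᵥ y = y' := by rw [htdef, ← mulVec_mulVec, ht₁u, ht₂u1]
  have htw2 : t *ᵥ w2 = w2' := by rw [htdef, ← mulVec_mulVec, ht₂w]
  have htu2 : t *ᵥ x = x' := by rw [htdef, ← mulVec_mulVec, ht₂u]
  obtain ⟨t', ht', h1, h3⟩ := GenS_inv ht
  have hPt := GenS_pres ht
  have hPt' := GenS_pres ht'
  have hinvv : ∀ {a b : l ⊕ l → F}, t *ᵥ a = b → t' *ᵥ b = a := by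
    intro a b hab
    rw [← hab, mulVec_mulVec, h1, one_mulVec]
  have hmap0 : ∀ z ∈ X, t' *ᵥ z ∈ X := fun z hz => by rw [hfixX ht' z hz]; exact hz
  have hmap := sup_pair_map (sup_pair_map hmap0 (hinvv htw1) (hinvv htu1)) (hinvv htw2)
    (hinvv htu2)
  have hInvA'' := hInvA'.conj hPt hPt' h1 h3 hmap
  have hY₂ := nonDeg_cutS hY₁ hw2'm hu2'm h22'
  have hrank'' : (t * (Rm w1 w2 * A) * t' - 1).rank = (Rm w1' w2' * B - 1).rank := by
    rw [rank_conj' t t' _ h3]; omega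
  have hle : perpS ((X ⊔ Submodule.span F {w1', y'}) ⊔ Submodule.span F {w2', x'}) ≤ perpS X :=
    perpS_anti (le_trans le_sup_left le_sup_left)
  have haltA'' : AltS ((X ⊔ Submodule.span F {w1', y'}) ⊔ Submodule.span F {w2', x'})
      (t * (Rm w1 w2 * A) * t') := by
    intro v hv
    have hv' : v = t *ᵥ (t' *ᵥ v) := by rw [mulVec_mulVec, h3, one_mulVec]
    rw [hv', lam_conj hPt h1]
    exact haltA' _ (GenS_maps ht' v (hle hv))
  have haltB'' : AltS ((X ⊔ Submodule.span F {w1', y'}) ⊔ Submodule.span F {w2', x'})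
      (Rm w1' w2' * B) :=
    fun v hv => haltB' v (hle hv)
  obtain ⟨M₁, hM₁, hM₁eq⟩ := invol_conjS h2 _ _ hY₂ rfl
    (t * (Rm w1 w2 * A) * t') (Rm w1' w2' * B) hInvA'' hInvB' hrank''
    ⟨fun _ => haltB'', fun _ => haltA''⟩
  have hM₁w1 : M₁ *ᵥ w1' = w1' := GenS_fix hM₁ w1' (fun y hy =>
    hy w1' (Submodule.mem_sup_left (Submodule.mem_sup_right (Submodule.subset_span (by simp)))))
  have hM₁y : M₁ *ᵥ y' = y' := GenS_fix hM₁ y' (fun y hy =>
    hy y' (Submodule.mem_sup_left (Submodule.mem_sup_right (Submodule.subset_span (by simp)))))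
  have hM₁w2 : M₁ *ᵥ w2' = w2' := GenS_fix hM₁ w2' (fun y hy =>
    hy w2' (Submodule.mem_sup_right (Submodule.subset_span (by simp))))
  have hM₁x : M₁ *ᵥ x' = x' := GenS_fix hM₁ x' (fun y hy =>
    hy x' (Submodule.mem_sup_right (Submodule.subset_span (by simp))))
  refine ⟨M₁ * t, Submonoid.mul_mem _ (GenS_mono hle hM₁) ht, ?_, ?_, ?_⟩
  · have htE : t * Rm w1 w2 = Rm w1' w2' * t := by rw [Rm_conj t hPt, htw1, htw2]
    have hME : M₁ * Rm w1' w2' = Rm w1' w2' * M₁ := by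
      rw [Rm_conj M₁ (GenS_pres hM₁), hM₁w1, hM₁w2]
    exact final_calc hAeq hBeq htE hME h1 hM₁eq
  · rw [← mulVec_mulVec, htu2, hM₁x]
  · rw [← mulVec_mulVec, htu1, hM₁y]

/-- relative version: alternating involutions have even rank -/
theorem even_rank_of_altS (h2 : (2 : F) = 0) {X : Submodule F (l ⊕ l → F)}
    (hY : NonDegS (perpS X)) : ∀ (n : ℕ) (A : Matrix (l ⊕ l) (l ⊕ l) F),
    InvS X A → AltS X A → (A - 1).rank = n → Even n := by
  intro n
  induction n using Nat.strong_induction_on with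
  | _ n ih =>
  intro A hA halt hr
  by_cases hA1 : A = 1
  · rw [hA1, sub_self, Matrix.rank_zero] at hr
    rw [← hr]
    exact ⟨0, rfl⟩
  · obtain ⟨w1, u1, w2, u2, A', -, -, -, -, -, -, -, -, -, -, hInv, -, hrk, halt'⟩ :=
      peelA h2 hY hA halt hA1
    have h1 := ih ((A' - 1).rank) (by omega) A'
      (hInv.mono (le_trans le_sup_left le_sup_left)) halt' rfl
    rw [← hr, ← hrk]
    exact h1.add even_two

/-- a good decomposition of the ambient space -/
structure Cut (X : Submodule F (l ⊕ l → F)) : Prop where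
  nd : NonDegS (perpS X)
  sum : ∀ v : l ⊕ l → F, ∃ a ∈ X, ∃ b ∈ perpS X, v = a + b

theorem cut_bot : Cut (⊥ : Submodule F (l ⊕ l → F)) :=
  ⟨by rw [perpS_bot]; exact nonDegS_top, fun v =>
    ⟨0, Submodule.zero_mem _, v, by rw [perpS_bot]; exact Submodule.mem_top, (zero_add v).symm⟩⟩

theorem Cut.cut {X : Submodule F (l ⊕ l → F)} (hC : Cut X) {u v : l ⊕ l → F}
    (hu : u ∈ perpS X) (hv : v ∈ perpS X) (huv : om u v = 1) :
    Cut (X ⊔ Submodule.span F {u, v}) := by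
  refine ⟨nonDeg_cutS hC.nd hu hv huv, fun z => ?_⟩
  obtain ⟨a, ha, b, hb, rfl⟩ := hC.sum z
  refine ⟨a + (om b v • u - om b u • v), Submodule.add_mem _ (Submodule.mem_sup_left ha)
    (Submodule.mem_sup_right (Submodule.sub_mem _
      (Submodule.smul_mem _ _ (Submodule.subset_span (by simp)))
      (Submodule.smul_mem _ _ (Submodule.subset_span (by simp))))),
    b - om b v • u + om b u • v, proj_mem hu hv huv hb, ?_⟩
  abel

end Cfsg.Agent.Helper2.Sp
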