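import Mathlib
import Cfsg.Agent.Helper2.SpCentA

/-! Counting lemmas for the centraliser orders of involutions of `Sp` in characteristic two. -/

set_option autoImplicit false

namespace Cfsg.Agent.Helper2.Sp

open Matrix Module

/-! ### generic fibre counting -/

theorem card_sigma_mul {α : Type*} {β : α → Type*} [Finite α] [∀ a, Finite (β a)] (c n : ℕ)
    (h : ∀ a, Nat.card (β a) * c = n) : Nat.card (Sigma β) * c = Nat.card α * n := by
  classical
  have : Fintype α := Fintype.ofFinite α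
  rw [Nat.card_sigma, Finset.sum_mul]
  simp only [h, Finset.sum_const, Finset.card_univ, smul_eq_mul, Nat.card_eq_fintype_card]

theorem card_split {α : Type*} [Finite α] (P Q : α → Prop) :
    Nat.card {x // P x} = Nat.card {x // P x ∧ Q x} + Nat.card {x // P x ∧ ¬ Q x} := by
  classical
  have e := (Equiv.sumCompl (fun x : {x // P x} => Q x.1)).symm
  rw [Nat.card_congr e, Nat.card_sum, Nat.card_congr (Equiv.subtypeSubtypeEquivSubtypeInter P Q),
    Nat.card_congr (Equiv.subtypeSubtypeEquivSubtypeInter P (fun x => ¬ Q x))]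

section fibre

variable {K V W : Type*} [Field K] [AddCommGroup V] [Module K V] [AddGroup W]

theorem card_fiber_eq (Y : Submodule K V) (φ : V →+ W) {c : W} {y₀ : V} (hy₀ : y₀ ∈ Y)
    (hc : φ y₀ = c) :
    Nat.card {y : V // y ∈ Y ∧ φ y = c} = Nat.card {y : V // y ∈ Y ∧ φ y = 0} := by
  apply Nat.card_congr
  refine ⟨fun y => ⟨y.1 - y₀, Y.sub_mem y.2.1 hy₀, by rw [map_sub, y.2.2, hc, sub_self]⟩,
    fun y => ⟨y.1 + y₀, Y.add_mem y.2.1 hy₀, by rw [map_add, y.2.2, hc, zero_add]⟩, ?_, ?_⟩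
  · intro y
    apply Subtype.ext
    show y.1 - y₀ + y₀ = y.1
    abel
  · intro y
    apply Subtype.ext
    show y.1 + y₀ - y₀ = y.1
    abel

theorem card_ker_mul [Finite V] [Finite W] (Y : Submodule K V) (φ : V →+ W)
    (hsurj : ∀ c : W, ∃ y ∈ Y, φ y = c) :
    Nat.card {y : V // y ∈ Y ∧ φ y = 0} * Nat.card W = Nat.card Y := by
  have e : ↥Y ≃ Σ c : W, {y : V // y ∈ Y ∧ φ y = c} :=
    ⟨fun y => ⟨φ y.1, y.1, y.2, rfl⟩, fun p => ⟨p.2.1, p.2.2.1⟩, fun y => rfl, fun p => by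
      obtain ⟨c, y, hy, rfl⟩ := p
      rfl⟩
  have h1 := card_sigma_mul (β := fun c : W => {y : V // y ∈ Y ∧ φ y = c}) 1
    (Nat.card {y : V // y ∈ Y ∧ φ y = 0}) (fun c => by
      obtain ⟨y₀, hy₀, hc⟩ := hsurj c
      rw [mul_one]
      exact card_fiber_eq Y φ hy₀ hc)
  rw [Nat.card_congr e, mul_comm]
  rw [mul_one] at h1
  exact h1.symm

end fibre

variable {l : Type*} [DecidableEq l] [Fintype l] {F : Type*} [Field F]

/-- `y ↦ ω(e, y)` as an additive map -/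
def omHom (e : l ⊕ l → F) : (l ⊕ l → F) →+ F :=
  AddMonoidHom.mk' (fun y => om e y) (fun a b => om_add_right e a b)

/-- `y ↦ (ω(a, y), ω(b, y))` as an additive map -/
def om2Hom (a b : l ⊕ l → F) : (l ⊕ l → F) →+ F × F :=
  AddMonoidHom.mk' (fun y => (om a y, om b y)) (fun u v => by
    show (om a (u + v), om b (u + v)) = (om a u, om b u) + (om a v, om b v)
    rw [om_add_right, om_add_right]
    rfl)

/-- `v ↦ ω(Av, v)` as an additive map -/
def lamHom {X : Submodule F (l ⊕ l → F)} {A : Matrix (l ⊕ l) (l ⊕ l) F} (hA : InvS X A) :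
    (l ⊕ l → F) →+ F :=
  AddMonoidHom.mk' (fun v => om (A *ᵥ v) v) (fun a b => hA.lam_add a b)

theorem card_om_one [Finite F] {Y : Submodule F (l ⊕ l → F)} (hY : NonDegS Y) {e : l ⊕ l → F}
    (he : e ∈ Y) (he0 : e ≠ 0) :
    Nat.card {f : l ⊕ l → F // f ∈ Y ∧ om e f = 1} * Nat.card F = Nat.card Y := by
  obtain ⟨u, hu, hu0⟩ := rel_exists_ne hY he he0
  have h1 : om e ((om e u)⁻¹ • u) = 1 := by rw [om_smul_right, inv_mul_cancel₀ hu0]
  have h3 := card_fiber_eq Y (omHom e) (Y.smul_mem (om e u)⁻¹ hu) h1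
  have h4 := card_ker_mul Y (omHom e) (fun c => ⟨c • ((om e u)⁻¹ • u),
    Y.smul_mem _ (Y.smul_mem _ hu), by
      show om e (c • ((om e u)⁻¹ • u)) = c
      rw [om_smul_right, h1, mul_one]⟩)
  rw [← h4]
  congr 1

theorem card_hyp_pairs [Finite F] {Y : Submodule F (l ⊕ l → F)} (hY : NonDegS Y) :
    Nat.card {p : Pair l F // p.1 ∈ Y ∧ p.2 ∈ Y ∧ om p.1 p.2 = 1} * Nat.card F =
      (Nat.card Y - 1) * Nat.card Y := by
  have e : {p : Pair l F // p.1 ∈ Y ∧ p.2 ∈ Y ∧ om p.1 p.2 = 1} ≃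
      Σ e : {e : l ⊕ l → F // e ∈ Y ∧ ¬ e = 0}, {f : l ⊕ l → F // f ∈ Y ∧ om e.1 f = 1} :=
    ⟨fun p => ⟨⟨p.1.1, p.2.1, by
        intro h0
        have h1 := p.2.2.2
        rw [h0, om_zero_left] at h1
        exact zero_ne_one h1⟩, ⟨p.1.2, p.2.2.1, p.2.2.2⟩⟩,
      fun s => ⟨(s.1.1, s.2.1), s.1.2.1, s.2.2.1, s.2.2.2⟩, fun p => rfl, fun s => rfl⟩
  have h1 := card_sigma_mul
    (β := fun e : {e : l ⊕ l → F // e ∈ Y ∧ ¬ e = 0} => {f : l ⊕ l → F // f ∈ Y ∧ om e.1 f = 1})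
    (Nat.card F) (Nat.card Y) (fun e => card_om_one hY e.2.1 e.2.2)
  have h3 := card_split (fun e : l ⊕ l → F => e ∈ Y) (fun e => e = 0)
  have h4 : Nat.card {x : l ⊕ l → F // x ∈ Y ∧ x = 0} = 1 := by
    have : Unique {x : l ⊕ l → F // x ∈ Y ∧ x = 0} :=
      ⟨⟨⟨0, Y.zero_mem, rfl⟩⟩, fun x => Subtype.ext x.2.2⟩
    exact Nat.card_unique
  rw [Nat.card_congr e, h1]
  congr 1
  have h5 : Nat.card Y = Nat.card {x : l ⊕ l → F // x ∈ Y} := rfl
  omega

theorem card_lam_one [Finite F] (h2 : (2 : F) = 0) {X : Submodule F (l ⊕ l → F)}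
    {A : Matrix (l ⊕ l) (l ⊕ l) F} (hA : InvS X A)
    (hna : ∃ v ∈ perpS X, om (A *ᵥ v) v ≠ 0) :
    Nat.card {x : l ⊕ l → F // x ∈ perpS X ∧ om (A *ᵥ x) x = 1} * Nat.card F =
      Nat.card (perpS X) := by
  have hchar : CharP F 2 := CharTwo.of_one_ne_zero_of_two_eq_zero one_ne_zero h2
  obtain ⟨x₁, hx₁Y, hx₁⟩ := exists_lam_one h2 hA hna
  have h3 := card_fiber_eq (perpS X) (lamHom hA) hx₁Y hx₁
  have h4 := card_ker_mul (perpS X) (lamHom hA) (fun c => by
    obtain ⟨m, hm⟩ := isSquare_of_charTwo' c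
    refine ⟨m • x₁, (perpS X).smul_mem _ hx₁Y, ?_⟩
    show om (A *ᵥ (m • x₁)) (m • x₁) = c
    rw [hA.lam_smul, hx₁, mul_one, hm])
  rw [← h4]
  congr 1

theorem card_kerN [Finite F] {X : Submodule F (l ⊕ l → F)} (hC : Cut X)
    {A : Matrix (l ⊕ l) (l ⊕ l) F} (hA : InvS X A) :
    Nat.card {y : l ⊕ l → F // y ∈ perpS X ∧ (A - 1) *ᵥ y = 0} * Nat.card F ^ (A - 1).rank =
      Nat.card (perpS X) := by
  have h4 := card_ker_mul (perpS X) ((A - 1).mulVecLin.rangeRestrict).toAddMonoidHom (fun c => by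
    obtain ⟨v, hv⟩ := c.2
    obtain ⟨a, ha, b, hb, rfl⟩ := hC.sum v
    refine ⟨b, hb, ?_⟩
    apply Subtype.ext
    show (A - 1) *ᵥ b = c.1
    rw [← hv, Matrix.mulVecLin_apply, mulVec_add, sub_one_mulVec A a, hA.fix a ha, sub_self,
      zero_add])
  have h5 : Nat.card ↥(LinearMap.range (A - 1).mulVecLin) = Nat.card F ^ (A - 1).rank :=
    Module.natCard_eq_pow_finrank
  rw [← h4, h5]
  congr 1
  apply Nat.card_congr
  apply Equiv.subtypeEquivRight
  intro y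
  apply and_congr_right
  intro _
  constructor
  · intro h
    apply Subtype.ext
    exact h
  · intro h
    exact congrArg Subtype.val h

theorem card_pair_fiber [Finite F] (h2 : (2 : F) = 0) {X : Submodule F (l ⊕ l → F)}
    (hY : NonDegS (perpS X)) {A : Matrix (l ⊕ l) (l ⊕ l) F} (hA : InvS X A) {x : l ⊕ l → F}
    (hNx : ¬ (A - 1) *ᵥ x = 0) :
    Nat.card {y : l ⊕ l → F // y ∈ perpS X ∧ om ((A - 1) *ᵥ x) y = 1 ∧ om x y = 0} *
      (Nat.card F * Nat.card F) = Nat.card (perpS X) := by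
  obtain ⟨w, hw⟩ : ∃ w, w = (A - 1) *ᵥ x := ⟨_, rfl⟩
  rw [← hw] at hNx ⊢
  have hwY : w ∈ perpS X := by rw [hw]; exact hA.NY x
  obtain ⟨u, hu, hu0⟩ := rel_exists_ne hY hwY hNx
  obtain ⟨y₁, hy₁⟩ : ∃ y₁, y₁ = (om w u)⁻¹ • u := ⟨_, rfl⟩
  have hy₁Y : y₁ ∈ perpS X := by rw [hy₁]; exact (perpS X).smul_mem _ hu
  have hwy₁ : om w y₁ = 1 := by rw [hy₁, om_smul_right, inv_mul_cancel₀ hu0]
  obtain ⟨z, hz⟩ : ∃ z, z = (A - 1) *ᵥ y₁ := ⟨_, rfl⟩
  have hzY : z ∈ perpS X := by rw [hz]; exact hA.NY y₁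
  have hwz : om w z = 0 := by rw [hw, hz]; exact hA.Niso h2 x y₁
  have hxz : om x z = 1 := by rw [hz, ← hA.Nadj, ← hw, hwy₁]
  obtain ⟨y₀, hy₀⟩ : ∃ y₀, y₀ = y₁ + om x y₁ • z := ⟨_, rfl⟩
  have hy₀Y : y₀ ∈ perpS X := by
    rw [hy₀]; exact (perpS X).add_mem hy₁Y ((perpS X).smul_mem _ hzY)
  have hwy₀ : om w y₀ = 1 := by
    rw [hy₀, om_add_right, om_smul_right, hwz, mul_zero, add_zero, hwy₁]
  have hxy₀ : om x y₀ = 0 := by
    rw [hy₀, om_add_right, om_smul_right, hxz, mul_one, ← two_mul, h2, zero_mul]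
  have h3 := card_fiber_eq (perpS X) (om2Hom w x) (c := ((1 : F), (0 : F))) hy₀Y (by
    show (om w y₀, om x y₀) = (1, 0)
    rw [hwy₀, hxy₀])
  have h4 := card_ker_mul (perpS X) (om2Hom w x) (fun c => by
    refine ⟨c.1 • y₀ + c.2 • z, (perpS X).add_mem ((perpS X).smul_mem _ hy₀Y)
      ((perpS X).smul_mem _ hzY), ?_⟩
    show (om w (c.1 • y₀ + c.2 • z), om x (c.1 • y₀ + c.2 • z)) = c
    rw [om_add_right, om_add_right, om_smul_right, om_smul_right, om_smul_right, om_smul_right,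
      hwy₀, hwz, hxy₀, hxz]
    apply Prod.ext
    · show c.1 * 1 + c.2 * 0 = c.1
      ring
    · show c.1 * 0 + c.2 * 1 = c.2
      ring)
  rw [Nat.card_prod] at h4
  rw [← h4, ← h3]
  congr 1
  apply Nat.card_congr
  apply Equiv.subtypeEquivRight
  intro y
  apply and_congr_right
  intro _
  show om w y = 1 ∧ om x y = 0 ↔ (om w y, om x y) = ((1 : F), (0 : F))
  rw [Prod.mk.injEq]

/-- the set of pairs used to peel an alternating involution -/
def PiSet (X : Submodule F (l ⊕ l → F)) (A : Matrix (l ⊕ l) (l ⊕ l) F) : Set (Pair l F) :=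
  {p | p.1 ∈ perpS X ∧ p.2 ∈ perpS X ∧ om ((A - 1) *ᵥ p.1) p.2 = 1 ∧ om p.1 p.2 = 0}

theorem card_PiSet [Finite F] (h2 : (2 : F) = 0) {X : Submodule F (l ⊕ l → F)}
    (hY : NonDegS (perpS X)) {A : Matrix (l ⊕ l) (l ⊕ l) F} (hA : InvS X A) :
    Nat.card (PiSet X A) * (Nat.card F * Nat.card F) =
      (Nat.card (perpS X) - Nat.card {y : l ⊕ l → F // y ∈ perpS X ∧ (A - 1) *ᵥ y = 0}) *
        Nat.card (perpS X) := by
  have e : ↥(PiSet X A) ≃
      Σ x : {x : l ⊕ l → F // x ∈ perpS X ∧ ¬ (A - 1) *ᵥ x = 0},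
        {y : l ⊕ l → F // y ∈ perpS X ∧ om ((A - 1) *ᵥ x.1) y = 1 ∧ om x.1 y = 0} :=
    ⟨fun p => ⟨⟨p.1.1, p.2.1, by
        intro h0
        have h1 := p.2.2.2.1
        rw [h0, om_zero_left] at h1
        exact zero_ne_one h1⟩, ⟨p.1.2, p.2.2.1, p.2.2.2.1, p.2.2.2.2⟩⟩,
      fun s => ⟨(s.1.1, s.2.1), s.1.2.1, s.2.2.1, s.2.2.2.1, s.2.2.2.2⟩, fun p => rfl,
      fun s => rfl⟩
  have h1 := card_sigma_mul
    (β := fun x : {x : l ⊕ l → F // x ∈ perpS X ∧ ¬ (A - 1) *ᵥ x = 0} =>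
      {y : l ⊕ l → F // y ∈ perpS X ∧ om ((A - 1) *ᵥ x.1) y = 1 ∧ om x.1 y = 0})
    (Nat.card F * Nat.card F) (Nat.card (perpS X)) (fun x => card_pair_fiber h2 hY hA x.2.2)
  have h3 := card_split (fun e : l ⊕ l → F => e ∈ perpS X) (fun e => (A - 1) *ᵥ e = 0)
  rw [Nat.card_congr e, h1]
  congr 1
  have h5 : Nat.card (perpS X) = Nat.card {x : l ⊕ l → F // x ∈ perpS X} := rfl
  omega

/-- the vectors `x` with `λ(x) = 1` whose remainder is alternating -/
def OaSet (X : Submodule F (l ⊕ l → F)) (A : Matrix (l ⊕ l) (l ⊕ l) F) : Set (l ⊕ l → F) :=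
  {x | x ∈ perpS X ∧ om (A *ᵥ x) x = 1 ∧
    ∀ v ∈ perpS X, om (A *ᵥ v) v = om ((A - 1) *ᵥ x) v * om ((A - 1) *ᵥ x) v}

theorem sq_inj (h2 : (2 : F) = 0) {a b : F} (h : a * a = b * b) : a = b := by
  have h1 : (a - b) * (a - b) = 0 := by linear_combination h + (b * b - a * b) * h2
  have h3 := mul_self_eq_zero.mp h1
  exact sub_eq_zero.mp h3

theorem card_OaSet [Finite F] (h2 : (2 : F) = 0) {X : Submodule F (l ⊕ l → F)}
    (hY : NonDegS (perpS X)) {A : Matrix (l ⊕ l) (l ⊕ l) F} (hA : InvS X A) {x₀ : l ⊕ l → F}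
    (hx₀ : x₀ ∈ OaSet X A) :
    Nat.card (OaSet X A) = Nat.card {y : l ⊕ l → F // y ∈ perpS X ∧ (A - 1) *ᵥ y = 0} := by
  have hvv : ∀ v : l ⊕ l → F, v + v = 0 := fun v => by rw [← two_smul F v, h2, zero_smul]
  obtain ⟨hx₀Y, hx₀1, hx₀all⟩ := hx₀
  apply Nat.card_congr
  refine ⟨fun x => ⟨x.1 - x₀, (perpS X).sub_mem x.2.1 hx₀Y, ?_⟩,
    fun k => ⟨k.1 + x₀, (perpS X).add_mem k.2.1 hx₀Y, ?_, ?_⟩, ?_, ?_⟩
  · -- `N (x - x₀) = 0`
    obtain ⟨hxY, hx1, hxall⟩ := x.2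
    apply hY _ (hA.NY _)
    intro v hv
    rw [mulVec_sub, om_sub_left]
    have h5 := sq_inj h2 ((hxall v hv).symm.trans (hx₀all v hv))
    rw [h5, sub_self]
  · -- `λ (k + x₀) = 1`
    have hk := k.2.2
    have h5 : om (A *ᵥ k.1) k.1 = 0 := by
      rw [← hA.lam_eq, hk, om_zero_left]
    rw [hA.lam_add, h5, hx₀1, zero_add]
  · intro v hv
    rw [mulVec_add, k.2.2, zero_add]
    exact hx₀all v hv
  · intro x
    apply Subtype.ext
    show x.1 - x₀ + x₀ = x.1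
    abel
  · intro k
    apply Subtype.ext
    show k.1 + x₀ - x₀ = k.1
    abel

/-- a function which is additive and quadratic-homogeneous vanishes if it vanishes on the
standard basis -/
theorem quad_zero {μ : (l ⊕ l → F) → F} (hadd : ∀ x y, μ (x + y) = μ x + μ y)
    (hsmul : ∀ (k : F) x, μ (k • x) = k * k * μ x) (hb : ∀ b, μ (Pi.single b 1) = 0)
    (v : l ⊕ l → F) : μ v = 0 := by
  have h0 : μ 0 = 0 := by
    have := hsmul 0 0
    rw [zero_smul, zero_mul, zero_mul] at this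
    exact this
  have key : ∀ s : Finset (l ⊕ l), μ (∑ a ∈ s, v a • Pi.single a (1 : F)) = 0 := by
    intro s
    induction s using Finset.induction_on with
    | empty => rw [Finset.sum_empty, h0]
    | insert a s ha ih =>
      rw [Finset.sum_insert ha, hadd, hsmul, hb, ih]
      ring
  have hv : v = ∑ a, v a • Pi.single a (1 : F) := by
    ext b
    simp [Finset.sum_apply, Pi.single_apply]
  have h1 := key Finset.univ
  rwa [← hv] at h1

/-- Riesz representation of the square root of `λ` -/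
theorem exists_riesz [Finite F] (h2 : (2 : F) = 0) {X : Submodule F (l ⊕ l → F)}
    {A : Matrix (l ⊕ l) (l ⊕ l) F} (hA : InvS X A) :
    ∃ a : l ⊕ l → F, ∀ v, om (A *ᵥ v) v = om a v * om a v := by
  have hchar : CharP F 2 := CharTwo.of_one_ne_zero_of_two_eq_zero one_ne_zero h2
  have hneg : ∀ a : F, -a = a := fun a =>
    neg_eq_of_add_eq_zero_left (by rw [← two_mul, h2, zero_mul])
  have hex : ∀ b : l ⊕ l, ∃ m : F, om (A *ᵥ Pi.single b 1) (Pi.single b (1 : F)) = m * m :=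
    fun b => isSquare_of_charTwo' _
  choose c hc using hex
  refine ⟨vecMulJ.symm c, fun v => ?_⟩
  have hom : om (vecMulJ.symm c) v = c ⬝ᵥ v := by
    unfold om
    rw [dotProduct_mulVec]
    have : (vecMulJ.symm c) ᵥ* J l F = c := vecMulJ.apply_symm_apply c
    rw [this]
  rw [hom]
  have h1 := quad_zero (μ := fun v => om (A *ᵥ v) v + (c ⬝ᵥ v) * (c ⬝ᵥ v)) (fun x y => by
      show om (A *ᵥ (x + y)) (x + y) + (c ⬝ᵥ (x + y)) * (c ⬝ᵥ (x + y)) = _
      rw [hA.lam_add, dotProduct_add]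
      linear_combination ((c ⬝ᵥ x) * (c ⬝ᵥ y)) * h2) (fun k x => by
      show om (A *ᵥ (k • x)) (k • x) + (c ⬝ᵥ (k • x)) * (c ⬝ᵥ (k • x)) = _
      rw [hA.lam_smul, dotProduct_smul, smul_eq_mul]
      ring) (fun b => by
      show om (A *ᵥ Pi.single b 1) (Pi.single b (1 : F)) +
        (c ⬝ᵥ Pi.single b 1) * (c ⬝ᵥ Pi.single b 1) = 0
      rw [dotProduct_single_one, hc b, ← two_mul, h2, zero_mul]) v
  have h3 : om (A *ᵥ v) v = -((c ⬝ᵥ v) * (c ⬝ᵥ v)) := eq_neg_of_add_eq_zero_left h1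
  rw [h3, hneg]

/-- multiplying by a transvection with fixed centre -/
theorem mulT_inv (h2 : (2 : F) = 0) {X : Submodule F (l ⊕ l → F)}
    {A : Matrix (l ⊕ l) (l ⊕ l) F} (hA : InvS X A) {a : l ⊕ l → F} (haY : a ∈ perpS X)
    (hAa : A *ᵥ a = a) :
    InvS X (T a 1 * A) ∧ (∀ v, om ((T a 1 * A) *ᵥ v) v = om (A *ᵥ v) v + om a v * om a v) ∧
      (∀ v, (T a 1 * A - 1) *ᵥ v = (A - 1) *ᵥ v + om a v • a) := by
  have hTT : T a (1 : F) * T a 1 = 1 := by
    rw [T_mulS, one_add_one_eq_two, h2, T_zeroS]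
  have hcomm : A * T a 1 = T a 1 * A := by
    have h8 := T_conjS A hA.pres a (1 : F)
    rwa [hAa] at h8
  have h9 : ∀ v, om a (A *ᵥ v) = om a v := by
    intro v
    have h10 := hA.pres a v
    rwa [hAa] at h10
  refine ⟨⟨(PresS_T a 1).mul hA.pres, ?_, ?_⟩, ?_, ?_⟩
  · calc T a 1 * A * (T a 1 * A) = T a 1 * (A * T a 1) * A := by simp only [Matrix.mul_assoc]
      _ = T a 1 * (T a 1 * A) * A := by rw [hcomm]
      _ = (T a 1 * T a 1) * (A * A) := by simp only [Matrix.mul_assoc]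
      _ = 1 := by rw [hTT, hA.sq, Matrix.one_mul]
  · intro z hz
    rw [← Matrix.mulVec_mulVec, hA.fix z hz, T_mulVec, haY z hz, mul_zero, zero_smul, add_zero]
  · intro v
    rw [← Matrix.mulVec_mulVec, T_mulVec, one_mul, h9, om_add_left, om_smul_left]
  · intro v
    rw [sub_one_mulVec, sub_one_mulVec, ← Matrix.mulVec_mulVec, T_mulVec, one_mul, h9]
    abel

/-- for odd rank there is a vector with `λ(x) = 1` whose remainder is alternating -/
theorem exists_Oa [Finite F] (h2 : (2 : F) = 0) {X : Submodule F (l ⊕ l → F)} (hC : Cut X)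
    {A : Matrix (l ⊕ l) (l ⊕ l) F} (hA : InvS X A) (hodd : Odd (A - 1).rank) :
    ∃ x₀, x₀ ∈ OaSet X A := by
  have hneg : ∀ a : F, -a = a := fun a =>
    neg_eq_of_add_eq_zero_left (by rw [← two_mul, h2, zero_mul])
  obtain ⟨a, ha⟩ := exists_riesz h2 hA
  have haY : a ∈ perpS X := by
    rw [mem_perpS]
    intro z hz
    have h1 := ha z
    rw [hA.fix z hz, om_self] at h1
    exact mul_self_eq_zero.mp h1.symm
  have hAa : A *ᵥ a = a := by
    have h1 : ∀ v, om (A *ᵥ a - a) v = 0 := by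
      intro v
      have h3 : om a (A *ᵥ v) * om a (A *ᵥ v) = om a v * om a v := by
        rw [← ha, ← ha, hA.sqv, om_swap (A *ᵥ v) v, hneg]
      rw [om_sub_left, hA.adj, sq_inj h2 h3, sub_self]
    by_contra hne
    obtain ⟨u, hu⟩ := exists_om_ne_zero (sub_ne_zero.mpr hne)
    exact hu (h1 u)
  obtain ⟨hInv'', hlam'', hN''⟩ := mulT_inv h2 hA haY hAa
  have halt'' : AltS X (T a 1 * A) := by
    intro v _
    rw [hlam'', ha, ← two_mul, h2, zero_mul]
  have hev := even_rank_of_altS h2 hC.nd _ _ hInv'' halt'' rfl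
  -- there is `x₁` with `N x₁ = a` and `ω(a, x₁) = 1`
  have hex : ∃ x₁, (A - 1) *ᵥ x₁ = a ∧ om a x₁ = 1 := by
    by_contra hcon
    push Not at hcon
    have hker : LinearMap.ker (T a 1 * A - 1).mulVecLin = LinearMap.ker (A - 1).mulVecLin := by
      ext v
      rw [LinearMap.mem_ker, LinearMap.mem_ker, Matrix.mulVecLin_apply, Matrix.mulVecLin_apply,
        hN'']
      constructor
      · intro h
        by_cases h0 : om a v = 0
        · rw [h0, zero_smul, add_zero] at h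
          exact h
        · exfalso
          apply hcon ((om a v)⁻¹ • v)
          · rw [mulVec_smul]
            have h5 : (A - 1) *ᵥ v = om a v • a := by
              have h6 := eq_neg_of_add_eq_zero_left h
              rw [h6, ← neg_smul, hneg]
            rw [h5, smul_smul, inv_mul_cancel₀ h0, one_smul]
          · rw [om_smul_right, inv_mul_cancel₀ h0]
      · intro h
        have h5 : om a v = 0 := by
          have h6 := ha v
          rw [← hA.lam_eq, h, om_zero_left] at h6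
          exact mul_self_eq_zero.mp h6.symm
        rw [h, h5, zero_smul, add_zero]
    have r1 := rank_add_nul' (A - 1)
    have r2 := rank_add_nul' (T a 1 * A - 1)
    rw [hker] at r2
    have h7 : (T a 1 * A - 1).rank = (A - 1).rank := by omega
    rw [h7] at hev
    exact (Nat.not_even_iff_odd.mpr hodd) hev
  obtain ⟨x₁, hx₁N, hx₁a⟩ := hex
  obtain ⟨z, hz, x₀, hx₀, rfl⟩ := hC.sum x₁
  have hNz : (A - 1) *ᵥ z = 0 := by rw [sub_one_mulVec, hA.fix z hz, sub_self]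
  have hNx₀ : (A - 1) *ᵥ x₀ = a := by
    rw [mulVec_add, hNz, zero_add] at hx₁N
    exact hx₁N
  have hax₀ : om a x₀ = 1 := by
    rw [om_add_right, haY z hz, zero_add] at hx₁a
    exact hx₁a
  refine ⟨x₀, hx₀, ?_, ?_⟩
  · rw [← hA.lam_eq, hNx₀, hax₀]
  · intro v _
    rw [hNx₀]
    exact ha v

/-- the remainder after peeling `x` is alternating iff `x` represents `λ` -/
theorem altS_peel_iff (h2 : (2 : F) = 0) {X : Submodule F (l ⊕ l → F)}
    {A : Matrix (l ⊕ l) (l ⊕ l) F} (hA : InvS X A) {x w : l ⊕ l → F} (hxY : x ∈ perpS X)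
    (hx1 : om (A *ᵥ x) x = 1) (hw : w = (A - 1) *ᵥ x) :
    AltS (X ⊔ Submodule.span F {w, x}) (T w 1 * A) ↔
      ∀ v ∈ perpS X, om (A *ᵥ v) v = om w v * om w v := by
  have hneg : ∀ a : F, -a = a := fun a =>
    neg_eq_of_add_eq_zero_left (by rw [← two_mul, h2, zero_mul])
  obtain ⟨hwY, hwx, -, hInv, -, -, hlam', hA'w, hA'x⟩ := pB_spec h2 hA hxY hx1 hw
  constructor
  · intro h v hv
    have hv' := h _ (proj_mem hwY hxY hwx hv)
    have hs : (T w 1 * A) *ᵥ (om v x • w - om v w • x) = om v x • w - om v w • x := by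
      rw [mulVec_sub, mulVec_smul, mulVec_smul, hA'w, hA'x]
    have hdec : v = (v - om v x • w + om v w • x) + (om v x • w - om v w • x) := by abel
    have h5 : om ((T w 1 * A) *ᵥ v) v = 0 := by
      conv_lhs => rw [hdec]
      rw [hInv.lam_add, hv', hs, om_self, add_zero]
    rw [hlam'] at h5
    have h6 := eq_neg_of_add_eq_zero_left h5
    rw [h6, hneg]
  · intro h v hv
    have hvX : v ∈ perpS X := perpS_anti le_sup_left hv
    rw [hlam', h v hvX, ← two_mul, h2, zero_mul]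

end Cfsg.Agent.Helper2.Sp
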