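import Mathlib
import Cfsg.Agent.Helper2.OInvC
import Cfsg.Agent.Helper2.SpCentB
import Cfsg.Agent.Helper2.QuadMinus
import Cfsg.Agent.S2171

set_option autoImplicit false
set_option linter.unusedSectionVars false

/-! Characteristic two: the classes of involutions of `O⁻_{2m}(q)`. -/

namespace Cfsg.Agent.Helper2.OInv

open Matrix Module Cfsg.Agent.Helper28.QWitt Cfsg.Agent.Helper28.IsoTransport Cfsg.Agent.Helper2.Sp
  Cfsg.Agent.Helper28.Spin

section counting

variable {F V : Type*} [Field F] [Fintype F] [AddCommGroup V] [Module F V] [Fintype V]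

/-- a quadratic space with a totally singular subspace equal to its own orthogonal has the number
of singular vectors of a hyperbolic space -/
theorem card_sing_lagrangian (Q : QuadraticForm F V) (W : Submodule F V)
    (hW0 : ∀ w ∈ W, Q w = 0)
    (hWW : ∀ v, (∀ w ∈ W, QuadraticMap.polar Q v w = 0) → v ∈ W) :
    Nat.card {v : V // Q v = 0} * Nat.card W * Fintype.card F =
      Nat.card W * Nat.card W * Fintype.card F + (Nat.card V - Nat.card W) * Nat.card W := by
  classical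
  have hQvw : ∀ (v : V) (w : W), Q (v + w.1) = Q v + QuadraticMap.polar Q v w.1 := by
    intro v w
    have := hW0 w.1 w.2
    unfold QuadraticMap.polar
    rw [this]; ring
  have c1 : Nat.card {p : V × W // Q (p.1 + p.2.1) = 0} =
      Nat.card {v : V // Q v = 0} * Nat.card W := by
    rw [← Nat.card_prod]
    apply Nat.card_congr
    refine ⟨fun p => (⟨p.1.1 + p.1.2.1, p.2⟩, p.1.2),
      fun s => ⟨(s.1.1 - s.2.1, s.2), by simp [s.1.2]⟩, ?_, ?_⟩
    · rintro ⟨⟨v, w⟩, h⟩; simp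
    · rintro ⟨⟨s, hs⟩, w⟩; simp
  have c2 : Nat.card {p : V × W // Q (p.1 + p.2.1) = 0} =
      ∑ v : V, Nat.card {w : W // Q (v + w.1) = 0} := by
    rw [← Nat.card_sigma]
    exact Nat.card_congr
      (Equiv.subtypeProdEquivSigmaSubtype (fun (v : V) (w : W) => Q (v + w.1) = 0))
  have f1 : ∀ v ∈ W, Nat.card {w : W // Q (v + w.1) = 0} * Fintype.card F =
      Nat.card W * Fintype.card F := by
    intro v hv
    congr 1
    exact Nat.card_congr (Equiv.subtypeUnivEquiv (fun w => hW0 _ (W.add_mem hv w.2)))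
  have f2 : ∀ v ∉ W, Nat.card {w : W // Q (v + w.1) = 0} * Fintype.card F = Nat.card W := by
    intro v hv
    obtain ⟨w₀, hw₀, hvw₀⟩ : ∃ w₀ ∈ W, QuadraticMap.polar Q v w₀ ≠ 0 := by
      by_contra h
      push Not at h
      exact hv (hWW v h)
    let φ : V →+ F := (QuadraticMap.polarBilin Q v).toAddMonoidHom
    have hφ : ∀ y, φ y = QuadraticMap.polar Q v y := fun y => rfl
    have hsurj : ∀ c : F, ∃ y ∈ W, φ y = c := by
      intro c
      refine ⟨(c / QuadraticMap.polar Q v w₀) • w₀, W.smul_mem _ hw₀, ?_⟩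
      rw [hφ, QuadraticMap.polar_smul_right, smul_eq_mul, div_mul_cancel₀ _ hvw₀]
    have e : {w : W // Q (v + w.1) = 0} ≃ {y : V // y ∈ W ∧ φ y = -Q v} := by
      refine ⟨fun w => ⟨w.1.1, w.1.2, ?_⟩, fun y => ⟨⟨y.1, y.2.1⟩, ?_⟩, ?_, ?_⟩
      · have := w.2
        rw [hQvw] at this
        rw [hφ]
        linear_combination this
      · have := y.2.2
        rw [hφ] at this
        rw [hQvw]
        show Q v + QuadraticMap.polar Q v y.1 = 0
        rw [this]; ring
      · intro w; rfl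
      · intro y; rfl
    obtain ⟨y₀, hy₀, hy₀c⟩ := hsurj (-Q v)
    rw [Nat.card_congr e, card_fiber_eq W φ hy₀ hy₀c, ← Nat.card_eq_fintype_card]
    exact card_ker_mul W φ hsurj
  have hsum : (∑ v : V, Nat.card {w : W // Q (v + w.1) = 0}) * Fintype.card F =
      ∑ v : V, (if v ∈ W then Nat.card W * Fintype.card F else Nat.card W) := by
    rw [Finset.sum_mul]
    apply Finset.sum_congr rfl
    intro v _
    split_ifs with h
    · exact f1 v h
    · exact f2 v h
  have hcW : (Finset.univ.filter (fun v : V => v ∈ W)).card = Nat.card W := by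
    rw [Nat.card_eq_fintype_card]
    exact (Fintype.card_of_subtype _ (by intro x; simp)).symm
  have hcW' : (Finset.univ.filter (fun v : V => ¬ v ∈ W)).card = Nat.card V - Nat.card W := by
    have := Finset.card_filter_add_card_filter_not (s := (Finset.univ : Finset V))
      (fun v : V => v ∈ W)
    rw [hcW, Finset.card_univ, ← Nat.card_eq_fintype_card] at this
    omega
  have hfin : Nat.card {v : V // Q v = 0} * Nat.card W * Fintype.card F =
      ∑ v : V, (if v ∈ W then Nat.card W * Fintype.card F else Nat.card W) := by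
    rw [← c1, c2, hsum]
  rw [hfin, Finset.sum_ite, Finset.sum_const, Finset.sum_const, hcW, hcW', smul_eq_mul,
    smul_eq_mul]
  ring

end counting

section minus

variable (F : Type*) [Field F] (k : ℕ) (a b : F)

/-- the binary form -/
def bin (z : Fin 2 → F) : F := z 0 ^ 2 + a * z 0 * z 1 + b * z 1 ^ 2

theorem Qm_split (v : (Fin k ⊕ Fin k) ⊕ Fin 2 → F) :
    QfMinus k F a b v = QfPlus k F (v ∘ Sum.inl) + bin F a b (v ∘ Sum.inr) := rfl

/-- block diagonal matrices -/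
def blk (A : Matrix (Fin k ⊕ Fin k) (Fin k ⊕ Fin k) F) (D : Matrix (Fin 2) (Fin 2) F) :
    Matrix ((Fin k ⊕ Fin k) ⊕ Fin 2) ((Fin k ⊕ Fin k) ⊕ Fin 2) F := fromBlocks A 0 0 D

variable {F k}

theorem blk_mulVec_inl (A : Matrix (Fin k ⊕ Fin k) (Fin k ⊕ Fin k) F)
    (D : Matrix (Fin 2) (Fin 2) F) (v : (Fin k ⊕ Fin k) ⊕ Fin 2 → F) :
    (blk F k A D *ᵥ v) ∘ Sum.inl = A *ᵥ (v ∘ Sum.inl) := by
  unfold blk
  rw [fromBlocks_mulVec]
  funext i
  simp

theorem blk_mulVec_inr (A : Matrix (Fin k ⊕ Fin k) (Fin k ⊕ Fin k) F)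
    (D : Matrix (Fin 2) (Fin 2) F) (v : (Fin k ⊕ Fin k) ⊕ Fin 2 → F) :
    (blk F k A D *ᵥ v) ∘ Sum.inr = D *ᵥ (v ∘ Sum.inr) := by
  unfold blk
  rw [fromBlocks_mulVec]
  funext i
  simp

theorem blk_isom {A : Matrix (Fin k ⊕ Fin k) (Fin k ⊕ Fin k) F}
    {D : Matrix (Fin 2) (Fin 2) F} (hA : ∀ x, QfPlus k F (A *ᵥ x) = QfPlus k F x)
    (hD : ∀ z, bin F a b (D *ᵥ z) = bin F a b z) (v : (Fin k ⊕ Fin k) ⊕ Fin 2 → F) :
    QfMinus k F a b (blk F k A D *ᵥ v) = QfMinus k F a b v := by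
  rw [Qm_split, Qm_split, blk_mulVec_inl, blk_mulVec_inr, hA, hD]

theorem blk_sq {A : Matrix (Fin k ⊕ Fin k) (Fin k ⊕ Fin k) F}
    {D : Matrix (Fin 2) (Fin 2) F} (hA : A * A = 1) (hD : D * D = 1) :
    blk F k A D * blk F k A D = 1 := by
  unfold blk
  rw [fromBlocks_multiply]
  simp [hA, hD, fromBlocks_one]

theorem blk_sub_one (A : Matrix (Fin k ⊕ Fin k) (Fin k ⊕ Fin k) F)
    (D : Matrix (Fin 2) (Fin 2) F) : blk F k A D - 1 = blk F k (A - 1) (D - 1) := by
  unfold blk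
  ext (i | i) (j | j) <;> simp [Matrix.one_apply]

theorem blk_rank (A : Matrix (Fin k ⊕ Fin k) (Fin k ⊕ Fin k) F)
    (D : Matrix (Fin 2) (Fin 2) F) :
    (blk F k A D - 1).rank = (A - 1).rank + (D - 1).rank := by
  rw [blk_sub_one]
  exact rank_fromBlocks_diag _ _

theorem blk_alt_val (A : Matrix (Fin k ⊕ Fin k) (Fin k ⊕ Fin k) F)
    (D : Matrix (Fin 2) (Fin 2) F) (v : (Fin k ⊕ Fin k) ⊕ Fin 2 → F) :
    QfMinus k F a b ((blk F k A D - 1) *ᵥ v) =
      QfPlus k F ((A - 1) *ᵥ (v ∘ Sum.inl)) + bin F a b ((D - 1) *ᵥ (v ∘ Sum.inr)) := by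
  rw [blk_sub_one, Qm_split, blk_mulVec_inl, blk_mulVec_inr]

variable (F)

/-- the reflection of the anisotropic plane -/
def tau : Matrix (Fin 2) (Fin 2) F := !![1, a; 0, 1]

variable {F}

theorem tau_sq (h2 : (2 : F) = 0) : tau F a * tau F a = 1 := by
  rw [tau, Matrix.mul_fin_two, Matrix.one_fin_two]
  have : (1 : F) * a + a * 1 = 0 := by linear_combination a * h2
  rw [this]
  simp

theorem tau_mulVec_zero (z : Fin 2 → F) : (tau F a *ᵥ z) 0 = z 0 + a * z 1 := by
  simp [tau, Matrix.mulVec, dotProduct, Fin.sum_univ_two]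

theorem tau_mulVec_one (z : Fin 2 → F) : (tau F a *ᵥ z) 1 = z 1 := by
  simp [tau, Matrix.mulVec, dotProduct, Fin.sum_univ_two]

theorem tau_isom (h2 : (2 : F) = 0) (z : Fin 2 → F) :
    bin F a b (tau F a *ᵥ z) = bin F a b z := by
  unfold bin
  rw [tau_mulVec_zero, tau_mulVec_one]
  linear_combination (a * z 0 * z 1 + a ^ 2 * z 1 ^ 2) * h2

theorem tau_sub_one_mulVec_zero (z : Fin 2 → F) : ((tau F a - 1) *ᵥ z) 0 = a * z 1 := by
  rw [Matrix.sub_mulVec, Matrix.one_mulVec, Pi.sub_apply, tau_mulVec_zero]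
  ring

theorem tau_sub_one_mulVec_one (z : Fin 2 → F) : ((tau F a - 1) *ᵥ z) 1 = 0 := by
  rw [Matrix.sub_mulVec, Matrix.one_mulVec, Pi.sub_apply, tau_mulVec_one]
  ring

theorem rank_tau_sub_one (ha : a ≠ 0) : (tau F a - 1).rank = 1 := by
  have e : tau F a - 1 = vecMulVec ![1, 0] ![0, a] := by
    ext i j
    fin_cases i <;> fin_cases j <;> simp [tau, vecMulVec_apply]
  apply le_antisymm
  · rw [e]
    exact rank_vecMulVec_le _ _
  · have : (tau F a - 1).rank ≠ 0 := by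
      apply rank_ne_zero_of_ne_zero
      intro h0
      have := congrFun (congrFun h0 0) 1
      simp [tau] at this
      exact ha this
    omega

theorem bin_zero : bin F a b 0 = 0 := by
  simp [bin]

/-- the alternating model of rank `2j` in `O⁻` -/
def uaM (h2 : (2 : F) = 0) (j : ℕ) : ↥(Cfsg.isometryGroup F ⇑(QfMinus k F a b)) :=
  mkO (QfMinus k F a b) (blk F k (UB (ad F k j)) 1) (blk_sq (UB_sq h2 _) (one_mul 1))
    (blk_isom a b (UB_isom F k h2 (ad_transpose F k j) (ad_diag F k j))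
      (fun z => by rw [Matrix.one_mulVec]))

/-- the non-alternating model of rank `r` in `O⁻` -/
def nbM (h2 : (2 : F) = 0) (r : ℕ) : ↥(Cfsg.isometryGroup F ⇑(QfMinus k F a b)) :=
  mkO (QfMinus k F a b) (blk F k (SWm F k (r - 1)) (tau F a))
    (blk_sq (SWm_sq F k h2 _) (tau_sq a h2))
    (blk_isom a b (SWm_isom F k h2 _) (tau_isom a b h2))

theorem uaM_rank (h2 : (2 : F) = 0) {j : ℕ} (hj : 2 * j ≤ k) :
    (mt (QfMinus k F a b) (uaM a b h2 j) - 1).rank = 2 * j := by
  show (blk F k (UB (ad F k j)) 1 - 1).rank = 2 * j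
  rw [blk_rank, UB_sub_one, rank_NB, rank_ad F hj, sub_self, Matrix.rank_zero, add_zero]

theorem nbM_rank (h2 : (2 : F) = 0) (ha : a ≠ 0) {r : ℕ} (hr1 : 1 ≤ r) (hr : r ≤ k + 1) :
    (mt (QfMinus k F a b) (nbM a b h2 r) - 1).rank = r := by
  show (blk F k (SWm F k (r - 1)) (tau F a) - 1).rank = r
  rw [blk_rank, SWm_sub_one, rank_NS F k h2 (by omega), rank_tau_sub_one a ha]
  omega

theorem nbM_order (h2 : (2 : F) = 0) (ha : a ≠ 0) {r : ℕ} (hr1 : 1 ≤ r) (hr : r ≤ k + 1) :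
    orderOf (nbM (k := k) a b h2 r) = 2 := by
  unfold nbM
  apply mkO_order
  rw [blk_rank, SWm_sub_one, rank_NS F k h2 (by omega), rank_tau_sub_one a ha]
  omega

theorem uaM_order (h2 : (2 : F) = 0) {j : ℕ} (hj1 : 1 ≤ j) (hj : 2 * j ≤ k) :
    orderOf (uaM (k := k) a b h2 j) = 2 := by
  unfold uaM
  apply mkO_order
  rw [blk_rank, UB_sub_one, rank_NB, rank_ad F hj, sub_self, Matrix.rank_zero, add_zero]
  omega

theorem uaM_alt (h2 : (2 : F) = 0) (j : ℕ) :
    IsAltO (QfMinus k F a b) (uaM a b h2 j) := by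
  intro v
  show QfMinus k F a b ((blk F k (UB (ad F k j)) 1 - 1) *ᵥ v) = 0
  rw [blk_alt_val, UB_altO, sub_self, Matrix.zero_mulVec, bin_zero, add_zero]

theorem nbM_nonalt (h2 : (2 : F) = 0) (ha : a ≠ 0) (r : ℕ) :
    ¬ IsAltO (QfMinus k F a b) (nbM a b h2 r) := by
  intro h
  have h1 := h (Pi.single (Sum.inr 1) 1)
  have h3 : QfMinus k F a b ((blk F k (SWm F k (r - 1)) (tau F a) - 1) *ᵥ
      (Pi.single (Sum.inr 1) 1)) = 0 := h1
  rw [blk_alt_val] at h3
  have e1 : ((Pi.single (Sum.inr 1) 1 : (Fin k ⊕ Fin k) ⊕ Fin 2 → F) ∘ Sum.inl) = 0 := by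
    funext i
    simp
  rw [e1, Matrix.mulVec_zero, map_zero, zero_add] at h3
  unfold bin at h3
  rw [tau_sub_one_mulVec_zero, tau_sub_one_mulVec_one] at h3
  have e2 : ((Pi.single (Sum.inr 1) 1 : (Fin k ⊕ Fin k) ⊕ Fin 2 → F) ∘ Sum.inr) 1 = 1 := by
    simp
  rw [e2] at h3
  have : a ^ 2 = 0 := by linear_combination h3
  exact ha (pow_eq_zero_iff (two_ne_zero) |>.mp this)

/-- a minus-type space has no totally singular subspace of half the dimension -/
theorem no_alt_half [Fintype F] (h2 : (2 : F) = 0) (hab : Quad.Aniso a b)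
    (hQ : (QuadraticMap.polarBilin (QfMinus k F a b)).Nondegenerate)
    (T : Matrix ((Fin k ⊕ Fin k) ⊕ Fin 2) ((Fin k ⊕ Fin k) ⊕ Fin 2) F)
    (hT : ∀ v, QfMinus k F a b (T *ᵥ v) = QfMinus k F a b v) (hTT : T * T = 1)
    (halt : ∀ v, QfMinus k F a b ((T - 1) *ᵥ v) = 0) : (T - 1).rank ≠ k + 1 := by
  classical
  intro hr
  have hcardι : Fintype.card ((Fin k ⊕ Fin k) ⊕ Fin 2) = 2 * k + 2 := by
    simp [Fintype.card_sum]; ring
  obtain ⟨W, hWdef⟩ : ∃ W : Submodule F ((Fin k ⊕ Fin k) ⊕ Fin 2 → F),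
      W = LinearMap.range (T - 1).mulVecLin := ⟨_, rfl⟩
  have hfW : finrank F W = k + 1 := by rw [hWdef]; exact hr
  have hW0 : ∀ w ∈ W, QfMinus k F a b w = 0 := by
    intro w hw
    rw [hWdef] at hw
    obtain ⟨y, rfl⟩ := hw
    exact halt y
  have hWK : W ≤ LinearMap.ker (T - 1).mulVecLin := by
    rw [hWdef]
    rintro _ ⟨y, rfl⟩
    rw [LinearMap.mem_ker, Matrix.mulVecLin_apply, Matrix.mulVecLin_apply, Matrix.mulVec_mulVec,
      sq_zero_of_sq_one h2 T hTT, Matrix.zero_mulVec]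
  have hfK : finrank F (LinearMap.ker (T - 1).mulVecLin) = k + 1 := by
    have h4 := LinearMap.finrank_range_add_finrank_ker (T - 1).mulVecLin
    rw [Module.finrank_fintype_fun_eq_card, hcardι] at h4
    have h5 : finrank F (LinearMap.range (T - 1).mulVecLin) = (T - 1).rank := rfl
    omega
  have hWeq : W = LinearMap.ker (T - 1).mulVecLin :=
    Submodule.eq_of_le_of_finrank_eq hWK (by rw [hfW, hfK])
  have hWW : ∀ v, (∀ w ∈ W, QuadraticMap.polar (QfMinus k F a b) v w = 0) → v ∈ W := by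
    intro v hv
    rw [hWeq, LinearMap.mem_ker, Matrix.mulVecLin_apply, Matrix.sub_mulVec, Matrix.one_mulVec,
      sub_eq_zero]
    apply fix_of_perp _ hQ T T hTT hT
    intro z
    apply hv
    rw [hWdef]
    refine ⟨z, ?_⟩
    rw [Matrix.mulVecLin_apply, Matrix.sub_mulVec, Matrix.one_mulVec]
  have hcount := card_sing_lagrangian (QfMinus k F a b) W hW0 hWW
  have hcW : Nat.card W = Fintype.card F ^ (k + 1) := by
    rw [Module.natCard_eq_pow_finrank (K := F), hfW, Nat.card_eq_fintype_card]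
  have hcV : Nat.card ((Fin k ⊕ Fin k) ⊕ Fin 2 → F) = Fintype.card F ^ (2 * k + 2) := by
    rw [Module.natCard_eq_pow_finrank (K := F), Module.finrank_fintype_fun_eq_card, hcardι,
      Nat.card_eq_fintype_card]
  have hS : Nat.card {v : (Fin k ⊕ Fin k) ⊕ Fin 2 → F // QfMinus k F a b v = 0} +
      Fintype.card F ^ (k + 1) = Fintype.card F ^ (2 * k + 1) + Fintype.card F ^ k := by
    have h5 := Quad.Sk_zero_minus (Quad.minusModel k a b hab).N₀ (Quad.Model.N₀_zero _)
      (by rw [Quad.Model.sum_N₀]; simp) k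
    rw [← h5]
    congr 1
    have h6 := congrFun (Quad.Model.NV_eq (Quad.minusModel k a b hab)) 0
    rw [← h6]
    unfold Quad.NV
    apply Nat.card_congr
    apply Equiv.subtypeEquivRight
    intro v
    have h7 := congrFun (Quad.quadFormMinus_eq k a b hab) v
    show Cfsg.quadFormMinus k F a b v = 0 ↔ _
    rw [h7]
  rw [hcW, hcV] at hcount
  obtain ⟨q, hq⟩ : ∃ q, q = Fintype.card F := ⟨_, rfl⟩
  have hq2 : 2 ≤ q := by rw [hq]; exact Fintype.one_lt_card
  rw [← hq] at hcount hS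
  obtain ⟨S, hSdef⟩ : ∃ S, S = Nat.card {v : (Fin k ⊕ Fin k) ⊕ Fin 2 → F //
      QfMinus k F a b v = 0} := ⟨_, rfl⟩
  rw [← hSdef] at hcount hS
  have hle : q ^ (k + 1) ≤ q ^ (2 * k + 2) := Nat.pow_le_pow_right (by omega) (by omega)
  obtain ⟨D, hD⟩ : ∃ D, q ^ (2 * k + 2) = q ^ (k + 1) + D :=
    ⟨_, (Nat.add_sub_cancel' hle).symm⟩
  have hD' : q ^ (2 * k + 2) - q ^ (k + 1) = D := by omega
  rw [hD'] at hcount
  zify at hcount hS hD
  have hq0 : (0 : ℤ) < q := by exact_mod_cast (by omega : 0 < q)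
  have hA0 : (0 : ℤ) < (q : ℤ) ^ k := pow_pos hq0 k
  have e1 : (q : ℤ) ^ (k + 1) = q * (q : ℤ) ^ k := by ring
  have e2 : (q : ℤ) ^ (2 * k + 1) = q * ((q : ℤ) ^ k) ^ 2 := by ring
  have e3 : (q : ℤ) ^ (2 * k + 2) = (q : ℤ) ^ 2 * ((q : ℤ) ^ k) ^ 2 := by ring
  rw [e1] at hcount hS hD
  rw [e2] at hS
  rw [e3] at hD
  have key : 2 * ((q : ℤ) ^ 2 * ((q : ℤ) ^ k) ^ 2 * ((q : ℤ) - 1)) = 0 := by
    linear_combination ((q : ℤ) ^ 2 * (q : ℤ) ^ k) * hS - hcount + ((q : ℤ) * (q : ℤ) ^ k) * hD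
  have hq1 : (0 : ℤ) < (q : ℤ) - 1 := by
    have : (2 : ℤ) ≤ q := by exact_mod_cast hq2
    linarith
  have := mul_pos (mul_pos (pow_pos hq0 2) (pow_pos hA0 2)) hq1
  linarith

theorem class_count_minus [Fintype F] (h2 : (2 : F) = 0) (hab : Quad.Aniso a b) (ha : a ≠ 0)
    (hQ : (QuadraticMap.polarBilin (QfMinus k F a b)).Nondegenerate) :
    Nat.card {C : ConjClasses ↥(Cfsg.isometryGroup F ⇑(QfMinus k F a b)) //
      ∃ g : ↥(Cfsg.isometryGroup F ⇑(QfMinus k F a b)), ConjClasses.mk g = C ∧ orderOf g = 2} =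
      (k + 1) + k / 2 := by
  have hcard : Fintype.card ((Fin k ⊕ Fin k) ⊕ Fin 2) = 2 * (k + 1) := by
    simp [Fintype.card_sum]; ring
  let reps : Fin (k + 1) ⊕ Fin (k / 2) → ↥(Cfsg.isometryGroup F ⇑(QfMinus k F a b)) :=
    Sum.elim (fun i => nbM a b h2 (i.val + 1)) (fun j => uaM a b h2 (j.val + 1))
  have hcount := card_classes_of_reps reps ?_ ?_ ?_
  · rw [hcount, Fintype.card_sum, Fintype.card_fin, Fintype.card_fin]
  · rintro (i | j)
    · exact nbM_order a b h2 ha (by omega) (by have := i.2; omega)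
    · exact uaM_order a b h2 (by omega) (by have := j.2; omega)
  · rintro (i | j) (i' | j') h
    · have h3 := rank_isConjO _ h
      have e1 := nbM_rank (k := k) a b h2 ha (r := i.val + 1) (by omega) (by have := i.2; omega)
      have e2 := nbM_rank (k := k) a b h2 ha (r := i'.val + 1) (by omega)
        (by have := i'.2; omega)
      have h4 : i.val + 1 = i'.val + 1 := by rw [← e1, ← e2]; exact h3
      exact congrArg Sum.inl (Fin.ext (by omega))
    · exfalso
      exact nbM_nonalt a b h2 ha _ (alt_isConjO _ h.symm (uaM_alt a b h2 _))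
    · exfalso
      exact nbM_nonalt a b h2 ha _ (alt_isConjO _ h (uaM_alt a b h2 _))
    · have h3 := rank_isConjO _ h
      have e1 := uaM_rank (k := k) a b h2 (j := j.val + 1) (by have := j.2; omega)
      have e2 := uaM_rank (k := k) a b h2 (j := j'.val + 1) (by have := j'.2; omega)
      have h4 : 2 * (j.val + 1) = 2 * (j'.val + 1) := by rw [← e1, ← e2]; exact h3
      exact congrArg Sum.inr (Fin.ext (by omega))
  · intro g hg
    obtain ⟨hgg, hpos⟩ := sq_of_orderO _ hg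
    have hle := two_rank_le h2 _ (sq_mt _ hgg)
    rw [hcard] at hle
    obtain ⟨r, hr⟩ : ∃ r, r = (mt (QfMinus k F a b) g - 1).rank := ⟨_, rfl⟩
    rw [← hr] at hle hpos
    by_cases halt : IsAltO (QfMinus k F a b) g
    · have hev : Even r := by
        rw [hr]
        exact even_rank_of_altO _ h2 hQ hcard g hgg halt
      have hne : r ≠ k + 1 := by
        rw [hr]
        exact no_alt_half a b h2 hab hQ _ (mt_isom _ g) (sq_mt _ hgg) halt
      obtain ⟨t, ht⟩ := hev
      have hj : t - 1 < k / 2 := by omega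
      refine ⟨Sum.inr ⟨t - 1, hj⟩, ?_⟩
      apply isConj_of_rank_type _ h2 hQ hcard g _ hgg (mkO_sq _ _ _ _)
      · show (mt (QfMinus k F a b) g - 1).rank =
          (mt (QfMinus k F a b) (uaM a b h2 (t - 1 + 1)) - 1).rank
        rw [uaM_rank a b h2 (by omega), ← hr]
        omega
      · exact iff_of_true halt (uaM_alt a b h2 _)
    · have hi : r - 1 < k + 1 := by omega
      refine ⟨Sum.inl ⟨r - 1, hi⟩, ?_⟩
      apply isConj_of_rank_type _ h2 hQ hcard g _ hgg (mkO_sq _ _ _ _)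
      · show (mt (QfMinus k F a b) g - 1).rank =
          (mt (QfMinus k F a b) (nbM a b h2 (r - 1 + 1)) - 1).rank
        rw [nbM_rank a b h2 ha (by omega) (by omega), ← hr]
        omega
      · exact iff_of_false halt (nbM_nonalt a b h2 ha _)

end minus

end Cfsg.Agent.Helper2.OInv
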