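import Mathlib
import Cfsg.Agent.Helper2.OInvD
import Cfsg.Agent.Helper28.Dickson
import Cfsg.Agent.Helper28.CD2b

set_option autoImplicit false
set_option linter.unusedSectionVars false

/-! Characteristic two: conjugacy of involutions in `Ω(Q)` versus `O(Q)`. -/

namespace Cfsg.Agent.Helper2.OInv

open Matrix Module Cfsg.Agent.Helper28.QWitt Cfsg.Agent.Helper28.IsoTransport Cfsg.Agent.Helper2.Sp
  Cfsg.Agent.Helper28.Spin

section generic

variable {F : Type*} [Field F] [Fintype F] {ι : Type} [Fintype ι] [DecidableEq ι]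
  (Q : QuadraticForm F (ι → F))

/-- the hypothesis `Ω = {g : rank (g - 1) even}` -/
def HOm : Prop := ∀ g : ↥(Cfsg.isometryGroup F ⇑Q), g ∈ Cfsg.Omega F ⇑Q ↔ Even (mt Q g - 1).rank

theorem mul_mem_of_not_mem (h2 : (2 : F) = 0) (hQ : (QuadraticMap.polarBilin Q).Nondegenerate)
    (H : HOm Q) {g h : ↥(Cfsg.isometryGroup F ⇑Q)} (hg : g ∉ Cfsg.Omega F ⇑Q)
    (hh : h ∉ Cfsg.Omega F ⇑Q) : g * h ∈ Cfsg.Omega F ⇑Q := by
  obtain ⟨D, hD⟩ := Cfsg.Agent.Helper28.Dickson.exists_dickson Q h2 hQ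
  have key : ∀ x : ↥(Cfsg.isometryGroup F ⇑Q), x ∈ Cfsg.Omega F ⇑Q ↔ D x = 1 := by
    intro x
    rw [H x, hD, ← ofAdd_zero, Multiplicative.ofAdd.apply_eq_iff_eq,
      ZMod.natCast_eq_zero_iff_even]
  have hdec : ∀ a b : Multiplicative (ZMod 2), a ≠ 1 → b ≠ 1 → a * b = 1 := by decide
  rw [key, map_mul]
  exact hdec _ _ (fun h1 => hg ((key g).2 h1)) (fun h1 => hh ((key h).2 h1))

theorem refl_comm (x : ↥(Cfsg.isometryGroup F ⇑Q)) (u : ι → F) (hu : Q u ≠ 0)
    (hxu : mt Q x *ᵥ u = u) : reflO Q u hu * x = x * reflO Q u hu := by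
  have hv' : Q (((x : GL ι F) : Matrix ι ι F) *ᵥ u) ≠ 0 := by
    have : ((x : GL ι F) : Matrix ι ι F) *ᵥ u = u := hxu
    rw [this]; exact hu
  have h1 := reflO_conj Q x u hu hv'
  have h3 : reflO Q (((x : GL ι F) : Matrix ι ι F) *ᵥ u) hv' = reflO Q u hu := by
    have : ((x : GL ι F) : Matrix ι ι F) *ᵥ u = u := hxu
    simp only [this]
  rw [h3] at h1
  have h4 : x * reflO Q u hu * x⁻¹ = reflO Q u hu := h1.symm
  calc reflO Q u hu * x = (x * reflO Q u hu * x⁻¹) * x := by rw [h4]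
    _ = x * reflO Q u hu := by group

/-- an involution whose fixed space is totally singular has half rank and alternating type -/
theorem exists_fixed_nonsingular (h2 : (2 : F) = 0)
    (hQ : (QuadraticMap.polarBilin Q).Nondegenerate) (x : ↥(Cfsg.isometryGroup F ⇑Q))
    (hxx : x * x = 1)
    (hnot : ¬ (2 * (mt Q x - 1).rank = Fintype.card ι ∧ IsAltO Q x)) :
    ∃ u, mt Q x *ᵥ u = u ∧ Q u ≠ 0 := by
  by_contra hcon
  push Not at hcon
  apply hnot
  have hXX := sq_mt Q hxx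
  have hK0 : ∀ u ∈ LinearMap.ker (mt Q x - 1).mulVecLin, Q u = 0 := by
    intro u hu
    apply hcon
    rw [LinearMap.mem_ker, Matrix.mulVecLin_apply, Matrix.sub_mulVec, Matrix.one_mulVec,
      sub_eq_zero] at hu
    exact hu
  have hWK : ∀ v, (mt Q x - 1) *ᵥ v ∈ LinearMap.ker (mt Q x - 1).mulVecLin := by
    intro v
    rw [LinearMap.mem_ker, Matrix.mulVecLin_apply, Matrix.mulVec_mulVec,
      sq_zero_of_sq_one h2 _ hXX, Matrix.zero_mulVec]
  refine ⟨?_, fun v => hK0 _ (hWK v)⟩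
  have h4 := LinearMap.finrank_range_add_finrank_ker (mt Q x - 1).mulVecLin
  rw [Module.finrank_fintype_fun_eq_card] at h4
  have h5 : finrank F (LinearMap.range (mt Q x - 1).mulVecLin) = (mt Q x - 1).rank := rfl
  have hle := two_rank_le h2 _ hXX
  have hKK : LinearMap.ker (mt Q x - 1).mulVecLin ≤
      LinearMap.BilinForm.orthogonal (QuadraticMap.polarBilin Q)
        (LinearMap.ker (mt Q x - 1).mulVecLin) := by
    intro u hu
    rw [LinearMap.BilinForm.mem_orthogonal_iff]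
    intro w hw
    show QuadraticMap.polar ⇑Q w u = 0
    unfold QuadraticMap.polar
    rw [hK0 _ (Submodule.add_mem _ hw hu), hK0 _ hw, hK0 _ hu]
    ring
  have h6 := Submodule.finrank_mono hKK
  rw [LinearMap.BilinForm.finrank_orthogonal hQ, Module.finrank_fintype_fun_eq_card] at h6
  omega

/-- outside the exceptional case, `O`-conjugate involutions are `Ω`-conjugate -/
theorem omega_conj_of_conj (h2 : (2 : F) = 0)
    (hQ : (QuadraticMap.polarBilin Q).Nondegenerate) (H : HOm Q)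
    (x y : ↥(Cfsg.isometryGroup F ⇑Q)) (hxx : x * x = 1)
    (hnot : ¬ (2 * (mt Q x - 1).rank = Fintype.card ι ∧ IsAltO Q x)) (hxy : IsConj x y) :
    ∃ g ∈ Cfsg.Omega F ⇑Q, g * x * g⁻¹ = y := by
  obtain ⟨c, hc⟩ := isConj_iff.mp hxy
  by_cases hcO : c ∈ Cfsg.Omega F ⇑Q
  · exact ⟨c, hcO, hc⟩
  · obtain ⟨u, hxu, hu⟩ := exists_fixed_nonsingular Q h2 hQ x hxx hnot
    have hr := Cfsg.Agent.Helper28.CD2.reflO_not_mem_Omega Q h2 hQ u hu
    refine ⟨c * reflO Q u hu, mul_mem_of_not_mem Q h2 hQ H hcO hr, ?_⟩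
    have hcomm := refl_comm Q x u hu hxu
    rw [← hc, _root_.mul_inv_rev, reflO_inv]
    calc c * reflO Q u hu * x * (reflO Q u hu * c⁻¹)
        = c * (reflO Q u hu * x) * reflO Q u hu * c⁻¹ := by group
      _ = c * x * (reflO Q u hu * reflO Q u hu) * c⁻¹ := by rw [hcomm]; group
      _ = c * x * c⁻¹ := by rw [reflO_mul_self]; group

end generic

section minus

variable {F : Type*} [Field F] [Fintype F]

theorem card_minus_index (k : ℕ) : Fintype.card ((Fin k ⊕ Fin k) ⊕ Fin 2) = 2 * k + 2 := by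
  simp [Fintype.card_sum]; ring

theorem QfMinus_nondeg' (h2 : (2 : F) = 0) (k : ℕ) {c d : F} (hc : c ≠ 0) :
    (QuadraticMap.polarBilin (QfMinus k F c d)).Nondegenerate := by
  apply Cfsg.Agent.S2171.QfMinus_nondeg_of
  rw [show (4 : F) = 2 * 2 by norm_num, h2]
  simpa using hc

/-- minus type: no involution has half rank and alternating type -/
theorem not_half_alt_minus (h2 : (2 : F) = 0) (k : ℕ) {c d : F} (hcd : Quad.Aniso c d)
    (hc : c ≠ 0) (t : ↥(Cfsg.isometryGroup F ⇑(QfMinus k F c d))) (htt : t * t = 1) :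
    ¬ (2 * (mt (QfMinus k F c d) t - 1).rank = Fintype.card ((Fin k ⊕ Fin k) ⊕ Fin 2) ∧
      IsAltO (QfMinus k F c d) t) := by
  rintro ⟨hr, halt⟩
  rw [card_minus_index] at hr
  exact no_alt_half c d h2 hcd (QfMinus_nondeg' h2 k hc) _ (mt_isom _ t) (sq_mt _ htt) halt
    (by omega)

theorem omega_conj_minus (h2 : (2 : F) = 0) (k : ℕ) {c d : F} (hcd : Quad.Aniso c d)
    (hc : c ≠ 0) (H : HOm (QfMinus k F c d))
    (t s : ↥(Cfsg.isometryGroup F ⇑(QfMinus k F c d))) (ht : orderOf t = 2)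
    (hconj : IsConj t s) :
    ∃ g ∈ Cfsg.Omega F ⇑(QfMinus k F c d), g * t * g⁻¹ = s := by
  have htt : t * t = 1 := by
    have h1 := pow_orderOf_eq_one t
    rwa [ht, sq] at h1
  exact omega_conj_of_conj (QfMinus k F c d) h2 (QfMinus_nondeg' h2 k hc) H t s htt
    (not_half_alt_minus h2 k hcd hc t htt) hconj

theorem HOm_minus (h2 : (2 : F) = 0) (k : ℕ) {c d : F} (hc : c ≠ 0)
    (hcard : Fintype.card F ≠ 2 ∨ k ≠ 1) : HOm (QfMinus k F c d) := by
  intro g
  apply Cfsg.Agent.Helper28.CD2.mem_Omega_iff_even_rank (QfMinus k F c d) h2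
    (QfMinus_nondeg' h2 k hc)
  rcases hcard with h | h
  · exact Or.inl h
  · right
    rw [card_minus_index]
    omega

end minus

end Cfsg.Agent.Helper2.OInv
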