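import Mathlib
import Cfsg.Agent.Helper2.OInvE
import Cfsg.Agent.Helper28.QPlus7
import Cfsg.Agent.S2169

set_option autoImplicit false
set_option linter.unusedSectionVars false

/-! Characteristic two: involutions of `Ω⁺_{2m}(q)`: splitting of classes. -/

namespace Cfsg.Agent.Helper2.OInv

open Matrix Module Cfsg.Agent.Helper28.QWitt Cfsg.Agent.Helper28.IsoTransport Cfsg.Agent.Helper2.Sp
  Cfsg.Agent.Helper28.Spin Cfsg.Agent.Helper28.QPlus

section plusOmega

variable {F : Type*} [Field F] [Fintype F] {m : ℕ}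

theorem HOm_plus (h2 : (2 : F) = 0) (hm : 1 ≤ m) (h : Fintype.card F ≠ 2 ∨ m ≠ 2) :
    HOm (QfPlus m F) :=
  fun g => Cfsg.Agent.S2169.mem_Omega_iff_even_rank h2 hm h g

/-- membership in `Ω` through any maximal totally singular subspace -/
theorem mem_Omega_iff_max (h2 : (2 : F) = 0) (hm : 1 ≤ m) (h : Fintype.card F ≠ 2 ∨ m ≠ 2)
    {W : Submodule F (Vm m F)} (hW : IsMax m W) (g : OQ m F) :
    g ∈ Cfsg.Omega F (Cfsg.quadFormPlus m F) ↔ Even (m - finrank F ↥(W ⊓ act g W)) := by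
  have hE := isMax_E (F := F) (m := m)
  have hgW := isMax_act g hW
  have hgE := isMax_act g hE
  have Pa := parity_aux _ W (act g W) hW hgW rfl (E m F) hE
  have Pb := parity_aux _ (act g (E m F)) (act g W) hgE hgW rfl (E m F) hE
  have e : finrank F ↥(act g (E m F) ⊓ act g W) = finrank F ↥(E m F ⊓ W) := by
    rw [← act_inf, finrank_act]
  rw [e] at Pb
  have hchi : chi g = 0 ↔ Even (m - finrank F ↥(E m F ⊓ act g (E m F))) := by
    unfold chi
    exact zmod2_even _
  constructor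
  · intro hg
    have h1 := hchi.1 (chi_eq_zero_of_mem_Omega g hg)
    rw [Nat.even_iff] at *
    omega
  · intro hev
    apply mem_Omega_of_chi h2 hm h g
    rw [hchi]
    rw [Nat.even_iff] at *
    omega

/-- the image of `x - 1` -/
def Wof (x : OQ m F) : Submodule F (Vm m F) := LinearMap.range (mat x - 1).mulVecLin

theorem isMax_Wof (x : OQ m F) (hr : (mat x - 1).rank = m)
    (halt : ∀ v, Cfsg.quadFormPlus m F ((mat x - 1) *ᵥ v) = 0) : IsMax m (Wof x) :=
  ⟨hr, by rintro _ ⟨y, rfl⟩; exact halt y⟩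

theorem mat_mul_inv (g : OQ m F) : mat g * mat g⁻¹ = 1 := by
  rw [← mat_mul, mul_inv_cancel, mat_one]

theorem act_Wof (c x y : OQ m F) (hc : c * x * c⁻¹ = y) : act c (Wof x) = Wof y := by
  have hcx : c * x = y * c := by rw [← hc]; group
  have hCX : mat c * (mat x - 1) = (mat y - 1) * mat c := by
    rw [Matrix.mul_sub, Matrix.sub_mul, Matrix.mul_one, Matrix.one_mul, ← mat_mul, ← mat_mul, hcx]
  ext v
  constructor
  · rintro ⟨w, ⟨z, rfl⟩, rfl⟩
    refine ⟨mat c *ᵥ z, ?_⟩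
    simp only [Matrix.mulVecLin_apply, Matrix.mulVec_mulVec, hCX]
  · rintro ⟨z, rfl⟩
    refine ⟨(mat x - 1) *ᵥ (mat c⁻¹ *ᵥ z), ⟨_, rfl⟩, ?_⟩
    simp only [Matrix.mulVecLin_apply, Matrix.mulVec_mulVec]
    rw [← Matrix.mul_assoc, hCX, Matrix.mul_assoc, mat_mul_inv, Matrix.mul_one]

/-- the centraliser of a maximal alternating involution lies in `Ω` -/
theorem cent_le_Omega (h2 : (2 : F) = 0) (hm : 1 ≤ m) (h : Fintype.card F ≠ 2 ∨ m ≠ 2)
    (x c : OQ m F) (hr : (mat x - 1).rank = m)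
    (halt : ∀ v, Cfsg.quadFormPlus m F ((mat x - 1) *ᵥ v) = 0) (hc : c * x * c⁻¹ = x) :
    c ∈ Cfsg.Omega F (Cfsg.quadFormPlus m F) := by
  have hW := isMax_Wof x hr halt
  rw [mem_Omega_iff_max h2 hm h hW, act_Wof c x x hc, inf_idem, hW.1, Nat.sub_self]
  exact ⟨0, rfl⟩

theorem sub_one_mulVec_two (h2 : (2 : F) = 0) {ι : Type} [Fintype ι] [DecidableEq ι]
    (T : Matrix ι ι F) (v : ι → F) : (T - 1) *ᵥ v = v + T *ᵥ v := by
  rw [Matrix.sub_mulVec, Matrix.one_mulVec]
  have : v + v = 0 := by rw [← two_smul F v, h2, zero_smul]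
  calc T *ᵥ v - v = T *ᵥ v - v + (v + v) := by rw [this, add_zero]
    _ = v + T *ᵥ v := by abel

/-- the splitting statement -/
theorem omega_split_plus (h2 : (2 : F) = 0) (hm : 1 ≤ m) (h : Fintype.card F ≠ 2 ∨ m ≠ 2)
    (t s : OQ m F) (ht : orderOf t = 2)
    (htO : t ∈ Cfsg.Omega F (Cfsg.quadFormPlus m F)) (hconj : IsConj t s) :
    (¬ ((mat t - 1).rank = m ∧ ∀ v : Vm m F, Cfsg.quadFormPlus m F (v + mat t *ᵥ v) = 0) →
      ∃ g ∈ Cfsg.Omega F (Cfsg.quadFormPlus m F), g * t * g⁻¹ = s) ∧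
    (((mat t - 1).rank = m ∧ ∀ v : Vm m F, Cfsg.quadFormPlus m F (v + mat t *ᵥ v) = 0) →
      ((∃ g ∈ Cfsg.Omega F (Cfsg.quadFormPlus m F), g * t * g⁻¹ = s) ↔
        Even (finrank F ↥(LinearMap.range (Matrix.toLin' (mat t - 1)) ⊓
          LinearMap.range (Matrix.toLin' (mat s - 1)))))) := by
  have htt : t * t = 1 := by
    have h1 := pow_orderOf_eq_one t
    rwa [ht, sq] at h1
  have H := HOm_plus h2 hm h
  have hcardι : Fintype.card (Fin m ⊕ Fin m) = 2 * m := by
    rw [Fintype.card_sum, Fintype.card_fin]; ring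
  constructor
  · intro hncond
    have hnot : ¬ (2 * (mt (QfPlus m F) t - 1).rank = Fintype.card (Fin m ⊕ Fin m) ∧
        IsAltO (QfPlus m F) t) := by
      rintro ⟨hr, halt⟩
      apply hncond
      refine ⟨?_, fun v => ?_⟩
      · rw [hcardι] at hr
        have : (mat t - 1).rank = (mt (QfPlus m F) t - 1).rank := rfl
        omega
      · have := halt v
        rw [sub_one_mulVec_two h2] at this
        exact this
    exact omega_conj_of_conj (QfPlus m F) h2 (QfPlus_nondeg m) H t s htt hnot hconj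
  · rintro ⟨hr, halt⟩
    have halt' : ∀ v, Cfsg.quadFormPlus m F ((mat t - 1) *ᵥ v) = 0 := by
      intro v
      rw [sub_one_mulVec_two h2]
      exact halt v
    have hWt := isMax_Wof t hr halt'
    obtain ⟨c, hc⟩ := isConj_iff.mp hconj
    have hcW : act c (Wof t) = Wof s := act_Wof c t s hc
    have hWs : IsMax m (Wof s) := by rw [← hcW]; exact isMax_act c hWt
    have hmeven : Even m := by
      have := (H t).1 htO
      rw [← hr]
      exact this
    have hle : finrank F ↥(Wof t ⊓ Wof s) ≤ m := hWt.inf_left_le _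
    rw [Matrix.toLin'_apply', Matrix.toLin'_apply']
    show _ ↔ Even (finrank F ↥(Wof t ⊓ Wof s))
    constructor
    · rintro ⟨g, hg, hgts⟩
      have h1 := (mem_Omega_iff_max h2 hm h hWt g).1 hg
      rw [act_Wof g t s hgts] at h1
      rw [Nat.even_iff] at *
      omega
    · intro hev
      refine ⟨c, ?_, hc⟩
      rw [mem_Omega_iff_max h2 hm h hWt, hcW]
      rw [Nat.even_iff] at *
      omega

end plusOmega

end Cfsg.Agent.Helper2.OInv
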