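import Mathlib
import Cfsg.Agent.Helper2.OInvF

set_option autoImplicit false
set_option linter.unusedSectionVars false

/-! Characteristic two: the number of classes of involutions of `Ω⁺_{2m}(q)`. -/

namespace Cfsg.Agent.Helper2.OInv

open Matrix Module Cfsg.Agent.Helper28.QWitt Cfsg.Agent.Helper28.IsoTransport Cfsg.Agent.Helper2.Sp
  Cfsg.Agent.Helper28.Spin Cfsg.Agent.Helper28.QPlus

theorem isConj_sub {G : Type*} [Group G] (N : Subgroup G) (a b : N) :
    IsConj a b ↔ ∃ g ∈ N, g * a.1 * g⁻¹ = b.1 := by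
  rw [isConj_iff]
  constructor
  · rintro ⟨c, hc⟩
    exact ⟨c.1, c.2, congrArg Subtype.val hc⟩
  · rintro ⟨g, hg, h⟩
    exact ⟨⟨g, hg⟩, Subtype.ext h⟩

theorem orderOf_conj' {G : Type*} [Group G] (r x : G) : orderOf (r * x * r⁻¹) = orderOf x := by
  have : r * x * r⁻¹ = MulAut.conj r x := rfl
  rw [this, MulEquiv.orderOf_eq]

section generic

variable {F : Type*} [Field F] [Fintype F] {ι : Type} [Fintype ι] [DecidableEq ι]
  (Q : QuadraticForm F (ι → F))

/-- conjugate to `x` in `O`: conjugate in `Ω` to `x` or to `r x r⁻¹` -/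
theorem omega_conj_or (h2 : (2 : F) = 0) (hQ : (QuadraticMap.polarBilin Q).Nondegenerate)
    (H : HOm Q) (r g x : ↥(Cfsg.isometryGroup F ⇑Q)) (hr : r ∉ Cfsg.Omega F ⇑Q)
    (hgx : IsConj g x) :
    (∃ h ∈ Cfsg.Omega F ⇑Q, h * g * h⁻¹ = x) ∨
      (∃ h ∈ Cfsg.Omega F ⇑Q, h * g * h⁻¹ = r * x * r⁻¹) := by
  obtain ⟨c, hc⟩ := isConj_iff.mp hgx
  by_cases hcN : c ∈ Cfsg.Omega F ⇑Q
  · exact Or.inl ⟨c, hcN, hc⟩
  · right
    refine ⟨r * c, mul_mem_of_not_mem Q h2 hQ H hr hcN, ?_⟩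
    rw [← hc]
    group

end generic

section plus

variable {F : Type*} [Field F] [Fintype F] {m : ℕ}

theorem swO_order (h2 : (2 : F) = 0) {r : ℕ} (hr1 : 1 ≤ r) (hr : r ≤ m) :
    orderOf (swO F m h2 r) = 2 := by
  unfold swO
  apply mkO_order
  rw [SWm_sub_one, rank_NS F m h2 hr]
  omega

theorem uaO_order (h2 : (2 : F) = 0) {k : ℕ} (hk1 : 1 ≤ k) (hk : 2 * k ≤ m) :
    orderOf (uaO F m h2 k) = 2 := by
  unfold uaO
  apply mkO_order
  rw [UB_sub_one, rank_NB, rank_ad F hk]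
  omega

theorem swO_sq (h2 : (2 : F) = 0) (r : ℕ) : swO F m h2 r * swO F m h2 r = 1 :=
  mkO_sq _ _ _ _

theorem uaO_sq (h2 : (2 : F) = 0) (k : ℕ) : uaO F m h2 k * uaO F m h2 k = 1 :=
  mkO_sq _ _ _ _

/-- a maximal alternating involution is not `Ω`-conjugate to its conjugate under an element
outside `Ω` -/
theorem not_omega_conj_max (h2 : (2 : F) = 0) (hm : 1 ≤ m) (h : Fintype.card F ≠ 2 ∨ m ≠ 2)
    (x r : ↥(Cfsg.isometryGroup F ⇑(QfPlus m F)))
    (hr : r ∉ Cfsg.Omega F ⇑(QfPlus m F))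
    (hrk : (mt (QfPlus m F) x - 1).rank = m) (halt : IsAltO (QfPlus m F) x) :
    ¬ ∃ g ∈ Cfsg.Omega F ⇑(QfPlus m F), g * x * g⁻¹ = r * x * r⁻¹ := by
  rintro ⟨g, hg, hgx⟩
  have h1 : (r⁻¹ * g) * x * (r⁻¹ * g)⁻¹ = x := by
    calc (r⁻¹ * g) * x * (r⁻¹ * g)⁻¹ = r⁻¹ * (g * x * g⁻¹) * r := by group
      _ = x := by rw [hgx]; group
  have h3 : r⁻¹ * g ∈ Cfsg.Omega F ⇑(QfPlus m F) :=
    cent_le_Omega h2 hm h x (r⁻¹ * g) hrk halt h1
  apply hr
  have h4 : r⁻¹ ∈ Cfsg.Omega F ⇑(QfPlus m F) := by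
    have := Subgroup.mul_mem _ h3 (Subgroup.inv_mem _ hg)
    rwa [mul_assoc, mul_inv_cancel, mul_one] at this
  have := Subgroup.inv_mem _ h4
  rwa [inv_inv] at this

theorem class_count_omega_plus (h2 : (2 : F) = 0) (hm : 1 ≤ m)
    (h : Fintype.card F ≠ 2 ∨ m ≠ 2) :
    Nat.card {C : ConjClasses ↥(Cfsg.Omega F ⇑(QfPlus m F)) //
      ∃ g : ↥(Cfsg.Omega F ⇑(QfPlus m F)), ConjClasses.mk g = C ∧ orderOf g = 2} =
      2 * (m / 2) + (if Even m then 1 else 0) := by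
  have H := HOm_plus h2 hm h
  have hQ := QfPlus_nondeg (F := F) m
  have hcard : Fintype.card (Fin m ⊕ Fin m) = 2 * m := by
    rw [Fintype.card_sum, Fintype.card_fin]; ring
  obtain ⟨u, hu⟩ : ∃ u : Fin m ⊕ Fin m → F, QfPlus m F u ≠ 0 :=
    ⟨NS F m 1 *ᵥ Pi.single (Sum.inl ⟨0, hm⟩) 1, by
      rw [NS_nonalt F m le_rfl hm]; exact one_ne_zero⟩
  obtain ⟨r, hrdef⟩ : ∃ r, r = reflO (QfPlus m F) u hu := ⟨_, rfl⟩
  have hrO : r ∉ Cfsg.Omega F ⇑(QfPlus m F) := by
    rw [hrdef]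
    exact Cfsg.Agent.Helper28.CD2.reflO_not_mem_Omega (QfPlus m F) h2 hQ u hu
  let repsO : Fin (m / 2) ⊕ (Fin (m / 2) ⊕ Fin (if Even m then 1 else 0)) →
      ↥(Cfsg.isometryGroup F ⇑(QfPlus m F)) :=
    Sum.elim (fun j => swO F m h2 (2 * (j.val + 1)))
      (Sum.elim (fun j => uaO F m h2 (j.val + 1)) (fun _ => r * uaO F m h2 (m / 2) * r⁻¹))
  let rk : Fin (m / 2) ⊕ (Fin (m / 2) ⊕ Fin (if Even m then 1 else 0)) → ℕ :=
    Sum.elim (fun j => 2 * (j.val + 1)) (Sum.elim (fun j => 2 * (j.val + 1)) (fun _ => 2 * (m / 2)))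
  have hconjr : IsConj (uaO F m h2 (m / 2)) (r * uaO F m h2 (m / 2) * r⁻¹) :=
    isConj_iff.mpr ⟨r, rfl⟩
  have hrank : ∀ i, (mt (QfPlus m F) (repsO i) - 1).rank = rk i := by
    rintro (j | j | k)
    · exact swO_rank F m h2 (by have := j.2; omega)
    · exact uaO_rank F m h2 (by have := j.2; omega)
    · show (mt (QfPlus m F) (r * uaO F m h2 (m / 2) * r⁻¹) - 1).rank = 2 * (m / 2)
      rw [← rank_isConjO _ hconjr]
      exact uaO_rank F m h2 (by omega)
  have heven : ∀ k : Fin (if Even m then 1 else 0), Even m := by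
    intro k
    by_contra hne
    have hpos : 0 < (if Even m then 1 else 0) := Fin.pos k
    rw [if_neg hne] at hpos
    omega
  have haltL : ∀ j : Fin (m / 2), ¬ IsAltO (QfPlus m F) (repsO (Sum.inl j)) :=
    fun j => swO_nonalt F m h2 (by omega) hm
  have haltR : ∀ i, IsAltO (QfPlus m F) (repsO (Sum.inr i)) := by
    rintro (j | k)
    · exact uaO_alt F m h2 _
    · exact alt_isConjO _ hconjr (uaO_alt F m h2 _)
  have hmem : ∀ i, repsO i ∈ Cfsg.Omega F ⇑(QfPlus m F) := by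
    intro i
    rw [H, hrank]
    rcases i with j | j | k
    · exact ⟨j.val + 1, by show 2 * (j.val + 1) = _; ring⟩
    · exact ⟨j.val + 1, by show 2 * (j.val + 1) = _; ring⟩
    · exact ⟨m / 2, by show 2 * (m / 2) = _; ring⟩
  have hcount := card_classes_of_reps
    (fun i => (⟨repsO i, hmem i⟩ : ↥(Cfsg.Omega F ⇑(QfPlus m F)))) ?_ ?_ ?_
  · rw [hcount, Fintype.card_sum, Fintype.card_sum, Fintype.card_fin, Fintype.card_fin]
    ring
  · intro i
    rw [Subgroup.orderOf_mk]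
    rcases i with j | j | k
    · exact swO_order h2 (by omega) (by have := j.2; omega)
    · exact uaO_order h2 (by omega) (by have := j.2; omega)
    · show orderOf (r * uaO F m h2 (m / 2) * r⁻¹) = 2
      rw [orderOf_conj']
      have hk := heven k
      obtain ⟨t, ht⟩ := hk
      exact uaO_order h2 (by omega) (by omega)
  · intro i j hij
    rw [isConj_sub] at hij
    obtain ⟨g, hgN, hg⟩ := hij
    have hg' : g * repsO i * g⁻¹ = repsO j := hg
    have hcj : IsConj (repsO i) (repsO j) := isConj_iff.mpr ⟨g, hg'⟩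
    have hR : rk i = rk j := by rw [← hrank, ← hrank]; exact rank_isConjO _ hcj
    rcases i with j1 | j1 | k1 <;> rcases j with j2 | j2 | k2
    · have : 2 * (j1.val + 1) = 2 * (j2.val + 1) := hR
      exact congrArg Sum.inl (Fin.ext (by omega))
    · exact absurd (alt_isConjO _ hcj.symm (haltR _)) (haltL _)
    · exact absurd (alt_isConjO _ hcj.symm (haltR _)) (haltL _)
    · exact absurd (alt_isConjO _ hcj (haltR _)) (haltL _)
    · have : 2 * (j1.val + 1) = 2 * (j2.val + 1) := hR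
      exact congrArg (fun x => Sum.inr (Sum.inl x)) (Fin.ext (by omega))
    · exfalso
      have hR' : 2 * (j1.val + 1) = 2 * (m / 2) := hR
      have e : j1.val + 1 = m / 2 := by omega
      have hg2 : g * uaO F m h2 (j1.val + 1) * g⁻¹ = r * uaO F m h2 (m / 2) * r⁻¹ := hg'
      rw [e] at hg2
      have hk := heven k2
      obtain ⟨t, ht⟩ := hk
      exact not_omega_conj_max h2 hm h (uaO F m h2 (m / 2)) r hrO
        (by rw [uaO_rank F m h2 (by omega)]; omega) (uaO_alt F m h2 _) ⟨g, hgN, hg2⟩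
    · exact absurd (alt_isConjO _ hcj (haltR _)) (haltL _)
    · exfalso
      have hR' : 2 * (m / 2) = 2 * (j2.val + 1) := hR
      have e : j2.val + 1 = m / 2 := by omega
      have hg2 : g * (r * uaO F m h2 (m / 2) * r⁻¹) * g⁻¹ = uaO F m h2 (j2.val + 1) := hg'
      rw [e] at hg2
      have hk := heven k1
      obtain ⟨t, ht⟩ := hk
      refine not_omega_conj_max h2 hm h (uaO F m h2 (m / 2)) r hrO
        (by rw [uaO_rank F m h2 (by omega)]; omega) (uaO_alt F m h2 _)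
        ⟨g⁻¹, Subgroup.inv_mem _ hgN, ?_⟩
      calc g⁻¹ * uaO F m h2 (m / 2) * g⁻¹⁻¹
          = g⁻¹ * (g * (r * uaO F m h2 (m / 2) * r⁻¹) * g⁻¹) * g := by rw [hg2, inv_inv]
        _ = r * uaO F m h2 (m / 2) * r⁻¹ := by group
    · have hsub : (if Even m then 1 else 0) ≤ 1 := by split_ifs <;> omega
      have e : k1 = k2 := by
        apply Fin.ext
        have a1 : k1.val < 1 := lt_of_lt_of_le k1.2 hsub
        have a2 : k2.val < 1 := lt_of_lt_of_le k2.2 hsub
        omega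
      rw [e]
  · intro g hg
    have hg1 : orderOf g.1 = 2 := by rw [Subgroup.orderOf_coe]; exact hg
    obtain ⟨hgg, hpos⟩ := sq_of_orderO _ hg1
    have hle := two_rank_le h2 _ (sq_mt _ hgg)
    rw [hcard] at hle
    have hev : Even (mt (QfPlus m F) g.1 - 1).rank := (H g.1).1 g.2
    obtain ⟨t, ht⟩ := hev
    have ht1 : 1 ≤ t := by omega
    have htm : 2 * t ≤ m := by omega
    have e : t - 1 + 1 = t := by omega
    by_cases halt : IsAltO (QfPlus m F) g.1
    · have hconjO : IsConj g.1 (uaO F m h2 t) := by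
        apply isConj_of_rank_type _ h2 hQ hcard g.1 (uaO F m h2 t) hgg (uaO_sq h2 t)
        · rw [uaO_rank F m h2 htm, ht]; ring
        · exact iff_of_true halt (uaO_alt F m h2 _)
      by_cases h2t : 2 * t = m
      · have hk : Even m := ⟨t, by omega⟩
        have htm2 : m / 2 = t := by omega
        rcases omega_conj_or (QfPlus m F) h2 hQ H r g.1 _ hrO hconjO with ⟨c, hcN, hc⟩ | ⟨c, hcN, hc⟩
        · refine ⟨Sum.inr (Sum.inl ⟨t - 1, by omega⟩), ?_⟩
          rw [isConj_sub]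
          refine ⟨c, hcN, ?_⟩
          show c * g.1 * c⁻¹ = uaO F m h2 (t - 1 + 1)
          rw [e]; exact hc
        · refine ⟨Sum.inr (Sum.inr ⟨0, by rw [if_pos hk]; exact one_pos⟩), ?_⟩
          rw [isConj_sub]
          refine ⟨c, hcN, ?_⟩
          show c * g.1 * c⁻¹ = r * uaO F m h2 (m / 2) * r⁻¹
          rw [htm2]; exact hc
      · obtain ⟨c, hcN, hc⟩ := omega_conj_of_conj (QfPlus m F) h2 hQ H g.1 _ hgg
          (by rintro ⟨h5, -⟩; rw [hcard] at h5; omega) hconjO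
        refine ⟨Sum.inr (Sum.inl ⟨t - 1, by omega⟩), ?_⟩
        rw [isConj_sub]
        refine ⟨c, hcN, ?_⟩
        show c * g.1 * c⁻¹ = uaO F m h2 (t - 1 + 1)
        rw [e]; exact hc
    · have hconjO : IsConj g.1 (swO F m h2 (2 * t)) := by
        apply isConj_of_rank_type _ h2 hQ hcard g.1 (swO F m h2 (2 * t)) hgg (swO_sq h2 _)
        · rw [swO_rank F m h2 htm, ht]; ring
        · exact iff_of_false halt (swO_nonalt F m h2 (by omega) hm)
      obtain ⟨c, hcN, hc⟩ := omega_conj_of_conj (QfPlus m F) h2 hQ H g.1 _ hgg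
        (fun h5 => halt h5.2) hconjO
      refine ⟨Sum.inl ⟨t - 1, by omega⟩, ?_⟩
      rw [isConj_sub]
      refine ⟨c, hcN, ?_⟩
      show c * g.1 * c⁻¹ = swO F m h2 (2 * (t - 1 + 1))
      rw [e]; exact hc

end plus

end Cfsg.Agent.Helper2.OInv
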