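import Mathlib
import Cfsg.Agent.Helper2.QuadGO
import Cfsg.Agent.Helper2.FieldBasics

/-! The order of `GO_{2m+1}(q)`, `q` odd. -/

set_option autoImplicit false
set_option linter.unusedSectionVars false
set_option linter.unusedVariables false

namespace Cfsg.Agent.Helper2.Quad

open Finset QuadraticMap Matrix

variable {F : Type*} [Field F]

/-- the odd-dimensional model -/
noncomputable def oddModel (F : Type*) [Field F] (m : ℕ) :
    Model F m Unit (Unit ⊕ (Fin m ⊕ Fin m)) where
  σ := Equiv.sumComm (Fin m ⊕ Fin m) Unit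
  Q := QuadraticMap.proj (Sum.inl ()) (Sum.inl ()) +
    ∑ i : Fin m, QuadraticMap.proj (Sum.inr (Sum.inl i)) (Sum.inr (Sum.inr i))
  Q₀ := QuadraticMap.proj () ()
  hQ := by
    intro v
    simp [add_comm]
  aniso := by
    intro z hz
    funext j
    have : z () * z () = 0 := hz
    exact mul_self_eq_zero.mp this

theorem quadFormOdd_eq (m : ℕ) :
    Cfsg.quadFormOdd m F = fun v => (oddModel F m).Q v := by
  funext v
  simp [Cfsg.quadFormOdd, oddModel, _root_.sq]

theorem card_sq_eq_one [Fintype F] (h2 : (2 : F) ≠ 0) :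
    Nat.card {z : Unit → F // (oddModel F 0).Q₀ z = 1} = 2 := by
  classical
  have E : {z : Unit → F // (oddModel F 0).Q₀ z = 1} ≃ ({1, -1} : Finset F) :=
    { toFun := fun z => ⟨z.1 (), by
        have : z.1 () * z.1 () = 1 := z.2
        rw [Finset.mem_insert, Finset.mem_singleton]
        exact mul_self_eq_one_iff.mp this⟩
      invFun := fun x => ⟨fun _ => x.1, by
        have := x.2
        rw [Finset.mem_insert, Finset.mem_singleton] at this
        change x.1 * x.1 = 1
        exact mul_self_eq_one_iff.mpr this⟩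
      left_inv := by
        rintro ⟨z, hz⟩
        rfl
      right_inv := by
        rintro ⟨x, hx⟩
        rfl }
  rw [Nat.card_congr E, Nat.card_eq_fintype_card, Fintype.card_coe, Finset.card_pair]
  intro h
  apply h2
  have : (2 : F) = 1 - (-1) := by ring
  rw [this, ← h]; ring

theorem card_emb_odd [Fintype F] (h2 : (2 : F) ≠ 0) (m : ℕ)
    (c : Fin m → ((Unit ⊕ (Fin m ⊕ Fin m)) → F) × ((Unit ⊕ (Fin m ⊕ Fin m)) → F))
    (hc : IsHyp (oddModel F m).Q c) :
    Nat.card ((oddModel F m).Emb c) = 2 := by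
  have E : (oddModel F m).Emb c ≃ {w : Perp (oddModel F m).Q c // (oddModel F m).Q w.1 = 1} :=
    { toFun := fun t => ⟨⟨t.1 (), t.2.1 ()⟩, by
        have := t.2.2 (fun _ => 1)
        simp only [Finset.univ_unique, Finset.sum_singleton, one_smul] at this
        rw [this]
        simp [oddModel]⟩
      invFun := fun w => ⟨fun _ => w.1.1, fun _ => w.1.2, by
        intro z
        simp only [Finset.univ_unique, Finset.sum_singleton]
        rw [QuadraticMap.map_smul, w.2]
        simp [oddModel]⟩
      left_inv := by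
        rintro ⟨t, ht⟩
        rfl
      right_inv := by
        rintro ⟨⟨w, hw⟩, hqw⟩
        rfl }
  rw [Nat.card_congr E]
  have h1 : NW (oddModel F m).Q c 1 = (oddModel F m).N₀ 1 := by
    rw [(oddModel F m).NW_full hc]
  unfold NW at h1
  rw [h1]
  exact card_sq_eq_one h2

theorem card_GO_odd [Fintype F] {q : ℕ} (hF : Fintype.card F = q) (hodd : Odd q) (m : ℕ) :
    Nat.card (Cfsg.isometryGroup F (Cfsg.quadFormOdd m F)) =
      2 * q ^ (m ^ 2) * ∏ i ∈ Finset.range m, (q ^ (2 * (i + 1)) - 1) := by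
  have hq : 2 ≤ q := by rw [← hF]; exact Fintype.one_lt_card
  have h2 : (2 : F) ≠ 0 := two_ne_zero_of_odd_card (by rw [hF]; exact hodd)
  rw [quadFormOdd_eq, (oddModel F m).card_go 2 (fun c hc => card_emb_odd h2 m c hc)]
  have h := (oddModel F m).card_frames_model
  rw [hF] at h
  have hsum : ∑ y, (oddModel F m).N₀ y = Fintype.card F := by
    rw [(oddModel F m).sum_N₀]; simp
  have hs : ∀ j, Sk j (oddModel F m).N₀ 0 = q ^ (2 * j) := by
    intro j
    have := Sk_zero_odd (oddModel F m).N₀ (oddModel F m).N₀_zero hsum j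
    rw [hF] at this
    exact this
  rw [Finset.prod_congr rfl (fun i _ => by rw [hs (i + 1)])] at h
  simp only [Fintype.card_unique] at h
  have e : (q ^ (2 * m + 1)) ^ m = q ^ (m ^ 2) * q ^ (m * (m + 1)) := by
    rw [← pow_mul, ← pow_add]
    congr 1
    ring
  rw [e] at h
  have hpos : 0 < q ^ (m * (m + 1)) := Nat.pow_pos (by omega)
  have h3 : Nat.card (Frames (oddModel F m).Q m) =
      q ^ (m ^ 2) * ∏ i ∈ Finset.range m, (q ^ (2 * (i + 1)) - 1) := by
    apply Nat.eq_of_mul_eq_mul_right hpos
    rw [h]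
    ring
  rw [h3]
  ring

end Cfsg.Agent.Helper2.Quad
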