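import Mathlib
import Cfsg.Prelude.Def_Classical
import Cfsg.Prelude.Def_ClassicalGeometry
import Cfsg.Agent.Helper2.QuadOdd

/-! `SO₃(3) ≃* S₄` via the sum-zero hyperplane of the permutation module `F₃⁴`. -/

set_option autoImplicit false
set_option linter.unusedSectionVars false
set_option linter.unusedVariables false
set_option linter.unusedSimpArgs false

namespace Cfsg.Agent.Helper2.SO3S4

open Matrix Equiv

/-- the index type of the three-dimensional odd form -/
abbrev I3 := Unit ⊕ (Fin 1 ⊕ Fin 1)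

/-- basis matrix of the sum-zero hyperplane -/
def B (F : Type*) [Field F] : Matrix (Fin 4) I3 F := Matrix.of fun k j =>
  match j with
  | .inl _ => ![1, -1, 0, 0] k
  | .inr (.inl _) => ![1, 1, 1, 0] k
  | .inr (.inr _) => ![-1, -1, 0, -1] k

/-- dual basis matrix -/
def L (F : Type*) [Field F] : Matrix I3 (Fin 4) F := Matrix.of fun i k =>
  match i with
  | .inl _ => ![-1, 1, 0, 0] k
  | .inr (.inl _) => ![-1, -1, 0, -1] k
  | .inr (.inr _) => ![1, 1, 1, 0] k

variable {F : Type*} [Field F]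

theorem LB (h3 : (3 : F) = 0) : L F * B F = 1 := by
  ext i j
  rw [Matrix.mul_apply, Fin.sum_univ_four, Matrix.one_apply]
  have h1 : ∀ a b : Fin 1, (a = b) ↔ True :=
    fun a b => ⟨fun _ => trivial, fun _ => Subsingleton.elim a b⟩
  rcases i with i | i | i <;> rcases j with j | j | j <;> simp [L, B, h1] <;>
    first
    | linear_combination (0 : F) * h3
    | linear_combination (1 : F) * h3
    | linear_combination (-1 : F) * h3

/-- the all-ones matrix -/
def J (F : Type*) [Field F] : Matrix (Fin 4) (Fin 4) F := Matrix.of fun _ _ => 1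

theorem BL (h3 : (3 : F) = 0) : B F * L F = 1 - J F := by
  ext k l
  rw [Matrix.mul_apply, Fintype.sum_sum_type, Fintype.sum_sum_type, Matrix.sub_apply,
    Matrix.one_apply]
  fin_cases k <;> fin_cases l <;> simp [L, B, J] <;>
    first
    | linear_combination (0 : F) * h3
    | linear_combination (1 : F) * h3
    | linear_combination (-1 : F) * h3

theorem colsum (h3 : (3 : F) = 0) (j : I3) : ∑ k, B F k j = 0 := by
  rw [Fin.sum_univ_four]
  rcases j with j | j | j <;> simp [B] <;>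
    first
    | linear_combination (0 : F) * h3
    | linear_combination (1 : F) * h3
    | linear_combination (-1 : F) * h3

theorem quadB (h3 : (3 : F) = 0) (y : I3 → F) :
    ∑ k, (B F *ᵥ y) k ^ 2 = - Cfsg.quadFormOdd 1 F y := by
  simp only [Fin.sum_univ_four, Matrix.mulVec, dotProduct, Fintype.sum_sum_type,
    Cfsg.quadFormOdd]
  simp [B]
  linear_combination (y (Sum.inl ()) ^ 2 + y (Sum.inr (Sum.inl 0)) ^ 2 +
    y (Sum.inr (Sum.inr 0)) ^ 2 - y (Sum.inr (Sum.inl 0)) * y (Sum.inr (Sum.inr 0))) * h3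

/-- the basis matrix with rows permuted by `σ` -/
def Bs (F : Type*) [Field F] (σ : Perm (Fin 4)) : Matrix (Fin 4) I3 F := Matrix.of fun k j => B F (σ⁻¹ k) j

/-- the matrix of `σ` on the hyperplane -/
def M (F : Type*) [Field F] (σ : Perm (Fin 4)) : Matrix I3 I3 F := L F * Bs F σ

theorem ones_mul_Bs (h3 : (3 : F) = 0) (σ : Perm (Fin 4)) :
    J F * Bs F σ = 0 := by
  ext k j
  rw [Matrix.mul_apply]
  simp only [J, Matrix.of_apply, one_mul, Bs, Matrix.zero_apply]
  rw [Equiv.sum_comp (σ⁻¹) (fun k => B F k j)]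
  exact colsum h3 j

theorem B_mul_M (h3 : (3 : F) = 0) (σ : Perm (Fin 4)) : B F * M F σ = Bs F σ := by
  rw [M, ← Matrix.mul_assoc, BL h3, Matrix.sub_mul, Matrix.one_mul, ones_mul_Bs h3, sub_zero]

theorem Bs_mul_M (h3 : (3 : F) = 0) (σ τ : Perm (Fin 4)) :
    Bs F σ * M F τ = Bs F (σ * τ) := by
  ext k j
  have h := congrFun (congrFun (B_mul_M h3 τ) (σ⁻¹ k)) j
  rw [Matrix.mul_apply] at h
  rw [Matrix.mul_apply]
  simp only [Bs, Matrix.of_apply] at h ⊢
  rw [h, _root_.mul_inv_rev, Perm.mul_apply]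

theorem M_mul (h3 : (3 : F) = 0) (σ τ : Perm (Fin 4)) :
    M F (σ * τ) = M F σ * M F τ := by
  rw [M, M, Matrix.mul_assoc, Bs_mul_M h3]

theorem M_one (h3 : (3 : F) = 0) : M F 1 = 1 := by
  rw [M, ← LB h3]
  congr 1

theorem quad_M (h3 : (3 : F) = 0) (σ : Perm (Fin 4)) (y : I3 → F) :
    Cfsg.quadFormOdd 1 F (M F σ *ᵥ y) = Cfsg.quadFormOdd 1 F y := by
  have h1 := quadB h3 (M F σ *ᵥ y)
  have h2 := quadB h3 y
  rw [Matrix.mulVec_mulVec, B_mul_M h3] at h1
  have h4 : ∑ k, (Bs F σ *ᵥ y) k ^ 2 = ∑ k, (B F *ᵥ y) k ^ 2 := by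
    rw [← Equiv.sum_comp (σ⁻¹) (fun k => (B F *ᵥ y) k ^ 2)]
    rfl
  rw [h4, h2] at h1
  exact (neg_injective h1).symm

/-- the determinant-twisted matrix -/
def T (F : Type*) [Field F] (σ : Perm (Fin 4)) : Matrix I3 I3 F := (M F σ).det • M F σ

theorem T_mul (h3 : (3 : F) = 0) (σ τ : Perm (Fin 4)) : T F (σ * τ) = T F σ * T F τ := by
  rw [T, T, T, M_mul h3, Matrix.det_mul, Matrix.smul_mul, Matrix.mul_smul, smul_smul]

theorem T_one (h3 : (3 : F) = 0) : T F 1 = 1 := by
  rw [T, M_one h3, Matrix.det_one, one_smul]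

theorem det_M_sq [Fintype F] (hF : Fintype.card F = 3) (h3 : (3 : F) = 0) (σ : Perm (Fin 4)) :
    (M F σ).det ^ 2 = 1 := by
  have h1 : (M F σ).det * (M F σ⁻¹).det = 1 := by
    rw [← Matrix.det_mul, ← M_mul h3, mul_inv_cancel, M_one h3, Matrix.det_one]
  have hne : (M F σ).det ≠ 0 := left_ne_zero_of_mul_eq_one h1
  have := FiniteField.pow_card_sub_one_eq_one _ hne
  rwa [hF] at this

theorem quad_smul (c : F) (y : I3 → F) :
    Cfsg.quadFormOdd 1 F (c • y) = c ^ 2 * Cfsg.quadFormOdd 1 F y := by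
  simp only [Cfsg.quadFormOdd, Pi.smul_apply, smul_eq_mul, Fin.sum_univ_one]
  ring

/-- the twisted hom into matrices -/
def Thom (h3 : (3 : F) = 0) : Perm (Fin 4) →* Matrix I3 I3 F where
  toFun := T F
  map_one' := T_one h3
  map_mul' := T_mul h3

/-- the twisted hom into `GL₃` -/
def TGL (h3 : (3 : F) = 0) : Perm (Fin 4) →* GL I3 F := (Thom h3).toHomUnits

theorem TGL_coe (h3 : (3 : F) = 0) (σ : Perm (Fin 4)) :
    ((TGL h3 σ : GL I3 F) : Matrix I3 I3 F) = T F σ := rfl

theorem TGL_mem [Fintype F] (hF : Fintype.card F = 3) (h3 : (3 : F) = 0) (σ : Perm (Fin 4)) :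
    TGL h3 σ ∈ Cfsg.isometryGroup F (Cfsg.quadFormOdd 1 F) := by
  intro u v
  change Cfsg.quadFormOdd 1 F (T F σ *ᵥ u) = Cfsg.quadFormOdd 1 F u
  rw [T, Matrix.smul_mulVec, quad_smul, det_M_sq hF h3, one_mul, quad_M h3]

/-- the hom into the isometry group -/
def rhoGO [Fintype F] (hF : Fintype.card F = 3) (h3 : (3 : F) = 0) :
    Perm (Fin 4) →* Cfsg.isometryGroup F (Cfsg.quadFormOdd 1 F) :=
  (TGL h3).codRestrict _ (TGL_mem hF h3)

theorem det_T [Fintype F] (hF : Fintype.card F = 3) (h3 : (3 : F) = 0) (σ : Perm (Fin 4)) :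
    (T F σ).det = 1 := by
  rw [T, Matrix.det_smul]
  have hc : Fintype.card I3 = 3 := by simp
  rw [hc]
  have := det_M_sq hF h3 σ
  calc (M F σ).det ^ 3 * (M F σ).det = ((M F σ).det ^ 2) ^ 2 := by ring
    _ = 1 := by rw [this, one_pow]

theorem rhoGO_mem [Fintype F] (hF : Fintype.card F = 3) (h3 : (3 : F) = 0) (σ : Perm (Fin 4)) :
    rhoGO hF h3 σ ∈ Cfsg.specialIsometryGroup F (Cfsg.quadFormOdd 1 F) := by
  rw [Cfsg.specialIsometryGroup, MonoidHom.mem_ker]
  apply Units.ext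
  change (T F σ).det = 1
  exact det_T hF h3 σ

/-- the hom into the special isometry group -/
def rho [Fintype F] (hF : Fintype.card F = 3) (h3 : (3 : F) = 0) :
    Perm (Fin 4) →* Cfsg.specialIsometryGroup F (Cfsg.quadFormOdd 1 F) :=
  (rhoGO hF h3).codRestrict _ (rhoGO_mem hF h3)

theorem one_ne_neg_one (h3 : (3 : F) = 0) : (1 : F) ≠ -1 := by
  intro h
  have : (1 : F) = 0 := by linear_combination h3 - h
  exact one_ne_zero this

theorem B_row_inj (h3 : (3 : F) = 0) {k l : Fin 4} (h : ∀ j, B F k j = B F l j) : k = l := by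
  have h0 := h (.inl ())
  have h1 := h (.inr (.inl 0))
  have hn := one_ne_neg_one h3
  have hn' : (-1 : F) ≠ 1 := fun h => hn h.symm
  fin_cases k <;> fin_cases l <;> simp [B, hn, hn'] at h0 h1 ⊢

theorem B_col_one (k : Fin 4) (h : B F k (.inr (.inl 0)) = 0) : k = 3 := by
  fin_cases k <;> simp [B] at h ⊢

theorem rho_injective [Fintype F] (hF : Fintype.card F = 3) (h3 : (3 : F) = 0) :
    Function.Injective (rho hF h3) := by
  rw [injective_iff_map_eq_one]
  intro σ hσ
  have hT : T F σ = 1 := by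
    have := congrArg (fun g : Cfsg.specialIsometryGroup F (Cfsg.quadFormOdd 1 F) =>
      (((g : Cfsg.isometryGroup F (Cfsg.quadFormOdd 1 F)) : GL I3 F) : Matrix I3 I3 F)) hσ
    exact this
  set c := (M F σ).det with hc
  have hc2 : c ^ 2 = 1 := det_M_sq hF h3 σ
  have hM : M F σ = c • (1 : Matrix I3 I3 F) := by
    have h1 : c • T F σ = c • (1 : Matrix I3 I3 F) := by rw [hT]
    rw [T, smul_smul, ← hc, ← sq, hc2, one_smul] at h1
    exact h1
  have hB : ∀ k j, c * B F k j = B F (σ⁻¹ k) j := by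
    intro k j
    have h1 := congrFun (congrFun (B_mul_M h3 σ) k) j
    rw [hM, Matrix.mul_smul, Matrix.mul_one] at h1
    exact h1
  have hcne : c ≠ 0 := by
    intro h0; rw [h0] at hc2; simp at hc2
  have h33 : σ 3 = 3 := by
    apply B_col_one (F := F)
    have h1 := hB (σ 3) (.inr (.inl 0))
    have h5 : σ⁻¹ (σ 3) = 3 := by simp
    rw [h5] at h1
    have h2 : B F 3 (.inr (.inl 0)) = 0 := by simp [B]
    rw [h2] at h1
    exact (mul_eq_zero.mp h1).resolve_left hcne
  have h33' : σ⁻¹ 3 = 3 := by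
    rw [Perm.inv_eq_iff_eq]; exact h33.symm
  have hc1 : c = 1 := by
    have h1 := hB 3 (.inr (.inr 0))
    rw [h33'] at h1
    have h2 : B F 3 (.inr (.inr 0)) = -1 := by simp [B]
    rw [h2] at h1
    linear_combination -h1
  have hid : ∀ k, σ⁻¹ k = k := by
    intro k
    apply B_row_inj h3
    intro j
    rw [← hB k j, hc1, one_mul]
  have : σ⁻¹ = 1 := by
    ext k; rw [hid k]; rfl
  exact inv_eq_one.mp this

theorem neg_one_mem : (-1 : GL I3 F) ∈ Cfsg.isometryGroup F (Cfsg.quadFormOdd 1 F) := by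
  intro u v
  change Cfsg.quadFormOdd 1 F ((-1 : Matrix I3 I3 F) *ᵥ u) = Cfsg.quadFormOdd 1 F u
  rw [Matrix.neg_mulVec, Matrix.one_mulVec]
  have := quad_smul (-1 : F) u
  rw [neg_one_smul] at this
  rw [this]; ring

theorem card_SO [Fintype F] (hF : Fintype.card F = 3) (h3 : (3 : F) = 0) :
    Nat.card (Cfsg.specialIsometryGroup F (Cfsg.quadFormOdd 1 F)) = 24 := by
  have hGO : Nat.card (Cfsg.isometryGroup F (Cfsg.quadFormOdd 1 F)) = 48 := by
    rw [Quad.card_GO_odd hF (by decide) 1]; simp [Finset.prod_range_one]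
  have hdvd : Nat.card (Cfsg.specialIsometryGroup F (Cfsg.quadFormOdd 1 F)) ∣ 48 :=
    hGO ▸ Subgroup.card_subgroup_dvd_card _
  have h24 : 24 ∣ Nat.card (Cfsg.specialIsometryGroup F (Cfsg.quadFormOdd 1 F)) := by
    have := Subgroup.card_dvd_of_injective (rho hF h3) (rho_injective hF h3)
    rwa [Nat.card_eq_fintype_card, Fintype.card_perm, Fintype.card_fin] at this
  have hne : Cfsg.specialIsometryGroup F (Cfsg.quadFormOdd 1 F) ≠ ⊤ := by
    intro htop
    have hg : (⟨-1, neg_one_mem⟩ : Cfsg.isometryGroup F (Cfsg.quadFormOdd 1 F)) ∈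
        Cfsg.specialIsometryGroup F (Cfsg.quadFormOdd 1 F) := htop ▸ Subgroup.mem_top _
    rw [Cfsg.specialIsometryGroup, MonoidHom.mem_ker] at hg
    have h1 := congrArg Units.val hg
    change Matrix.det (-1 : Matrix I3 I3 F) = 1 at h1
    have hc : Fintype.card I3 = 3 := by simp
    rw [Matrix.det_neg, Matrix.det_one, hc] at h1
    apply one_ne_neg_one h3
    linear_combination -h1
  have hne48 : Nat.card (Cfsg.specialIsometryGroup F (Cfsg.quadFormOdd 1 F)) ≠ 48 := by
    intro h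
    exact hne ((Subgroup.card_eq_iff_eq_top _).mp (h.trans hGO.symm))
  obtain ⟨k, hk⟩ := h24
  rw [hk] at hdvd hne48 ⊢
  have hk2 : k ∣ 2 := Nat.dvd_of_mul_dvd_mul_left (by norm_num : 0 < 24) hdvd
  have hle : k ≤ 2 := Nat.le_of_dvd (by norm_num) hk2
  interval_cases k
  · simp at hk2
  · rfl
  · exact absurd rfl hne48

theorem nonempty_mulEquiv [Fintype F] (hF : Fintype.card F = 3) :
    Nonempty (Cfsg.specialIsometryGroup F (Cfsg.quadFormOdd 1 F) ≃* Perm (Fin 4)) := by
  have : Fact (Nat.Prime 3) := ⟨Nat.prime_three⟩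
  have : CharP F 3 := charP_of_card_eq_prime hF
  have h3 : (3 : F) = 0 := by
    have := CharP.cast_eq_zero F 3
    exact_mod_cast this
  have hcard : Nat.card (Perm (Fin 4)) =
      Nat.card (Cfsg.specialIsometryGroup F (Cfsg.quadFormOdd 1 F)) := by
    rw [card_SO hF h3, Nat.card_eq_fintype_card, Fintype.card_perm, Fintype.card_fin]
    rfl
  have hbij : Function.Bijective (rho hF h3) :=
    (Nat.bijective_iff_injective_and_card _).mpr ⟨rho_injective hF h3, hcard⟩
  exact ⟨(MulEquiv.ofBijective _ hbij).symm⟩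

end Cfsg.Agent.Helper2.SO3S4
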