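import Mathlib
import Cfsg.Prelude.Def_Classical
import Cfsg.Agent.Helper2.SO3S4
import Cfsg.Agent.Helper2.SLCard

/-! The adjoint representation `GL₂(F) → GO₃(F)` on trace-zero matrices. -/

set_option autoImplicit false
set_option linter.unusedSectionVars false
set_option linter.unusedVariables false
set_option linter.unusedSimpArgs false

namespace Cfsg.Agent.Helper2.Adj3

open Matrix Cfsg.Agent.Helper2.SO3S4

variable {F : Type*} [Field F]

/-- the polynomial adjoint action `X ↦ g X adj(g)` on `X = [[x, y], [z, -x]]` -/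
def ad0 (g : Matrix (Fin 2) (Fin 2) F) : Matrix I3 I3 F := Matrix.of fun i j =>
  match i, j with
  | .inl _, .inl _ => g 0 0 * g 1 1 + g 0 1 * g 1 0
  | .inl _, .inr (.inl _) => -(g 0 0 * g 1 0)
  | .inl _, .inr (.inr _) => g 0 1 * g 1 1
  | .inr (.inl _), .inl _ => -(2 * g 0 0 * g 0 1)
  | .inr (.inl _), .inr (.inl _) => g 0 0 ^ 2
  | .inr (.inl _), .inr (.inr _) => -(g 0 1 ^ 2)
  | .inr (.inr _), .inl _ => 2 * g 1 0 * g 1 1
  | .inr (.inr _), .inr (.inl _) => -(g 1 0 ^ 2)
  | .inr (.inr _), .inr (.inr _) => g 1 1 ^ 2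

theorem ad0_mul (g h : Matrix (Fin 2) (Fin 2) F) : ad0 (g * h) = ad0 g * ad0 h := by
  ext i j
  rw [Matrix.mul_apply, Fintype.sum_sum_type, Fintype.sum_sum_type]
  rcases i with i | i | i <;> rcases j with j | j | j <;>
    simp [ad0, Matrix.mul_apply, Fin.sum_univ_two] <;> ring

theorem ad0_one : ad0 (1 : Matrix (Fin 2) (Fin 2) F) = 1 := by
  ext i j
  have h1 : ∀ a b : Fin 1, (a = b) ↔ True :=
    fun a b => ⟨fun _ => trivial, fun _ => Subsingleton.elim a b⟩
  rw [Matrix.one_apply]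
  rcases i with i | i | i <;> rcases j with j | j | j <;> simp [ad0, h1]

theorem quad_ad0 (g : Matrix (Fin 2) (Fin 2) F) (v : I3 → F) :
    Cfsg.quadFormOdd 1 F (ad0 g *ᵥ v) = g.det ^ 2 * Cfsg.quadFormOdd 1 F v := by
  simp only [Cfsg.quadFormOdd, Matrix.mulVec, dotProduct, Fintype.sum_sum_type,
    Fin.sum_univ_one, Matrix.det_fin_two]
  simp [ad0]
  ring

/-- the adjoint matrix of an invertible `g` -/
def AdM (g : GL (Fin 2) F) : Matrix I3 I3 F :=
  ((g : Matrix (Fin 2) (Fin 2) F).det)⁻¹ • ad0 (g : Matrix (Fin 2) (Fin 2) F)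

theorem det_ne_zero (g : GL (Fin 2) F) : (g : Matrix (Fin 2) (Fin 2) F).det ≠ 0 := by
  have := Matrix.isUnits_det_units g
  exact this.ne_zero

theorem AdM_mul (g h : GL (Fin 2) F) : AdM (g * h) = AdM g * AdM h := by
  rw [AdM, AdM, AdM, Units.val_mul, ad0_mul, Matrix.det_mul, Matrix.smul_mul, Matrix.mul_smul,
    smul_smul, mul_inv]

theorem AdM_one : AdM (1 : GL (Fin 2) F) = 1 := by
  rw [AdM, Units.val_one, ad0_one, Matrix.det_one, inv_one, one_smul]

/-- the adjoint hom to matrices -/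
def AdHom : GL (Fin 2) F →* Matrix I3 I3 F where
  toFun := AdM
  map_one' := AdM_one
  map_mul' := AdM_mul

/-- the adjoint hom to `GL₃` -/
def AdGL : GL (Fin 2) F →* GL I3 F := AdHom.toHomUnits

theorem AdGL_coe (g : GL (Fin 2) F) : ((AdGL g : GL I3 F) : Matrix I3 I3 F) = AdM g := rfl

theorem AdGL_mem (g : GL (Fin 2) F) : AdGL g ∈ Cfsg.isometryGroup F (Cfsg.quadFormOdd 1 F) := by
  intro u v
  change Cfsg.quadFormOdd 1 F (AdM g *ᵥ u) = Cfsg.quadFormOdd 1 F u
  rw [AdM, Matrix.smul_mulVec, quad_smul, quad_ad0, ← mul_assoc, ← mul_pow,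
    inv_mul_cancel₀ (det_ne_zero g), one_pow, one_mul]

/-- the adjoint hom `GL₂(F) → GO₃(F)` -/
def Ad : GL (Fin 2) F →* Cfsg.isometryGroup F (Cfsg.quadFormOdd 1 F) :=
  AdGL.codRestrict _ AdGL_mem

theorem Ad_coe (g : GL (Fin 2) F) :
    (((Ad g : Cfsg.isometryGroup F (Cfsg.quadFormOdd 1 F)) : GL I3 F) : Matrix I3 I3 F) =
      AdM g := rfl

theorem ad0_smul (r : F) (g : Matrix (Fin 2) (Fin 2) F) : ad0 (r • g) = r ^ 2 • ad0 g := by
  ext i j
  rcases i with i | i | i <;> rcases j with j | j | j <;>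
    simp [ad0, Matrix.smul_apply] <;> ring

theorem AdM_eq_one_iff (g : GL (Fin 2) F) :
    AdM g = 1 ↔ ∃ r : F, (g : Matrix (Fin 2) (Fin 2) F) = r • (1 : Matrix (Fin 2) (Fin 2) F) := by
  have hD := det_ne_zero g
  constructor
  · intro h
    have hyz := congrFun (congrFun h (.inr (.inl 0))) (.inr (.inr 0))
    have hzy := congrFun (congrFun h (.inr (.inr 0))) (.inr (.inl 0))
    have hyy := congrFun (congrFun h (.inr (.inl 0))) (.inr (.inl 0))
    have hzz := congrFun (congrFun h (.inr (.inr 0))) (.inr (.inr 0))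
    simp only [AdM, Matrix.smul_apply, ad0, Matrix.of_apply, smul_eq_mul, Matrix.one_apply,
      reduceCtorEq, Sum.inr.injEq, if_false, if_true] at hyz hzy hyy hzz
    have hb : (g : Matrix (Fin 2) (Fin 2) F) 0 1 = 0 := by
      have : (g : Matrix (Fin 2) (Fin 2) F) 0 1 ^ 2 = 0 := by
        rcases mul_eq_zero.mp hyz with h1 | h1
        · exact absurd (inv_eq_zero.mp h1) hD
        · exact neg_eq_zero.mp h1
      exact pow_eq_zero_iff (by norm_num) |>.mp this
    have hc : (g : Matrix (Fin 2) (Fin 2) F) 1 0 = 0 := by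
      have : (g : Matrix (Fin 2) (Fin 2) F) 1 0 ^ 2 = 0 := by
        rcases mul_eq_zero.mp hzy with h1 | h1
        · exact absurd (inv_eq_zero.mp h1) hD
        · exact neg_eq_zero.mp h1
      exact pow_eq_zero_iff (by norm_num) |>.mp this
    have hdet : (g : Matrix (Fin 2) (Fin 2) F).det =
        (g : Matrix (Fin 2) (Fin 2) F) 0 0 * (g : Matrix (Fin 2) (Fin 2) F) 1 1 := by
      rw [Matrix.det_fin_two, hb, hc]; ring
    have ha2 : (g : Matrix (Fin 2) (Fin 2) F) 0 0 ^ 2 = (g : Matrix (Fin 2) (Fin 2) F).det := by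
      field_simp at hyy
      exact hyy
    have ha0 : (g : Matrix (Fin 2) (Fin 2) F) 0 0 ≠ 0 := by
      intro h0; rw [hdet, h0, zero_mul] at hD; exact hD rfl
    have had : (g : Matrix (Fin 2) (Fin 2) F) 0 0 = (g : Matrix (Fin 2) (Fin 2) F) 1 1 := by
      rw [hdet, sq] at ha2
      exact mul_left_cancel₀ ha0 ha2
    refine ⟨(g : Matrix (Fin 2) (Fin 2) F) 0 0, ?_⟩
    ext i j
    fin_cases i <;> fin_cases j <;> simp [hb, hc, had]
  · rintro ⟨r, hr⟩
    have hr0 : r ≠ 0 := by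
      intro h0; rw [hr, h0, zero_smul, Matrix.det_zero] at hD; exact hD rfl
    rw [AdM, hr, ad0_smul, ad0_one, Matrix.det_smul, Matrix.det_one, smul_smul]
    simp only [Fintype.card_fin, mul_one]
    rw [inv_mul_cancel₀ (pow_ne_zero 2 hr0), one_smul]

theorem Ad_ker_eq : (Ad : GL (Fin 2) F →* _).ker = (GeneralLinearGroup.scalar (Fin 2)).range := by
  ext g
  rw [MonoidHom.mem_ker, MonoidHom.mem_range]
  have h1 : Ad g = 1 ↔ AdM g = 1 := by
    constructor
    · intro h
      have := congrArg (fun x : Cfsg.isometryGroup F (Cfsg.quadFormOdd 1 F) =>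
        ((x : GL I3 F) : Matrix I3 I3 F)) h
      exact this
    · intro h
      apply Subtype.ext
      apply Units.ext
      exact h
  rw [h1, AdM_eq_one_iff]
  constructor
  · rintro ⟨r, hr⟩
    have hr0 : r ≠ 0 := by
      intro h0
      have hD := det_ne_zero g
      rw [hr, h0, zero_smul, Matrix.det_zero] at hD; exact hD rfl
    refine ⟨Units.mk0 r hr0, ?_⟩
    apply Units.ext
    rw [GeneralLinearGroup.coe_scalar, hr, Matrix.smul_one_eq_diagonal]
    rfl
  · rintro ⟨u, rfl⟩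
    refine ⟨(u : F), ?_⟩
    rw [GeneralLinearGroup.coe_scalar, Matrix.smul_one_eq_diagonal]
    rfl

theorem card_Ad_ker [Fintype F] :
    Nat.card (Ad : GL (Fin 2) F →* _).ker = Fintype.card F - 1 := by
  rw [Ad_ker_eq]
  have hinj : Function.Injective (GeneralLinearGroup.scalar (Fin 2) : Fˣ →* GL (Fin 2) F) := by
    intro u v huv
    have h1 := congrArg (fun g : GL (Fin 2) F => (g : Matrix (Fin 2) (Fin 2) F) 0 0) huv
    simp only [GeneralLinearGroup.coe_scalar, Matrix.scalar_apply, Matrix.diagonal_apply_eq] at h1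
    exact Units.ext h1
  rw [← Nat.card_congr (MonoidHom.ofInjective hinj).toEquiv, card_units_field]

end Cfsg.Agent.Helper2.Adj3
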