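import Cfsg.Agent.Helper2.Transvec
import Cfsg.Agent.Helper2.SLCard

set_option autoImplicit false

namespace Cfsg.Agent.Helper2

open Matrix Matrix.SpecialLinearGroup
open scoped commutatorElement

section
variable {ι : Type*} [Fintype ι] [DecidableEq ι] {F : Type*} [Field F]

theorem diag_conj_transvection (a : F) (ha : a ≠ 0) {i j : ι} (hij : i ≠ j) (b : F) :
    diagonal (fun k => if k = i then a else 1) * (1 + single i j b) *
      diagonal (fun k => if k = i then a⁻¹ else 1) = 1 + single i j (a * b) := by
  ext k l
  rw [mul_diagonal, diagonal_mul]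
  simp only [Matrix.add_apply, Matrix.one_apply, single_apply]
  by_cases hkl : k = l
  · subst hkl
    have h1 : ¬ (i = k ∧ j = k) := fun h => hij (h.1.trans h.2.symm)
    by_cases hki : k = i
    · subst hki
      have h2 : ¬ (j = k) := fun h => hij h.symm
      simp [h2, ha]
    · simp [hki, h1]
  · by_cases h2 : i = k ∧ j = l
    · obtain ⟨rfl, rfl⟩ := h2
      simp [hkl, hij.symm]
    · simp [hkl, h2]

/-- the diagonal matrix with `a` at `i` as an element of `GL` -/
noncomputable def diagGL (a : F) (ha : a ≠ 0) (i : ι) : GL ι F :=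
  ⟨diagonal (fun k => if k = i then a else 1), diagonal (fun k => if k = i then a⁻¹ else 1), by
    rw [diagonal_mul_diagonal]
    rw [← diagonal_one]
    congr 1
    funext k
    by_cases hk : k = i <;> simp [hk, ha], by
    rw [diagonal_mul_diagonal]
    rw [← diagonal_one]
    congr 1
    funext k
    by_cases hk : k = i <;> simp [hk, ha]⟩

theorem transvection_mem_commutator_GL (a : F) (ha0 : a ≠ 0) (ha1 : a ≠ 1) {i j : ι}
    (hij : i ≠ j) (c : F) : toGL (transvection hij c) ∈ commutator (GL ι F) := by
  have hne : a - 1 ≠ 0 := sub_ne_zero_of_ne ha1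
  set b := c / (a - 1) with hb
  have key : ⁅diagGL a ha0 i, toGL (transvection hij b)⁆ = toGL (transvection hij c) := by
    rw [commutatorElement_def, ← map_inv, transvection_inv]
    apply Units.ext
    show diagonal (fun k => if k = i then a else 1) * (1 + single i j b) *
      diagonal (fun k => if k = i then a⁻¹ else 1) * (1 + single i j (-b)) = 1 + single i j c
    rw [diag_conj_transvection a ha0 hij b]
    rw [add_mul, mul_add, mul_add, one_mul, one_mul, mul_one,
      single_mul_single_of_ne _ _ _ _ hij.symm, add_zero, add_assoc, ← single_add]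
    congr 2
    rw [hb]; field_simp; ring
  rw [← key]
  exact Subgroup.commutator_mem_commutator (Subgroup.mem_top _) (Subgroup.mem_top _)

theorem toGL_mem_commutator_of_exists [Nontrivial ι] (h : ∃ a : F, a ≠ 0 ∧ a ≠ 1)
    (A : SpecialLinearGroup ι F) : toGL A ∈ commutator (GL ι F) := by
  obtain ⟨a, ha0, ha1⟩ := h
  refine SL_transvection_induction (fun A => toGL A ∈ commutator (GL ι F)) ?_ ?_ A
  · intro i j hij c
    exact transvection_mem_commutator_GL a ha0 ha1 hij c
  · intro A B hA hB
    rw [map_mul]
    exact mul_mem hA hB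

theorem toGL_mem_commutator_of_three_le (h3 : 3 ≤ Fintype.card ι)
    (A : SpecialLinearGroup ι F) : toGL A ∈ commutator (GL ι F) := by
  have hA : A ∈ commutator (SpecialLinearGroup ι F) := by
    rw [SL_commutator_eq_top h3]; exact Subgroup.mem_top _
  have : (commutator (SpecialLinearGroup ι F)).map toGL ≤ commutator (GL ι F) := by
    rw [commutator_def, Subgroup.map_commutator]
    exact Subgroup.commutator_mono le_top le_top
  exact this (Subgroup.mem_map_of_mem _ hA)

theorem commutator_GL_eq_ker_det
    (h : Fintype.card ι = 2 → ∃ a : F, a ≠ 0 ∧ a ≠ 1) :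
    commutator (GL ι F) = (GeneralLinearGroup.det : GL ι F →* Fˣ).ker := by
  apply le_antisymm
  · exact Abelianization.commutator_subset_ker _
  · rw [← range_toGL_eq_ker_det]
    rintro _ ⟨A, rfl⟩
    rcases Nat.lt_or_ge (Fintype.card ι) 2 with h2 | h2
    · have : Subsingleton ι := Fintype.card_le_one_iff_subsingleton.mp (by omega)
      have : A = 1 := Subsingleton.elim _ _
      rw [this, map_one]; exact one_mem _
    · rcases Nat.lt_or_ge (Fintype.card ι) 3 with h3 | h3
      · have : Nontrivial ι := Fintype.one_lt_card_iff_nontrivial.mp (by omega)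
        exact toGL_mem_commutator_of_exists (h (by omega)) A
      · exact toGL_mem_commutator_of_three_le h3 A

end

end Cfsg.Agent.Helper2
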