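import Mathlib

/-! Generic group theory to identify `Ω = [E, E]` with the image of a perfect group of index
dividing `4`, and `PΩ` with the central quotient of that perfect group. -/

set_option autoImplicit false
set_option linter.unusedSectionVars false
set_option linter.unusedVariables false

namespace Cfsg.Agent.Helper2.OmegaGen

open Subgroup

/-- a commutative group has trivial commutator subgroup -/
theorem commutator_eq_bot_of_comm {P : Type*} [Group P] (h : ∀ a b : P, a * b = b * a) :
    commutator P = ⊥ := by
  rw [commutator_def, Subgroup.commutator_eq_bot_iff_le_centralizer]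
  intro x _
  rw [Subgroup.mem_centralizer_iff]
  intro y _
  exact h y x

/-- a perfect group of prime order does not exist -/
theorem subsingleton_of_perfect_of_comm {P : Type*} [Group P] (hP : commutator P = ⊤)
    (h : ∀ a b : P, a * b = b * a) : Subsingleton P := by
  have h1 := commutator_eq_bot_of_comm h
  rw [hP] at h1
  refine ⟨fun a b => ?_⟩
  have ha : a ∈ (⊥ : Subgroup P) := h1 ▸ Subgroup.mem_top a
  have hb : b ∈ (⊥ : Subgroup P) := h1 ▸ Subgroup.mem_top b
  rw [Subgroup.mem_bot] at ha hb
  rw [ha, hb]

/-- a perfect group of order dividing `6` is trivial -/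
theorem subsingleton_of_perfect_of_card_dvd_six {P : Type*} [Group P] [Finite P]
    (hP : commutator P = ⊤) (h6 : Nat.card P ∣ 6) : Subsingleton P := by
  have hle : Nat.card P ≤ 6 := Nat.le_of_dvd (by norm_num) h6
  have hpos : 0 < Nat.card P := Nat.card_pos
  have hprime : ∀ p : ℕ, p.Prime → Nat.card P = p → Subsingleton P := by
    intro p hp hc
    have : Fact p.Prime := ⟨hp⟩
    have hcyc : IsCyclic P := isCyclic_of_prime_card hc
    let _ : CommGroup P := hcyc.commGroup
    exact subsingleton_of_perfect_of_comm hP (fun a b => mul_comm a b)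
  have hmem : Nat.card P ∈ Nat.divisors 6 := Nat.mem_divisors.mpr ⟨h6, by norm_num⟩
  have hdiv : Nat.divisors 6 = {1, 2, 3, 6} := by decide
  rw [hdiv] at hmem
  simp only [Finset.mem_insert, Finset.mem_singleton] at hmem
  rcases hmem with hc | hc | hc | hc
  · exact (Finite.card_le_one_iff_subsingleton).mp hc.le
  · exact hprime 2 Nat.prime_two hc
  · exact hprime 3 Nat.prime_three hc
  · -- order 6: a Sylow 3-subgroup has index 2
    exfalso
    have : Fact (Nat.Prime 3) := ⟨Nat.prime_three⟩
    obtain ⟨S⟩ : Nonempty (Sylow 3 P) := inferInstance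
    have hS : Nat.card S = 3 := by
      rw [Sylow.card_eq_multiplicity, hc]
      have : (6 : ℕ) = 2 * 3 := rfl
      rw [this, Nat.factorization_mul (by norm_num) (by norm_num),
        Nat.Prime.factorization Nat.prime_two, Nat.Prime.factorization Nat.prime_three]
      simp
    have hidx : (S : Subgroup P).index = 2 := by
      have := (S : Subgroup P).card_mul_index
      rw [hS, hc] at this
      omega
    have hn : (S : Subgroup P).Normal := Subgroup.normal_of_index_eq_two hidx
    have hq : Nat.card (P ⧸ (S : Subgroup P)) = 2 := by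
      rw [← Subgroup.index_eq_card]; exact hidx
    have : Fact (Nat.Prime 2) := ⟨Nat.prime_two⟩
    have hcyc : IsCyclic (P ⧸ (S : Subgroup P)) := isCyclic_of_prime_card hq
    let _ : CommGroup (P ⧸ (S : Subgroup P)) := hcyc.commGroup
    have hle := Abelianization.commutator_subset_ker (QuotientGroup.mk' (S : Subgroup P))
    rw [QuotientGroup.ker_mk', hP] at hle
    have htop : (S : Subgroup P) = ⊤ := top_le_iff.mp hle
    rw [htop, Subgroup.index_top] at hidx
    omega

/-- a surjective image of a perfect group is perfect -/
theorem commutator_eq_top_of_surjective {G H : Type*} [Group G] [Group H] (f : G →* H)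
    (hf : Function.Surjective f) (hG : commutator G = ⊤) : commutator H = ⊤ := by
  have h1 : Subgroup.map f (commutator G) = commutator H := by
    rw [commutator_def, Subgroup.map_commutator, commutator_def,
      ← MonoidHom.range_eq_map, MonoidHom.range_eq_top.mpr hf]
  rw [← h1, hG, ← MonoidHom.range_eq_map, MonoidHom.range_eq_top.mpr hf]

/-- a perfect subgroup lies in the commutator subgroup -/
theorem le_commutator_of_perfect {E : Type*} [Group E] (K : Subgroup E)
    (hK : commutator K = ⊤) : K ≤ commutator E := by
  have h1 : Subgroup.map K.subtype (commutator K) = ⁅K, K⁆ := by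
    rw [commutator_def, Subgroup.map_commutator, ← MonoidHom.range_eq_map, Subgroup.range_subtype]
  rw [hK, ← MonoidHom.range_eq_map, Subgroup.range_subtype] at h1
  rw [commutator_def]
  calc K = ⁅K, K⁆ := h1
    _ ≤ ⁅(⊤ : Subgroup E), ⊤⁆ := Subgroup.commutator_mono le_top le_top

/-- a perfect subgroup of index dividing `4` is normal -/
theorem normal_of_perfect_of_index_dvd_four {E : Type*} [Group E] [Finite E] (K : Subgroup E)
    (hK : commutator K = ⊤) (hidx : K.index ∣ 4) : K.Normal := by
  have hCK : K.normalCore ≤ K := Subgroup.normalCore_le K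
  have hemb : K.normalCore.index ∣ (K.index).factorial := by
    rw [Subgroup.index_eq_card K.normalCore, Subgroup.index_eq_card K, ← Nat.card_perm]
    have h1 : K.normalCore = (MulAction.toPermHom E (E ⧸ K)).ker := Subgroup.normalCore_eq_ker K
    rw [Nat.card_congr (QuotientGroup.quotientMulEquivOfEq h1).toEquiv,
      Nat.card_congr (QuotientGroup.quotientKerEquivRange _).toEquiv]
    exact Subgroup.card_subgroup_dvd_card _
  have hrel := Subgroup.relIndex_mul_index hCK
  rw [← hrel] at hemb
  have h6 : K.normalCore.relIndex K ∣ 6 := by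
    have hn : K.index ∈ Nat.divisors 4 := Nat.mem_divisors.mpr ⟨hidx, by norm_num⟩
    have hdiv : Nat.divisors 4 = {1, 2, 4} := by decide
    rw [hdiv] at hn
    simp only [Finset.mem_insert, Finset.mem_singleton] at hn
    rcases hn with hn | hn | hn <;> rw [hn] at hemb
    · rw [Nat.factorial_one, mul_one] at hemb
      exact hemb.trans (by norm_num)
    · have : K.normalCore.relIndex K ∣ 1 :=
        Nat.dvd_of_mul_dvd_mul_right (by norm_num : 0 < 2) (by
          rw [Nat.factorial_two] at hemb; rw [one_mul]; exact hemb)
      exact this.trans (by norm_num)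
    · have h24 : Nat.factorial 4 = 6 * 4 := by decide
      rw [h24] at hemb
      exact Nat.dvd_of_mul_dvd_mul_right (by norm_num : 0 < 4) hemb
  have hperf : commutator (K ⧸ K.normalCore.subgroupOf K) = ⊤ :=
    commutator_eq_top_of_surjective (QuotientGroup.mk' _) (QuotientGroup.mk'_surjective _) hK
  have hsub : Subsingleton (K ⧸ K.normalCore.subgroupOf K) :=
    subsingleton_of_perfect_of_card_dvd_six hperf (by
      rw [← Subgroup.index_eq_card]; exact h6)
  have htop : K.normalCore.subgroupOf K = ⊤ := QuotientGroup.subgroup_eq_top_of_subsingleton _ hsub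
  have hle : K ≤ K.normalCore := Subgroup.subgroupOf_eq_top.mp htop
  have : K = K.normalCore := le_antisymm hle hCK
  rw [this]
  infer_instance

/-- a perfect subgroup of index dividing `4` is the commutator subgroup -/
theorem commutator_eq_of_perfect_of_index_dvd_four {E : Type*} [Group E] [Finite E]
    (K : Subgroup E) (hK : commutator K = ⊤) (hidx : K.index ∣ 4) : commutator E = K := by
  have hn := normal_of_perfect_of_index_dvd_four K hK hidx
  apply le_antisymm _ (le_commutator_of_perfect K hK)
  have hcomm : ∀ a b : E ⧸ K, a * b = b * a := by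
    have hcard : Nat.card (E ⧸ K) = K.index := (Subgroup.index_eq_card K).symm
    have hn : K.index ∈ Nat.divisors 4 := Nat.mem_divisors.mpr ⟨hidx, by norm_num⟩
    have hdiv : Nat.divisors 4 = {1, 2, 4} := by decide
    rw [hdiv] at hn
    simp only [Finset.mem_insert, Finset.mem_singleton] at hn
    rcases hn with hn | hn | hn <;> rw [hn] at hcard
    · have : Subsingleton (E ⧸ K) := (Finite.card_le_one_iff_subsingleton).mp hcard.le
      intro a b; rw [Subsingleton.elim a b]
    · have : Fact (Nat.Prime 2) := ⟨Nat.prime_two⟩
      have hcyc : IsCyclic (E ⧸ K) := isCyclic_of_prime_card hcard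
      let _ : CommGroup (E ⧸ K) := hcyc.commGroup
      exact fun a b => mul_comm a b
    · have : Fact (Nat.Prime 2) := ⟨Nat.prime_two⟩
      have h := IsPGroup.isMulCommutative_of_card_eq_prime_sq (p := 2) hcard
      exact fun a b => h.is_comm.comm a b
  let _ : CommGroup (E ⧸ K) := { (inferInstance : Group (E ⧸ K)) with mul_comm := hcomm }
  have := Abelianization.commutator_subset_ker (QuotientGroup.mk' K)
  rwa [QuotientGroup.ker_mk'] at this

/-- The main transfer: if a perfect group `G` maps to `E` with central kernel and image of index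
dividing `4`, and `G / Z(G)` has trivial centre, then `[E,E] / Z([E,E]) ≃* G / Z(G)`. -/
theorem nonempty_mulEquiv {G E : Type*} [Group G] [Group E] [Finite E] (φ : G →* E)
    (hperf : commutator G = ⊤) (hker : φ.ker ≤ center G)
    (hcl : center (G ⧸ center G) = ⊥) (hidx : φ.range.index ∣ 4) :
    Nonempty (commutator E ⧸ center (commutator E) ≃* G ⧸ center G) := by
  have hrange : commutator E = φ.range :=
    commutator_eq_of_perfect_of_index_dvd_four φ.range
      (commutator_eq_top_of_surjective φ.rangeRestrict φ.rangeRestrict_surjective hperf) hidx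
  let ψ : G →* commutator E := φ.codRestrict _ (fun g => hrange ▸ ⟨g, rfl⟩)
  have hψ : ∀ g, ((ψ g : commutator E) : E) = φ g := fun g => rfl
  have hψs : Function.Surjective ψ := by
    rintro ⟨x, hx⟩
    have hx' : x ∈ φ.range := hrange ▸ hx
    obtain ⟨g, rfl⟩ := hx'
    exact ⟨g, Subtype.ext rfl⟩
  let Ψ : G →* commutator E ⧸ center (commutator E) := (QuotientGroup.mk' _).comp ψ
  have hΨs : Function.Surjective Ψ := (QuotientGroup.mk'_surjective _).comp hψs
  have hΨk : Ψ.ker = center G := by
    ext x
    rw [MonoidHom.mem_ker]
    change (QuotientGroup.mk (ψ x) : commutator E ⧸ center (commutator E)) = 1 ↔ _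
    rw [QuotientGroup.eq_one_iff]
    constructor
    · intro hx
      have h1 : (QuotientGroup.mk x : G ⧸ center G) ∈ center (G ⧸ center G) := by
        rw [Subgroup.mem_center_iff]
        intro y'
        obtain ⟨y, rfl⟩ := QuotientGroup.mk_surjective y'
        rw [← QuotientGroup.mk_mul, ← QuotientGroup.mk_mul, QuotientGroup.eq]
        apply hker
        rw [MonoidHom.mem_ker]
        have h2 := Subgroup.mem_center_iff.mp hx (ψ y)
        have h3 : φ y * φ x = φ x * φ y := by
          have := congrArg (fun z : commutator E => (z : E)) h2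
          simpa [hψ] using this
        rw [map_mul, map_inv, map_mul, map_mul, h3, inv_mul_cancel]
      rw [hcl, Subgroup.mem_bot, QuotientGroup.eq_one_iff] at h1
      exact h1
    · intro hx
      rw [Subgroup.mem_center_iff]
      intro z
      obtain ⟨g, rfl⟩ := hψs z
      rw [← map_mul, ← map_mul, Subgroup.mem_center_iff.mp hx g]
  exact ⟨((QuotientGroup.quotientMulEquivOfEq hΨk).symm.trans
    (QuotientGroup.quotientKerEquivOfSurjective Ψ hΨs)).symm⟩

/-- the counting form of the index hypothesis -/
theorem index_dvd_four_of_card {G E : Type*} [Group G] [Group E] [Finite G] [Finite E]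
    (φ : G →* E) (h1 : Nat.card E = 2 * Nat.card G) (h2 : Nat.card φ.ker ∣ 2) :
    φ.range.index ∣ 4 := by
  have h3 := Subgroup.index_mul_card φ.range
  have h4 := Subgroup.card_eq_card_quotient_mul_card_subgroup φ.ker
  rw [Nat.card_congr (QuotientGroup.quotientKerEquivRange φ).toEquiv] at h4
  have hr : 0 < Nat.card φ.range := Nat.card_pos
  rw [h1, h4] at h3
  have h5 : φ.range.index = 2 * Nat.card φ.ker := by
    have : φ.range.index * Nat.card φ.range = (2 * Nat.card φ.ker) * Nat.card φ.range := by
      rw [h3]; ring
    exact Nat.eq_of_mul_eq_mul_right hr this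
  rw [h5]
  have : (4 : ℕ) = 2 * 2 := rfl
  rw [this]
  exact Nat.mul_dvd_mul_left 2 h2

end Cfsg.Agent.Helper2.OmegaGen
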