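import Mathlib
import Cfsg.Agent.Helper2.OmegaGen

/-! More generic group theory for `Ω = [E, E]`: the non-perfect variant. -/

set_option autoImplicit false
set_option linter.unusedSectionVars false
set_option linter.unusedVariables false

namespace Cfsg.Agent.Helper2.OmegaGen

open Subgroup

/-- a normal subgroup of index dividing `4` contains the commutator subgroup -/
theorem commutator_le_of_normal_of_index_dvd_four {E : Type*} [Group E] [Finite E]
    (K : Subgroup E) [hn : K.Normal] (hidx : K.index ∣ 4) : commutator E ≤ K := by
  have hcomm : ∀ a b : E ⧸ K, a * b = b * a := by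
    have hcard : Nat.card (E ⧸ K) = K.index := (Subgroup.index_eq_card K).symm
    have hn : K.index ∈ Nat.divisors 4 := Nat.mem_divisors.mpr ⟨hidx, by norm_num⟩
    have hdiv : Nat.divisors 4 = {1, 2, 4} := by decide
    rw [hdiv] at hn
    simp only [Finset.mem_insert, Finset.mem_singleton] at hn
    rcases hn with hn | hn | hn <;> rw [hn] at hcard
    · have : Subsingleton (E ⧸ K) := (Finite.card_le_one_iff_subsingleton).mp hcard.le
      intro a b; rw [Subsingleton.elim a b]
    · have : Fact (Nat.Prime 2) := ⟨Nat.prime_two⟩
      have hcyc : IsCyclic (E ⧸ K) := isCyclic_of_prime_card hcard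
      let _ : CommGroup (E ⧸ K) := hcyc.commGroup
      exact fun a b => mul_comm a b
    · have : Fact (Nat.Prime 2) := ⟨Nat.prime_two⟩
      have h := IsPGroup.isMulCommutative_of_card_eq_prime_sq (p := 2) hcard
      exact fun a b => h.is_comm.comm a b
  let _ : CommGroup (E ⧸ K) := { (inferInstance : Group (E ⧸ K)) with mul_comm := hcomm }
  have := Abelianization.commutator_subset_ker (QuotientGroup.mk' K)
  rwa [QuotientGroup.ker_mk'] at this

/-- a subgroup of index dividing `2` is normal -/
theorem normal_of_index_dvd_two {E : Type*} [Group E] (S : Subgroup E) (h : S.index ∣ 2) :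
    S.Normal := by
  have hle : S.index ≤ 2 := Nat.le_of_dvd (by norm_num) h
  have hne : S.index ≠ 0 := fun h0 => by rw [h0] at h; norm_num at h
  rcases (by omega : S.index = 1 ∨ S.index = 2) with h1 | h1
  · rw [Subgroup.index_eq_one] at h1
    rw [h1]; infer_instance
  · exact Subgroup.normal_of_index_eq_two h1

/-- Lemma C: if the image of `Ĝ` has index dividing `2` and the image of `[Ĝ, Ĝ]` has index
dividing `4`, then `[E, E]` is the image of `[Ĝ, Ĝ]`. -/
theorem commutator_eq_map_commutator {G' E : Type*} [Group G'] [Group E] [Finite E]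
    (φ : G' →* E) (h2 : φ.range.index ∣ 2) (h4 : ((commutator G').map φ).index ∣ 4) :
    commutator E = (commutator G').map φ := by
  have hS : φ.range.Normal := normal_of_index_dvd_two _ h2
  have hK : (commutator G').map φ = ⁅φ.range, φ.range⁆ := by
    rw [commutator_def, Subgroup.map_commutator, ← MonoidHom.range_eq_map]
  have hKn : ((commutator G').map φ).Normal := by
    rw [hK]; infer_instance
  apply le_antisymm (commutator_le_of_normal_of_index_dvd_four _ h4)
  rw [hK, commutator_def]
  exact Subgroup.commutator_mono le_top le_top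

/-- transfer given the range -/
theorem nonempty_mulEquiv_of_range_eq {G E : Type*} [Group G] [Group E] (φ : G →* E)
    (hrange : commutator E = φ.range) (hker : φ.ker ≤ center G)
    (hcl : center (G ⧸ center G) = ⊥) :
    Nonempty (commutator E ⧸ center (commutator E) ≃* G ⧸ center G) := by
  let ψ : G →* commutator E := φ.codRestrict _ (fun g => hrange ▸ ⟨g, rfl⟩)
  have hψ : ∀ g, ((ψ g : commutator E) : E) = φ g := fun g => rfl
  have hψs : Function.Surjective ψ := by
    rintro ⟨x, hx⟩
    have hx' : x ∈ φ.range := hrange ▸ hx
    obtain ⟨g, rfl⟩ := hx'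
    exact ⟨g, Subtype.ext rfl⟩
  let Ψ : G →* commutator E ⧸ center (commutator E) := (QuotientGroup.mk' _).comp ψ
  have hΨs : Function.Surjective Ψ := (QuotientGroup.mk'_surjective _).comp hψs
  have hΨk : Ψ.ker = center G := by
    ext x
    rw [MonoidHom.mem_ker]
    change (QuotientGroup.mk (ψ x) : commutator E ⧸ center (commutator E)) = 1 ↔ _
    rw [QuotientGroup.eq_one_iff]
    constructor
    · intro hx
      have h1 : (QuotientGroup.mk x : G ⧸ center G) ∈ center (G ⧸ center G) := by
        rw [Subgroup.mem_center_iff]
        intro y'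
        obtain ⟨y, rfl⟩ := QuotientGroup.mk_surjective y'
        rw [← QuotientGroup.mk_mul, ← QuotientGroup.mk_mul, QuotientGroup.eq]
        apply hker
        rw [MonoidHom.mem_ker]
        have h2 := Subgroup.mem_center_iff.mp hx (ψ y)
        have h3 : φ y * φ x = φ x * φ y := by
          have := congrArg (fun z : commutator E => (z : E)) h2
          simpa [hψ] using this
        rw [map_mul, map_inv, map_mul, map_mul, h3, inv_mul_cancel]
      rw [hcl, Subgroup.mem_bot, QuotientGroup.eq_one_iff] at h1
      exact h1
    · intro hx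
      rw [Subgroup.mem_center_iff]
      intro z
      obtain ⟨g, rfl⟩ := hψs z
      rw [← map_mul, ← map_mul, Subgroup.mem_center_iff.mp hx g]
  exact ⟨((QuotientGroup.quotientMulEquivOfEq hΨk).symm.trans
    (QuotientGroup.quotientKerEquivOfSurjective Ψ hΨs)).symm⟩

/-- the counting form of an index hypothesis -/
theorem index_dvd_of_card {G E : Type*} [Group G] [Group E] [Finite G] [Finite E]
    (φ : G →* E) (n : ℕ) (h1 : Nat.card E * Nat.card φ.ker = n * Nat.card G) :
    φ.range.index = n := by
  have h3 := Subgroup.index_mul_card φ.range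
  have h4 := Subgroup.card_eq_card_quotient_mul_card_subgroup φ.ker
  rw [Nat.card_congr (QuotientGroup.quotientKerEquivRange φ).toEquiv] at h4
  have hr : 0 < Nat.card φ.range := Nat.card_pos
  have hk : 0 < Nat.card φ.ker := Nat.card_pos
  rw [← h3, h4] at h1
  have : φ.range.index * (Nat.card φ.range * Nat.card φ.ker) =
      n * (Nat.card φ.range * Nat.card φ.ker) := by
    rw [← h1]; ring
  exact Nat.eq_of_mul_eq_mul_right (Nat.mul_pos hr hk) this

end Cfsg.Agent.Helper2.OmegaGen
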