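import Mathlib
import Cfsg.Agent.Helper2.Adj3
import Cfsg.Agent.Helper2.OmegaGen2
import Cfsg.Agent.Helper2.GLComm
import Cfsg.Agent.Helper2.QuadOdd

/-! `PΩ₃(q) ≃* PSL₂(q)` for odd `q`. -/

set_option autoImplicit false
set_option linter.unusedSectionVars false
set_option linter.unusedVariables false
set_option linter.unusedSimpArgs false

namespace Cfsg.Agent.Helper2.Adj3

open Matrix Subgroup Cfsg.Agent.Helper2.SO3S4

variable {F : Type*} [Field F]

/-- the adjoint hom restricted to `SL₂` -/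
def AdSL : SpecialLinearGroup (Fin 2) F →* Cfsg.isometryGroup F (Cfsg.quadFormOdd 1 F) :=
  Ad.comp SpecialLinearGroup.toGL

theorem AdSL_ker_scalar (A : SpecialLinearGroup (Fin 2) F)
    (hA : A ∈ (AdSL : SpecialLinearGroup (Fin 2) F →* _).ker) :
    ∃ r : F, r ^ 2 = 1 ∧ (A : Matrix (Fin 2) (Fin 2) F) = r • (1 : Matrix (Fin 2) (Fin 2) F) := by
  have h1 : SpecialLinearGroup.toGL A ∈ (Ad : GL (Fin 2) F →* _).ker := hA
  rw [MonoidHom.mem_ker] at h1
  have h2 : AdM (SpecialLinearGroup.toGL A) = 1 := by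
    have := congrArg (fun x : Cfsg.isometryGroup F (Cfsg.quadFormOdd 1 F) =>
      ((x : GL I3 F) : Matrix I3 I3 F)) h1
    exact this
  obtain ⟨r, hr⟩ := (AdM_eq_one_iff _).mp h2
  have hr' : (A : Matrix (Fin 2) (Fin 2) F) = r • (1 : Matrix (Fin 2) (Fin 2) F) := hr
  refine ⟨r, ?_, hr'⟩
  have hdet := A.2
  rw [hr', Matrix.det_smul, Matrix.det_one, Fintype.card_fin, mul_one] at hdet
  exact hdet

theorem AdSL_ker_le_center : (AdSL : SpecialLinearGroup (Fin 2) F →* _).ker ≤
    center (SpecialLinearGroup (Fin 2) F) := by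
  intro A hA
  obtain ⟨r, hr, hA'⟩ := AdSL_ker_scalar A hA
  rw [Matrix.SpecialLinearGroup.mem_center_iff]
  refine ⟨r, by rw [Fintype.card_fin]; exact hr, ?_⟩
  rw [hA', Matrix.smul_one_eq_diagonal]; rfl

theorem card_AdSL_ker_dvd_two [Finite F] :
    Nat.card (AdSL : SpecialLinearGroup (Fin 2) F →* _).ker ∣ 2 := by
  classical
  let f : (AdSL : SpecialLinearGroup (Fin 2) F →* _).ker → Bool :=
    fun A => decide ((A.1 : Matrix (Fin 2) (Fin 2) F) 0 0 = 1)
  have hinj : Function.Injective f := by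
    intro A B hAB
    obtain ⟨r, hr, hA⟩ := AdSL_ker_scalar A.1 A.2
    obtain ⟨s, hs, hB⟩ := AdSL_ker_scalar B.1 B.2
    have hA0 : (A.1 : Matrix (Fin 2) (Fin 2) F) 0 0 = r := by rw [hA]; simp
    have hB0 : (B.1 : Matrix (Fin 2) (Fin 2) F) 0 0 = s := by rw [hB]; simp
    have hrs : r = s := by
      simp only [f, hA0, hB0, decide_eq_decide] at hAB
      rcases sq_eq_one_iff.mp hr with h1 | h1 <;> rcases sq_eq_one_iff.mp hs with h2 | h2
      · rw [h1, h2]
      · exact (hAB.mp h1).symm ▸ h1 |>.trans (by rw [hAB.mp h1])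
      · exact (hAB.mpr h2).trans h2.symm ▸ rfl
      · rw [h1, h2]
    apply Subtype.ext
    apply Subtype.ext
    rw [hA, hB, hrs]
  have hle : Nat.card (AdSL : SpecialLinearGroup (Fin 2) F →* _).ker ≤ 2 := by
    have := Nat.card_le_card_of_injective f hinj
    simpa using this
  have hpos : 0 < Nat.card (AdSL : SpecialLinearGroup (Fin 2) F →* _).ker := Nat.card_pos
  interval_cases Nat.card (AdSL : SpecialLinearGroup (Fin 2) F →* _).ker <;> norm_num

/-- the centre of `PSL₂(F)` is trivial, for every field -/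
theorem center_PSL2_eq_bot : center (Matrix.ProjectiveSpecialLinearGroup (Fin 2) F) = ⊥ := by
  rw [eq_bot_iff]
  intro x hx
  obtain ⟨g, rfl⟩ := QuotientGroup.mk_surjective x
  rw [Subgroup.mem_bot, QuotientGroup.eq_one_iff]
  have key : ∀ h : SpecialLinearGroup (Fin 2) F, ∃ r : F, r ^ 2 = 1 ∧
      r • ((h : Matrix (Fin 2) (Fin 2) F) * (g : Matrix (Fin 2) (Fin 2) F)) =
        (g : Matrix (Fin 2) (Fin 2) F) * (h : Matrix (Fin 2) (Fin 2) F) := by
    intro h
    have h1 := Subgroup.mem_center_iff.mp hx (QuotientGroup.mk h)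
    rw [← QuotientGroup.mk_mul, ← QuotientGroup.mk_mul, QuotientGroup.eq] at h1
    obtain ⟨z, hz⟩ : ∃ z, z = (h * g)⁻¹ * (g * h) := ⟨_, rfl⟩
    rw [← hz, Matrix.SpecialLinearGroup.mem_center_iff] at h1
    obtain ⟨r, hr, hr'⟩ := h1
    refine ⟨r, by simpa using hr, ?_⟩
    have h2 : (h * g) * z = g * h := by rw [hz]; group
    have h3 : ((h : Matrix (Fin 2) (Fin 2) F) * (g : Matrix (Fin 2) (Fin 2) F)) *
        (z : Matrix (Fin 2) (Fin 2) F) =
        (g : Matrix (Fin 2) (Fin 2) F) * (h : Matrix (Fin 2) (Fin 2) F) := by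
      have := congrArg (fun z : Matrix.SpecialLinearGroup (Fin 2) F =>
        (z : Matrix (Fin 2) (Fin 2) F)) h2
      simpa only [Matrix.SpecialLinearGroup.coe_mul] using this
    rw [← hr'] at h3
    rw [← h3]
    ext i j
    simp [Matrix.mul_apply, Matrix.diagonal_apply, Fin.sum_univ_two, mul_comm]
  have hdet : (g : Matrix (Fin 2) (Fin 2) F) 0 0 * (g : Matrix (Fin 2) (Fin 2) F) 1 1 -
      (g : Matrix (Fin 2) (Fin 2) F) 0 1 * (g : Matrix (Fin 2) (Fin 2) F) 1 0 = 1 := by
    have := g.2
    rw [Matrix.det_fin_two] at this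
    exact this
  -- upper transvection
  obtain ⟨r, hr, hru⟩ := key ⟨!![1, 1; 0, 1], by simp [Matrix.det_fin_two]⟩
  have u00 := congrFun (congrFun hru 0) 0
  have u01 := congrFun (congrFun hru 0) 1
  have u10 := congrFun (congrFun hru 1) 0
  have u11 := congrFun (congrFun hru 1) 1
  simp [Matrix.mul_apply, Fin.sum_univ_two, Matrix.vecMul, dotProduct] at u00 u01 u10 u11
  -- lower transvection
  obtain ⟨s, hs, hsl⟩ := key ⟨!![1, 0; 1, 1], by simp [Matrix.det_fin_two]⟩
  have l00 := congrFun (congrFun hsl 0) 0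
  have l01 := congrFun (congrFun hsl 0) 1
  have l10 := congrFun (congrFun hsl 1) 0
  have l11 := congrFun (congrFun hsl 1) 1
  simp [Matrix.mul_apply, Fin.sum_univ_two, Matrix.vecMul, dotProduct] at l00 l01 l10 l11
  set a := (g : Matrix (Fin 2) (Fin 2) F) 0 0 with ha
  set b := (g : Matrix (Fin 2) (Fin 2) F) 0 1 with hb
  set c := (g : Matrix (Fin 2) (Fin 2) F) 1 0 with hc
  set d := (g : Matrix (Fin 2) (Fin 2) F) 1 1 with hd
  have hc0 : c = 0 := by
    by_contra hne
    have hr1 : r = 1 := by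
      have : (r - 1) * c = 0 := by linear_combination u10
      rcases mul_eq_zero.mp this with h | h
      · linear_combination h
      · exact absurd h hne
    rw [hr1] at u00
    apply hne
    linear_combination u00
  have hb0 : b = 0 := by
    by_contra hne
    have hs1 : s = 1 := by
      have : (s - 1) * b = 0 := by linear_combination l01
      rcases mul_eq_zero.mp this with h | h
      · linear_combination h
      · exact absurd h hne
    rw [hs1] at l00
    apply hne
    linear_combination -l00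
  have had : a * d = 1 := by rw [hb0] at hdet; linear_combination hdet
  have ha0 : a ≠ 0 := left_ne_zero_of_mul_eq_one had
  have hr1 : r = 1 := by
    rw [hc0] at u00
    have : (r - 1) * a = 0 := by linear_combination u00
    rcases mul_eq_zero.mp this with h | h
    · linear_combination h
    · exact absurd h ha0
  have hda : d = a := by
    rw [hr1, hb0] at u01
    linear_combination u01
  rw [Matrix.SpecialLinearGroup.mem_center_iff]
  refine ⟨a, ?_, ?_⟩
  · rw [Fintype.card_fin, sq]; rw [hda] at had; exact had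
  · ext i j
    fin_cases i <;> fin_cases j <;> simp [← ha, ← hb, ← hc, ← hd, hb0, hc0, hda]

theorem card_GO3_mul [Fintype F] (hodd : Odd (Fintype.card F)) :
    Nat.card (Cfsg.isometryGroup F (Cfsg.quadFormOdd 1 F)) * (Fintype.card F - 1) =
      2 * Nat.card (GL (Fin 2) F) := by
  set q := Fintype.card F with hq
  have hq2 : 2 ≤ q := Fintype.one_lt_card
  rw [Quad.card_GO_odd (F := F) (q := q) rfl hodd 1, Matrix.card_GL_field, ← hq,
    Fin.prod_univ_two]
  simp only [Finset.prod_range_one, Fin.val_zero, Fin.val_one, pow_zero, pow_one]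
  have e1 : q ^ 2 - q = q * (q - 1) := by
    rw [Nat.mul_sub]; ring_nf
  rw [e1]
  ring

theorem card_GO3_eq [Fintype F] (hodd : Odd (Fintype.card F)) :
    Nat.card (Cfsg.isometryGroup F (Cfsg.quadFormOdd 1 F)) =
      2 * Nat.card (SpecialLinearGroup (Fin 2) F) := by
  have hq2 : 2 ≤ Fintype.card F := Fintype.one_lt_card
  have h1 := card_GO3_mul hodd
  have h2 := card_SL_mul_card_units (ι := Fin 2) (F := F)
  rw [card_units_field] at h2
  rw [← h2] at h1
  have hpos : 0 < Fintype.card F - 1 := by omega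
  apply Nat.eq_of_mul_eq_mul_right hpos
  rw [h1]; ring

theorem nonempty_mulEquiv [Fintype F] (hodd : Odd (Fintype.card F)) :
    Nonempty (Cfsg.POmega F (Cfsg.quadFormOdd 1 F) ≃*
      Matrix.ProjectiveSpecialLinearGroup (Fin 2) F) := by
  have hq3 : 3 ≤ Fintype.card F := by
    have hq2 : 2 ≤ Fintype.card F := Fintype.one_lt_card
    rcases hodd with ⟨k, hk⟩
    omega
  have hex : ∃ a : F, a ≠ 0 ∧ a ≠ 1 := by
    classical
    by_contra hne
    push Not at hne
    have : Fintype.card F ≤ 2 := by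
      have hsub : (Finset.univ : Finset F) ⊆ {0, 1} := by
        intro x _
        by_cases hx : x = 0
        · simp [hx]
        · simp [hne x hx]
      calc Fintype.card F = (Finset.univ : Finset F).card := rfl
        _ ≤ ({0, 1} : Finset F).card := Finset.card_le_card hsub
        _ ≤ 2 := Finset.card_le_two
    omega
  have hcomm : commutator (GL (Fin 2) F) =
      (SpecialLinearGroup.toGL : SpecialLinearGroup (Fin 2) F →* GL (Fin 2) F).range := by
    rw [commutator_GL_eq_ker_det (fun _ => hex), range_toGL_eq_ker_det]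
  have h2 : (Ad : GL (Fin 2) F →* _).range.index ∣ 2 := by
    rw [OmegaGen.index_dvd_of_card Ad 2 (by rw [card_Ad_ker, card_GO3_mul hodd])]
  have hmap : (commutator (GL (Fin 2) F)).map Ad =
      (AdSL : SpecialLinearGroup (Fin 2) F →* _).range := by
    rw [hcomm, MonoidHom.map_range]; rfl
  have h4 : (AdSL : SpecialLinearGroup (Fin 2) F →* _).range.index ∣ 4 :=
    OmegaGen.index_dvd_four_of_card AdSL (card_GO3_eq hodd) card_AdSL_ker_dvd_two
  have hrange := OmegaGen.commutator_eq_map_commutator Ad h2 (hmap ▸ h4)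
  rw [hmap] at hrange
  exact OmegaGen.nonempty_mulEquiv_of_range_eq AdSL hrange AdSL_ker_le_center center_PSL2_eq_bot

end Cfsg.Agent.Helper2.Adj3
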