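import Mathlib
import Cfsg.Prelude.Def_Classical
import Cfsg.Agent.Helper2.QuadExt

/-! `SL₂(q²)` acting on Hermitian `2 × 2` matrices: the map to `GO₄⁻(q)`. -/

set_option autoImplicit false
set_option linter.unusedSectionVars false
set_option linter.unusedVariables false
set_option linter.unusedSimpArgs false

namespace Cfsg.Agent.Helper2.Herm2

open Matrix Cfsg.Agent.Helper2.Herm Cfsg.Agent.Helper2.QExt

/-- index type of the minus-type four-space -/
abbrev I4m := (Fin 1 ⊕ Fin 1) ⊕ Fin 2

variable {F : Type*} [Field F] [Fintype F] {K : Type*} [Field K] [Fintype K] [Algebra F K] {q : ℕ}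

local notation "ι" => algebraMap F K

/-- conjugate transpose -/
def star' (hK : Fintype.card K = q ^ 2) (M : Matrix (Fin 2) (Fin 2) K) :
    Matrix (Fin 2) (Fin 2) K := (M.map (cj hK))ᵀ

theorem star'_apply (hK : Fintype.card K = q ^ 2) (M : Matrix (Fin 2) (Fin 2) K) (i j : Fin 2) :
    star' hK M i j = cj hK (M j i) := rfl

theorem star'_mul (hK : Fintype.card K = q ^ 2) (A B : Matrix (Fin 2) (Fin 2) K) :
    star' hK (A * B) = star' hK B * star' hK A := by
  rw [star', star', star', Matrix.map_mul, Matrix.transpose_mul]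

theorem star'_star' (hK : Fintype.card K = q ^ 2) (A : Matrix (Fin 2) (Fin 2) K) :
    star' hK (star' hK A) = A := by
  ext i j
  rw [star'_apply, star'_apply, cj_cj]

theorem star'_one (hK : Fintype.card K = q ^ 2) : star' hK (1 : Matrix (Fin 2) (Fin 2) K) = 1 := by
  ext i j
  rw [star'_apply, Matrix.one_apply, Matrix.one_apply]
  by_cases h : i = j
  · subst h; simp
  · rw [if_neg h, if_neg (Ne.symm h), map_zero]

theorem det_star' (hK : Fintype.card K = q ^ 2) (A : Matrix (Fin 2) (Fin 2) K) :
    (star' hK A).det = cj hK A.det := by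
  rw [star', Matrix.det_transpose, Matrix.det_fin_two, Matrix.det_fin_two]
  simp only [Matrix.map_apply, map_sub, map_mul]

section model

variable (hF : Fintype.card F = q) (hK : Fintype.card K = q ^ 2) {a b : F}
  (hirr : ∀ r : F, r ^ 2 - a * r + b ≠ 0) {θ : K}
  (hθ : θ ^ 2 - (algebraMap F K) a * θ + (algebraMap F K) b = 0)

/-- a vector as a Hermitian matrix -/
def toH (hK : Fintype.card K = q ^ 2) (θ : K) (v : I4m → F) : Matrix (Fin 2) (Fin 2) K :=
  !![ι (v (.inl (.inl 0))), phi θ (v (.inr 0), v (.inr 1));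
     cj hK (phi θ (v (.inr 0), v (.inr 1))), -ι (v (.inl (.inr 0)))]

include hF in
theorem star'_toH (v : I4m → F) : star' hK (toH hK θ v) = toH hK θ v := by
  ext i j
  rw [star'_apply]
  fin_cases i <;> fin_cases j <;> simp [toH, cj_algebraMap hF hK, cj_cj]

theorem toH_add (v w : I4m → F) : toH hK θ (v + w) = toH hK θ v + toH hK θ w := by
  ext i j
  fin_cases i <;> fin_cases j <;> simp [toH, phi, map_add, map_mul] <;> ring

include hF in
theorem toH_smul (c : F) (v : I4m → F) : toH hK θ (c • v) = c • toH hK θ v := by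
  ext i j
  fin_cases i <;> fin_cases j <;>
    simp [toH, phi, Algebra.smul_def, cj_algebraMap hF hK] <;> ring

/-- `toH` as a linear map -/
def toHL (hF : Fintype.card F = q) (hK : Fintype.card K = q ^ 2) (θ : K) :
    (I4m → F) →ₗ[F] Matrix (Fin 2) (Fin 2) K where
  toFun := toH hK θ
  map_add' := toH_add hK
  map_smul' c v := toH_smul hF hK c v

include hF hirr hθ in
theorem toH_injective : Function.Injective (toH hK θ : (I4m → F) → Matrix (Fin 2) (Fin 2) K) := by
  intro v w h
  have h00 : ι (v (.inl (.inl 0))) = ι (w (.inl (.inl 0))) := congrFun (congrFun h 0) 0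
  have h01 : phi θ (v (.inr 0), v (.inr 1)) = phi θ (w (.inr 0), w (.inr 1)) :=
    congrFun (congrFun h 0) 1
  have h11 : -ι (v (.inl (.inr 0))) = -ι (w (.inl (.inr 0))) := congrFun (congrFun h 1) 1
  have hz := phi_injective hF hK hirr hθ h01
  rw [Prod.mk.injEq] at hz
  have hx := (algebraMap F K).injective h00
  have hy := (algebraMap F K).injective (neg_injective h11)
  funext i
  rcases i with (i | i) | i
  · fin_cases i; exact hx
  · fin_cases i; exact hy
  · fin_cases i
    · exact hz.1
    · exact hz.2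

include hF hirr hθ in
theorem exists_toH (X : Matrix (Fin 2) (Fin 2) K) (hX : star' hK X = X) :
    ∃ v : I4m → F, toH hK θ v = X := by
  have h00 : cj hK (X 0 0) = X 0 0 := by
    have := congrFun (congrFun hX 0) 0
    rwa [star'_apply] at this
  have h11 : cj hK (X 1 1) = X 1 1 := by
    have := congrFun (congrFun hX 1) 1
    rwa [star'_apply] at this
  have h10 : cj hK (X 0 1) = X 1 0 := by
    have := congrFun (congrFun hX 1) 0
    rwa [star'_apply] at this
  obtain ⟨x, hx⟩ := exists_of_cj_eq hF hK h00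
  obtain ⟨y, hy⟩ := exists_of_cj_eq hF hK h11
  obtain ⟨⟨z1, z2⟩, hz⟩ := (phi_bijective hF hK hirr hθ).2 (X 0 1)
  refine ⟨Sum.elim (Sum.elim (fun _ => x) (fun _ => -y)) ![z1, z2], ?_⟩
  ext i j
  fin_cases i <;> fin_cases j <;> simp [toH, hx, hy, hz, h10]

include hF hirr hθ in
theorem det_toH (v : I4m → F) :
    (toH hK θ v).det = -ι (Cfsg.quadFormMinus 1 F a b v) := by
  have hn := norm_phi hF hK hirr hθ (v (.inr 0), v (.inr 1))
  rw [Matrix.det_fin_two]
  simp only [toH, Matrix.of_apply, Matrix.cons_val', Matrix.cons_val_zero, Matrix.cons_val_one,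
    Matrix.cons_val_fin_one]
  rw [hn]
  simp only [Cfsg.quadFormMinus, Fin.sum_univ_one, map_add, map_mul, map_pow]
  ring

end model

section rep

variable (hF : Fintype.card F = q) (hK : Fintype.card K = q ^ 2) {a b : F}
  (hirr : ∀ r : F, r ^ 2 - a * r + b ≠ 0) {θ : K}
  (hθ : θ ^ 2 - (algebraMap F K) a * θ + (algebraMap F K) b = 0)

open Classical in
/-- inverse of `toH` on Hermitian matrices -/
noncomputable def fromH (X : Matrix (Fin 2) (Fin 2) K) : I4m → F :=
  if h : star' hK X = X then Classical.choose (exists_toH hF hK hirr hθ X h) else 0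

theorem toH_fromH (X : Matrix (Fin 2) (Fin 2) K) (hX : star' hK X = X) :
    toH hK θ (fromH hF hK hirr hθ X) = X := by
  rw [fromH, dif_pos hX]
  exact Classical.choose_spec (exists_toH hF hK hirr hθ X hX)

theorem star'_act (g X : Matrix (Fin 2) (Fin 2) K) (hX : star' hK X = X) :
    star' hK (g * X * star' hK g) = g * X * star' hK g := by
  rw [star'_mul, star'_mul, star'_star', hX, Matrix.mul_assoc]

/-- the matrix of `X ↦ g X g*` -/
noncomputable def rep (g : Matrix (Fin 2) (Fin 2) K) : Matrix I4m I4m F :=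
  Matrix.of fun i j => fromH hF hK hirr hθ (g * toH hK θ (Pi.single j (1 : F)) * star' hK g) i

theorem mulVec_eq_sum_col (M : Matrix I4m I4m F) (v : I4m → F) :
    M *ᵥ v = ∑ j, v j • (fun i => M i j) := by
  funext i
  simp [Matrix.mulVec, dotProduct, mul_comm]

theorem toH_rep_mulVec (g : Matrix (Fin 2) (Fin 2) K) (v : I4m → F) :
    toH hK θ (rep hF hK hirr hθ g *ᵥ v) = g * toH hK θ v * star' hK g := by
  have h1 : toH hK θ (rep hF hK hirr hθ g *ᵥ v) =
      ∑ j, v j • toH hK θ (fun i => rep hF hK hirr hθ g i j) := by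
    rw [mulVec_eq_sum_col]
    have := map_sum (toHL hF hK θ) (fun j => v j • (fun i => rep hF hK hirr hθ g i j)) Finset.univ
    simp only [map_smul] at this
    exact this
  have h2 : toH hK θ v = ∑ j, v j • toH hK θ (Pi.single j (1 : F)) := by
    have h3 := pi_eq_sum_univ' v
    have := map_sum (toHL hF hK θ) (fun j => v j • (Pi.single (M := fun _ => F) j 1)) Finset.univ
    simp only [map_smul] at this
    conv_lhs => rw [h3]
    exact this
  rw [h1, h2, Matrix.mul_sum, Matrix.sum_mul]
  apply Finset.sum_congr rfl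
  intro j _
  rw [Matrix.mul_smul, Matrix.smul_mul]
  congr 1
  exact toH_fromH hF hK hirr hθ _ (star'_act hK g _ (star'_toH hF hK _))

theorem rep_mul (g h : Matrix (Fin 2) (Fin 2) K) :
    rep hF hK hirr hθ (g * h) = rep hF hK hirr hθ g * rep hF hK hirr hθ h := by
  rw [Matrix.ext_iff_mulVec]
  intro v
  apply toH_injective hF hK hirr hθ
  rw [← Matrix.mulVec_mulVec, toH_rep_mulVec, toH_rep_mulVec, toH_rep_mulVec, star'_mul]
  simp only [Matrix.mul_assoc]

theorem rep_one : rep hF hK hirr hθ (1 : Matrix (Fin 2) (Fin 2) K) = 1 := by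
  rw [Matrix.ext_iff_mulVec]
  intro v
  apply toH_injective hF hK hirr hθ
  rw [toH_rep_mulVec, star'_one, Matrix.one_mul, Matrix.mul_one, Matrix.one_mulVec]

theorem quad_rep (g : Matrix (Fin 2) (Fin 2) K) (hg : g.det = 1) (v : I4m → F) :
    Cfsg.quadFormMinus 1 F a b (rep hF hK hirr hθ g *ᵥ v) = Cfsg.quadFormMinus 1 F a b v := by
  apply (algebraMap F K).injective
  apply neg_injective
  rw [← det_toH hF hK hirr hθ, ← det_toH hF hK hirr hθ, toH_rep_mulVec, Matrix.det_mul,
    Matrix.det_mul, det_star', hg, map_one, one_mul, mul_one]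

end rep

end Cfsg.Agent.Helper2.Herm2
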