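import Mathlib
import Cfsg.Prelude.Def_Classical
import Cfsg.Agent.Helper2.Klein

/-! `Sp₄(F) → GO₅(F)`: the second compound restricted to the hyperplane `ω^⊥`. -/

set_option autoImplicit false
set_option linter.unusedSectionVars false
set_option linter.unusedVariables false
set_option linter.unusedSimpArgs false

namespace Cfsg.Agent.Helper2.Sp4O5

open Matrix Cfsg.Agent.Helper2.Klein

/-- index type of five-space -/
abbrev I5 := Unit ⊕ (Fin 2 ⊕ Fin 2)

/-- index type of six-space -/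
abbrev I6 := Fin 3 ⊕ Fin 3

/-- index type of the symplectic four-space -/
abbrev S4 := Fin 2 ⊕ Fin 2

/-- the reindexing `Fin 4 → Fin 2 ⊕ Fin 2` -/
def e4 : Fin 4 → S4 := ![.inl 0, .inl 1, .inr 0, .inr 1]

/-- the inverse reindexing -/
def e4inv : S4 → Fin 4 := Sum.elim ![0, 1] ![2, 3]

theorem e4_e4inv (x : S4) : e4 (e4inv x) = x := by
  rcases x with x | x <;> fin_cases x <;> rfl

theorem e4inv_e4 (x : Fin 4) : e4inv (e4 x) = x := by
  fin_cases x <;> rfl

/-- `e4` as an equivalence -/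
def e4Equiv : Fin 4 ≃ S4 := ⟨e4, e4inv, e4inv_e4, e4_e4inv⟩

variable {F : Type*} [Field F]

/-- reindex a symplectic-indexed matrix to `Fin 4` -/
def re (A : Matrix S4 S4 F) : Matrix (Fin 4) (Fin 4) F := A.submatrix e4 e4

theorem re_mul (A B : Matrix S4 S4 F) : re (A * B) = re A * re B := by
  have := Matrix.submatrix_mul_equiv A B e4 e4Equiv e4
  exact this.symm

theorem re_one : re (1 : Matrix S4 S4 F) = 1 := by
  have := Matrix.submatrix_one_equiv (α := F) e4Equiv
  exact this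

theorem det_re (A : Matrix S4 S4 F) : (re A).det = A.det :=
  Matrix.det_submatrix_equiv_self e4Equiv A

/-- the invariant linear functional -/
def lam (z : I6 → F) : F := z (.inl 1) - z (.inr 1)

/-- the symplectic condition, entrywise -/
theorem sp_entry (A : Matrix S4 S4 F) (hA : Aᵀ * J (Fin 2) F * A = J (Fin 2) F) (c d : S4) :
    -(A (.inl 0) c * A (.inr 0) d) - A (.inl 1) c * A (.inr 1) d + A (.inr 0) c * A (.inl 0) d
      + A (.inr 1) c * A (.inl 1) d = J (Fin 2) F c d := by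
  have := congrFun (congrFun hA c) d
  rw [← this]
  simp [Matrix.mul_apply, J, Matrix.fromBlocks, Fintype.sum_sum_type, Fin.sum_univ_two,
    Matrix.one_apply, Matrix.neg_apply]
  ring

theorem lam_comp2 (A : Matrix S4 S4 F) (hA : Aᵀ * J (Fin 2) F * A = J (Fin 2) F) (z : I6 → F) :
    lam (comp2 (re A) *ᵥ z) = lam z := by
  have h := sp_entry A hA
  have h01 := h (.inl 0) (.inl 1)
  have h23 := h (.inr 0) (.inr 1)
  have h02 := h (.inl 0) (.inr 0)
  have h13 := h (.inl 1) (.inr 1)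
  have h03 := h (.inl 0) (.inr 1)
  have h12 := h (.inl 1) (.inr 0)
  simp [J, Matrix.fromBlocks, Matrix.one_apply] at h01 h23 h02 h13 h03 h12
  simp only [lam, Matrix.mulVec, dotProduct, Fintype.sum_sum_type, Fin.sum_univ_three, comp2,
    minor2, pa, pb, sg, Sum.elim_inl, Sum.elim_inr, re, Matrix.submatrix_apply, e4]
  simp
  linear_combination (-z (.inl 0)) * h01 + (-z (.inr 0)) * h23 + (-z (.inl 1)) * h02
    + (z (.inr 1)) * h13 + (-z (.inl 2)) * h03 + (-z (.inr 2)) * h12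

/-- the embedding of five-space as the hyperplane `lam = 0` -/
def emb (y : I5 → F) : I6 → F :=
  Sum.elim ![y (.inr (.inl 0)), y (.inl ()), y (.inr (.inl 1))]
    ![y (.inr (.inr 0)), y (.inl ()), y (.inr (.inr 1))]

/-- the projection to five-space -/
def prj (z : I6 → F) : I5 → F :=
  Sum.elim (fun _ => (z (.inl 1) + z (.inr 1)) / 2)
    (Sum.elim ![z (.inl 0), z (.inl 2)] ![z (.inr 0), z (.inr 2)])

theorem lam_emb (y : I5 → F) : lam (emb y) = 0 := by
  simp [lam, emb]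

theorem prj_emb (h2 : (2 : F) ≠ 0) (y : I5 → F) : prj (emb y) = y := by
  funext i
  rcases i with i | i | i
  · simp [prj, emb]; field_simp; ring
  · fin_cases i <;> simp [prj, emb]
  · fin_cases i <;> simp [prj, emb]

theorem emb_prj (h2 : (2 : F) ≠ 0) (z : I6 → F) (hz : lam z = 0) : emb (prj z) = z := by
  have h1 : z (.inl 1) = z (.inr 1) := by
    rw [lam] at hz; exact sub_eq_zero.mp hz
  funext i
  rcases i with i | i <;> fin_cases i <;> simp [prj, emb, h1] <;> field_simp <;> ring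

theorem plu_emb (y : I5 → F) : plu (emb y) = Cfsg.quadFormOdd 2 F y := by
  simp [plu, emb, Cfsg.quadFormOdd, Fin.sum_univ_three, Fin.sum_univ_two]
  ring

/-- `emb` as a matrix -/
def Bm (F : Type*) [Field F] : Matrix I6 I5 F := Matrix.of fun i j => emb (Pi.single j 1) i

/-- `prj` as a matrix -/
def Lm (F : Type*) [Field F] : Matrix I5 I6 F := Matrix.of fun i j => prj (Pi.single j 1) i

theorem Bm_mulVec (y : I5 → F) : Bm F *ᵥ y = emb y := by
  funext i
  rcases i with i | i <;> fin_cases i <;>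
    simp [Bm, emb, Matrix.mulVec, dotProduct, Fintype.sum_sum_type, Fin.sum_univ_two,
      Pi.single_apply]

theorem Lm_mulVec (z : I6 → F) : Lm F *ᵥ z = prj z := by
  funext i
  rcases i with i | i | i
  · simp [Lm, prj, Matrix.mulVec, dotProduct, Fintype.sum_sum_type, Fin.sum_univ_three,
      Pi.single_apply]
    ring
  · fin_cases i <;>
      simp [Lm, prj, Matrix.mulVec, dotProduct, Fintype.sum_sum_type, Fin.sum_univ_three,
        Pi.single_apply]
  · fin_cases i <;>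
      simp [Lm, prj, Matrix.mulVec, dotProduct, Fintype.sum_sum_type, Fin.sum_univ_three,
        Pi.single_apply]

/-- the induced `5 × 5` matrix -/
def M5 (A : Matrix S4 S4 F) : Matrix I5 I5 F := Lm F * comp2 (re A) * Bm F

theorem M5_mulVec (A : Matrix S4 S4 F) (y : I5 → F) :
    M5 A *ᵥ y = prj (comp2 (re A) *ᵥ emb y) := by
  rw [M5, ← Matrix.mulVec_mulVec, ← Matrix.mulVec_mulVec, Bm_mulVec, Lm_mulVec]

theorem emb_M5 (h2 : (2 : F) ≠ 0) (A : Matrix S4 S4 F)
    (hA : Aᵀ * J (Fin 2) F * A = J (Fin 2) F) (y : I5 → F) :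
    emb (M5 A *ᵥ y) = comp2 (re A) *ᵥ emb y := by
  rw [M5_mulVec, emb_prj h2]
  rw [lam_comp2 A hA, lam_emb]

theorem M5_mul (h2 : (2 : F) ≠ 0) (A B : Matrix S4 S4 F)
    (hB : Bᵀ * J (Fin 2) F * B = J (Fin 2) F) : M5 (A * B) = M5 A * M5 B := by
  rw [Matrix.ext_iff_mulVec]
  intro y
  rw [← Matrix.mulVec_mulVec, M5_mulVec, M5_mulVec A, emb_M5 h2 B hB, re_mul, comp2_mul,
    Matrix.mulVec_mulVec]

theorem M5_one (h2 : (2 : F) ≠ 0) : M5 (1 : Matrix S4 S4 F) = 1 := by
  rw [Matrix.ext_iff_mulVec]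
  intro y
  rw [M5_mulVec, re_one, comp2_one, Matrix.one_mulVec, prj_emb h2, Matrix.one_mulVec]

theorem quad_M5 (h2 : (2 : F) ≠ 0) (A : Matrix S4 S4 F)
    (hA : Aᵀ * J (Fin 2) F * A = J (Fin 2) F) (hdet : A.det = 1) (y : I5 → F) :
    Cfsg.quadFormOdd 2 F (M5 A *ᵥ y) = Cfsg.quadFormOdd 2 F y := by
  rw [← plu_emb, emb_M5 h2 A hA, plu_comp2, det_re, hdet, one_mul, plu_emb]

/-- the hom `Sp₄(F) → GL₅(F)` -/
def phiGL (h2 : (2 : F) ≠ 0) : symplecticGroup (Fin 2) F →* GL I5 F :=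
  MonoidHom.toHomUnits
    { toFun := fun A => M5 (A : Matrix S4 S4 F)
      map_one' := M5_one h2
      map_mul' := fun A B => M5_mul h2 _ _ (SymplecticGroup.mem_iff'.mp B.2) }

theorem phiGL_coe (h2 : (2 : F) ≠ 0) (A : symplecticGroup (Fin 2) F) :
    ((phiGL h2 A : GL I5 F) : Matrix I5 I5 F) = M5 (A : Matrix S4 S4 F) := rfl

theorem phiGL_mem (h2 : (2 : F) ≠ 0) (A : symplecticGroup (Fin 2) F) :
    phiGL h2 A ∈ Cfsg.isometryGroup F (Cfsg.quadFormOdd 2 F) := by
  intro u v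
  change Cfsg.quadFormOdd 2 F (M5 (A : Matrix S4 S4 F) *ᵥ u) = Cfsg.quadFormOdd 2 F u
  exact quad_M5 h2 _ (SymplecticGroup.mem_iff'.mp A.2) (SymplecticGroup.det_eq_one A.2) u

/-- the hom `Sp₄(F) → GO₅(F)` -/
def phi (h2 : (2 : F) ≠ 0) :
    symplecticGroup (Fin 2) F →* Cfsg.isometryGroup F (Cfsg.quadFormOdd 2 F) :=
  (phiGL h2).codRestrict _ (phiGL_mem h2)

theorem phi_coe (h2 : (2 : F) ≠ 0) (A : symplecticGroup (Fin 2) F) :
    (((phi h2 A : Cfsg.isometryGroup F (Cfsg.quadFormOdd 2 F)) : GL I5 F) : Matrix I5 I5 F) =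
      M5 (A : Matrix S4 S4 F) := rfl

end Cfsg.Agent.Helper2.Sp4O5
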