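import Cfsg.Agent.Helper2.SLCard

/-! The centre of the symplectic group. -/

namespace Cfsg.Agent.Helper2.Sp

open Matrix SymplecticGroup

variable {l : Type*} [DecidableEq l] [Fintype l] {R : Type*} [CommRing R]

theorem upper_mem : fromBlocks (1 : Matrix l l R) 1 0 1 ∈ symplecticGroup l R := by
  rw [fromBlocks_mem_iff]; simp

theorem lower_mem : fromBlocks (1 : Matrix l l R) 0 1 1 ∈ symplecticGroup l R := by
  rw [fromBlocks_mem_iff]; simp

theorem diag_mem {A B : Matrix l l R} (h : Aᵀ * B = 1) :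
    fromBlocks A 0 0 B ∈ symplecticGroup l R := by
  rw [fromBlocks_mem_iff]; simp [h]

theorem transv_mem (t : TransvectionStruct l R) :
    fromBlocks t.toMatrix 0 0 (t.inv.toMatrix)ᵀ ∈ symplecticGroup l R := by
  apply diag_mem
  rw [← Matrix.transpose_mul, TransvectionStruct.inv_mul, Matrix.transpose_one]

theorem scalar_mem {c : R} (hc : c * c = 1) : c • (1 : Matrix (l ⊕ l) (l ⊕ l) R) ∈ symplecticGroup l R := by
  rw [mem_iff]
  simp [smul_smul, hc]

/-- a matrix commuting with the three families of symplectic matrices is scalar. -/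
theorem eq_scalar_of_commute {M : Matrix (l ⊕ l) (l ⊕ l) R}
    (h1 : M * fromBlocks (1 : Matrix l l R) 1 0 1 = fromBlocks (1 : Matrix l l R) 1 0 1 * M)
    (h2 : M * fromBlocks (1 : Matrix l l R) 0 1 1 = fromBlocks (1 : Matrix l l R) 0 1 1 * M)
    (h3 : ∀ t : TransvectionStruct l R, M * fromBlocks t.toMatrix 0 0 (t.inv.toMatrix)ᵀ =
      fromBlocks t.toMatrix 0 0 (t.inv.toMatrix)ᵀ * M) :
    ∃ c : R, M = c • (1 : Matrix (l ⊕ l) (l ⊕ l) R) := by
  rw [← fromBlocks_toBlocks M] at h1 h2 h3 ⊢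
  set a := M.toBlocks₁₁
  set b := M.toBlocks₁₂
  set c := M.toBlocks₂₁
  set d := M.toBlocks₂₂
  rw [fromBlocks_multiply, fromBlocks_multiply, fromBlocks_inj] at h1 h2
  simp only [mul_one, mul_zero, add_zero, one_mul, zero_mul, zero_add] at h1 h2
  obtain ⟨h11, h12, -, -⟩ := h1
  obtain ⟨h21, -, -, -⟩ := h2
  have hc : c = 0 := by
    have := h11; rwa [left_eq_add] at this
  have hb : b = 0 := by
    have := h21; rwa [add_eq_left] at this
  have had : a = d := by
    rw [hb] at h12; simpa using h12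
  have hcomm : ∀ t : TransvectionStruct l R, Commute t.toMatrix a := by
    intro t
    have := h3 t
    rw [fromBlocks_multiply, fromBlocks_multiply, fromBlocks_inj] at this
    have h4 := this.1
    simp only [mul_zero, add_zero, zero_mul] at h4
    exact h4.symm
  obtain ⟨r, hr⟩ := Matrix.mem_range_scalar_of_commute_transvectionStruct hcomm
  refine ⟨r, ?_⟩
  rw [hc, hb, ← had, ← hr]
  ext i j
  rcases i with i | i <;> rcases j with j | j <;>
    simp [Matrix.one_apply, Matrix.scalar_apply, Matrix.diagonal_apply]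


variable {F : Type*} [Field F]

theorem mem_center_iff [Nonempty l] (z : symplecticGroup l F) :
    z ∈ Subgroup.center (symplecticGroup l F) ↔
      ∃ c : F, c * c = 1 ∧ (z : Matrix (l ⊕ l) (l ⊕ l) F) = c • (1 : Matrix (l ⊕ l) (l ⊕ l) F) := by
  constructor
  · intro hz
    rw [Subgroup.mem_center_iff] at hz
    have hcomm : ∀ X (hX : X ∈ symplecticGroup l F), (z : Matrix (l ⊕ l) (l ⊕ l) F) * X =
        X * (z : Matrix (l ⊕ l) (l ⊕ l) F) := by
      intro X hX
      have := congrArg Subtype.val (hz ⟨X, hX⟩)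
      exact this.symm
    obtain ⟨c, hc⟩ := eq_scalar_of_commute (hcomm _ upper_mem) (hcomm _ lower_mem)
      (fun t => hcomm _ (transv_mem t))
    refine ⟨c, ?_, hc⟩
    have hmem := z.2
    rw [mem_iff, hc] at hmem
    obtain ⟨i⟩ := ‹Nonempty l›
    have := congrFun (congrFun hmem (Sum.inl i)) (Sum.inr i)
    simp [J] at this
    exact this
  · rintro ⟨c, -, hc⟩
    rw [Subgroup.mem_center_iff]
    intro g
    apply Subtype.ext
    show (g : Matrix (l ⊕ l) (l ⊕ l) F) * (z : Matrix (l ⊕ l) (l ⊕ l) F) =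
      (z : Matrix (l ⊕ l) (l ⊕ l) F) * (g : Matrix (l ⊕ l) (l ⊕ l) F)
    rw [hc]; simp

theorem card_center [Nonempty l] [Finite F] :
    Nat.card (Subgroup.center (symplecticGroup l F)) = Nat.gcd (Nat.card Fˣ) 2 := by
  rw [← card_rootsOfUnity_field]
  symm
  have hsq : ∀ ζ : rootsOfUnity 2 F, ((ζ : Fˣ) : F) * ((ζ : Fˣ) : F) = 1 := by
    intro ζ
    have h := ζ.2
    rw [mem_rootsOfUnity] at h
    have := congrArg Units.val h
    simpa [pow_two] using this
  let f : rootsOfUnity 2 F → Subgroup.center (symplecticGroup l F) := fun ζ =>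
    ⟨⟨((ζ : Fˣ) : F) • 1, scalar_mem (hsq ζ)⟩, (mem_center_iff _).mpr ⟨((ζ : Fˣ) : F), hsq ζ, rfl⟩⟩
  apply Nat.card_eq_of_bijective f
  constructor
  · intro ζ1 ζ2 h
    obtain ⟨i⟩ := ‹Nonempty l›
    have h1 := congrArg (fun z : Subgroup.center (symplecticGroup l F) =>
      ((z : symplecticGroup l F) : Matrix (l ⊕ l) (l ⊕ l) F) (Sum.inl i) (Sum.inl i)) h
    simp [f] at h1
    exact Subtype.ext (Units.ext h1)
  · intro z
    obtain ⟨c, hc, hz⟩ := (mem_center_iff z.1).mp z.2
    refine ⟨⟨Units.mk c c hc hc, ?_⟩, ?_⟩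
    · rw [mem_rootsOfUnity]
      apply Units.ext
      simp [pow_two, hc]
    · apply Subtype.ext
      apply Subtype.ext
      exact hz.symm

end Cfsg.Agent.Helper2.Sp
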