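import Mathlib
import Cfsg.Agent.Helper2.SpPerfect
import Cfsg.Prelude.Def_Classical

/-! Simplicity of the projective symplectic groups. -/

set_option autoImplicit false
set_option linter.unusedSectionVars false
set_option linter.unusedVariables false
set_option linter.unusedSimpArgs false

namespace Cfsg.Agent.Helper2.Sp

open Matrix

variable {l : Type} [DecidableEq l] [Fintype l] {F : Type*} [Field F]

theorem inv_mulVec_mulVec (g : symplecticGroup l F) (x : l ⊕ l → F) :
    ((g⁻¹ : symplecticGroup l F) : Matrix (l ⊕ l) (l ⊕ l) F) *ᵥ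
      ((g : Matrix (l ⊕ l) (l ⊕ l) F) *ᵥ x) = x := by
  rw [← mul_mulVec, inv_mul_cancel]
  exact one_mulVec x

theorem one_mulVec' (x : l ⊕ l → F) :
    ((1 : symplecticGroup l F) : Matrix (l ⊕ l) (l ⊕ l) F) *ᵥ x = x := one_mulVec x

/-- `N`-equivalence of projective points -/
def Rel (N : Subgroup (symplecticGroup l F)) (v w : l ⊕ l → F) : Prop :=
  ∃ n ∈ N, ∃ a : F, a ≠ 0 ∧ (n : Matrix (l ⊕ l) (l ⊕ l) F) *ᵥ v = a • w

theorem Rel.refl (N : Subgroup (symplecticGroup l F)) (v : l ⊕ l → F) : Rel N v v :=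
  ⟨1, N.one_mem, 1, one_ne_zero, by rw [one_mulVec', one_smul]⟩

theorem Rel.symm {N : Subgroup (symplecticGroup l F)} {v w : l ⊕ l → F} (h : Rel N v w) :
    Rel N w v := by
  obtain ⟨n, hn, a, ha, h⟩ := h
  refine ⟨n⁻¹, N.inv_mem hn, a⁻¹, inv_ne_zero ha, ?_⟩
  have h1 := inv_mulVec_mulVec n v
  rw [h, mulVec_smul] at h1
  rw [← h1, smul_smul, inv_mul_cancel₀ ha, one_smul]

theorem Rel.trans {N : Subgroup (symplecticGroup l F)} {u v w : l ⊕ l → F} (h : Rel N u v)
    (h' : Rel N v w) : Rel N u w := by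
  obtain ⟨n, hn, a, ha, h⟩ := h
  obtain ⟨n', hn', a', ha', h'⟩ := h'
  refine ⟨n' * n, N.mul_mem hn' hn, a * a', mul_ne_zero ha ha', ?_⟩
  rw [mul_mulVec, h, mulVec_smul, h', smul_smul]

theorem Rel.smul_right {N : Subgroup (symplecticGroup l F)} {v w : l ⊕ l → F} (h : Rel N v w)
    {b : F} (hb : b ≠ 0) : Rel N v (b • w) := by
  obtain ⟨n, hn, a, ha, h⟩ := h
  refine ⟨n, hn, a * b⁻¹, mul_ne_zero ha (inv_ne_zero hb), ?_⟩
  rw [h, smul_smul, mul_assoc, inv_mul_cancel₀ hb, mul_one]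

theorem Rel.map {N : Subgroup (symplecticGroup l F)} [hN : N.Normal] {v w : l ⊕ l → F}
    (h : Rel N v w) (g : symplecticGroup l F) :
    Rel N ((g : Matrix (l ⊕ l) (l ⊕ l) F) *ᵥ v) ((g : Matrix (l ⊕ l) (l ⊕ l) F) *ᵥ w) := by
  obtain ⟨n, hn, a, ha, h⟩ := h
  refine ⟨g * n * g⁻¹, hN.conj_mem n hn g, a, ha, ?_⟩
  rw [mul_mulVec, mul_mulVec, inv_mulVec_mulVec, h, mulVec_smul]

/-- a vector orthogonal to `v` but not to `u`, when `u` is not a multiple of `v` -/
theorem exists_perp_ne {u v : l ⊕ l → F} (hv : v ≠ 0) (hu : ∀ a : F, u ≠ a • v) :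
    ∃ z, om z v = 0 ∧ om z u ≠ 0 := by
  obtain ⟨p, hp⟩ := exists_om_ne_zero hv
  set p' := (om v p)⁻¹ • p with hp'
  have h1 : om v p' = 1 := by rw [hp', om_smul_right, inv_mul_cancel₀ hp]
  set u₁ := u - om u p' • v with hu₁
  have hu₁0 : u₁ ≠ 0 := by
    intro h
    exact hu (om u p') (sub_eq_zero.mp h)
  have h2 : om u₁ p' = 0 := by
    rw [hu₁, om_sub_left, om_smul_left, h1, mul_one, sub_self]
  obtain ⟨y, hy⟩ := exists_om_ne_zero hu₁0
  refine ⟨y - om v y • p', ?_, ?_⟩
  · rw [om_swap v, om_sub_right, om_smul_right, h1, mul_one, sub_self, neg_zero]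
  · have h3 : om u₁ (y - om v y • p') = om u₁ y := by
      rw [om_sub_right, om_smul_right, h2, mul_zero, sub_zero]
    have h4 : om u (y - om v y • p') = om u₁ (y - om v y • p') := by
      rw [hu₁, om_sub_left, om_smul_left]
      have : om v (y - om v y • p') = 0 := by
        rw [om_sub_right, om_smul_right, h1, mul_one, sub_self]
      rw [this, mul_zero, sub_zero]
    rw [om_swap u, h4, h3]
    exact neg_ne_zero.mpr hy

/-- Step 2: from a non-orthogonal equivalent pair to all non-orthogonal points -/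
theorem Rel.of_om_ne_zero {N : Subgroup (symplecticGroup l F)} [hN : N.Normal]
    {p p' w : l ⊕ l → F} (h : Rel N p p') (hpp : om p p' ≠ 0) (hpw : om p w ≠ 0) : Rel N p w := by
  have h1 : om p ((om p p')⁻¹ • p') = 1 := by rw [om_smul_right, inv_mul_cancel₀ hpp]
  have h2 : om p ((om p w)⁻¹ • w) = 1 := by rw [om_smul_right, inv_mul_cancel₀ hpw]
  obtain ⟨g, hg1, hg2⟩ := exists_fix_map h1 h2
  have h3 := (h.smul_right (inv_ne_zero hpp)).map g
  rw [hg1, hg2] at h3
  have := h3.smul_right hpw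
  rwa [smul_smul, mul_inv_cancel₀ hpw, one_smul] at this

/-- a normal subgroup moving some point is transitive on points -/
theorem rel_of_moves {N : Subgroup (symplecticGroup l F)} [hN : N.Normal] {n₀ : symplecticGroup l F}
    (hn₀ : n₀ ∈ N) {v₀ : l ⊕ l → F} (hv₀ : v₀ ≠ 0)
    (hmove : ∀ a : F, (n₀ : Matrix (l ⊕ l) (l ⊕ l) F) *ᵥ v₀ ≠ a • v₀) :
    ∀ x y : l ⊕ l → F, x ≠ 0 → y ≠ 0 → Rel N x y := by
  set u₀ := (n₀ : Matrix (l ⊕ l) (l ⊕ l) F) *ᵥ v₀ with hu₀
  have hvu : Rel N v₀ u₀ := ⟨n₀, hn₀, 1, one_ne_zero, by rw [one_smul]⟩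
  -- Step 1: a non-orthogonal equivalent pair
  obtain ⟨p, p', hpp', hom⟩ : ∃ p p' : l ⊕ l → F, Rel N p p' ∧ om p p' ≠ 0 := by
    by_cases h : om v₀ u₀ = 0
    · obtain ⟨z, hz1, hz2⟩ := exists_perp_ne hv₀ hmove
      have h1 := hvu.map (Tg z 1)
      rw [Tg_mulVec, Tg_mulVec, hz1, mul_zero, zero_smul, add_zero, one_mul] at h1
      refine ⟨u₀, u₀ + om z u₀ • z, hvu.symm.trans h1, ?_⟩
      rw [om_add_right, om_self, zero_add, om_smul_right, om_swap z u₀]
      simp [hz2]
    · exact ⟨v₀, u₀, hvu, h⟩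
  have hp0 : p ≠ 0 := by
    rintro rfl
    apply hom
    unfold om
    rw [zero_dotProduct]
  -- Step 3
  have key : ∀ y : l ⊕ l → F, y ≠ 0 → Rel N p y := by
    intro y hy
    by_cases h : om p y = 0
    · obtain ⟨w, hw1, hw2⟩ := exists_om_ne_zero_both hp0 hy
      have h1 : Rel N p w := hpp'.of_om_ne_zero hom hw1
      have hwp : om w p ≠ 0 := by rw [om_swap p w]; exact neg_ne_zero.mpr hw1
      have h2 : Rel N w y := h1.symm.of_om_ne_zero hwp hw2
      exact h1.trans h2
    · exact hpp'.of_om_ne_zero hom h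
  intro x y hx hy
  exact (key x hx).symm.trans (key y hy)

/-- the root subgroup of a vector -/
def Te (e : l ⊕ l → F) : Subgroup (symplecticGroup l F) where
  carrier := {g | ∃ c : F, g = Tg e c}
  one_mem' := ⟨0, (Tg_zero e).symm⟩
  mul_mem' := by
    rintro _ _ ⟨c, rfl⟩ ⟨d, rfl⟩
    exact ⟨c + d, Tg_add e c d⟩
  inv_mem' := by
    rintro _ ⟨c, rfl⟩
    exact ⟨-c, Tg_inv e c⟩

theorem Te_comm (e : l ⊕ l → F) : IsMulCommutative (Te e) := by
  refine ⟨⟨?_⟩⟩
  rintro ⟨_, c, rfl⟩ ⟨_, d, rfl⟩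
  apply Subtype.ext
  change Tg e c * Tg e d = Tg e d * Tg e c
  rw [Tg_add, Tg_add, add_comm]

/-- a normal subgroup which moves a point contains the commutator subgroup -/
theorem commutator_le_of_moves {N : Subgroup (symplecticGroup l F)} [hN : N.Normal]
    {n₀ : symplecticGroup l F} (hn₀ : n₀ ∈ N) {v₀ : l ⊕ l → F} (hv₀ : v₀ ≠ 0)
    (hmove : ∀ a : F, (n₀ : Matrix (l ⊕ l) (l ⊕ l) F) *ᵥ v₀ ≠ a • v₀) :
    commutator (symplecticGroup l F) ≤ N := by
  have hrel := rel_of_moves hn₀ hv₀ hmove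
  apply hN.commutator_le_of_self_sup_commutative_eq_top (H := Te v₀) ?_ (Te_comm v₀)
  rw [eq_top_iff, ← TV_eq_top l F]
  unfold TV
  rw [Subgroup.closure_le]
  rintro _ ⟨⟨v, c⟩, rfl⟩
  rw [SetLike.mem_coe]
  change Tg v c ∈ N ⊔ Te v₀
  by_cases hv : v = 0
  · have : Tg v c = 1 := by
      apply ext_mulVec
      intro x
      rw [Tg_mulVec, hv]
      simp
    rw [this]
    exact Subgroup.one_mem _
  · obtain ⟨n, hn, a, ha, h⟩ := hrel v₀ v hv₀ hv
    have e1 : Tg v c = n * Tg v₀ (c / a ^ 2) * n⁻¹ := by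
      rw [conj_Tg, h, Tg_smul]
      congr 1
      field_simp
    rw [e1]
    have hn' : n ∈ N ⊔ Te v₀ := Subgroup.mem_sup_left hn
    exact Subgroup.mul_mem _ (Subgroup.mul_mem _ hn' (Subgroup.mem_sup_right ⟨_, rfl⟩))
      (Subgroup.inv_mem _ hn')

/-- an element fixing every point is central -/
theorem mem_center_of_fix {g : symplecticGroup l F}
    (h : ∀ v : l ⊕ l → F, v ≠ 0 → ∃ a : F, (g : Matrix (l ⊕ l) (l ⊕ l) F) *ᵥ v = a • v) :
    g ∈ Subgroup.center (symplecticGroup l F) := by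
  classical
  -- eigenvalue on each basis vector
  have hb : ∀ k : l ⊕ l, ∃ a : F, (g : Matrix (l ⊕ l) (l ⊕ l) F) *ᵥ Pi.single k 1 = a • Pi.single k 1 := by
    intro k
    apply h
    intro h0
    have := congrFun h0 k
    simp at this
  choose lam hlam using hb
  have hconst : ∀ k k' : l ⊕ l, lam k = lam k' := by
    intro k k'
    by_cases hkk : k = k'
    · rw [hkk]
    have hne : (Pi.single k 1 + Pi.single k' 1 : l ⊕ l → F) ≠ 0 := by
      intro h0
      have := congrFun h0 k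
      simp [Pi.single_apply, hkk] at this
    obtain ⟨μ, hμ⟩ := h _ hne
    rw [mulVec_add, hlam, hlam] at hμ
    have h1 := congrFun hμ k
    have h2 := congrFun hμ k'
    simp [Pi.single_apply, hkk, Ne.symm hkk] at h1 h2
    rw [h1, h2]
  rw [Subgroup.mem_center_iff]
  intro x
  by_cases hne : Nonempty (l ⊕ l)
  · obtain ⟨k₀⟩ := hne
    have hg : (g : Matrix (l ⊕ l) (l ⊕ l) F) = lam k₀ • (1 : Matrix (l ⊕ l) (l ⊕ l) F) := by
      rw [Matrix.ext_iff_mulVec]
      intro v
      rw [smul_mulVec, one_mulVec]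
      -- linearity: check on basis
      have : v = ∑ k, v k • (Pi.single k 1 : l ⊕ l → F) := by
        funext j
        simp [Finset.sum_apply, Pi.single_apply]
      conv_lhs => rw [this]
      rw [mulVec_sum]
      simp_rw [mulVec_smul, hlam, hconst _ k₀]
      conv_rhs => rw [this]
      rw [Finset.smul_sum]
      apply Finset.sum_congr rfl
      intro k _
      rw [smul_comm]
    apply Subtype.ext
    rw [coe_mul', coe_mul', hg]
    simp
  · apply Subtype.ext
    ext i j
    exact (hne ⟨i⟩).elim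


/-- simplicity of `PSp_{2m}(q)` -/
theorem PSp_isSimpleGroup {F : Type*} [Field F] [Fintype F] (m : ℕ) (hm : 2 ≤ m)
    (h : m = 2 → 3 ≤ Fintype.card F) : IsSimpleGroup (Cfsg.PSp m F) := by
  have hperf : commutator (symplecticGroup (Fin m) F) = ⊤ := by
    apply commutator_symplectic_eq_top
    by_cases h3 : 3 ≤ m
    · exact Or.inl h3
    · have : m = 2 := by omega
      exact Or.inr (Or.inl ⟨this, h this⟩)
  -- normal subgroups not contained in the centre are everything
  have key : ∀ N : Subgroup (symplecticGroup (Fin m) F), N.Normal →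
      ¬ N ≤ Subgroup.center (symplecticGroup (Fin m) F) → N = ⊤ := by
    intro N hN hNZ
    obtain ⟨n₀, hn₀, hn₀Z⟩ := SetLike.not_le_iff_exists.mp hNZ
    have : ∃ v : Fin m ⊕ Fin m → F, v ≠ 0 ∧
        ∀ a : F, (n₀ : Matrix (Fin m ⊕ Fin m) (Fin m ⊕ Fin m) F) *ᵥ v ≠ a • v := by
      by_contra hcon
      push Not at hcon
      exact hn₀Z (mem_center_of_fix hcon)
    obtain ⟨v₀, hv₀, hmove⟩ := this
    have := commutator_le_of_moves hn₀ hv₀ hmove
    rw [hperf] at this
    exact top_le_iff.mp this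
  -- a non-central element
  set i0 : Fin m := ⟨0, by omega⟩ with hi0
  have hnc : ¬ (⊤ : Subgroup (symplecticGroup (Fin m) F)) ≤
      Subgroup.center (symplecticGroup (Fin m) F) := by
    intro hle
    have hcomm : ∀ a b : symplecticGroup (Fin m) F, a * b = b * a := by
      intro a b
      have := Subgroup.mem_center_iff.mp (hle (Subgroup.mem_top b)) a
      exact this
    have hbot : commutator (symplecticGroup (Fin m) F) = ⊥ := by
      rw [commutator_def, Subgroup.commutator_eq_bot_iff_le_centralizer]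
      intro a _ b _
      exact hcomm b a
    rw [hperf] at hbot
    -- but the group is non-trivial
    have he : (ei i0 : Fin m ⊕ Fin m → F) ≠ 0 := by
      intro h0
      have := congrFun h0 (Sum.inl i0)
      rw [ei_apply_self] at this
      exact one_ne_zero this
    obtain ⟨x, hx⟩ := exists_om_ne_zero he
    have h1 : Tg (ei i0 : Fin m ⊕ Fin m → F) 1 ∈ (⊤ : Subgroup (symplecticGroup (Fin m) F)) :=
      Subgroup.mem_top _
    rw [hbot, Subgroup.mem_bot] at h1
    have h2 := congrArg (fun g : symplecticGroup (Fin m) F =>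
      (g : Matrix (Fin m ⊕ Fin m) (Fin m ⊕ Fin m) F) *ᵥ x) h1
    simp only [Tg_mulVec, one_mulVec', one_mul] at h2
    have h3 : om (ei i0 : Fin m ⊕ Fin m → F) x • (ei i0 : Fin m ⊕ Fin m → F) = 0 := by
      have := congrArg (fun w => w - x) h2
      simpa using this
    rcases smul_eq_zero.mp h3 with h4 | h4
    · exact hx h4
    · exact he h4
  have hnt : Nontrivial (Cfsg.PSp m F) := by
    by_contra hcon
    rw [not_nontrivial_iff_subsingleton] at hcon
    apply hnc
    intro g _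
    have : (QuotientGroup.mk g : Cfsg.PSp m F) = 1 := Subsingleton.elim _ _
    exact (QuotientGroup.eq_one_iff g).mp this
  refine { exists_pair_ne := hnt.exists_pair_ne, eq_bot_or_eq_top_of_normal := ?_ }
  intro N' hN'
  set N := N'.comap (QuotientGroup.mk' (Subgroup.center (symplecticGroup (Fin m) F))) with hNdef
  have hNn : N.Normal := hN'.comap _
  by_cases hle : N ≤ Subgroup.center (symplecticGroup (Fin m) F)
  · left
    rw [Subgroup.eq_bot_iff_forall]
    intro x' hx'
    obtain ⟨x, rfl⟩ := QuotientGroup.mk_surjective x'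
    have hxN : x ∈ N := hx'
    exact (QuotientGroup.eq_one_iff x).mpr (hle hxN)
  · right
    have hNtop := key N hNn hle
    rw [Subgroup.eq_top_iff']
    intro x'
    obtain ⟨x, rfl⟩ := QuotientGroup.mk_surjective x'
    have : x ∈ N := by rw [hNtop]; trivial
    exact this

end Cfsg.Agent.Helper2.Sp
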