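import Mathlib
import Cfsg.Agent.Helper2.Sp4O5
import Cfsg.Agent.Helper2.OmegaGen
import Cfsg.Agent.Helper2.SpSimple
import Cfsg.Agent.Helper2.SpCenter
import Cfsg.Agent.Helper2.SpCard
import Cfsg.Agent.Helper2.QuadOdd

/-! `PΩ₅(q) ≃* PSp₄(q)` for odd `q`. -/

set_option autoImplicit false
set_option linter.unusedSectionVars false
set_option linter.unusedVariables false
set_option linter.unusedSimpArgs false

namespace Cfsg.Agent.Helper2.Sp4O5

open Matrix Subgroup Cfsg.Agent.Helper2.Klein

variable {F : Type*} [Field F]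

/-- a symplectic transvection-like witness -/
def upperSp : symplecticGroup (Fin 2) F :=
  ⟨fromBlocks (1 : Matrix (Fin 2) (Fin 2) F) 1 0 1, Sp.upper_mem⟩

theorem phi_upper_ne_one (h2 : (2 : F) ≠ 0) : phi h2 (upperSp : symplecticGroup (Fin 2) F) ≠ 1 := by
  intro h
  have h1 : M5 ((upperSp : symplecticGroup (Fin 2) F) : Matrix S4 S4 F) = 1 := by
    have := congrArg (fun x : Cfsg.isometryGroup F (Cfsg.quadFormOdd 2 F) =>
      ((x : GL I5 F) : Matrix I5 I5 F)) h
    exact this
  have h3 := congrFun (congrArg (fun M : Matrix I5 I5 F => M *ᵥ (Pi.single (.inr (.inr 0)) 1)) h1)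
    (.inr (.inl 0))
  simp only [M5_mulVec, Matrix.one_mulVec] at h3
  simp [prj, emb, Matrix.mulVec, dotProduct, Fintype.sum_sum_type, Fin.sum_univ_three, comp2,
    minor2, pa, pb, sg, re, e4, upperSp, Matrix.fromBlocks, Pi.single_apply] at h3

/-- a hom from a perfect group with simple central quotient, which is nontrivial, has central
kernel -/
theorem ker_le_center_of_simple {G E : Type*} [Group G] [Group E] (φ : G →* E)
    (hperf : commutator G = ⊤) (hs : IsSimpleGroup (G ⧸ center G)) (x : G) (hx : φ x ≠ 1) :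
    φ.ker ≤ center G := by
  have hmapn : (φ.ker.map (QuotientGroup.mk' (center G))).Normal :=
    Subgroup.Normal.map inferInstance _ (QuotientGroup.mk'_surjective _)
  rcases hmapn.eq_bot_or_eq_top with h | h
  · rw [Subgroup.map_eq_bot_iff, QuotientGroup.ker_mk'] at h
    exact h
  · exfalso
    have h1 : φ.ker ⊔ center G = ⊤ := by
      have := Subgroup.comap_map_eq (QuotientGroup.mk' (center G)) φ.ker
      rw [h, Subgroup.comap_top, QuotientGroup.ker_mk'] at this
      exact this.symm
    have h2 : commutator G ≤ φ.ker :=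
      Subgroup.Normal.commutator_le_of_self_sup_commutative_eq_top h1 inferInstance
    rw [hperf] at h2
    exact hx (MonoidHom.mem_ker.mp (h2 (mem_top x)))

/-- a perfect nontrivial simple group has trivial centre -/
theorem center_eq_bot_of_simple_of_perfect {P : Type*} [Group P] (hs : IsSimpleGroup P)
    (hperf : commutator P = ⊤) : center P = ⊥ := by
  rcases Subgroup.Normal.eq_bot_or_eq_top (inferInstance : (center P).Normal) with h | h
  · exact h
  · exfalso
    have hcomm : ∀ a b : P, a * b = b * a := by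
      intro a b
      have hb : b ∈ center P := h ▸ mem_top b
      exact Subgroup.mem_center_iff.mp hb a
    have := OmegaGen.subsingleton_of_perfect_of_comm hperf hcomm
    exact not_subsingleton _ this

section Main

variable [Fintype F]

theorem Sp4_perfect (hq : 3 ≤ Fintype.card F) : commutator (symplecticGroup (Fin 2) F) = ⊤ :=
  Sp.commutator_symplectic_eq_top 2 (Or.inr (Or.inl ⟨rfl, hq⟩))

theorem phi_ker_le_center (h2 : (2 : F) ≠ 0) (hq : 3 ≤ Fintype.card F) :
    (phi h2 : symplecticGroup (Fin 2) F →* _).ker ≤ center (symplecticGroup (Fin 2) F) :=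
  ker_le_center_of_simple (phi h2) (Sp4_perfect hq)
    (Sp.PSp_isSimpleGroup 2 le_rfl (fun _ => hq)) upperSp (phi_upper_ne_one h2)

theorem card_phi_ker_dvd_two (h2 : (2 : F) ≠ 0) (hq : 3 ≤ Fintype.card F) :
    Nat.card (phi h2 : symplecticGroup (Fin 2) F →* _).ker ∣ 2 := by
  classical
  let f : (phi h2 : symplecticGroup (Fin 2) F →* _).ker → Bool :=
    fun A => decide ((A.1 : Matrix S4 S4 F) (.inl 0) (.inl 0) = 1)
  have hsc : ∀ A : (phi h2 : symplecticGroup (Fin 2) F →* _).ker, ∃ c : F, c * c = 1 ∧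
      (A.1 : Matrix S4 S4 F) = c • (1 : Matrix S4 S4 F) := fun A =>
    (Sp.mem_center_iff A.1).mp (phi_ker_le_center h2 hq A.2)
  have hinj : Function.Injective f := by
    intro A B hAB
    obtain ⟨r, hr, hA⟩ := hsc A
    obtain ⟨s, hs, hB⟩ := hsc B
    have hA0 : (A.1 : Matrix S4 S4 F) (.inl 0) (.inl 0) = r := by rw [hA]; simp
    have hB0 : (B.1 : Matrix S4 S4 F) (.inl 0) (.inl 0) = s := by rw [hB]; simp
    have hrs : r = s := by
      simp only [f, hA0, hB0, decide_eq_decide] at hAB
      rcases mul_self_eq_one_iff.mp hr with h1 | h1 <;> rcases mul_self_eq_one_iff.mp hs with h3 | h3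
      · rw [h1, h3]
      · exact (hAB.mp h1).symm ▸ h1 |>.trans (by rw [hAB.mp h1])
      · exact (hAB.mpr h3).trans h3.symm ▸ rfl
      · rw [h1, h3]
    apply Subtype.ext
    apply Subtype.ext
    rw [hA, hB, hrs]
  have hle : Nat.card (phi h2 : symplecticGroup (Fin 2) F →* _).ker ≤ 2 := by
    have := Nat.card_le_card_of_injective f hinj
    simpa using this
  have hpos : 0 < Nat.card (phi h2 : symplecticGroup (Fin 2) F →* _).ker := Nat.card_pos
  interval_cases Nat.card (phi h2 : symplecticGroup (Fin 2) F →* _).ker <;> norm_num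

theorem card_GO5_eq (hodd : Odd (Fintype.card F)) :
    Nat.card (Cfsg.isometryGroup F (Cfsg.quadFormOdd 2 F)) =
      2 * Nat.card (symplecticGroup (Fin 2) F) := by
  rw [Quad.card_GO_odd (F := F) rfl hodd 2, Sp.card_symplectic_fin 2]
  ring

theorem nonempty_mulEquiv (hodd : Odd (Fintype.card F)) :
    Nonempty (Cfsg.POmega F (Cfsg.quadFormOdd 2 F) ≃* Cfsg.PSp 2 F) := by
  have hq : 3 ≤ Fintype.card F := by
    have hq2 : 2 ≤ Fintype.card F := Fintype.one_lt_card
    rcases hodd with ⟨k, hk⟩
    omega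
  have h2 : (2 : F) ≠ 0 := two_ne_zero_of_odd_card hodd
  have hperfP : commutator (Cfsg.PSp 2 F) = ⊤ :=
    OmegaGen.commutator_eq_top_of_surjective (QuotientGroup.mk' _)
      (QuotientGroup.mk'_surjective _) (Sp4_perfect hq)
  exact OmegaGen.nonempty_mulEquiv (phi h2) (Sp4_perfect hq) (phi_ker_le_center h2 hq)
    (center_eq_bot_of_simple_of_perfect (Sp.PSp_isSimpleGroup 2 le_rfl (fun _ => hq)) hperfP)
    (OmegaGen.index_dvd_four_of_card _ (card_GO5_eq hodd) (card_phi_ker_dvd_two h2 hq))

end Main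

end Cfsg.Agent.Helper2.Sp4O5
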