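import Mathlib
import Cfsg.Agent.Helper2.Herm2
import Cfsg.Agent.Helper2.OmegaGen
import Cfsg.Agent.Helper2.Sp4Omega
import Cfsg.Agent.Helper2.Adj3Omega
import Cfsg.Agent.Helper2.QuadMinus
import Cfsg.Agent.Helper13.FqExt

/-! `PΩ₄⁻(q) ≃* PSL₂(q²)`. -/

set_option autoImplicit false
set_option linter.unusedSectionVars false
set_option linter.unusedVariables false
set_option linter.unusedSimpArgs false

namespace Cfsg.Agent.Helper2.Herm2

open Matrix Subgroup Cfsg.Agent.Helper2.Herm Cfsg.Agent.Helper2.QExt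

variable {F : Type*} [Field F] [Fintype F] {K : Type*} [Field K] [Fintype K] [Algebra F K] {q : ℕ}

section hom

variable (hF : Fintype.card F = q) (hK : Fintype.card K = q ^ 2) {a b : F}
  (hirr : ∀ r : F, r ^ 2 - a * r + b ≠ 0) {θ : K}
  (hθ : θ ^ 2 - (algebraMap F K) a * θ + (algebraMap F K) b = 0)

/-- the hom `SL₂(K) → GL₄(F)` -/
noncomputable def repGL : SpecialLinearGroup (Fin 2) K →* GL I4m F :=
  MonoidHom.toHomUnits
    { toFun := fun g => rep hF hK hirr hθ (g : Matrix (Fin 2) (Fin 2) K)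
      map_one' := rep_one hF hK hirr hθ
      map_mul' := fun g h => rep_mul hF hK hirr hθ _ _ }

theorem repGL_mem (g : SpecialLinearGroup (Fin 2) K) :
    repGL hF hK hirr hθ g ∈ Cfsg.isometryGroup F (Cfsg.quadFormMinus 1 F a b) := by
  intro u v
  change Cfsg.quadFormMinus 1 F a b (rep hF hK hirr hθ (g : Matrix (Fin 2) (Fin 2) K) *ᵥ u) =
    Cfsg.quadFormMinus 1 F a b u
  exact quad_rep hF hK hirr hθ _ g.2 u

/-- the hom `SL₂(K) → GO₄⁻(F)` -/
noncomputable def rho : SpecialLinearGroup (Fin 2) K →*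
    Cfsg.isometryGroup F (Cfsg.quadFormMinus 1 F a b) :=
  (repGL hF hK hirr hθ).codRestrict _ (repGL_mem hF hK hirr hθ)

theorem rho_coe (g : SpecialLinearGroup (Fin 2) K) :
    (((rho hF hK hirr hθ g : Cfsg.isometryGroup F (Cfsg.quadFormMinus 1 F a b)) : GL I4m F) :
      Matrix I4m I4m F) = rep hF hK hirr hθ (g : Matrix (Fin 2) (Fin 2) K) := rfl

theorem rho_upper_ne_one :
    rho hF hK hirr hθ (⟨!![1, 1; 0, 1], by simp [Matrix.det_fin_two]⟩ :
      SpecialLinearGroup (Fin 2) K) ≠ 1 := by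
  intro h
  have h1 : rep hF hK hirr hθ (!![1, 1; 0, 1] : Matrix (Fin 2) (Fin 2) K) = 1 := by
    have := congrArg (fun x : Cfsg.isometryGroup F (Cfsg.quadFormMinus 1 F a b) =>
      ((x : GL I4m F) : Matrix I4m I4m F)) h
    exact this
  have h2 := toH_rep_mulVec hF hK hirr hθ (!![1, 1; 0, 1] : Matrix (Fin 2) (Fin 2) K)
    (Pi.single (.inl (.inr 0)) (1 : F))
  rw [h1, Matrix.one_mulVec] at h2
  have h3 := congrFun (congrFun h2 0) 0
  simp [toH, phi, star', Matrix.mul_apply, Fin.sum_univ_two, Pi.single_apply] at h3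

end hom

/-- subgroups of the centre of `SL₂` have at most two elements -/
theorem card_dvd_two_of_le_center {K : Type*} [Field K] [Finite K]
    (H : Subgroup (SpecialLinearGroup (Fin 2) K))
    (hH : H ≤ center (SpecialLinearGroup (Fin 2) K)) : Nat.card H ∣ 2 := by
  classical
  let f : H → Bool := fun A => decide ((A.1 : Matrix (Fin 2) (Fin 2) K) 0 0 = 1)
  have hsc : ∀ A : H, ∃ r : K, r ^ 2 = 1 ∧
      (A.1 : Matrix (Fin 2) (Fin 2) K) = r • (1 : Matrix (Fin 2) (Fin 2) K) := by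
    intro A
    obtain ⟨r, hr, hr'⟩ := Matrix.SpecialLinearGroup.mem_center_iff.mp (hH A.2)
    refine ⟨r, by simpa using hr, ?_⟩
    rw [← hr', Matrix.smul_one_eq_diagonal]; rfl
  have hinj : Function.Injective f := by
    intro A B hAB
    obtain ⟨r, hr, hA⟩ := hsc A
    obtain ⟨s, hs, hB⟩ := hsc B
    have hA0 : (A.1 : Matrix (Fin 2) (Fin 2) K) 0 0 = r := by rw [hA]; simp
    have hB0 : (B.1 : Matrix (Fin 2) (Fin 2) K) 0 0 = s := by rw [hB]; simp
    have hrs : r = s := by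
      simp only [f, hA0, hB0, decide_eq_decide] at hAB
      rcases sq_eq_one_iff.mp hr with h1 | h1 <;> rcases sq_eq_one_iff.mp hs with h3 | h3
      · rw [h1, h3]
      · exact (hAB.mp h1).symm ▸ h1 |>.trans (by rw [hAB.mp h1])
      · exact (hAB.mpr h3).trans h3.symm ▸ rfl
      · rw [h1, h3]
    apply Subtype.ext
    apply Subtype.ext
    rw [hA, hB, hrs]
  have hle : Nat.card H ≤ 2 := by
    have := Nat.card_le_card_of_injective f hinj
    simpa using this
  have hpos : 0 < Nat.card H := Nat.card_pos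
  interval_cases Nat.card H <;> norm_num

theorem field_cond {K : Type*} [Field K] [Fintype K] (hK : 4 ≤ Fintype.card K) :
    ∃ a : K, a ≠ 0 ∧ a ^ 2 ≠ 1 := by
  obtain ⟨x, hx⟩ : IsCyclic Kˣ := by infer_instance
  refine ⟨x, Units.ne_zero x, fun h ↦ ?_⟩
  have h1 : Nat.card K = Nat.card Kˣ + 1 := Nat.card_eq_card_units_add_one K
  rw [Nat.card_eq_fintype_card] at h1
  have h2 : orderOf x = Nat.card Kˣ := orderOf_eq_card_of_forall_mem_zpowers hx
  have h3 : orderOf x ≤ 2 :=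
    orderOf_le_of_pow_eq_one zero_lt_two (Units.ext <| by simpa using h)
  omega

theorem card_GO4m_eq (hF : Fintype.card F = q) (hK : Fintype.card K = q ^ 2) (a b : F)
    (hab : Quad.Aniso a b) :
    Nat.card (Cfsg.isometryGroup F (Cfsg.quadFormMinus 1 F a b)) =
      2 * Nat.card (SpecialLinearGroup (Fin 2) K) := by
  have hq2 : 2 ≤ q := by rw [← hF]; exact Fintype.one_lt_card
  have h1 := Quad.card_GO_minus hF 2 (by norm_num) a b hab
  have h1' : Nat.card (Cfsg.isometryGroup F (Cfsg.quadFormMinus 1 F a b)) =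
      2 * q ^ (2 * (2 - 1)) * (q ^ 2 + 1) * ∏ i ∈ Finset.range (2 - 1), (q ^ (2 * (i + 1)) - 1) :=
    h1
  rw [h1']
  have h2 := card_SL_mul_card_units (ι := Fin 2) (F := K)
  rw [Matrix.card_GL_field, card_units_field, hK, Fin.prod_univ_two] at h2
  simp only [Fin.val_zero, Fin.val_one, pow_zero, pow_one] at h2
  have hpos : 0 < q ^ 2 - 1 := by
    have : 4 ≤ q ^ 2 := by nlinarith
    omega
  apply Nat.eq_of_mul_eq_mul_right hpos
  rw [mul_assoc 2 (Nat.card _) (q ^ 2 - 1), h2]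
  simp only [Nat.add_one_sub_one, Nat.reduceSub, mul_one, Finset.prod_range_one, zero_add]
  have e1 : (q ^ 2) ^ 2 - q ^ 2 = q ^ 2 * (q ^ 2 - 1) := by
    rw [Nat.mul_sub]; ring_nf
  have e2 : (q ^ 2) ^ 2 - 1 = (q ^ 2 - 1) * (q ^ 2 + 1) := Quad.sq_sub_one' (q ^ 2) (by nlinarith)
  rw [e1, e2]
  ring

theorem nonempty_mulEquiv_aux (hF : Fintype.card F = q) (hK : Fintype.card K = q ^ 2) (a b : F)
    (hab : Quad.Aniso a b) :
    Nonempty (Cfsg.POmega F (Cfsg.quadFormMinus 1 F a b) ≃*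
      Matrix.ProjectiveSpecialLinearGroup (Fin 2) K) := by
  have hq2 : 2 ≤ q := by rw [← hF]; exact Fintype.one_lt_card
  have hK4 : 4 ≤ Fintype.card K := by rw [hK]; nlinarith
  have hirr := hab.irr
  obtain ⟨θ, hθ⟩ := exists_root (E := K) hF hK hirr
  obtain ⟨c, hc, hcsq⟩ := field_cond hK4
  have hperf : commutator (SpecialLinearGroup (Fin 2) K) = ⊤ := SL2.commutator_eq_top hc hcsq
  have hsimple : IsSimpleGroup (Matrix.ProjectiveSpecialLinearGroup (Fin 2) K) :=
    Matrix.ProjectiveSpecialLinearGroup.rank_two_simple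
      (by rw [Nat.card_eq_fintype_card]; exact hK4)
  have hker : (rho hF hK hirr hθ).ker ≤ center (SpecialLinearGroup (Fin 2) K) :=
    Sp4O5.ker_le_center_of_simple (rho hF hK hirr hθ) hperf hsimple _
      (rho_upper_ne_one hF hK hirr hθ)
  exact OmegaGen.nonempty_mulEquiv (rho hF hK hirr hθ) hperf hker Adj3.center_PSL2_eq_bot
    (OmegaGen.index_dvd_four_of_card _ (card_GO4m_eq hF hK a b hab)
      (card_dvd_two_of_le_center _ hker))

end Cfsg.Agent.Helper2.Herm2

namespace Cfsg.Agent.Helper2.Herm2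

/-- `PΩ₄⁻(q) ≃* PSL₂(q²)`, without an algebra structure given in advance -/
theorem nonempty_mulEquiv {F K : Type*} [Field F] [Fintype F] [Field K] [Fintype K] {q : ℕ}
    (hF : Fintype.card F = q) (hK : Fintype.card K = q ^ 2) (a b : F)
    (hab : ∀ z₁ z₂ : F, z₁ ^ 2 + a * z₁ * z₂ + b * z₂ ^ 2 = 0 → z₁ = 0 ∧ z₂ = 0) :
    Nonempty (Cfsg.POmega F (Cfsg.quadFormMinus 1 F a b) ≃*
      Matrix.ProjectiveSpecialLinearGroup (Fin 2) K) := by
  obtain ⟨ι⟩ := Cfsg.Agent.Helper13.exists_ringHom_of_card_sq hK hF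
  let _ : Algebra F K := ι.toAlgebra
  exact nonempty_mulEquiv_aux hF hK a b hab

end Cfsg.Agent.Helper2.Herm2
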