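import Mathlib
import Cfsg.Agent.Helper2.OInvG
import Cfsg.Agent.S0300
import Cfsg.Agent.Helper18.PSL27b

set_option autoImplicit false
set_option linter.unusedSectionVars false

/-! Characteristic two: the number of classes of involutions of `Ω⁻_{2m}(q)`. -/

namespace Cfsg.Agent.Helper2.OInv

open Matrix Module Cfsg.Agent.Helper28.QWitt Cfsg.Agent.Helper28.IsoTransport Cfsg.Agent.Helper2.Sp
  Cfsg.Agent.Helper28.Spin

section minus

variable {F : Type*} [Field F] [Fintype F] {k : ℕ} (a b : F)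

theorem nbM_sq (h2 : (2 : F) = 0) (r : ℕ) :
    nbM (k := k) a b h2 r * nbM (k := k) a b h2 r = 1 := mkO_sq _ _ _ _

theorem uaM_sq (h2 : (2 : F) = 0) (j : ℕ) :
    uaM (k := k) a b h2 j * uaM (k := k) a b h2 j = 1 := mkO_sq _ _ _ _

theorem class_count_omega_minus (h2 : (2 : F) = 0) (hab : Quad.Aniso a b) (ha : a ≠ 0)
    (H : HOm (QfMinus k F a b)) :
    Nat.card {C : ConjClasses ↥(Cfsg.Omega F ⇑(QfMinus k F a b)) //
      ∃ g : ↥(Cfsg.Omega F ⇑(QfMinus k F a b)), ConjClasses.mk g = C ∧ orderOf g = 2} =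
      (k + 1) / 2 + k / 2 := by
  have hQ := QfMinus_nondeg' h2 k (d := b) ha
  have hcard : Fintype.card ((Fin k ⊕ Fin k) ⊕ Fin 2) = 2 * (k + 1) := by
    rw [card_minus_index]; ring
  let repsO : Fin ((k + 1) / 2) ⊕ Fin (k / 2) → ↥(Cfsg.isometryGroup F ⇑(QfMinus k F a b)) :=
    Sum.elim (fun j => nbM a b h2 (2 * (j.val + 1))) (fun j => uaM a b h2 (j.val + 1))
  let rk : Fin ((k + 1) / 2) ⊕ Fin (k / 2) → ℕ :=
    Sum.elim (fun j => 2 * (j.val + 1)) (fun j => 2 * (j.val + 1))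
  have hrank : ∀ i, (mt (QfMinus k F a b) (repsO i) - 1).rank = rk i := by
    rintro (j | j)
    · exact nbM_rank a b h2 ha (by omega) (by have := j.2; omega)
    · exact uaM_rank a b h2 (by have := j.2; omega)
  have haltL : ∀ j, ¬ IsAltO (QfMinus k F a b) (repsO (Sum.inl j)) :=
    fun j => nbM_nonalt a b h2 ha _
  have haltR : ∀ j, IsAltO (QfMinus k F a b) (repsO (Sum.inr j)) :=
    fun j => uaM_alt a b h2 _
  have hmem : ∀ i, repsO i ∈ Cfsg.Omega F ⇑(QfMinus k F a b) := by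
    intro i
    rw [H, hrank]
    rcases i with j | j
    · exact ⟨j.val + 1, by show 2 * (j.val + 1) = _; ring⟩
    · exact ⟨j.val + 1, by show 2 * (j.val + 1) = _; ring⟩
  have hcount := card_classes_of_reps
    (fun i => (⟨repsO i, hmem i⟩ : ↥(Cfsg.Omega F ⇑(QfMinus k F a b)))) ?_ ?_ ?_
  · rw [hcount, Fintype.card_sum, Fintype.card_fin, Fintype.card_fin]
  · intro i
    rw [Subgroup.orderOf_mk]
    rcases i with j | j
    · exact nbM_order a b h2 ha (by omega) (by have := j.2; omega)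
    · exact uaM_order a b h2 (by omega) (by have := j.2; omega)
  · intro i j hij
    rw [isConj_sub] at hij
    obtain ⟨g, hgN, hg⟩ := hij
    have hg' : g * repsO i * g⁻¹ = repsO j := hg
    have hcj : IsConj (repsO i) (repsO j) := isConj_iff.mpr ⟨g, hg'⟩
    have hR : rk i = rk j := by rw [← hrank, ← hrank]; exact rank_isConjO _ hcj
    rcases i with j1 | j1 <;> rcases j with j2 | j2
    · have : 2 * (j1.val + 1) = 2 * (j2.val + 1) := hR
      exact congrArg Sum.inl (Fin.ext (by omega))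
    · exact absurd (alt_isConjO _ hcj.symm (haltR _)) (haltL _)
    · exact absurd (alt_isConjO _ hcj (haltR _)) (haltL _)
    · have : 2 * (j1.val + 1) = 2 * (j2.val + 1) := hR
      exact congrArg Sum.inr (Fin.ext (by omega))
  · intro g hg
    have hg1 : orderOf g.1 = 2 := by rw [Subgroup.orderOf_coe]; exact hg
    obtain ⟨hgg, hpos⟩ := sq_of_orderO _ hg1
    have hle := two_rank_le h2 _ (sq_mt _ hgg)
    rw [hcard] at hle
    have hev : Even (mt (QfMinus k F a b) g.1 - 1).rank := (H g.1).1 g.2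
    obtain ⟨t, ht⟩ := hev
    have ht1 : 1 ≤ t := by omega
    have htm : 2 * t ≤ k + 1 := by omega
    have e : t - 1 + 1 = t := by omega
    by_cases halt : IsAltO (QfMinus k F a b) g.1
    · have hne : (mt (QfMinus k F a b) g.1 - 1).rank ≠ k + 1 :=
        no_alt_half a b h2 hab hQ _ (mt_isom _ g.1) (sq_mt _ hgg) halt
      have htk : 2 * t ≤ k := by omega
      have hconjO : IsConj g.1 (uaM a b h2 t) := by
        apply isConj_of_rank_type _ h2 hQ hcard g.1 (uaM a b h2 t) hgg (uaM_sq a b h2 t)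
        · rw [uaM_rank a b h2 htk, ht]; ring
        · exact iff_of_true halt (uaM_alt a b h2 _)
      obtain ⟨c, hcN, hc⟩ := omega_conj_minus h2 k hab ha H g.1 _ hg1 hconjO
      refine ⟨Sum.inr ⟨t - 1, by omega⟩, ?_⟩
      rw [isConj_sub]
      refine ⟨c, hcN, ?_⟩
      show c * g.1 * c⁻¹ = uaM a b h2 (t - 1 + 1)
      rw [e]; exact hc
    · have hconjO : IsConj g.1 (nbM a b h2 (2 * t)) := by
        apply isConj_of_rank_type _ h2 hQ hcard g.1 (nbM a b h2 (2 * t)) hgg (nbM_sq a b h2 _)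
        · rw [nbM_rank a b h2 ha (by omega) htm, ht]; ring
        · exact iff_of_false halt (nbM_nonalt a b h2 ha _)
      obtain ⟨c, hcN, hc⟩ := omega_conj_minus h2 k hab ha H g.1 _ hg1 hconjO
      refine ⟨Sum.inl ⟨t - 1, by omega⟩, ?_⟩
      rw [isConj_sub]
      refine ⟨c, hcN, ?_⟩
      show c * g.1 * c⁻¹ = nbM a b h2 (2 * (t - 1 + 1))
      rw [e]; exact hc

/-- `Ω⁻₄(2)` is the group of isometries with even `rank (g - 1)` -/
theorem HOm_minus_special (h2 : (2 : F) = 0) (hab : Quad.Aniso a b) (ha : a ≠ 0)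
    (hF2 : Fintype.card F = 2) : HOm (QfMinus 1 F a b) := by
  classical
  have hQ := QfMinus_nondeg' h2 1 (d := b) ha
  obtain ⟨D, hD⟩ := Cfsg.Agent.Helper28.Dickson.exists_dickson (QfMinus 1 F a b) h2 hQ
  have hker : ∀ x : ↥(Cfsg.isometryGroup F ⇑(QfMinus 1 F a b)),
      x ∈ D.ker ↔ Even (mt (QfMinus 1 F a b) x - 1).rank := by
    intro x
    rw [MonoidHom.mem_ker, hD, ← ofAdd_zero, Multiplicative.ofAdd.apply_eq_iff_eq,
      ZMod.natCast_eq_zero_iff_even]
  have hle : Cfsg.Omega F ⇑(QfMinus 1 F a b) ≤ D.ker :=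
    Abelianization.commutator_subset_ker D
  -- the order of the orthogonal group
  have hG : Nat.card ↥(Cfsg.isometryGroup F ⇑(QfMinus 1 F a b)) = 120 := by
    have h1 := Quad.card_GO_minus hF2 2 (by norm_num) a b hab
    have e : (2 : ℕ) - 1 = 1 := rfl
    rw [e] at h1
    rw [Finset.prod_range_one] at h1
    have e2 : 2 * 2 ^ (2 * 1) * (2 ^ 2 + 1) * (2 ^ (2 * (0 + 1)) - 1) = 120 := by norm_num
    rw [e2] at h1
    exact h1
  have hfin : Finite ↥(Cfsg.isometryGroup F ⇑(QfMinus 1 F a b)) :=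
    Nat.finite_of_card_ne_zero (by rw [hG]; norm_num)
  -- the Dickson invariant is onto
  have hrange : Nat.card D.range = 2 := by
    obtain ⟨u, hu⟩ : ∃ u : (Fin 1 ⊕ Fin 1) ⊕ Fin 2 → F, QfMinus 1 F a b u ≠ 0 := by
      refine ⟨Pi.single (Sum.inr 0) 1, ?_⟩
      rw [Qm_split]
      have e1 : ((Pi.single (Sum.inr 0) 1 : (Fin 1 ⊕ Fin 1) ⊕ Fin 2 → F) ∘ Sum.inl) = 0 := by
        funext i
        simp
      rw [e1, map_zero, zero_add]
      simp [bin]
    have hDr : D (reflO (QfMinus 1 F a b) u hu) = Multiplicative.ofAdd (1 : ZMod 2) := by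
      rw [hD, reflO_val, Cfsg.Agent.Helper28.Dickson.rank_refl_sub_one _ hQ u hu]
      rfl
    have htop : D.range = ⊤ := by
      rw [eq_top_iff]
      intro y _
      have hy : ∀ y : Multiplicative (ZMod 2), y = 1 ∨ y = Multiplicative.ofAdd (1 : ZMod 2) := by
        decide
      rcases hy y with rfl | rfl
      · exact Subgroup.one_mem _
      · exact ⟨_, hDr⟩
    rw [htop, Subgroup.card_top, Nat.card_eq_fintype_card]
    rfl
  have hkercard : Nat.card D.ker = 60 := by
    have h1 := Subgroup.card_mul_index D.ker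
    rw [Subgroup.index_ker, hrange, hG] at h1
    omega
  -- the order of `Ω`
  have hOm : 60 ≤ Nat.card ↥(Cfsg.Omega F ⇑(QfMinus 1 F a b)) := by
    have : Fact (Nat.Prime 2) := ⟨Nat.prime_two⟩
    have : Fintype (GaloisField 2 2) := Fintype.ofFinite _
    have hK : Fintype.card (GaloisField 2 2) = 2 ^ 2 := by
      rw [← Nat.card_eq_fintype_card, GaloisField.card 2 2 (by norm_num)]
    obtain ⟨e⟩ := Cfsg.Agent.S0300.result hF2 hK a b hab
    have h1 := Cfsg.Agent.Helper18.PSL27.card_psl2 (F := GaloisField 2 2) 4 (by rw [hK]; norm_num)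
      (by norm_num)
    have h3 : Nat.card (Matrix.ProjectiveSpecialLinearGroup (Fin 2) (GaloisField 2 2)) = 60 := by
      have e4 : Nat.gcd 2 (4 - 1) = 1 := by norm_num
      have e5 : (4 ^ 2 - 1) * (4 ^ 2 - 4) = 180 := by norm_num
      have e6 : 4 - 1 = 3 := by norm_num
      rw [e4, e5, e6] at h1
      omega
    have h4 : Nat.card (Cfsg.POmega F (Cfsg.quadFormMinus 1 F a b)) = 60 := by
      rw [Nat.card_congr e.toEquiv, h3]
    have h5 := Subgroup.card_eq_card_quotient_mul_card_subgroup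
      (Subgroup.center ↥(Cfsg.Omega F ⇑(QfMinus 1 F a b)))
    have h6 : Nat.card (↥(Cfsg.Omega F ⇑(QfMinus 1 F a b)) ⧸
        Subgroup.center ↥(Cfsg.Omega F ⇑(QfMinus 1 F a b))) = 60 := h4
    rw [h6] at h5
    have h7 : 0 < Nat.card ↥(Subgroup.center ↥(Cfsg.Omega F ⇑(QfMinus 1 F a b))) :=
      Nat.card_pos
    rw [h5]
    nlinarith
  have hfinK : Finite ↥D.ker := inferInstance
  have heq : Cfsg.Omega F ⇑(QfMinus 1 F a b) = D.ker :=
    Subgroup.eq_of_le_of_card_ge hle (by rw [hkercard]; exact hOm)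
  intro g
  rw [heq]
  exact hker g

theorem HOm_minus_all (h2 : (2 : F) = 0) (hab : Quad.Aniso a b) (ha : a ≠ 0) (k : ℕ) :
    HOm (QfMinus k F a b) := by
  by_cases hc : Fintype.card F ≠ 2 ∨ k ≠ 1
  · exact HOm_minus h2 k ha hc
  · push Not at hc
    obtain ⟨hF2, rfl⟩ := hc
    exact HOm_minus_special a b h2 hab ha hF2

theorem class_count_omega_minus_all (h2 : (2 : F) = 0) (hab : Quad.Aniso a b) (ha : a ≠ 0)
    (k : ℕ) :
    Nat.card {C : ConjClasses ↥(Cfsg.Omega F ⇑(QfMinus k F a b)) //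
      ∃ g : ↥(Cfsg.Omega F ⇑(QfMinus k F a b)), ConjClasses.mk g = C ∧ orderOf g = 2} =
      (k + 1) / 2 + k / 2 :=
  class_count_omega_minus a b h2 hab ha (HOm_minus_all a b h2 hab ha k)

end minus

end Cfsg.Agent.Helper2.OInv
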