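import Mathlib
import Cfsg.Agent.Helper2.SpCentB

/-! Centraliser orders of involutions of `Sp` in characteristic two: groups and orbit steps. -/

set_option autoImplicit false

namespace Cfsg.Agent.Helper2.Sp

open Matrix Module

/-- orbit-stabiliser, in a form convenient for subgroups given by explicit conditions -/
theorem card_orbit_stab {G α : Type*} [Group G] [MulAction G α] (H H' : Subgroup G) (p : α)
    (Ω : Set α) (hmaps : ∀ g ∈ H, g • p ∈ Ω) (htrans : ∀ p' ∈ Ω, ∃ g ∈ H, g • p = p')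
    (hstab : ∀ g : G, g ∈ H' ↔ g ∈ H ∧ g • p = p) :
    Nat.card H = Nat.card Ω * Nat.card H' := by
  have h1 := Nat.card_congr (MulAction.orbitProdStabilizerEquivGroup H p)
  rw [Nat.card_prod] at h1
  rw [← h1]
  congr 1
  · have h3 : MulAction.orbit H p = Ω := by
      ext p'
      constructor
      · rintro ⟨g, rfl⟩
        exact hmaps g.1 g.2
      · intro hp'
        obtain ⟨g, hg, rfl⟩ := htrans p' hp'
        exact ⟨⟨g, hg⟩, rfl⟩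
    rw [h3]
  · apply Nat.card_congr
    exact ⟨fun g => ⟨g.1.1, (hstab _).mpr ⟨g.1.2, MulAction.mem_stabilizer_iff.mp g.2⟩⟩,
      fun g => ⟨⟨g.1, ((hstab _).mp g.2).1⟩,
        MulAction.mem_stabilizer_iff.mpr ((hstab _).mp g.2).2⟩,
      fun _ => rfl, fun _ => rfl⟩

variable {l : Type*} [DecidableEq l] [Fintype l] {F : Type*} [Field F]

/-- vectors, with the action of the symplectic group -/
def Vec (l : Type*) (F : Type*) := l ⊕ l → F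

instance vecMulAction : MulAction (symplecticGroup l F) (Vec l F) where
  smul g v := (g : Matrix (l ⊕ l) (l ⊕ l) F) *ᵥ v
  one_smul v := Matrix.one_mulVec (show l ⊕ l → F from v)
  mul_smul g h v := (Matrix.mulVec_mulVec (show l ⊕ l → F from v)
    (g : Matrix (l ⊕ l) (l ⊕ l) F) (h : Matrix (l ⊕ l) (l ⊕ l) F)).symm

/-- the isometries fixing `X` pointwise and commuting with `A` -/
def Cent (X : Submodule F (l ⊕ l → F)) (A : Matrix (l ⊕ l) (l ⊕ l) F) :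
    Subgroup (symplecticGroup l F) where
  carrier := {g | (∀ z ∈ X, (g : Matrix (l ⊕ l) (l ⊕ l) F) *ᵥ z = z) ∧
    (g : Matrix (l ⊕ l) (l ⊕ l) F) * A = A * (g : Matrix (l ⊕ l) (l ⊕ l) F)}
  mul_mem' := by
    rintro g h ⟨hg1, hg2⟩ ⟨hh1, hh2⟩
    refine ⟨fun z hz => ?_, ?_⟩
    · show ((g : Matrix (l ⊕ l) (l ⊕ l) F) * (h : Matrix (l ⊕ l) (l ⊕ l) F)) *ᵥ z = z
      rw [← mulVec_mulVec, hh1 z hz, hg1 z hz]
    · show ((g : Matrix (l ⊕ l) (l ⊕ l) F) * (h : Matrix (l ⊕ l) (l ⊕ l) F)) * A =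
        A * ((g : Matrix (l ⊕ l) (l ⊕ l) F) * (h : Matrix (l ⊕ l) (l ⊕ l) F))
      rw [Matrix.mul_assoc, hh2, ← Matrix.mul_assoc, hg2, Matrix.mul_assoc]
  one_mem' := by
    refine ⟨fun z _ => ?_, ?_⟩
    · show (1 : Matrix (l ⊕ l) (l ⊕ l) F) *ᵥ z = z
      rw [one_mulVec]
    · show (1 : Matrix (l ⊕ l) (l ⊕ l) F) * A = A * 1
      rw [Matrix.one_mul, Matrix.mul_one]
  inv_mem' := by
    rintro g ⟨hg1, hg2⟩
    have h1 : (g⁻¹).1 * g.1 = 1 := congrArg Subtype.val (inv_mul_cancel g)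
    have h3 : g.1 * (g⁻¹).1 = 1 := congrArg Subtype.val (mul_inv_cancel g)
    refine ⟨fun z hz => ?_, ?_⟩
    · show (g⁻¹).1 *ᵥ z = z
      conv_lhs => rw [← hg1 z hz]
      rw [mulVec_mulVec, h1, one_mulVec]
    · show (g⁻¹).1 * A = A * (g⁻¹).1
      calc (g⁻¹).1 * A = (g⁻¹).1 * A * (g.1 * (g⁻¹).1) := by rw [h3, Matrix.mul_one]
        _ = (g⁻¹).1 * (A * g.1) * (g⁻¹).1 := by simp only [Matrix.mul_assoc]
        _ = (g⁻¹).1 * (g.1 * A) * (g⁻¹).1 := by rw [hg2]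
        _ = ((g⁻¹).1 * g.1) * A * (g⁻¹).1 := by simp only [Matrix.mul_assoc]
        _ = A * (g⁻¹).1 := by rw [h1, Matrix.one_mul]

theorem mem_Cent {X : Submodule F (l ⊕ l → F)} {A : Matrix (l ⊕ l) (l ⊕ l) F}
    {g : symplecticGroup l F} : g ∈ Cent X A ↔
      (∀ z ∈ X, (g : Matrix (l ⊕ l) (l ⊕ l) F) *ᵥ z = z) ∧
      (g : Matrix (l ⊕ l) (l ⊕ l) F) * A = A * (g : Matrix (l ⊕ l) (l ⊕ l) F) := Iff.rfl

theorem cent_maps {X : Submodule F (l ⊕ l → F)} {A : Matrix (l ⊕ l) (l ⊕ l) F}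
    {g : symplecticGroup l F} (hg : g ∈ Cent X A) {y : l ⊕ l → F} (hy : y ∈ perpS X) :
    (g : Matrix (l ⊕ l) (l ⊕ l) F) *ᵥ y ∈ perpS X := by
  rw [mem_perpS]
  intro z hz
  have h1 := om_smul g y z
  rw [(mem_Cent.mp hg).1 z hz] at h1
  rw [h1]
  exact hy z hz

theorem cent_N {X : Submodule F (l ⊕ l → F)} {A : Matrix (l ⊕ l) (l ⊕ l) F}
    {g : symplecticGroup l F} (hg : g ∈ Cent X A) (v : l ⊕ l → F) :
    (A - 1) *ᵥ ((g : Matrix (l ⊕ l) (l ⊕ l) F) *ᵥ v) =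
      (g : Matrix (l ⊕ l) (l ⊕ l) F) *ᵥ ((A - 1) *ᵥ v) := by
  rw [sub_one_mulVec, sub_one_mulVec, mulVec_sub, mulVec_mulVec, mulVec_mulVec,
    (mem_Cent.mp hg).2]

theorem cent_lam {X : Submodule F (l ⊕ l → F)} {A : Matrix (l ⊕ l) (l ⊕ l) F}
    {g : symplecticGroup l F} (hg : g ∈ Cent X A) (v : l ⊕ l → F) :
    om (A *ᵥ ((g : Matrix (l ⊕ l) (l ⊕ l) F) *ᵥ v)) ((g : Matrix (l ⊕ l) (l ⊕ l) F) *ᵥ v) =
      om (A *ᵥ v) v := by
  rw [mulVec_mulVec, ← (mem_Cent.mp hg).2, ← mulVec_mulVec, om_smul]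

theorem fix_sup_pair {X : Submodule F (l ⊕ l → F)} {M : Matrix (l ⊕ l) (l ⊕ l) F}
    (h : ∀ z ∈ X, M *ᵥ z = z) {u v : l ⊕ l → F} (hu : M *ᵥ u = u) (hv : M *ᵥ v = v) :
    ∀ z ∈ X ⊔ Submodule.span F {u, v}, M *ᵥ z = z := by
  intro z hz
  obtain ⟨x1, hx1, x2, hx2, rfl⟩ := Submodule.mem_sup.mp hz
  obtain ⟨a, b, rfl⟩ := Submodule.mem_span_pair.mp hx2
  rw [mulVec_add, mulVec_add, mulVec_smul, mulVec_smul, h x1 hx1, hu, hv]

theorem card_cut [Finite F] {X : Submodule F (l ⊕ l → F)} {u v : l ⊕ l → F}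
    (hu : u ∈ perpS X) (hv : v ∈ perpS X) (huv : om u v = 1) :
    Nat.card (perpS (X ⊔ Submodule.span F {u, v})) * (Nat.card F * Nat.card F) =
      Nat.card (perpS X) := by
  have h4 := card_ker_mul (perpS X) (om2Hom u v) (fun c => by
    refine ⟨c.1 • v - c.2 • u,
      (perpS X).sub_mem ((perpS X).smul_mem _ hv) ((perpS X).smul_mem _ hu), ?_⟩
    show (om u (c.1 • v - c.2 • u), om v (c.1 • v - c.2 • u)) = c
    rw [om_sub_right, om_sub_right, om_smul_right, om_smul_right, om_smul_right, om_smul_right,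
      huv, om_self, om_self, om_swap u v, huv]
    apply Prod.ext
    · show c.1 * 1 - c.2 * 0 = c.1
      ring
    · show c.1 * 0 - c.2 * -1 = c.2
      ring)
  rw [Nat.card_prod] at h4
  rw [← h4]
  congr 1
  apply Nat.card_congr
  apply Equiv.subtypeEquivRight
  intro y
  rw [mem_perpS_sup_pair]
  apply and_congr_right
  intro _
  show om y u = 0 ∧ om y v = 0 ↔ (om u y, om v y) = ((0 : F), (0 : F))
  rw [Prod.mk.injEq, om_swap y u, om_swap y v, neg_eq_zero, neg_eq_zero]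

theorem card_cut_pow [Finite F] {X : Submodule F (l ⊕ l → F)} {d : ℕ}
    (hcard : Nat.card (perpS X) = Nat.card F ^ (2 * d)) {u v : l ⊕ l → F}
    (hu : u ∈ perpS X) (hv : v ∈ perpS X) (huv : om u v = 1) :
    ∃ d', d = d' + 1 ∧
      Nat.card (perpS (X ⊔ Submodule.span F {u, v})) = Nat.card F ^ (2 * d') := by
  have hq : 1 < Nat.card F := Finite.one_lt_card
  have h1 := card_cut hu hv huv
  rw [hcard] at h1
  rcases d with _ | d'
  · exfalso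
    have hN : 0 < Nat.card (perpS (X ⊔ Submodule.span F {u, v})) := Nat.card_pos
    rw [Nat.mul_zero, pow_zero] at h1
    nlinarith
  · refine ⟨d', rfl, ?_⟩
    have h3 : Nat.card F ^ (2 * (d' + 1)) = Nat.card F ^ (2 * d') * (Nat.card F * Nat.card F) := by
      ring
    rw [h3] at h1
    exact Nat.eq_of_mul_eq_mul_right (by positivity) h1

/-- the hyperbolic pairs of `X^⊥` -/
def HypSet (X : Submodule F (l ⊕ l → F)) : Set (Pair l F) :=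
  {p | p.1 ∈ perpS X ∧ p.2 ∈ perpS X ∧ om p.1 p.2 = 1}

theorem step0 [Finite F] {X : Submodule F (l ⊕ l → F)} (hC : Cut X) {e f : l ⊕ l → F}
    (he : e ∈ perpS X) (hf : f ∈ perpS X) (hef : om e f = 1) :
    Nat.card (Cent X (1 : Matrix (l ⊕ l) (l ⊕ l) F)) =
      Nat.card (HypSet X) *
        Nat.card (Cent (X ⊔ Submodule.span F {e, f}) (1 : Matrix (l ⊕ l) (l ⊕ l) F)) := by
  refine card_orbit_stab (Cent X 1) (Cent (X ⊔ Submodule.span F {e, f}) 1)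
    ((e, f) : Pair l F) (HypSet X) ?_ ?_ ?_
  · intro g hg
    refine ⟨cent_maps hg he, cent_maps hg hf, ?_⟩
    show om ((g : Matrix (l ⊕ l) (l ⊕ l) F) *ᵥ e) ((g : Matrix (l ⊕ l) (l ⊕ l) F) *ᵥ f) = 1
    rw [om_smul, hef]
  · rintro ⟨e', f'⟩ ⟨he', hf', hef'⟩
    obtain ⟨t, ht, hte, htf⟩ := trans_pairS hC.nd he hf he' hf' hef hef'
    refine ⟨⟨t, mem_symplectic_iff_om.mpr (GenS_pres ht)⟩,
      mem_Cent.mpr ⟨fun z hz => GenS_fix ht z (fun y hy => hy z hz), by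
        show t * 1 = 1 * t
        rw [Matrix.mul_one, Matrix.one_mul]⟩, ?_⟩
    show ((t *ᵥ e, t *ᵥ f) : Pair l F) = (e', f')
    rw [hte, htf]
  · intro g
    constructor
    · intro hg
      have hg' := mem_Cent.mp hg
      refine ⟨mem_Cent.mpr ⟨fun z hz => hg'.1 z (Submodule.mem_sup_left hz), hg'.2⟩, ?_⟩
      show (((g : Matrix (l ⊕ l) (l ⊕ l) F) *ᵥ e, (g : Matrix (l ⊕ l) (l ⊕ l) F) *ᵥ f) : Pair l F)
        = (e, f)
      rw [hg'.1 e (Submodule.mem_sup_right (Submodule.subset_span (by simp))),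
        hg'.1 f (Submodule.mem_sup_right (Submodule.subset_span (by simp)))]
    · rintro ⟨hg, hfix⟩
      have hg' := mem_Cent.mp hg
      have h1 : (g : Matrix (l ⊕ l) (l ⊕ l) F) *ᵥ e = e := congrArg Prod.fst hfix
      have h3 : (g : Matrix (l ⊕ l) (l ⊕ l) F) *ᵥ f = f := congrArg Prod.snd hfix
      exact mem_Cent.mpr ⟨fix_sup_pair hg'.1 h1 h3, hg'.2⟩

theorem stepA [Finite F] (h2 : (2 : F) = 0) {X : Submodule F (l ⊕ l → F)} (hC : Cut X)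
    {A : Matrix (l ⊕ l) (l ⊕ l) F} (hA : InvS X A) (halt : AltS X A) {x y w₁ w₂ : l ⊕ l → F}
    (hp : ((x, y) : Pair l F) ∈ PiSet X A) (hw₁ : w₁ = (A - 1) *ᵥ x)
    (hw₂ : w₂ = (A - 1) *ᵥ y) :
    Nat.card (Cent X A) = Nat.card (PiSet X A) *
      Nat.card (Cent ((X ⊔ Submodule.span F {w₁, y}) ⊔ Submodule.span F {w₂, x})
        (Rm w₁ w₂ * A)) := by
  obtain ⟨hxY, hyY, h1y, hxy⟩ := hp
  have h1y' : om w₁ y = 1 := by rw [hw₁]; exact h1y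
  obtain ⟨hw₁Y, hw₂Y, hw₂x, h21, hw₂y, hxw₁, hInv, hAeq, -, -⟩ :=
    pA_spec h2 hA halt hxY hyY hw₁ hw₂ h1y' hxy
  obtain ⟨A', hA'⟩ : ∃ A', A' = Rm w₁ w₂ * A := ⟨_, rfl⟩
  rw [← hA'] at hAeq ⊢
  refine card_orbit_stab (Cent X A)
    (Cent ((X ⊔ Submodule.span F {w₁, y}) ⊔ Submodule.span F {w₂, x}) A')
    ((x, y) : Pair l F) (PiSet X A) ?_ ?_ ?_
  · intro g hg
    refine ⟨cent_maps hg hxY, cent_maps hg hyY, ?_, ?_⟩
    · show om ((A - 1) *ᵥ ((g : Matrix (l ⊕ l) (l ⊕ l) F) *ᵥ x))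
        ((g : Matrix (l ⊕ l) (l ⊕ l) F) *ᵥ y) = 1
      rw [cent_N hg, om_smul]
      exact h1y
    · show om ((g : Matrix (l ⊕ l) (l ⊕ l) F) *ᵥ x) ((g : Matrix (l ⊕ l) (l ⊕ l) F) *ᵥ y) = 0
      rw [om_smul]
      exact hxy
  · rintro ⟨x', y'⟩ ⟨hx'Y, hy'Y, h1y'', hxy'⟩
    obtain ⟨M, hM, hMA, hMx, hMy⟩ := conjA h2 hC.nd hA hA halt halt rfl hxY hyY hx'Y hy'Y
      h1y hxy h1y'' hxy'
    refine ⟨⟨M, mem_symplectic_iff_om.mpr (GenS_pres hM)⟩,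
      mem_Cent.mpr ⟨fun z hz => GenS_fix hM z (fun y hy => hy z hz), hMA⟩, ?_⟩
    show ((M *ᵥ x, M *ᵥ y) : Pair l F) = (x', y')
    rw [hMx, hMy]
  · intro g
    have hgP : PresS (g : Matrix (l ⊕ l) (l ⊕ l) F) := mem_symplectic_iff_om.mp g.2
    constructor
    · intro hg
      have hg' := mem_Cent.mp hg
      have hgx : (g : Matrix (l ⊕ l) (l ⊕ l) F) *ᵥ x = x :=
        hg'.1 x (Submodule.mem_sup_right (Submodule.subset_span (by simp)))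
      have hgy : (g : Matrix (l ⊕ l) (l ⊕ l) F) *ᵥ y = y :=
        hg'.1 y (Submodule.mem_sup_left (Submodule.mem_sup_right (Submodule.subset_span (by simp))))
      have hgw₁ : (g : Matrix (l ⊕ l) (l ⊕ l) F) *ᵥ w₁ = w₁ :=
        hg'.1 w₁ (Submodule.mem_sup_left (Submodule.mem_sup_right
          (Submodule.subset_span (by simp))))
      have hgw₂ : (g : Matrix (l ⊕ l) (l ⊕ l) F) *ᵥ w₂ = w₂ :=
        hg'.1 w₂ (Submodule.mem_sup_right (Submodule.subset_span (by simp)))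
      have hgR : (g : Matrix (l ⊕ l) (l ⊕ l) F) * Rm w₁ w₂ =
          Rm w₁ w₂ * (g : Matrix (l ⊕ l) (l ⊕ l) F) := by
        rw [Rm_conj _ hgP, hgw₁, hgw₂]
      refine ⟨mem_Cent.mpr ⟨fun z hz => hg'.1 z
        (Submodule.mem_sup_left (Submodule.mem_sup_left hz)), ?_⟩, ?_⟩
      · calc (g : Matrix (l ⊕ l) (l ⊕ l) F) * A
            = ((g : Matrix (l ⊕ l) (l ⊕ l) F) * Rm w₁ w₂) * A' := by
              rw [hAeq]; simp only [Matrix.mul_assoc]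
          _ = Rm w₁ w₂ * ((g : Matrix (l ⊕ l) (l ⊕ l) F) * A') := by
              rw [hgR]; simp only [Matrix.mul_assoc]
          _ = Rm w₁ w₂ * (A' * (g : Matrix (l ⊕ l) (l ⊕ l) F)) := by rw [hg'.2]
          _ = A * (g : Matrix (l ⊕ l) (l ⊕ l) F) := by
              rw [hAeq]; simp only [Matrix.mul_assoc]
      · show (((g : Matrix (l ⊕ l) (l ⊕ l) F) *ᵥ x, (g : Matrix (l ⊕ l) (l ⊕ l) F) *ᵥ y) :
          Pair l F) = (x, y)
        rw [hgx, hgy]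
    · rintro ⟨hg, hfix⟩
      have hg' := mem_Cent.mp hg
      have hgx : (g : Matrix (l ⊕ l) (l ⊕ l) F) *ᵥ x = x := congrArg Prod.fst hfix
      have hgy : (g : Matrix (l ⊕ l) (l ⊕ l) F) *ᵥ y = y := congrArg Prod.snd hfix
      have hgw₁ : (g : Matrix (l ⊕ l) (l ⊕ l) F) *ᵥ w₁ = w₁ := by
        rw [hw₁, ← cent_N hg, hgx]
      have hgw₂ : (g : Matrix (l ⊕ l) (l ⊕ l) F) *ᵥ w₂ = w₂ := by
        rw [hw₂, ← cent_N hg, hgy]
      have hgR : (g : Matrix (l ⊕ l) (l ⊕ l) F) * Rm w₁ w₂ =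
          Rm w₁ w₂ * (g : Matrix (l ⊕ l) (l ⊕ l) F) := by
        rw [Rm_conj _ hgP, hgw₁, hgw₂]
      refine mem_Cent.mpr ⟨fix_sup_pair (fix_sup_pair hg'.1 hgw₁ hgy) hgw₂ hgx, ?_⟩
      calc (g : Matrix (l ⊕ l) (l ⊕ l) F) * A'
          = ((g : Matrix (l ⊕ l) (l ⊕ l) F) * Rm w₁ w₂) * A := by
            rw [hA']; simp only [Matrix.mul_assoc]
        _ = Rm w₁ w₂ * ((g : Matrix (l ⊕ l) (l ⊕ l) F) * A) := by
            rw [hgR]; simp only [Matrix.mul_assoc]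
        _ = Rm w₁ w₂ * (A * (g : Matrix (l ⊕ l) (l ⊕ l) F)) := by rw [hg'.2]
        _ = A' * (g : Matrix (l ⊕ l) (l ⊕ l) F) := by
            rw [hA']; simp only [Matrix.mul_assoc]

theorem stepB [Finite F] (h2 : (2 : F) = 0) {X : Submodule F (l ⊕ l → F)} (hC : Cut X)
    {A : Matrix (l ⊕ l) (l ⊕ l) F} (hA : InvS X A) {x₀ w : l ⊕ l → F} (hx₀Y : x₀ ∈ perpS X)
    (hx₀1 : om (A *ᵥ x₀) x₀ = 1) (hw : w = (A - 1) *ᵥ x₀) (Ω : Set (Vec l F))
    (hΩ₀ : (x₀ : Vec l F) ∈ Ω)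
    (hΩinv : ∀ g ∈ Cent X A, ∀ x ∈ Ω, (g • x : Vec l F) ∈ Ω)
    (hΩ : ∀ x ∈ Ω, (x : l ⊕ l → F) ∈ perpS X ∧ om (A *ᵥ (x : l ⊕ l → F)) (x : l ⊕ l → F) = 1 ∧
      (AltS (X ⊔ Submodule.span F {w, x₀}) (T w 1 * A) ↔
        AltS (X ⊔ Submodule.span F {(A - 1) *ᵥ (x : l ⊕ l → F), (x : l ⊕ l → F)})
          (T ((A - 1) *ᵥ (x : l ⊕ l → F)) 1 * A))) :
    Nat.card (Cent X A) = Nat.card Ω *
      Nat.card (Cent (X ⊔ Submodule.span F {w, x₀}) (T w 1 * A)) := by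
  obtain ⟨hwY, hwx, hAw, hInv, hAeq, -, -, -, -⟩ := pB_spec h2 hA hx₀Y hx₀1 hw
  obtain ⟨A', hA'⟩ : ∃ A', A' = T w 1 * A := ⟨_, rfl⟩
  rw [← hA'] at hAeq ⊢
  refine card_orbit_stab (Cent X A) (Cent (X ⊔ Submodule.span F {w, x₀}) A')
    (x₀ : Vec l F) Ω ?_ ?_ ?_
  · intro g hg
    exact hΩinv g hg x₀ hΩ₀
  · intro x' hx'
    obtain ⟨hx'Y, hx'1, hiff⟩ := hΩ x' hx'
    rw [← hA'] at hiff
    obtain ⟨M, hM, hMA, hMx⟩ := conjB h2 hC.nd hA hA rfl hx₀Y hx'Y hx₀1 hx'1 hw rfl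
      (by rw [← hA']; exact hiff)
    refine ⟨⟨M, mem_symplectic_iff_om.mpr (GenS_pres hM)⟩,
      mem_Cent.mpr ⟨fun z hz => GenS_fix hM z (fun y hy => hy z hz), hMA⟩, ?_⟩
    exact hMx
  · intro g
    have hgP : PresS (g : Matrix (l ⊕ l) (l ⊕ l) F) := mem_symplectic_iff_om.mp g.2
    constructor
    · intro hg
      have hg' := mem_Cent.mp hg
      have hgx : (g : Matrix (l ⊕ l) (l ⊕ l) F) *ᵥ x₀ = x₀ :=
        hg'.1 x₀ (Submodule.mem_sup_right (Submodule.subset_span (by simp)))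
      have hgw : (g : Matrix (l ⊕ l) (l ⊕ l) F) *ᵥ w = w :=
        hg'.1 w (Submodule.mem_sup_right (Submodule.subset_span (by simp)))
      have hgT : (g : Matrix (l ⊕ l) (l ⊕ l) F) * T w 1 =
          T w 1 * (g : Matrix (l ⊕ l) (l ⊕ l) F) := by
        rw [T_conjS _ hgP, hgw]
      refine ⟨mem_Cent.mpr ⟨fun z hz => hg'.1 z (Submodule.mem_sup_left hz), ?_⟩, hgx⟩
      calc (g : Matrix (l ⊕ l) (l ⊕ l) F) * A
          = ((g : Matrix (l ⊕ l) (l ⊕ l) F) * T w 1) * A' := by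
            rw [hAeq]; simp only [Matrix.mul_assoc]
        _ = T w 1 * ((g : Matrix (l ⊕ l) (l ⊕ l) F) * A') := by
            rw [hgT]; simp only [Matrix.mul_assoc]
        _ = T w 1 * (A' * (g : Matrix (l ⊕ l) (l ⊕ l) F)) := by rw [hg'.2]
        _ = A * (g : Matrix (l ⊕ l) (l ⊕ l) F) := by
            rw [hAeq]; simp only [Matrix.mul_assoc]
    · rintro ⟨hg, hfix⟩
      have hg' := mem_Cent.mp hg
      have hgx : (g : Matrix (l ⊕ l) (l ⊕ l) F) *ᵥ x₀ = x₀ := hfix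
      have hgw : (g : Matrix (l ⊕ l) (l ⊕ l) F) *ᵥ w = w := by
        rw [hw, ← cent_N hg, hgx]
      have hgT : (g : Matrix (l ⊕ l) (l ⊕ l) F) * T w 1 =
          T w 1 * (g : Matrix (l ⊕ l) (l ⊕ l) F) := by
        rw [T_conjS _ hgP, hgw]
      refine mem_Cent.mpr ⟨fix_sup_pair hg'.1 hgw hgx, ?_⟩
      calc (g : Matrix (l ⊕ l) (l ⊕ l) F) * A'
          = ((g : Matrix (l ⊕ l) (l ⊕ l) F) * T w 1) * A := by
            rw [hA']; simp only [Matrix.mul_assoc]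
        _ = T w 1 * ((g : Matrix (l ⊕ l) (l ⊕ l) F) * A) := by
            rw [hgT]; simp only [Matrix.mul_assoc]
        _ = T w 1 * (A * (g : Matrix (l ⊕ l) (l ⊕ l) F)) := by rw [hg'.2]
        _ = A' * (g : Matrix (l ⊕ l) (l ⊕ l) F) := by
            rw [hA']; simp only [Matrix.mul_assoc]

end Cfsg.Agent.Helper2.Sp
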