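import Mathlib
import Cfsg.Agent.Helper2.SpCentC

/-! Centraliser orders of involutions of `Sp` in characteristic two: the main count. -/

set_option autoImplicit false

namespace Cfsg.Agent.Helper2.Sp

open Matrix Module

/-- the order of `Sp_{2k}(q)` -/
def sg (q k : ℕ) : ℕ := q ^ (k ^ 2) * ∏ i ∈ Finset.range k, (q ^ (2 * (i + 1)) - 1)

theorem sg_zero (q : ℕ) : sg q 0 = 1 := by simp [sg]

theorem sg_succ (q k : ℕ) :
    sg q (k + 1) = q ^ (2 * k + 1) * (q ^ (2 * k + 2) - 1) * sg q k := by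
  unfold sg
  rw [Finset.prod_range_succ]
  have e1 : (k + 1) ^ 2 = k ^ 2 + (2 * k + 1) := by ring
  have e2 : 2 * (k + 1) = 2 * k + 2 := by ring
  rw [e1, pow_add, e2]
  ring

theorem sg_eq (q k : ℕ) :
    sg q k = q ^ (k ^ 2) * ∏ i : Fin k, (q ^ (2 * ((i : ℕ) + 1)) - 1) := by
  unfold sg
  rw [Fin.prod_univ_eq_prod_range (fun i => q ^ (2 * (i + 1)) - 1) k]

theorem ar0 {q P d' : ℕ} (hq : 0 < q)
    (hP : P * q = (q ^ (2 * (d' + 1)) - 1) * q ^ (2 * (d' + 1))) :
    P * sg q d' = sg q (d' + 1) := by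
  have e2 : 2 * (d' + 1) = 2 * d' + 2 := by ring
  have hP' : P = (q ^ (2 * d' + 2) - 1) * q ^ (2 * d' + 1) := by
    apply Nat.eq_of_mul_eq_mul_right hq
    rw [hP, e2]
    have h3 : q ^ (2 * d' + 2) = q ^ (2 * d' + 1) * q := by ring
    rw [mul_assoc, ← h3]
  rw [hP', sg_succ]
  ring

theorem arA {q K P C k r : ℕ} (hq : 0 < q)
    (hK : K * q ^ (2 * k + 2) = q ^ (2 * (2 * k + 2 + r)))
    (hP : P * (q * q) = (q ^ (2 * (2 * k + 2 + r)) - K) * q ^ (2 * (2 * k + 2 + r)))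
    (hC : C = q ^ (4 * k * r + 2 * k ^ 2 + k) * sg q k * sg q r) :
    P * C = q ^ (4 * (k + 1) * r + 2 * (k + 1) ^ 2 + (k + 1)) * sg q (k + 1) * sg q r := by
  have e1 : q ^ (2 * (2 * k + 2 + r)) = q ^ (2 * k + 2 + 2 * r) * q ^ (2 * k + 2) := by
    rw [← pow_add]; congr 1; ring
  have hK' : K = q ^ (2 * k + 2 + 2 * r) := by
    apply Nat.eq_of_mul_eq_mul_right (pow_pos hq (2 * k + 2))
    rw [hK, e1]
  have hsub : q ^ (2 * (2 * k + 2 + r)) - K =
      q ^ (2 * k + 2 + 2 * r) * (q ^ (2 * k + 2) - 1) := by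
    rw [hK', e1, Nat.mul_sub_one]
  obtain ⟨D, hD⟩ : ∃ D, D = q ^ (2 * k + 2) - 1 := ⟨_, rfl⟩
  rw [← hD] at hsub
  have hP' : P = D * q ^ (6 * k + 4 + 4 * r) := by
    apply Nat.eq_of_mul_eq_mul_right (Nat.mul_pos hq hq)
    rw [hP, hsub, e1]
    ring
  rw [hP', hC, sg_succ, ← hD]
  ring

theorem arB {q K C k r : ℕ} (hq : 0 < q)
    (hK : K * q ^ (2 * k + 1) = q ^ (2 * (2 * k + 1 + r)))
    (hC : C = q ^ (4 * k * r + 2 * k ^ 2 + k) * sg q k * sg q r) :
    K * C = q ^ (2 * k ^ 2 + 3 * k + 1 + 2 * r * (2 * k + 1)) * sg q k * sg q r := by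
  have e1 : q ^ (2 * (2 * k + 1 + r)) = q ^ (2 * k + 1 + 2 * r) * q ^ (2 * k + 1) := by
    rw [← pow_add]; congr 1; ring
  have hK' : K = q ^ (2 * k + 1 + 2 * r) := by
    apply Nat.eq_of_mul_eq_mul_right (pow_pos hq (2 * k + 1))
    rw [hK, e1]
  rw [hK', hC]
  ring

theorem arC {q L C k r : ℕ} (hq : 0 < q) (hL : L * q = q ^ (2 * (2 * k + 2 + r)))
    (hC : C = q ^ (2 * k ^ 2 + 3 * k + 1 + 2 * r * (2 * k + 1)) * sg q k * sg q r) :
    L * C = q ^ (2 * k ^ 2 + 7 * k + 4 + 4 * r * (k + 1)) * sg q k * sg q r := by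
  have hL' : L = q ^ (4 * k + 3 + 2 * r) := by
    apply Nat.eq_of_mul_eq_mul_right hq
    rw [hL]
    ring
  rw [hL', hC]
  ring

variable {l : Type*} [DecidableEq l] [Fintype l] {F : Type*} [Field F]

theorem altS_one (X : Submodule F (l ⊕ l → F)) : AltS X (1 : Matrix (l ⊕ l) (l ⊕ l) F) := by
  intro v _
  rw [one_mulVec, om_self]

theorem OaSet_inv {X : Submodule F (l ⊕ l → F)} {A : Matrix (l ⊕ l) (l ⊕ l) F}
    {g : symplecticGroup l F} (hg : g ∈ Cent X A) {x : l ⊕ l → F} (hx : x ∈ OaSet X A) :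
    (g : Matrix (l ⊕ l) (l ⊕ l) F) *ᵥ x ∈ OaSet X A := by
  refine ⟨cent_maps hg hx.1, ?_, fun v hv => ?_⟩
  · rw [cent_lam hg]
    exact hx.2.1
  · have hg' := (Cent X A).inv_mem hg
    have h3 : g.1 * (g⁻¹).1 = 1 := congrArg Subtype.val (mul_inv_cancel g)
    obtain ⟨u, hu⟩ : ∃ u, u = (g⁻¹).1 *ᵥ v := ⟨_, rfl⟩
    have huY : u ∈ perpS X := by rw [hu]; exact cent_maps hg' hv
    have hv' : v = g.1 *ᵥ u := by rw [hu, mulVec_mulVec, h3, one_mulVec]
    rw [cent_N hg, hv', cent_lam hg, om_smul]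
    exact hx.2.2 u huY

theorem lamSet_inv {X : Submodule F (l ⊕ l → F)} {A : Matrix (l ⊕ l) (l ⊕ l) F}
    {g : symplecticGroup l F} (hg : g ∈ Cent X A) {x : l ⊕ l → F}
    (hx : x ∈ perpS X ∧ om (A *ᵥ x) x = 1) :
    (g : Matrix (l ⊕ l) (l ⊕ l) F) *ᵥ x ∈ perpS X ∧
      om (A *ᵥ ((g : Matrix (l ⊕ l) (l ⊕ l) F) *ᵥ x)) ((g : Matrix (l ⊕ l) (l ⊕ l) F) *ᵥ x) = 1 :=
  ⟨cent_maps hg hx.1, (cent_lam hg x).trans hx.2⟩

/-- the main count, by induction on half the dimension of `X^⊥` -/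
theorem main_count [Finite F] (h2 : (2 : F) = 0) :
    ∀ (d : ℕ) (X : Submodule F (l ⊕ l → F)), Cut X →
    Nat.card (perpS X) = Nat.card F ^ (2 * d) → ∀ A : Matrix (l ⊕ l) (l ⊕ l) F, InvS X A →
    (AltS X A → ∃ k r, (A - 1).rank = 2 * k ∧ d = 2 * k + r ∧
      Nat.card (Cent X A) =
        Nat.card F ^ (4 * k * r + 2 * k ^ 2 + k) * sg (Nat.card F) k * sg (Nat.card F) r) ∧
    (¬ AltS X A → (∃ k r, (A - 1).rank = 2 * k + 1 ∧ d = 2 * k + 1 + r ∧
        Nat.card (Cent X A) = Nat.card F ^ (2 * k ^ 2 + 3 * k + 1 + 2 * r * (2 * k + 1)) *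
          sg (Nat.card F) k * sg (Nat.card F) r) ∨
      (∃ k r, (A - 1).rank = 2 * k + 2 ∧ d = 2 * k + 2 + r ∧
        Nat.card (Cent X A) = Nat.card F ^ (2 * k ^ 2 + 7 * k + 4 + 4 * r * (k + 1)) *
          sg (Nat.card F) k * sg (Nat.card F) r)) := by
  intro d
  induction d using Nat.strong_induction_on with
  | _ d ih =>
  intro X hC hcard A hA
  have hq1 : 1 < Nat.card F := Finite.one_lt_card
  have hq : 0 < Nat.card F := by omega
  by_cases hA1 : A = 1
  · subst hA1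
    refine ⟨fun _ => ?_, fun hna => absurd (altS_one X) hna⟩
    have hgoal : Nat.card (Cent X (1 : Matrix (l ⊕ l) (l ⊕ l) F)) = sg (Nat.card F) d := by
      rcases Nat.eq_zero_or_pos d with hd0 | hdpos
      · subst hd0
        rw [Nat.mul_zero, pow_zero] at hcard
        have hsub : Subsingleton ↥(perpS X) := (Nat.card_eq_one_iff_unique.mp hcard).1
        have hbot : Cent X (1 : Matrix (l ⊕ l) (l ⊕ l) F) = ⊥ := by
          rw [eq_bot_iff]
          intro g hg
          rw [Subgroup.mem_bot]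
          apply Subtype.ext
          apply mat_ext'
          intro v
          obtain ⟨a, ha, b, hb, rfl⟩ := hC.sum v
          have hb0 : b = 0 := by
            have h5 := Subsingleton.elim (⟨b, hb⟩ : ↥(perpS X)) ⟨0, Submodule.zero_mem _⟩
            exact congrArg Subtype.val h5
          rw [hb0, add_zero, (mem_Cent.mp hg).1 a ha]
          show a = (1 : Matrix (l ⊕ l) (l ⊕ l) F) *ᵥ a
          rw [one_mulVec]
        rw [hbot, Subgroup.card_bot, sg_zero]
      · have hnt : Nontrivial ↥(perpS X) := by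
          rw [← Finite.one_lt_card_iff_nontrivial, hcard]
          exact Nat.one_lt_pow (by omega) hq1
        obtain ⟨e, he0⟩ := exists_ne (0 : ↥(perpS X))
        have he0' : (e : l ⊕ l → F) ≠ 0 := fun h => he0 (Subtype.ext h)
        obtain ⟨u, hu, hu0⟩ := rel_exists_ne hC.nd e.2 he0'
        have hef : om (e : l ⊕ l → F) ((om (e : l ⊕ l → F) u)⁻¹ • u) = 1 := by
          rw [om_smul_right, inv_mul_cancel₀ hu0]
        have hfY := (perpS X).smul_mem (om (e : l ⊕ l → F) u)⁻¹ hu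
        obtain ⟨d', hd', hcard'⟩ := card_cut_pow hcard e.2 hfY hef
        have hC' := hC.cut e.2 hfY hef
        have hstep := step0 hC e.2 hfY hef
        obtain ⟨k, r, hk, hr, hcardC⟩ :=
          (ih d' (by omega) _ hC' hcard' 1 (invS_one _)).1 (altS_one _)
        rw [sub_self, Matrix.rank_zero] at hk
        have hk0 : k = 0 := by omega
        rw [hk0] at hr hcardC
        have hr' : r = d' := by omega
        rw [hr'] at hcardC
        have hsimp : Nat.card F ^ (4 * 0 * d' + 2 * 0 ^ 2 + 0) * sg (Nat.card F) 0 *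
            sg (Nat.card F) d' = sg (Nat.card F) d' := by
          rw [sg_zero]
          simp
        rw [hsimp] at hcardC
        have hP := card_hyp_pairs (l := l) hC.nd
        rw [hcard, hd'] at hP
        rw [hstep, hcardC, hd']
        exact ar0 hq hP
    refine ⟨0, d, by rw [sub_self, Matrix.rank_zero], by omega, ?_⟩
    rw [hgoal, sg_zero]
    simp
  · by_cases halt : AltS X A
    · refine ⟨fun _ => ?_, fun hna => absurd halt hna⟩
      obtain ⟨x, hxY, hNx⟩ : ∃ x ∈ perpS X, ¬ (A - 1) *ᵥ x = 0 := by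
        by_contra hcon
        push Not at hcon
        apply hA1
        apply mat_ext'
        intro v
        obtain ⟨a, ha, b, hb, rfl⟩ := hC.sum v
        have h1 := hcon b hb
        rw [sub_one_mulVec, sub_eq_zero] at h1
        rw [mulVec_add, hA.fix a ha, h1, one_mulVec]
      have hfib := card_pair_fiber h2 hC.nd hA hNx
      have hne : Nonempty {y : l ⊕ l → F //
          y ∈ perpS X ∧ om ((A - 1) *ᵥ x) y = 1 ∧ om x y = 0} := by
        by_contra hemp
        rw [not_nonempty_iff] at hemp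
        rw [Nat.card_of_isEmpty, zero_mul, hcard] at hfib
        exact (pow_pos hq _).ne hfib
      obtain ⟨⟨y, hyY, h1y, hxy⟩⟩ := hne
      have hp : ((x, y) : Pair l F) ∈ PiSet X A := ⟨hxY, hyY, h1y, hxy⟩
      obtain ⟨w₁, hw₁⟩ : ∃ w₁, w₁ = (A - 1) *ᵥ x := ⟨_, rfl⟩
      obtain ⟨w₂, hw₂⟩ : ∃ w₂, w₂ = (A - 1) *ᵥ y := ⟨_, rfl⟩
      have h1y' : om w₁ y = 1 := by rw [hw₁]; exact h1y
      obtain ⟨hw₁Y, hw₂Y, hw₂x, h21, hw₂y, hxw₁, hInv, hAeq, hrk, halt'⟩ :=
        pA_spec h2 hA halt hxY hyY hw₁ hw₂ h1y' hxy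
      have hC₁ := hC.cut hw₁Y hyY h1y'
      have hw₂m : w₂ ∈ perpS (X ⊔ Submodule.span F {w₁, y}) := by
        rw [mem_perpS_sup_pair]; exact ⟨hw₂Y, h21, hw₂y⟩
      have hxm : x ∈ perpS (X ⊔ Submodule.span F {w₁, y}) := by
        rw [mem_perpS_sup_pair]; exact ⟨hxY, hxw₁, hxy⟩
      have hC₂ := hC₁.cut hw₂m hxm hw₂x
      obtain ⟨d₁, hd₁, hcard₁⟩ := card_cut_pow hcard hw₁Y hyY h1y'
      obtain ⟨d₂, hd₂, hcard₂⟩ := card_cut_pow hcard₁ hw₂m hxm hw₂x
      have halt'' : AltS ((X ⊔ Submodule.span F {w₁, y}) ⊔ Submodule.span F {w₂, x})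
          (Rm w₁ w₂ * A) :=
        fun v hv => halt' v (perpS_anti (le_trans le_sup_left le_sup_left) hv)
      obtain ⟨k, r, hk, hr, hcardC⟩ := (ih d₂ (by omega) _ hC₂ hcard₂ _ hInv).1 halt''
      have hstep := stepA h2 hC hA halt hp hw₁ hw₂
      have hK := card_kerN hC hA
      have hP := card_PiSet h2 hC.nd hA
      refine ⟨k + 1, r, by omega, by omega, ?_⟩
      rw [hstep]
      have hs : (A - 1).rank = 2 * k + 2 := by omega
      have hdd : d = 2 * k + 2 + r := by omega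
      rw [hs, hcard, hdd] at hK
      rw [hcard, hdd] at hP
      exact arA hq hK hP hcardC
    · refine ⟨fun ha => absurd ha halt, fun _ => ?_⟩
      have hna : ∃ v ∈ perpS X, om (A *ᵥ v) v ≠ 0 := by
        unfold AltS at halt
        push Not at halt
        exact halt
      rcases Nat.even_or_odd (A - 1).rank with hev | hodd
      · right
        obtain ⟨x₀, hx₀Y, hx₀1⟩ := exists_lam_one h2 hA hna
        obtain ⟨w, hw⟩ : ∃ w, w = (A - 1) *ᵥ x₀ := ⟨_, rfl⟩
        obtain ⟨hwY, hwx, -, hInv, -, hrk, -, -, -⟩ := pB_spec h2 hA hx₀Y hx₀1 hw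
        have hnever : ∀ x ∈ perpS X, om (A *ᵥ x) x = 1 →
            ¬ AltS (X ⊔ Submodule.span F {(A - 1) *ᵥ x, x}) (T ((A - 1) *ᵥ x) 1 * A) := by
          intro x hxY hx1 haltx
          obtain ⟨hwY', hwx', -, hInv', -, hrk', -, -, -⟩ := pB_spec h2 hA hxY hx1 rfl
          have hC' := hC.cut hwY' hxY hwx'
          have hev' := even_rank_of_altS h2 hC'.nd _ _ hInv' haltx rfl
          obtain ⟨a, ha⟩ := hev
          obtain ⟨b, hb⟩ := hev'
          omega
        have hC' := hC.cut hwY hx₀Y hwx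
        obtain ⟨d', hd', hcard'⟩ := card_cut_pow hcard hwY hx₀Y hwx
        have hnalt' : ¬ AltS (X ⊔ Submodule.span F {w, x₀}) (T w 1 * A) := by
          have h5 := hnever x₀ hx₀Y hx₀1
          rw [← hw] at h5
          exact h5
        have hstep := stepB h2 hC hA hx₀Y hx₀1 hw
          {x : Vec l F | (x : l ⊕ l → F) ∈ perpS X ∧
            om (A *ᵥ (x : l ⊕ l → F)) (x : l ⊕ l → F) = 1}
          ⟨hx₀Y, hx₀1⟩
          (fun g hg x hx => lamSet_inv hg hx)
          (fun x hx => ⟨hx.1, hx.2, iff_of_false hnalt' (hnever x hx.1 hx.2)⟩)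
        rcases (ih d' (by omega) _ hC' hcard' _ hInv).2 hnalt' with
          ⟨k, r, hk, hr, hcardC⟩ | ⟨k, r, hk, hr, hcardC⟩
        · refine ⟨k, r, by omega, by omega, ?_⟩
          rw [hstep]
          have hL := card_lam_one h2 hA hna
          have hdd : d = 2 * k + 2 + r := by omega
          rw [hcard, hdd] at hL
          exact arC hq hL hcardC
        · exfalso
          obtain ⟨a, ha⟩ := hev
          omega
      · left
        obtain ⟨x₀, hx₀⟩ := exists_Oa h2 hC hA hodd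
        have hx₀' := hx₀
        obtain ⟨hx₀Y, hx₀1, hx₀all⟩ := hx₀'
        obtain ⟨w, hw⟩ : ∃ w, w = (A - 1) *ᵥ x₀ := ⟨_, rfl⟩
        obtain ⟨hwY, hwx, -, hInv, -, hrk, -, -, -⟩ := pB_spec h2 hA hx₀Y hx₀1 hw
        have hC' := hC.cut hwY hx₀Y hwx
        obtain ⟨d', hd', hcard'⟩ := card_cut_pow hcard hwY hx₀Y hwx
        have haltx : ∀ x ∈ OaSet X A,
            AltS (X ⊔ Submodule.span F {(A - 1) *ᵥ x, x}) (T ((A - 1) *ᵥ x) 1 * A) :=
          fun x hx => (altS_peel_iff h2 hA hx.1 hx.2.1 rfl).mpr hx.2.2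
        have halt' : AltS (X ⊔ Submodule.span F {w, x₀}) (T w 1 * A) := by
          have h5 := haltx x₀ hx₀
          rw [← hw] at h5
          exact h5
        have hstep := stepB h2 hC hA hx₀Y hx₀1 hw (OaSet X A : Set (Vec l F)) hx₀
          (fun g hg x hx => OaSet_inv hg hx)
          (fun x hx => ⟨hx.1, hx.2.1, iff_of_true halt' (haltx x hx)⟩)
        obtain ⟨k, r, hk, hr, hcardC⟩ := (ih d' (by omega) _ hC' hcard' _ hInv).1 halt'
        refine ⟨k, r, by omega, by omega, ?_⟩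
        rw [hstep]
        have hO := card_OaSet h2 hC.nd hA hx₀
        change Nat.card (OaSet X A) * _ = _
        rw [hO]
        have hK := card_kerN hC hA
        have hs : (A - 1).rank = 2 * k + 1 := by omega
        have hdd : d = 2 * k + 1 + r := by omega
        rw [hs, hcard, hdd] at hK
        exact arB hq hK hcardC

end Cfsg.Agent.Helper2.Sp
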