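import Mathlib
import Cfsg.Agent.Helper2.SpCentD

/-! Centraliser orders of involutions of `Sp_{2m}(q)`, `q` even: the final formulas. -/

set_option autoImplicit false

namespace Cfsg.Agent.Helper2.Sp

open Matrix Module

variable {l : Type*} [DecidableEq l] [Fintype l] {F : Type*} [Field F]

theorem card_perp_bot [Finite F] :
    Nat.card (perpS (⊥ : Submodule F (l ⊕ l → F))) = Nat.card F ^ (2 * Fintype.card l) := by
  rw [perpS_bot, Nat.card_congr (Submodule.topEquiv (R := F) (M := l ⊕ l → F)).toEquiv,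
    Nat.card_fun, Nat.card_eq_fintype_card (α := l ⊕ l), Fintype.card_sum, two_mul]

theorem centralizer_eq (t : symplecticGroup l F) :
    Subgroup.centralizer ({t} : Set (symplecticGroup l F)) =
      Cent ⊥ (t : Matrix (l ⊕ l) (l ⊕ l) F) := by
  ext g
  rw [Subgroup.mem_centralizer_iff, mem_Cent]
  constructor
  · intro h
    refine ⟨fun z hz => by rw [(Submodule.mem_bot F).mp hz, mulVec_zero], ?_⟩
    have h1 := h t rfl
    exact (congrArg Subtype.val h1).symm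
  · rintro ⟨-, h⟩ s hs
    rw [Set.mem_singleton_iff.mp hs]
    apply Subtype.ext
    exact h.symm

theorem altS_bot_iff (c : symplecticGroup l F) :
    AltS (⊥ : Submodule F (l ⊕ l → F)) (c : Matrix (l ⊕ l) (l ⊕ l) F) ↔
      ∀ v, om v ((c : Matrix (l ⊕ l) (l ⊕ l) F) *ᵥ v) = 0 := by
  constructor
  · intro h v
    rw [om_swap, h v (by rw [perpS_bot]; exact Submodule.mem_top), neg_zero]
  · intro h v _
    rw [om_swap, h v, neg_zero]

theorem cent_main [Finite F] (h2 : (2 : F) = 0) (t : symplecticGroup l F) (ht : t * t = 1) :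
    (AltS (⊥ : Submodule F (l ⊕ l → F)) (t : Matrix (l ⊕ l) (l ⊕ l) F) →
      ∃ k r, ((t : Matrix (l ⊕ l) (l ⊕ l) F) - 1).rank = 2 * k ∧ Fintype.card l = 2 * k + r ∧
      Nat.card (Subgroup.centralizer ({t} : Set (symplecticGroup l F))) =
        Nat.card F ^ (4 * k * r + 2 * k ^ 2 + k) * sg (Nat.card F) k * sg (Nat.card F) r) ∧
    (¬ AltS (⊥ : Submodule F (l ⊕ l → F)) (t : Matrix (l ⊕ l) (l ⊕ l) F) →
      (∃ k r, ((t : Matrix (l ⊕ l) (l ⊕ l) F) - 1).rank = 2 * k + 1 ∧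
        Fintype.card l = 2 * k + 1 + r ∧
        Nat.card (Subgroup.centralizer ({t} : Set (symplecticGroup l F))) =
          Nat.card F ^ (2 * k ^ 2 + 3 * k + 1 + 2 * r * (2 * k + 1)) *
          sg (Nat.card F) k * sg (Nat.card F) r) ∨
      (∃ k r, ((t : Matrix (l ⊕ l) (l ⊕ l) F) - 1).rank = 2 * k + 2 ∧
        Fintype.card l = 2 * k + 2 + r ∧
        Nat.card (Subgroup.centralizer ({t} : Set (symplecticGroup l F))) =
          Nat.card F ^ (2 * k ^ 2 + 7 * k + 4 + 4 * r * (k + 1)) *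
          sg (Nat.card F) k * sg (Nat.card F) r)) := by
  rw [centralizer_eq]
  exact main_count h2 (Fintype.card l) ⊥ cut_bot card_perp_bot _ (invS_of_sq ht)

/-- odd rank -/
theorem cent_odd [Finite F] (h2 : (2 : F) = 0) {m s : ℕ} (t : symplecticGroup (Fin m) F)
    (ht : t * t = 1)
    (hs : ((t : Matrix (Fin m ⊕ Fin m) (Fin m ⊕ Fin m) F) - 1).rank = s) (hodd : Odd s) :
    Nat.card (Subgroup.centralizer ({t} : Set (symplecticGroup (Fin m) F))) =
      Nat.card F ^ (2 * m * s - (3 * s ^ 2 - s) / 2) *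
        (Nat.card F ^ (((s - 1) / 2) ^ 2) *
          ∏ i : Fin ((s - 1) / 2), (Nat.card F ^ (2 * ((i : ℕ) + 1)) - 1)) *
        (Nat.card F ^ ((m - s) ^ 2) *
          ∏ i : Fin (m - s), (Nat.card F ^ (2 * ((i : ℕ) + 1)) - 1)) := by
  have main := cent_main h2 t ht
  rw [Fintype.card_fin] at main
  obtain ⟨a, ha⟩ := hodd
  by_cases halt : AltS (⊥ : Submodule F (Fin m ⊕ Fin m → F))
      (t : Matrix (Fin m ⊕ Fin m) (Fin m ⊕ Fin m) F)
  · obtain ⟨k, r, hk, -, -⟩ := main.1 halt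
    exfalso
    omega
  · rcases main.2 halt with ⟨k, r, hk, hr, hc⟩ | ⟨k, r, hk, -, -⟩
    · have e1 : (s - 1) / 2 = k := by omega
      have e2 : m - s = r := by omega
      have e3 : 2 * m * s - (3 * s ^ 2 - s) / 2 =
          2 * k ^ 2 + 3 * k + 1 + 2 * r * (2 * k + 1) := by
        have hs' : s = 2 * k + 1 := by omega
        rw [hs', hr]
        have a1 : 3 * (2 * k + 1) ^ 2 - (2 * k + 1) = 2 * (6 * k ^ 2 + 5 * k + 1) :=
          Nat.sub_eq_of_eq_add (by ring)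
        rw [a1, Nat.mul_div_cancel_left _ (by norm_num : 0 < 2)]
        exact Nat.sub_eq_of_eq_add (by ring)
      rw [e1, e2, e3, hc, sg_eq, sg_eq]
    · exfalso
      omega

/-- even rank, alternating -/
theorem cent_even_alt [Finite F] (h2 : (2 : F) = 0) {m s : ℕ} (t : symplecticGroup (Fin m) F)
    (ht : t * t = 1)
    (hs : ((t : Matrix (Fin m ⊕ Fin m) (Fin m ⊕ Fin m) F) - 1).rank = s)
    (halt : ∀ v, om v ((t : Matrix (Fin m ⊕ Fin m) (Fin m ⊕ Fin m) F) *ᵥ v) = 0) :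
    Nat.card (Subgroup.centralizer ({t} : Set (symplecticGroup (Fin m) F))) =
      Nat.card F ^ (2 * m * s - (3 * s ^ 2 - s) / 2) *
        (Nat.card F ^ ((s / 2) ^ 2) *
          ∏ i : Fin (s / 2), (Nat.card F ^ (2 * ((i : ℕ) + 1)) - 1)) *
        (Nat.card F ^ ((m - s) ^ 2) *
          ∏ i : Fin (m - s), (Nat.card F ^ (2 * ((i : ℕ) + 1)) - 1)) := by
  have main := cent_main h2 t ht
  rw [Fintype.card_fin] at main
  obtain ⟨k, r, hk, hr, hc⟩ := main.1 ((altS_bot_iff t).mpr halt)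
  have e1 : s / 2 = k := by omega
  have e2 : m - s = r := by omega
  have e3 : 2 * m * s - (3 * s ^ 2 - s) / 2 = 4 * k * r + 2 * k ^ 2 + k := by
    have hs' : s = 2 * k := by omega
    rw [hs', hr]
    have hle : k ≤ 6 * k ^ 2 := by nlinarith
    obtain ⟨W, hW⟩ : ∃ W, W = 6 * k ^ 2 - k := ⟨_, rfl⟩
    have hW' : W + k = 6 * k ^ 2 := by rw [hW]; exact Nat.sub_add_cancel hle
    have a1 : 3 * (2 * k) ^ 2 - 2 * k = 2 * W := by
      apply Nat.sub_eq_of_eq_add
      linarith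
    rw [a1, Nat.mul_div_cancel_left _ (by norm_num : 0 < 2)]
    apply Nat.sub_eq_of_eq_add
    linarith
  rw [e1, e2, e3, hc, sg_eq, sg_eq]

/-- even rank, non-alternating -/
theorem cent_even_nonalt [Finite F] (h2 : (2 : F) = 0) {m s : ℕ}
    (t : symplecticGroup (Fin m) F) (ht : t * t = 1)
    (hs : ((t : Matrix (Fin m ⊕ Fin m) (Fin m ⊕ Fin m) F) - 1).rank = s) (heven : Even s)
    (hna : ∃ v, om v ((t : Matrix (Fin m ⊕ Fin m) (Fin m ⊕ Fin m) F) *ᵥ v) ≠ 0) :
    Nat.card (Subgroup.centralizer ({t} : Set (symplecticGroup (Fin m) F))) =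
      Nat.card F ^ (2 * m * s - (3 * s ^ 2 - 3 * s) / 2 - 1) *
        (Nat.card F ^ (((s - 2) / 2) ^ 2) *
          ∏ i : Fin ((s - 2) / 2), (Nat.card F ^ (2 * ((i : ℕ) + 1)) - 1)) *
        (Nat.card F ^ ((m - s) ^ 2) *
          ∏ i : Fin (m - s), (Nat.card F ^ (2 * ((i : ℕ) + 1)) - 1)) := by
  have main := cent_main h2 t ht
  rw [Fintype.card_fin] at main
  obtain ⟨a, ha⟩ := heven
  have hnalt : ¬ AltS (⊥ : Submodule F (Fin m ⊕ Fin m → F))
      (t : Matrix (Fin m ⊕ Fin m) (Fin m ⊕ Fin m) F) := by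
    intro h
    obtain ⟨v, hv⟩ := hna
    exact hv ((altS_bot_iff t).mp h v)
  rcases main.2 hnalt with ⟨k, r, hk, -, -⟩ | ⟨k, r, hk, hr, hc⟩
  · exfalso
    omega
  · have e1 : (s - 2) / 2 = k := by omega
    have e2 : m - s = r := by omega
    have e3 : 2 * m * s - (3 * s ^ 2 - 3 * s) / 2 - 1 =
        2 * k ^ 2 + 7 * k + 4 + 4 * r * (k + 1) := by
      have hs' : s = 2 * k + 2 := by omega
      rw [hs', hr]
      have a1 : 3 * (2 * k + 2) ^ 2 - 3 * (2 * k + 2) = 2 * (6 * k ^ 2 + 9 * k + 3) :=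
        Nat.sub_eq_of_eq_add (by ring)
      rw [a1, Nat.mul_div_cancel_left _ (by norm_num : 0 < 2)]
      exact Nat.sub_eq_of_eq_add (Nat.sub_eq_of_eq_add (by ring))
    rw [e1, e2, e3, hc, sg_eq, sg_eq]

end Cfsg.Agent.Helper2.Sp
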