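import Mathlib
import Cfsg.Agent.Helper2.OInvH
import Cfsg.Agent.Helper2.SpCentE
import Cfsg.Agent.Helper2.QuadCount

set_option autoImplicit false
set_option linter.unusedSectionVars false

/-! Characteristic two: the Artin–Schreier subgroup of a finite field and counting the vectors of
a quadratic space whose value lies in a given set. -/

namespace Cfsg.Agent.Helper2.OCent

open Matrix Module Cfsg.Agent.Helper28.QWitt Cfsg.Agent.Helper2.Sp Cfsg.Agent.Helper28.Spin

section wp

variable {F : Type*} [Field F]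

/-- the Artin–Schreier subgroup `{ρ² + ρ}` -/
def Wp (c : F) : Prop := ∃ ρ : F, ρ * ρ + ρ = c

theorem wp_zero : Wp (0 : F) := ⟨0, by ring⟩

theorem wp_sq (μ : F) : Wp (μ * μ + μ) := ⟨μ, rfl⟩

theorem wp_add (h2 : (2 : F) = 0) {a b : F} (ha : Wp a) (hb : Wp b) : Wp (a + b) := by
  obtain ⟨ρ, rfl⟩ := ha
  obtain ⟨σ, rfl⟩ := hb
  exact ⟨ρ + σ, by linear_combination (ρ * σ) * h2⟩

/-- the Artin–Schreier map -/
def wpHom (h2 : (2 : F) = 0) : F →+ F :=
  AddMonoidHom.mk' (fun ρ => ρ * ρ + ρ) (fun a b => by linear_combination (a * b) * h2)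

theorem mem_range_wpHom (h2 : (2 : F) = 0) (c : F) : c ∈ (wpHom h2).range ↔ Wp c := by
  rw [AddMonoidHom.mem_range]
  rfl

theorem card_ker_wpHom (h2 : (2 : F) = 0) : Nat.card (wpHom h2).ker = 2 := by
  have hneg : ∀ a : F, -a = a := fun a =>
    neg_eq_of_add_eq_zero_left (by rw [← two_mul, h2, zero_mul])
  rw [Nat.card_eq_two_iff]
  refine ⟨⟨0, (wpHom h2).ker.zero_mem⟩, ⟨1, ?_⟩, ?_, ?_⟩
  · rw [AddMonoidHom.mem_ker]
    show (1 : F) * 1 + 1 = 0
    rw [mul_one, one_add_one_eq_two, h2]
  · intro h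
    have := congrArg Subtype.val h
    exact zero_ne_one this
  · apply Set.eq_univ_of_forall
    rintro ⟨ρ, hρ⟩
    rw [AddMonoidHom.mem_ker] at hρ
    have h1 : ρ * (ρ + 1) = 0 := by
      have : ρ * ρ + ρ = 0 := hρ
      linear_combination this
    rw [Set.mem_insert_iff, Set.mem_singleton_iff]
    rcases mul_eq_zero.mp h1 with h0 | h0
    · left
      exact Subtype.ext h0
    · right
      apply Subtype.ext
      show ρ = 1
      have := eq_neg_of_add_eq_zero_left h0
      rw [this, hneg]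

theorem index_wp [Finite F] (h2 : (2 : F) = 0) : (wpHom h2).range.index = 2 := by
  have h1 := AddSubgroup.card_mul_index (wpHom h2).ker
  rw [AddSubgroup.index_ker, card_ker_wpHom] at h1
  have h3 := AddSubgroup.card_mul_index (wpHom h2).range
  have hpos : 0 < Nat.card (wpHom h2).range := Nat.card_pos
  have : Nat.card (wpHom h2).range * (wpHom h2).range.index =
      Nat.card (wpHom h2).range * 2 := by
    rw [h3, ← h1, mul_comm]
  exact Nat.eq_of_mul_eq_mul_left hpos this

theorem card_wp [Finite F] (h2 : (2 : F) = 0) : Nat.card {c : F // Wp c} * 2 = Nat.card F := by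
  have h1 := AddSubgroup.card_mul_index (wpHom h2).range
  rw [index_wp h2] at h1
  rw [← h1]
  congr 1

theorem wp_add_iff [Finite F] (h2 : (2 : F) = 0) (a b : F) : Wp (a + b) ↔ (Wp a ↔ Wp b) := by
  rw [← mem_range_wpHom h2, ← mem_range_wpHom h2, ← mem_range_wpHom h2]
  exact AddSubgroup.add_mem_iff_of_index_two (index_wp h2)

theorem exists_not_wp [Finite F] (h2 : (2 : F) = 0) : ∃ c : F, ¬ Wp c := by
  by_contra hcon
  push Not at hcon
  have h1 := card_wp (F := F) h2
  have h3 : Nat.card {c : F // Wp c} = Nat.card F :=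
    Nat.card_congr (Equiv.subtypeUnivEquiv hcon)
  have hpos : 0 < Nat.card F := Nat.card_pos
  omega

theorem exists_root (h2 : (2 : F) = 0) {a : F} (ha : Wp a) : ∃ c : F, c * c * a + c = 1 := by
  obtain ⟨ρ, rfl⟩ := ha
  by_cases hρ : ρ = 0
  · exact ⟨1, by rw [hρ]; ring⟩
  · refine ⟨ρ⁻¹, ?_⟩
    have h1 : ρ⁻¹ * ρ = 1 := inv_mul_cancel₀ hρ
    linear_combination (ρ⁻¹ * ρ + 1 + ρ⁻¹) * h1 + ρ⁻¹ * h2

end wp

section fibre

variable {K V W : Type*} [Field K] [AddCommGroup V] [Module K V] [AddGroup W]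

/-- counting the elements of a subspace whose image under a surjective additive map lies in a
translate of a given set -/
theorem card_fiber_pred [Finite V] [Finite W] (Y : Submodule K V) (φ : V →+ W)
    (hsurj : ∀ c : W, ∃ y ∈ Y, φ y = c) (S : W → Prop) (c : W) :
    Nat.card {y : V // y ∈ Y ∧ S (c + φ y)} * Nat.card W =
      Nat.card Y * Nat.card {d : W // S d} := by
  classical
  have e : {y : V // y ∈ Y ∧ S (c + φ y)} ≃
      Σ d : {d : W // S d}, {y : V // y ∈ Y ∧ c + φ y = d.1} :=
    ⟨fun y => ⟨⟨c + φ y.1, y.2.2⟩, y.1, y.2.1, rfl⟩,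
      fun p => ⟨p.2.1, p.2.2.1, by rw [p.2.2.2]; exact p.1.2⟩, fun y => rfl, fun p => by
        obtain ⟨⟨d, hd⟩, y, hy, hyd⟩ := p
        dsimp only at hyd
        subst hyd
        rfl⟩
  have hfib : ∀ d : {d : W // S d}, Nat.card {y : V // y ∈ Y ∧ c + φ y = d.1} * 1 =
      Nat.card {y : V // y ∈ Y ∧ φ y = 0} := by
    intro d
    obtain ⟨y₀, hy₀, hc⟩ := hsurj (-c + d.1)
    rw [mul_one, ← card_fiber_eq Y φ hy₀ hc]
    apply Nat.card_congr
    apply Equiv.subtypeEquivRight
    intro y
    constructor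
    · rintro ⟨h1, h3⟩
      exact ⟨h1, by rw [← h3, neg_add_cancel_left]⟩
    · rintro ⟨h1, h3⟩
      exact ⟨h1, by rw [h3, add_neg_cancel_left]⟩
  have h1 := card_sigma_mul
    (β := fun d : {d : W // S d} => {y : V // y ∈ Y ∧ c + φ y = d.1}) 1
    (Nat.card {y : V // y ∈ Y ∧ φ y = 0}) hfib
  rw [mul_one] at h1
  rw [Nat.card_congr e, h1, mul_assoc, card_ker_mul Y φ hsurj, mul_comm]

end fibre

section counting

variable {F V : Type*} [Field F] [Fintype F] [AddCommGroup V] [Module F V] [Fintype V]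

/-- double counting over the cosets of a totally singular subspace `W` with `K = W^⊥` -/
theorem card_pred_double (Q : QuadraticForm F V) (W K : Submodule F V)
    (hW0 : ∀ w ∈ W, Q w = 0)
    (hK : ∀ v, v ∈ K ↔ ∀ w ∈ W, QuadraticMap.polar Q v w = 0) (S : F → Prop) :
    Nat.card {v : V // S (Q v)} * Nat.card W * Fintype.card F =
      Nat.card {v : V // v ∈ K ∧ S (Q v)} * (Nat.card W * Fintype.card F) +
        (Nat.card V - Nat.card K) * (Nat.card W * Nat.card {d : F // S d}) := by
  classical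
  have hQvw : ∀ (v : V) (w : W), Q (v + w.1) = Q v + QuadraticMap.polar Q v w.1 := by
    intro v w
    have := hW0 w.1 w.2
    unfold QuadraticMap.polar
    rw [this]; ring
  have c1 : Nat.card {p : V × W // S (Q (p.1 + p.2.1))} =
      Nat.card {v : V // S (Q v)} * Nat.card W := by
    rw [← Nat.card_prod]
    apply Nat.card_congr
    refine ⟨fun p => (⟨p.1.1 + p.1.2.1, p.2⟩, p.1.2),
      fun s => ⟨(s.1.1 - s.2.1, s.2), by simp [s.1.2]⟩, ?_, ?_⟩
    · rintro ⟨⟨v, w⟩, h⟩; simp
    · rintro ⟨⟨s, hs⟩, w⟩; simp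
  have c2 : Nat.card {p : V × W // S (Q (p.1 + p.2.1))} =
      ∑ v : V, Nat.card {w : W // S (Q (v + w.1))} := by
    rw [← Nat.card_sigma]
    exact Nat.card_congr
      (Equiv.subtypeProdEquivSigmaSubtype (fun (v : V) (w : W) => S (Q (v + w.1))))
  have f1 : ∀ v ∈ K, Nat.card {w : W // S (Q (v + w.1))} * Fintype.card F =
      (if S (Q v) then Nat.card W * Fintype.card F else 0) := by
    intro v hv
    have hv' : ∀ w : W, Q (v + w.1) = Q v := by
      intro w
      rw [hQvw, (hK v).1 hv w.1 w.2, add_zero]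
    split_ifs with hS
    · congr 1
      exact Nat.card_congr (Equiv.subtypeUnivEquiv (fun w => by rw [hv' w]; exact hS))
    · have : IsEmpty {w : W // S (Q (v + w.1))} :=
        ⟨fun w => hS (by have := w.2; rwa [hv' w.1] at this)⟩
      rw [Nat.card_of_isEmpty, zero_mul]
  have f2 : ∀ v ∉ K, Nat.card {w : W // S (Q (v + w.1))} * Fintype.card F =
      Nat.card W * Nat.card {d : F // S d} := by
    intro v hv
    obtain ⟨w₀, hw₀, hvw₀⟩ : ∃ w₀ ∈ W, QuadraticMap.polar Q v w₀ ≠ 0 := by
      by_contra h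
      push Not at h
      exact hv ((hK v).2 h)
    let φ : V →+ F := (QuadraticMap.polarBilin Q v).toAddMonoidHom
    have hφ : ∀ y, φ y = QuadraticMap.polar Q v y := fun y => rfl
    have hsurj : ∀ c : F, ∃ y ∈ W, φ y = c := by
      intro c
      refine ⟨(c / QuadraticMap.polar Q v w₀) • w₀, W.smul_mem _ hw₀, ?_⟩
      rw [hφ, QuadraticMap.polar_smul_right, smul_eq_mul, div_mul_cancel₀ _ hvw₀]
    have e : {w : W // S (Q (v + w.1))} ≃ {y : V // y ∈ W ∧ S (Q v + φ y)} := by
      refine ⟨fun w => ⟨w.1.1, w.1.2, ?_⟩, fun y => ⟨⟨y.1, y.2.1⟩, ?_⟩, ?_, ?_⟩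
      · have := w.2
        rw [hQvw] at this
        exact this
      · have := y.2.2
        rw [hQvw]
        exact this
      · intro w; rfl
      · intro y; rfl
    rw [Nat.card_congr e, ← Nat.card_eq_fintype_card]
    exact card_fiber_pred W φ hsurj S (Q v)
  have hsum : (∑ v : V, Nat.card {w : W // S (Q (v + w.1))}) * Fintype.card F =
      ∑ v : V, ((if v ∈ K ∧ S (Q v) then Nat.card W * Fintype.card F else 0) +
        (if ¬ v ∈ K then Nat.card W * Nat.card {d : F // S d} else 0)) := by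
    rw [Finset.sum_mul]
    apply Finset.sum_congr rfl
    intro v _
    by_cases h : v ∈ K
    · rw [f1 v h]
      by_cases h' : S (Q v)
      · rw [if_pos h', if_pos ⟨h, h'⟩, if_neg (not_not.mpr h), add_zero]
      · rw [if_neg h', if_neg (fun hh => h' hh.2), if_neg (not_not.mpr h)]
    · rw [f2 v h, if_neg (fun hh => h hh.1), if_pos h, zero_add]
  have hcK : (Finset.univ.filter (fun v : V => v ∈ K ∧ S (Q v))).card =
      Nat.card {v : V // v ∈ K ∧ S (Q v)} := by
    rw [Nat.card_eq_fintype_card]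
    exact (Fintype.card_of_subtype _ (by intro x; simp)).symm
  have hcK' : (Finset.univ.filter (fun v : V => ¬ v ∈ K)).card = Nat.card V - Nat.card K := by
    have hc : (Finset.univ.filter (fun v : V => v ∈ K)).card = Nat.card K := by
      rw [Nat.card_eq_fintype_card]
      exact (Fintype.card_of_subtype _ (by intro x; simp)).symm
    have := Finset.card_filter_add_card_filter_not (s := (Finset.univ : Finset V))
      (fun v : V => v ∈ K)
    rw [hc, Finset.card_univ, ← Nat.card_eq_fintype_card] at this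
    omega
  have hfin : Nat.card {v : V // S (Q v)} * Nat.card W * Fintype.card F =
      ∑ v : V, ((if v ∈ K ∧ S (Q v) then Nat.card W * Fintype.card F else 0) +
        (if ¬ v ∈ K then Nat.card W * Nat.card {d : F // S d} else 0)) := by
    rw [← c1, c2, hsum]
  rw [hfin, Finset.sum_add_distrib, ← Finset.sum_filter, ← Finset.sum_filter, Finset.sum_const,
    Finset.sum_const, smul_eq_mul, smul_eq_mul, hcK, hcK']

end counting

section values

variable {F : Type*} [Field F] [Fintype F]

theorem Sk_zero_half (f : F → ℕ) (h0 : f 0 = 1) (hs : 2 * ∑ y, f y = Fintype.card F) (j : ℕ) :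
    2 * Quad.Sk j f 0 = Fintype.card F ^ (2 * j) + Fintype.card F ^ j := by
  induction j with
  | zero => rw [Quad.Sk_zero, h0]; simp
  | succ j ih =>
    have e := Quad.Sk_succ_zero j f
    zify at e ih hs ⊢
    linear_combination 2 * e + (Fintype.card F : ℤ) * ih +
      ((Fintype.card F : ℤ) * (Fintype.card F : ℤ) ^ (2 * j) - (Fintype.card F : ℤ) ^ (2 * j)) * hs

/-- splitting a vector into its hyperbolic pairs -/
def pairEquiv (m : ℕ) (F : Type*) : (Fin m ⊕ Fin m → F) ≃ (Fin m → F × F) where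
  toFun v j := (v (Sum.inl j), v (Sum.inr j))
  invFun p := Sum.elim (fun j => (p j).1) (fun j => (p j).2)
  left_inv v := by funext i; cases i <;> rfl
  right_inv p := by funext j; rfl

theorem card_pred_eq_Sk (m : ℕ) (S : F → Prop) [DecidablePred S] (hS : ∀ c, S (-c) ↔ S c) :
    Nat.card {v : Fin m ⊕ Fin m → F // S (QfPlus m F v)} =
      Quad.Sk m (fun c => if S c then 1 else 0) 0 := by
  classical
  rw [Nat.card_eq_fintype_card, Fintype.card_subtype, Finset.card_filter]
  unfold Quad.Sk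
  apply Fintype.sum_equiv (pairEquiv m F)
  intro v
  have h1 : (0 : F) - ∑ j, (pairEquiv m F v j).1 * (pairEquiv m F v j).2 = - QfPlus m F v := by
    rw [zero_sub]; rfl
  rw [h1]
  simp only [hS]

theorem card_wp_values (h2 : (2 : F) = 0) (m : ℕ) :
    2 * Nat.card {v : Fin m ⊕ Fin m → F // Wp (QfPlus m F v)} =
      Fintype.card F ^ (2 * m) + Fintype.card F ^ m := by
  classical
  have hneg : ∀ a : F, -a = a := fun a =>
    neg_eq_of_add_eq_zero_left (by rw [← two_mul, h2, zero_mul])
  rw [card_pred_eq_Sk m Wp (fun c => by rw [hneg])]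
  apply Sk_zero_half
  · rw [if_pos wp_zero]
  · have h1 : ∑ y : F, (if Wp y then 1 else 0) = Nat.card {c : F // Wp c} := by
      rw [Nat.card_eq_fintype_card, Fintype.card_subtype, Finset.card_filter]
    rw [h1, mul_comm, card_wp h2, Nat.card_eq_fintype_card]

end values

end Cfsg.Agent.Helper2.OCent
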