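import Mathlib
import Cfsg.Agent.Helper2.OCentA

set_option autoImplicit false
set_option linter.unusedSectionVars false

/-! Characteristic two: the centraliser of an involution of `O⁺_{2m}(q)` as the stabiliser of the
quadratic form in the centraliser in `Sp_{2m}(q)`; the orbit of the quadratic form. -/

namespace Cfsg.Agent.Helper2.OCent

open Matrix Module Cfsg.Agent.Helper28.QWitt Cfsg.Agent.Helper28.IsoTransport Cfsg.Agent.Helper2.Sp
  Cfsg.Agent.Helper28.Spin Cfsg.Agent.Helper2.OInv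

section forms

variable {F : Type*} [Field F] {m : ℕ}

theorem P_plus_eq_om (h2 : (2 : F) = 0) (u v : Fin m ⊕ Fin m → F) :
    P (QfPlus m F) u v = om u v := by
  show QuadraticMap.polar (⇑(QfPlus m F)) u v = om u v
  unfold QuadraticMap.polar
  rw [QfPlus_coe, om_eq_sum]
  unfold Cfsg.quadFormPlus
  rw [← Finset.sum_sub_distrib, ← Finset.sum_sub_distrib]
  apply Finset.sum_congr rfl
  intro i _
  simp only [Pi.add_apply]
  linear_combination (u (Sum.inl i) * v (Sum.inr i)) * h2

theorem Q_add_om (h2 : (2 : F) = 0) (x y : Fin m ⊕ Fin m → F) :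
    QfPlus m F (x + y) = QfPlus m F x + QfPlus m F y + om x y := by
  rw [← P_plus_eq_om h2]
  exact Q_add (QfPlus m F) x y

theorem om_sq_inj (h2 : (2 : F) = 0) {a b : Fin m ⊕ Fin m → F}
    (h : ∀ v, om a v * om a v = om b v * om b v) : a = b := by
  by_contra hab
  have h0 : a - b ≠ 0 := sub_ne_zero.mpr hab
  obtain ⟨y, hy⟩ := exists_om_ne_zero h0
  apply hy
  rw [om_sub_left, sq_inj h2 (h y), sub_self]

/-- a symplectic transformation changes the quadratic form by the square of a linear form -/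
theorem exists_quad_rep [Finite F] (h2 : (2 : F) = 0)
    (A : Matrix (Fin m ⊕ Fin m) (Fin m ⊕ Fin m) F)
    (hA : ∀ x y, om (A *ᵥ x) (A *ᵥ y) = om x y) :
    ∃ a : Fin m ⊕ Fin m → F, ∀ v,
      QfPlus m F (A *ᵥ v) = QfPlus m F v + om a v * om a v := by
  have hchar : CharP F 2 := CharTwo.of_one_ne_zero_of_two_eq_zero one_ne_zero h2
  have hex : ∀ b : Fin m ⊕ Fin m, ∃ c : F,
      QfPlus m F (A *ᵥ Pi.single b 1) + QfPlus m F (Pi.single b (1 : F)) = c * c :=
    fun b => isSquare_of_charTwo' _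
  choose c hc using hex
  refine ⟨vecMulJ.symm c, fun v => ?_⟩
  have hom : om (vecMulJ.symm c) v = c ⬝ᵥ v := by
    unfold om
    rw [dotProduct_mulVec]
    have : (vecMulJ.symm c) ᵥ* J (Fin m) F = c := vecMulJ.apply_symm_apply c
    rw [this]
  rw [hom]
  have h1 := quad_zero
    (μ := fun v => QfPlus m F (A *ᵥ v) + QfPlus m F v + (c ⬝ᵥ v) * (c ⬝ᵥ v)) (fun x y => by
      show QfPlus m F (A *ᵥ (x + y)) + QfPlus m F (x + y) +
        (c ⬝ᵥ (x + y)) * (c ⬝ᵥ (x + y)) = _
      rw [mulVec_add, Q_add_om h2, Q_add_om h2, hA, dotProduct_add]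
      linear_combination (om x y + (c ⬝ᵥ x) * (c ⬝ᵥ y)) * h2) (fun k x => by
      show QfPlus m F (A *ᵥ (k • x)) + QfPlus m F (k • x) +
        (c ⬝ᵥ (k • x)) * (c ⬝ᵥ (k • x)) = _
      rw [mulVec_smul, QuadraticMap.map_smul, QuadraticMap.map_smul, dotProduct_smul]
      simp only [smul_eq_mul]
      ring) (fun b => by
      show QfPlus m F (A *ᵥ Pi.single b 1) + QfPlus m F (Pi.single b (1 : F)) +
        (c ⬝ᵥ Pi.single b 1) * (c ⬝ᵥ Pi.single b 1) = 0
      rw [dotProduct_single_one, hc b, ← two_mul, h2, zero_mul]) v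
  have h1' : QfPlus m F (A *ᵥ v) + QfPlus m F v + (c ⬝ᵥ v) * (c ⬝ᵥ v) = 0 := h1
  linear_combination h1' - (QfPlus m F v + (c ⬝ᵥ v) * (c ⬝ᵥ v)) * h2

theorem Q_T (h2 : (2 : F) = 0) (a : Fin m ⊕ Fin m → F) (c : F) (v : Fin m ⊕ Fin m → F) :
    QfPlus m F (T a c *ᵥ v) =
      QfPlus m F v + om a v * om a v * (c * c * QfPlus m F a + c) := by
  have hneg : ∀ a : F, -a = a := fun a =>
    neg_eq_of_add_eq_zero_left (by rw [← two_mul, h2, zero_mul])
  rw [T_mulVec, Q_add_om h2, QuadraticMap.map_smul, smul_eq_mul, om_smul_right, om_swap a v, hneg]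
  ring

theorem card_Qa_not_wp [Fintype F] (h2 : (2 : F) = 0) (a : Fin m ⊕ Fin m → F)
    (ha : ¬ Wp (QfPlus m F a)) :
    Nat.card {v : Fin m ⊕ Fin m → F // Wp (QfPlus m F v + om a v * om a v)} +
      Nat.card {v : Fin m ⊕ Fin m → F // Wp (QfPlus m F v)} = Fintype.card F ^ (2 * m) := by
  classical
  have hneg : ∀ a : F, -a = a := fun a =>
    neg_eq_of_add_eq_zero_left (by rw [← two_mul, h2, zero_mul])
  have key : ∀ v, Wp (QfPlus m F v + om a v * om a v) ↔ ¬ Wp (QfPlus m F (v + a)) := by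
    intro v
    have e1 : QfPlus m F v + om a v * om a v =
        (QfPlus m F (v + a) + QfPlus m F a) + (om a v * om a v + om a v) := by
      rw [Q_add_om h2, om_swap a v, hneg]
      linear_combination (- QfPlus m F a - om a v) * h2
    have h3 := wp_add_iff h2 (QfPlus m F (v + a) + QfPlus m F a) (om a v * om a v + om a v)
    have h4 := wp_add_iff h2 (QfPlus m F (v + a)) (QfPlus m F a)
    have h5 := wp_sq (om a v)
    rw [e1]
    tauto
  have e : {v : Fin m ⊕ Fin m → F // Wp (QfPlus m F v + om a v * om a v)} ≃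
      {u : Fin m ⊕ Fin m → F // ¬ Wp (QfPlus m F u)} :=
    ⟨fun v => ⟨v.1 + a, (key v.1).1 v.2⟩,
      fun u => ⟨u.1 - a, (key _).2 (by rw [sub_add_cancel]; exact u.2)⟩,
      fun v => Subtype.ext (add_sub_cancel_right _ _),
      fun u => Subtype.ext (sub_add_cancel _ _)⟩
  have h5 := Nat.card_congr (Equiv.sumCompl (fun u : Fin m ⊕ Fin m → F => Wp (QfPlus m F u)))
  rw [Nat.card_sum] at h5
  rw [Nat.card_congr e, add_comm, h5, Nat.card_fun, Nat.card_eq_fintype_card (α := Fin m ⊕ Fin m),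
    Fintype.card_sum, Fintype.card_fin, ← two_mul, Nat.card_eq_fintype_card]

end forms

section action

variable {l : Type*} [DecidableEq l] [Fintype l] {F : Type*} [Field F]

/-- functions on vectors, with the action of the symplectic group by substitution -/
def Fn (l : Type*) (F : Type*) := (l ⊕ l → F) → F

instance fnMulAction : MulAction (symplecticGroup l F) (Fn l F) where
  smul g f := fun v => f ((g⁻¹ : symplecticGroup l F).1 *ᵥ v)
  one_smul f := by
    funext v
    show f (((1 : symplecticGroup l F)⁻¹).1 *ᵥ v) = f v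
    rw [inv_one]
    show f ((1 : Matrix (l ⊕ l) (l ⊕ l) F) *ᵥ v) = f v
    rw [one_mulVec]
  mul_smul g h f := by
    funext v
    show f (((g * h)⁻¹ : symplecticGroup l F).1 *ᵥ v) =
      f ((h⁻¹ : symplecticGroup l F).1 *ᵥ ((g⁻¹ : symplecticGroup l F).1 *ᵥ v))
    rw [_root_.mul_inv_rev, mulVec_mulVec]
    rfl

theorem fn_smul_apply (g : symplecticGroup l F) (f : Fn l F) (v : l ⊕ l → F) :
    (g • f) v = f ((g⁻¹ : symplecticGroup l F).1 *ᵥ v) := rfl

theorem sp_inv_mul (g : symplecticGroup l F) : (g⁻¹ : symplecticGroup l F).1 * g.1 = 1 := by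
  have := inv_mul_cancel g
  exact congrArg Subtype.val this

theorem sp_mul_inv (g : symplecticGroup l F) : g.1 * (g⁻¹ : symplecticGroup l F).1 = 1 := by
  have := mul_inv_cancel g
  exact congrArg Subtype.val this

end action

section main

variable {F : Type*} [Field F] {m : ℕ}

/-- an isometry of the hyperbolic quadratic form as a symplectic matrix -/
def toSp (h2 : (2 : F) = 0) (g : ↥(Cfsg.isometryGroup F ⇑(QfPlus m F))) :
    symplecticGroup (Fin m) F :=
  ⟨mt (QfPlus m F) g, mem_symplectic_iff_om.mpr (fun u v => by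
    rw [← P_plus_eq_om h2, ← P_plus_eq_om h2]
    exact P_mulVec (QfPlus m F) _ (mt_isom (QfPlus m F) g) u v)⟩

theorem toSp_val (h2 : (2 : F) = 0) (g : ↥(Cfsg.isometryGroup F ⇑(QfPlus m F))) :
    (toSp h2 g).1 = mt (QfPlus m F) g := rfl

theorem toSp_mul (h2 : (2 : F) = 0) (g h : ↥(Cfsg.isometryGroup F ⇑(QfPlus m F))) :
    toSp h2 (g * h) = toSp h2 g * toSp h2 h := Subtype.ext rfl

/-- the quadratic form as a function -/
def pQ (m : ℕ) (F : Type*) [Field F] : Fn (Fin m) F := fun v => QfPlus m F v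

/-- the quadratic forms with the same polar form -/
def Qa (a : Fin m ⊕ Fin m → F) : Fn (Fin m) F := fun v => QfPlus m F v + om a v * om a v

/-- the orbit of the quadratic form under the centraliser of `X` in the symplectic group -/
def orbSet (X : Matrix (Fin m ⊕ Fin m) (Fin m ⊕ Fin m) F) : Set (Fn (Fin m) F) :=
  {f | ∃ a, X *ᵥ a = a ∧ Wp (QfPlus m F a) ∧ f = Qa a}

theorem card_cent_eq [Fintype F] (h2 : (2 : F) = 0) (x : ↥(Cfsg.isometryGroup F ⇑(QfPlus m F)))
    (hxx : x * x = 1) :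
    Nat.card (Subgroup.centralizer ({toSp h2 x} : Set (symplecticGroup (Fin m) F))) =
      Nat.card {a : Fin m ⊕ Fin m → F //
          mt (QfPlus m F) x *ᵥ a = a ∧ Wp (QfPlus m F a)} *
        Nat.card {g : ↥(Cfsg.isometryGroup F ⇑(QfPlus m F)) // g * x = x * g} := by
  classical
  obtain ⟨X, hX⟩ : ∃ X, X = mt (QfPlus m F) x := ⟨_, rfl⟩
  have hXX : X * X = 1 := by rw [hX]; exact sq_mt _ hxx
  have hXom : ∀ u v, om (X *ᵥ u) (X *ᵥ v) = om u v := by
    rw [hX]; exact mem_symplectic_iff_om.mp (toSp h2 x).2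
  have hXQ : ∀ v, QfPlus m F (X *ᵥ v) = QfPlus m F v := by
    rw [hX]; exact mt_isom (QfPlus m F) x
  have hXval : (toSp h2 x).1 = X := by rw [hX]; rfl
  have hmaps : ∀ g ∈ Subgroup.centralizer ({toSp h2 x} : Set (symplecticGroup (Fin m) F)),
      g • pQ m F ∈ orbSet X := by
    intro g hg
    rw [Subgroup.mem_centralizer_singleton_iff] at hg
    obtain ⟨B, hB⟩ : ∃ B, B = (g⁻¹ : symplecticGroup (Fin m) F).1 := ⟨_, rfl⟩
    have hBom : ∀ u v, om (B *ᵥ u) (B *ᵥ v) = om u v := by
      rw [hB]; exact mem_symplectic_iff_om.mp (g⁻¹).2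
    have hBg : B * g.1 = 1 := by rw [hB]; exact sp_inv_mul g
    have hgB : g.1 * B = 1 := by rw [hB]; exact sp_mul_inv g
    have hBX : B * X = X * B := by
      have h1 : g⁻¹ * toSp h2 x = toSp h2 x * g⁻¹ := by
        calc g⁻¹ * toSp h2 x = g⁻¹ * (toSp h2 x * g) * g⁻¹ := by group
          _ = g⁻¹ * (g * toSp h2 x) * g⁻¹ := by rw [hg]
          _ = toSp h2 x * g⁻¹ := by group
      have := congrArg Subtype.val h1
      rw [hB, ← hXval]; exact this
    obtain ⟨a, ha⟩ := exists_quad_rep h2 B hBom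
    have hXa : X *ᵥ a = a := by
      apply om_sq_inj h2
      intro v
      have h1 := ha (X *ᵥ v)
      rw [mulVec_mulVec, hBX, ← mulVec_mulVec, hXQ, hXQ, ha v] at h1
      have h3 : om a (X *ᵥ v) = om (X *ᵥ a) v := by
        have := hXom a (X *ᵥ v)
        rw [mulVec_mulVec, hXX, one_mulVec] at this
        exact this.symm
      rw [h3] at h1
      exact (add_left_cancel h1).symm
    have hWa : Wp (QfPlus m F a) := by
      by_contra hna
      have h1 := card_Qa_not_wp h2 a hna
      have e : {v : Fin m ⊕ Fin m → F // Wp (QfPlus m F v + om a v * om a v)} ≃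
          {v : Fin m ⊕ Fin m → F // Wp (QfPlus m F v)} :=
        ⟨fun v => ⟨B *ᵥ v.1, by rw [ha]; exact v.2⟩,
          fun u => ⟨g.1 *ᵥ u.1, by
            rw [← ha, mulVec_mulVec, hBg, one_mulVec]; exact u.2⟩,
          fun v => Subtype.ext (by
            show g.1 *ᵥ (B *ᵥ v.1) = v.1
            rw [mulVec_mulVec, hgB, one_mulVec]),
          fun u => Subtype.ext (by
            show B *ᵥ (g.1 *ᵥ u.1) = u.1
            rw [mulVec_mulVec, hBg, one_mulVec])⟩
      rw [Nat.card_congr e] at h1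
      have h3 := card_wp_values h2 m
      have hpos : 0 < Fintype.card F ^ m := pow_pos Fintype.card_pos m
      omega
    refine ⟨a, hXa, hWa, ?_⟩
    funext v
    subst hB
    exact ha v
  have htrans : ∀ f ∈ orbSet X,
      ∃ g ∈ Subgroup.centralizer ({toSp h2 x} : Set (symplecticGroup (Fin m) F)),
        g • pQ m F = f := by
    rintro f ⟨a, hXa, hWa, rfl⟩
    obtain ⟨c, hc⟩ := exists_root h2 hWa
    have hTT : T a c * T a c = 1 := by rw [T_mulS, ← two_mul, h2, zero_mul, T_zeroS]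
    obtain ⟨t, ht⟩ : ∃ t : symplecticGroup (Fin m) F, t = ⟨T a c, T_mem a c⟩ := ⟨_, rfl⟩
    have htv : t.1 = T a c := by rw [ht]
    have hgg : t * t = 1 := by
      apply Subtype.ext
      show t.1 * t.1 = 1
      rw [htv, hTT]
    have hinv : t⁻¹ = t := inv_eq_of_mul_eq_one_left hgg
    refine ⟨t, ?_, ?_⟩
    · rw [Subgroup.mem_centralizer_singleton_iff]
      apply Subtype.ext
      show t.1 * (toSp h2 x).1 = (toSp h2 x).1 * t.1
      rw [htv, hXval]
      have := T_conjS X hXom a c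
      rw [hXa] at this
      exact this.symm
    · funext v
      show QfPlus m F ((t⁻¹ : symplecticGroup (Fin m) F).1 *ᵥ v) =
        QfPlus m F v + om a v * om a v
      rw [hinv, htv, Q_T h2, hc, mul_one]
  have hstab : ∀ g : symplecticGroup (Fin m) F,
      g ∈ Subgroup.centralizer ({toSp h2 x} : Set (symplecticGroup (Fin m) F)) ⊓
        MulAction.stabilizer (symplecticGroup (Fin m) F) (pQ m F) ↔
      g ∈ Subgroup.centralizer ({toSp h2 x} : Set (symplecticGroup (Fin m) F)) ∧
        g • pQ m F = pQ m F := by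
    intro g
    rw [Subgroup.mem_inf, MulAction.mem_stabilizer_iff]
  have main := card_orbit_stab
    (Subgroup.centralizer ({toSp h2 x} : Set (symplecticGroup (Fin m) F)))
    (Subgroup.centralizer ({toSp h2 x} : Set (symplecticGroup (Fin m) F)) ⊓
      MulAction.stabilizer (symplecticGroup (Fin m) F) (pQ m F)) (pQ m F) (orbSet X)
    hmaps htrans hstab
  rw [main]
  congr 1
  · symm
    apply Nat.card_congr
    refine Equiv.ofBijective (fun a => ⟨Qa a.1, a.1, by rw [hX]; exact a.2.1, a.2.2, rfl⟩)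
      ⟨?_, ?_⟩
    · intro a b hab
      have h1 : Qa a.1 = Qa b.1 := congrArg Subtype.val hab
      apply Subtype.ext
      apply om_sq_inj h2
      intro v
      have := congrFun h1 v
      exact add_left_cancel this
    · rintro ⟨f, a, hXa, hWa, rfl⟩
      exact ⟨⟨a, by rw [← hX]; exact hXa, hWa⟩, rfl⟩
  · symm
    apply Nat.card_congr
    refine ⟨fun g => ⟨toSp h2 g.1, ?_⟩,
      fun s => ⟨⟨⟨s.1.1, (s.1⁻¹).1, sp_mul_inv s.1, sp_inv_mul s.1⟩, ?_⟩, ?_⟩, ?_, ?_⟩
    · rw [Subgroup.mem_inf, Subgroup.mem_centralizer_singleton_iff, MulAction.mem_stabilizer_iff]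
      constructor
      · rw [← toSp_mul, ← toSp_mul, g.2]
      · funext v
        show QfPlus m F (((toSp h2 g.1)⁻¹ : symplecticGroup (Fin m) F).1 *ᵥ v) = QfPlus m F v
        have h := mt_isom (QfPlus m F) g.1 (((toSp h2 g.1)⁻¹ : symplecticGroup (Fin m) F).1 *ᵥ v)
        rw [mulVec_mulVec, ← toSp_val h2, sp_mul_inv, one_mulVec] at h
        exact h.symm
    · rw [mem_isometryGroup_iff]
      intro v
      have hs := s.2
      rw [Subgroup.mem_inf, MulAction.mem_stabilizer_iff] at hs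
      have h1 := congrFun hs.2 (s.1.1 *ᵥ v)
      have h3 : (s.1 • pQ m F) (s.1.1 *ᵥ v) =
          QfPlus m F ((s.1⁻¹ : symplecticGroup (Fin m) F).1 *ᵥ (s.1.1 *ᵥ v)) := rfl
      rw [h3, mulVec_mulVec, sp_inv_mul, one_mulVec] at h1
      exact h1.symm
    · have hs := s.2
      rw [Subgroup.mem_inf, Subgroup.mem_centralizer_singleton_iff] at hs
      apply mt_injective (QfPlus m F)
      have := congrArg Subtype.val hs.1
      exact this
    · intro g
      apply Subtype.ext
      apply mt_injective (QfPlus m F)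
      rfl
    · intro s
      apply Subtype.ext
      apply Subtype.ext
      rfl

end main

end Cfsg.Agent.Helper2.OCent
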