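import Mathlib
import Cfsg.Agent.Helper2.OCentB

set_option autoImplicit false
set_option linter.unusedSectionVars false

/-! Characteristic two: the orders of the centralisers in `Ω⁺_{2m}(q)` of the involutions of
`O⁺_{2m}(q)`. -/

namespace Cfsg.Agent.Helper2.OCent

open Matrix Module Cfsg.Agent.Helper28.QWitt Cfsg.Agent.Helper28.IsoTransport Cfsg.Agent.Helper2.Sp
  Cfsg.Agent.Helper28.Spin Cfsg.Agent.Helper2.OInv

section fix

variable {F : Type*} [Field F] [Fintype F] {m : ℕ}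

theorem mem_ker_iff (X : Matrix (Fin m ⊕ Fin m) (Fin m ⊕ Fin m) F) (v : Fin m ⊕ Fin m → F) :
    v ∈ LinearMap.ker (X - 1).mulVecLin ↔ X *ᵥ v = v := by
  rw [LinearMap.mem_ker, Matrix.mulVecLin_apply, Matrix.sub_mulVec, Matrix.one_mulVec, sub_eq_zero]

theorem card_range_mulVecLin (A : Matrix (Fin m ⊕ Fin m) (Fin m ⊕ Fin m) F) :
    Nat.card (LinearMap.range A.mulVecLin) = Fintype.card F ^ A.rank := by
  rw [Module.natCard_eq_pow_finrank (K := F), Nat.card_eq_fintype_card]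
  rfl

theorem card_ker_mulVecLin (A : Matrix (Fin m ⊕ Fin m) (Fin m ⊕ Fin m) F) :
    Nat.card (LinearMap.ker A.mulVecLin) = Fintype.card F ^ (2 * m - A.rank) := by
  rw [Module.natCard_eq_pow_finrank (K := F), Nat.card_eq_fintype_card]
  congr 1
  have h4 := LinearMap.finrank_range_add_finrank_ker A.mulVecLin
  rw [Module.finrank_fintype_fun_eq_card, Fintype.card_sum, Fintype.card_fin] at h4
  have h5 : finrank F (LinearMap.range A.mulVecLin) = A.rank := rfl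
  omega

theorem card_V : Nat.card (Fin m ⊕ Fin m → F) = Fintype.card F ^ (2 * m) := by
  rw [Nat.card_fun, Nat.card_eq_fintype_card (α := Fin m ⊕ Fin m), Fintype.card_sum,
    Fintype.card_fin, ← two_mul, Nat.card_eq_fintype_card]

theorem fix_iff_perp (X : Matrix (Fin m ⊕ Fin m) (Fin m ⊕ Fin m) F) (hXX : X * X = 1)
    (hXQ : ∀ v, QfPlus m F (X *ᵥ v) = QfPlus m F v) (v : Fin m ⊕ Fin m → F) :
    X *ᵥ v = v ↔
      ∀ w ∈ LinearMap.range (X - 1).mulVecLin, QuadraticMap.polar (QfPlus m F) v w = 0 := by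
  constructor
  · rintro hv _ ⟨u, rfl⟩
    rw [Matrix.mulVecLin_apply, Matrix.sub_mulVec, Matrix.one_mulVec]
    have h1 := P_mulVec (QfPlus m F) X hXQ v u
    rw [hv] at h1
    have h3 := P_sub_right (QfPlus m F) v (X *ᵥ u) u
    show P (QfPlus m F) v (X *ᵥ u - u) = 0
    rw [h3, h1, sub_self]
  · intro h
    apply fix_of_perp (QfPlus m F) (QfPlus_nondeg m) X X hXX hXQ v
    intro z
    apply h
    refine ⟨z, ?_⟩
    rw [Matrix.mulVecLin_apply, Matrix.sub_mulVec, Matrix.one_mulVec]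

/-- non-alternating type: half of the fixed vectors have value in the Artin–Schreier subgroup -/
theorem card_fix_nonalt (h2 : (2 : F) = 0) (X : Matrix (Fin m ⊕ Fin m) (Fin m ⊕ Fin m) F)
    (hXX : X * X = 1) (hXQ : ∀ v, QfPlus m F (X *ᵥ v) = QfPlus m F v)
    (hna : ∃ v, QfPlus m F ((X - 1) *ᵥ v) ≠ 0) :
    2 * Nat.card {a : Fin m ⊕ Fin m → F // X *ᵥ a = a ∧ Wp (QfPlus m F a)} =
      Fintype.card F ^ (2 * m - (X - 1).rank) := by
  classical
  have hchar : CharP F 2 := CharTwo.of_one_ne_zero_of_two_eq_zero one_ne_zero h2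
  obtain ⟨v₁, hv₁⟩ := hna
  obtain ⟨c₀, hc₀⟩ := exists_not_wp (F := F) h2
  obtain ⟨lam, hlam⟩ := isSquare_of_charTwo' (c₀ / QfPlus m F ((X - 1) *ᵥ v₁))
  obtain ⟨w, hw⟩ : ∃ w, w = lam • ((X - 1) *ᵥ v₁) := ⟨_, rfl⟩
  have hQw : QfPlus m F w = c₀ := by
    rw [hw, QuadraticMap.map_smul, smul_eq_mul, ← hlam, div_mul_cancel₀ _ hv₁]
  have hXw : X *ᵥ w = w := by
    have h0 : (X - 1) *ᵥ w = 0 := by
      rw [hw, mulVec_smul, mulVec_mulVec, sq_zero_of_sq_one h2 X hXX, zero_mulVec, smul_zero]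
    rw [sub_mulVec, one_mulVec, sub_eq_zero] at h0
    exact h0
  have hww : w + w = 0 := by rw [← two_smul F w, h2, zero_smul]
  have hperp : ∀ a, X *ᵥ a = a → om a w = 0 := by
    intro a ha
    have := (fix_iff_perp X hXX hXQ a).1 ha w ⟨lam • v₁, by
      rw [mulVecLin_apply, mulVec_smul, hw]⟩
    rw [← P_plus_eq_om h2]
    exact this
  have hQaw : ∀ a, X *ᵥ a = a → QfPlus m F (a + w) = QfPlus m F a + c₀ := by
    intro a ha
    rw [Q_add_om h2, hperp a ha, add_zero, hQw]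
  have key : ∀ a, X *ᵥ a = a → (Wp (QfPlus m F (a + w)) ↔ ¬ Wp (QfPlus m F a)) := by
    intro a ha
    rw [hQaw a ha, wp_add_iff h2]
    tauto
  have e : {a : Fin m ⊕ Fin m → F // X *ᵥ a = a ∧ Wp (QfPlus m F a)} ≃
      {a : Fin m ⊕ Fin m → F // X *ᵥ a = a ∧ ¬ Wp (QfPlus m F a)} :=
    ⟨fun a => ⟨a.1 + w, by rw [mulVec_add, a.2.1, hXw],
        fun hh => ((key a.1 a.2.1).1 hh) a.2.2⟩,
      fun b => ⟨b.1 + w, by rw [mulVec_add, b.2.1, hXw], (key b.1 b.2.1).2 b.2.2⟩,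
      fun a => Subtype.ext (by
        show a.1 + w + w = a.1
        rw [add_assoc, hww, add_zero]),
      fun b => Subtype.ext (by
        show b.1 + w + w = b.1
        rw [add_assoc, hww, add_zero])⟩
  have h3 := card_split (fun a : Fin m ⊕ Fin m → F => X *ᵥ a = a)
    (fun a => Wp (QfPlus m F a))
  rw [← Nat.card_congr e] at h3
  have h4 : Nat.card {a : Fin m ⊕ Fin m → F // X *ᵥ a = a} =
      Nat.card (LinearMap.ker (X - 1).mulVecLin) :=
    Nat.card_congr (Equiv.subtypeEquivRight (fun a => (mem_ker_iff X a).symm))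
  rw [h4, card_ker_mulVecLin] at h3
  omega

theorem arith_alt {n nk w q σ V k M : ℕ} (hw : 0 < w) (hq : 0 < q)
    (E : n * w * q = nk * (w * q) + (V - k) * (w * σ)) (hσ : σ * 2 = q) (hN : 2 * n = V + M)
    (hk : k ≤ V) : 2 * nk = M + k := by
  obtain ⟨D, hD⟩ : ∃ D, D = V - k := ⟨_, rfl⟩
  rw [← hD] at E
  subst hσ
  have h1 : (2 * n) * (w * (σ * 2)) = (2 * nk + D) * (w * (σ * 2)) := by
    calc (2 * n) * (w * (σ * 2)) = 2 * (n * w * (σ * 2)) := by ring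
      _ = 2 * (nk * (w * (σ * 2)) + D * (w * σ)) := by rw [E]
      _ = (2 * nk + D) * (w * (σ * 2)) := by ring
  have h3 := Nat.eq_of_mul_eq_mul_right (Nat.mul_pos hw hq) h1
  omega

/-- alternating type -/
theorem card_fix_alt (h2 : (2 : F) = 0) (X : Matrix (Fin m ⊕ Fin m) (Fin m ⊕ Fin m) F)
    (hXX : X * X = 1) (hXQ : ∀ v, QfPlus m F (X *ᵥ v) = QfPlus m F v)
    (halt : ∀ v, QfPlus m F ((X - 1) *ᵥ v) = 0) :
    2 * Nat.card {a : Fin m ⊕ Fin m → F // X *ᵥ a = a ∧ Wp (QfPlus m F a)} =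
      Fintype.card F ^ m + Fintype.card F ^ (2 * m - (X - 1).rank) := by
  classical
  have E := card_pred_double (QfPlus m F) (LinearMap.range (X - 1).mulVecLin)
    (LinearMap.ker (X - 1).mulVecLin)
    (by
      rintro _ ⟨u, rfl⟩
      rw [mulVecLin_apply]
      exact halt u)
    (fun v => by
      rw [mem_ker_iff]
      exact fix_iff_perp X hXX hXQ v) Wp
  have hN := card_wp_values h2 m
  have hσ := card_wp (F := F) h2
  rw [Nat.card_eq_fintype_card (α := F)] at hσ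
  rw [← card_V] at hN
  have hk : Nat.card (LinearMap.ker (X - 1).mulVecLin) ≤ Nat.card (Fin m ⊕ Fin m → F) :=
    Finite.card_subtype_le _
  have hwpos : 0 < Nat.card (LinearMap.range (X - 1).mulVecLin) := Nat.card_pos
  have e : Nat.card {a : Fin m ⊕ Fin m → F // X *ᵥ a = a ∧ Wp (QfPlus m F a)} =
      Nat.card {v : Fin m ⊕ Fin m → F //
        v ∈ LinearMap.ker (X - 1).mulVecLin ∧ Wp (QfPlus m F v)} :=
    Nat.card_congr (Equiv.subtypeEquivRight (fun a => by rw [mem_ker_iff]))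
  rw [e, arith_alt hwpos Fintype.card_pos E hσ hN hk, card_ker_mulVecLin]

end fix

section omega

variable {F : Type*} [Field F] [Fintype F] {m : ℕ}

theorem card_CO_two (h2 : (2 : F) = 0) (hm : 1 ≤ m) (h : Fintype.card F ≠ 2 ∨ m ≠ 2)
    (x c : ↥(Cfsg.isometryGroup F ⇑(QfPlus m F))) (hc : c * x = x * c)
    (hcO : c ∉ Cfsg.Omega F ⇑(QfPlus m F)) :
    Nat.card {g : ↥(Cfsg.isometryGroup F ⇑(QfPlus m F)) // g * x = x * g} =
      2 * Nat.card {g : ↥(Cfsg.Omega F ⇑(QfPlus m F)) //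
        (g : ↥(Cfsg.isometryGroup F ⇑(QfPlus m F))) * x = x * g} := by
  classical
  have H := HOm_plus h2 hm h
  have hQ := QfPlus_nondeg (F := F) m
  have hc' : c⁻¹ * x = x * c⁻¹ := by
    calc c⁻¹ * x = c⁻¹ * (x * c) * c⁻¹ := by group
      _ = c⁻¹ * (c * x) * c⁻¹ := by rw [hc]
      _ = x * c⁻¹ := by group
  have h1 := card_split (fun g : ↥(Cfsg.isometryGroup F ⇑(QfPlus m F)) => g * x = x * g)
    (fun g => g ∈ Cfsg.Omega F ⇑(QfPlus m F))
  have e1 : {g : ↥(Cfsg.isometryGroup F ⇑(QfPlus m F)) //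
        g * x = x * g ∧ ¬ g ∈ Cfsg.Omega F ⇑(QfPlus m F)} ≃
      {g : ↥(Cfsg.isometryGroup F ⇑(QfPlus m F)) //
        g * x = x * g ∧ g ∈ Cfsg.Omega F ⇑(QfPlus m F)} :=
    ⟨fun g => ⟨c * g.1, by rw [mul_assoc, g.2.1, ← mul_assoc, hc, mul_assoc],
        mul_mem_of_not_mem _ h2 hQ H hcO g.2.2⟩,
      fun g => ⟨c⁻¹ * g.1, by rw [mul_assoc, g.2.1, ← mul_assoc, hc', mul_assoc],
        fun hh => hcO (by
          have := Subgroup.mul_mem _ hh (Subgroup.inv_mem _ g.2.2)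
          rw [mul_assoc, mul_inv_cancel, mul_one] at this
          exact (Subgroup.inv_mem_iff _).mp this)⟩,
      fun g => Subtype.ext (inv_mul_cancel_left _ _),
      fun g => Subtype.ext (mul_inv_cancel_left _ _)⟩
  have e2 : {g : ↥(Cfsg.isometryGroup F ⇑(QfPlus m F)) //
        g * x = x * g ∧ g ∈ Cfsg.Omega F ⇑(QfPlus m F)} ≃
      {g : ↥(Cfsg.Omega F ⇑(QfPlus m F)) //
        (g : ↥(Cfsg.isometryGroup F ⇑(QfPlus m F))) * x = x * g} :=
    ⟨fun g => ⟨⟨g.1, g.2.2⟩, g.2.1⟩, fun g => ⟨g.1.1, g.2, g.1.2⟩, fun _ => rfl, fun _ => rfl⟩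
  rw [Nat.card_congr e1, Nat.card_congr e2] at h1
  omega

theorem card_CO_of_not (h2 : (2 : F) = 0) (hm : 1 ≤ m) (h : Fintype.card F ≠ 2 ∨ m ≠ 2)
    (x : ↥(Cfsg.isometryGroup F ⇑(QfPlus m F))) (hxx : x * x = 1)
    (hnot : ¬ (2 * (mt (QfPlus m F) x - 1).rank = Fintype.card (Fin m ⊕ Fin m) ∧
      IsAltO (QfPlus m F) x)) :
    Nat.card {g : ↥(Cfsg.isometryGroup F ⇑(QfPlus m F)) // g * x = x * g} =
      2 * Nat.card {g : ↥(Cfsg.Omega F ⇑(QfPlus m F)) //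
        (g : ↥(Cfsg.isometryGroup F ⇑(QfPlus m F))) * x = x * g} := by
  have hQ := QfPlus_nondeg (F := F) m
  obtain ⟨u, hxu, hu⟩ := exists_fixed_nonsingular (QfPlus m F) h2 hQ x hxx hnot
  exact card_CO_two h2 hm h x (reflO (QfPlus m F) u hu) (refl_comm (QfPlus m F) x u hu hxu)
    (Cfsg.Agent.Helper28.CD2.reflO_not_mem_Omega (QfPlus m F) h2 hQ u hu)

theorem card_CO_one (h2 : (2 : F) = 0) (hm : 1 ≤ m) (h : Fintype.card F ≠ 2 ∨ m ≠ 2)
    (x : ↥(Cfsg.isometryGroup F ⇑(QfPlus m F))) (hr : (mt (QfPlus m F) x - 1).rank = m)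
    (halt : ∀ v, QfPlus m F ((mt (QfPlus m F) x - 1) *ᵥ v) = 0) :
    Nat.card {g : ↥(Cfsg.isometryGroup F ⇑(QfPlus m F)) // g * x = x * g} =
      Nat.card {g : ↥(Cfsg.Omega F ⇑(QfPlus m F)) //
        (g : ↥(Cfsg.isometryGroup F ⇑(QfPlus m F))) * x = x * g} := by
  have key : ∀ g : ↥(Cfsg.isometryGroup F ⇑(QfPlus m F)), g * x = x * g →
      g ∈ Cfsg.Omega F ⇑(QfPlus m F) := by
    intro g hg
    have hg' : g * x * g⁻¹ = x := by rw [hg, mul_assoc, mul_inv_cancel, mul_one]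
    exact cent_le_Omega h2 hm h x g hr halt hg'
  apply Nat.card_congr
  exact ⟨fun g => ⟨⟨g.1, key g.1 g.2⟩, g.2⟩,
    fun g => ⟨g.1.1, g.2⟩, fun _ => rfl, fun _ => rfl⟩

theorem altS_iff (h2 : (2 : F) = 0) (x : ↥(Cfsg.isometryGroup F ⇑(QfPlus m F))) :
    AltS (⊥ : Submodule F (Fin m ⊕ Fin m → F)) (toSp h2 x).1 ↔
      ∀ v, QfPlus m F ((mt (QfPlus m F) x - 1) *ᵥ v) = 0 := by
  rw [altS_bot_iff]
  have hXQ := mt_isom (QfPlus m F) x
  constructor
  · intro hh v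
    rw [sub_mulVec, one_mulVec, Q_sub_self (QfPlus m F) h2 _ hXQ, P_plus_eq_om h2]
    exact hh v
  · intro hh v
    have := hh v
    rw [sub_mulVec, one_mulVec, Q_sub_self (QfPlus m F) h2 _ hXQ, P_plus_eq_om h2] at this
    exact this

theorem toSp_sq (h2 : (2 : F) = 0) (x : ↥(Cfsg.isometryGroup F ⇑(QfPlus m F)))
    (hxx : x * x = 1) : toSp h2 x * toSp h2 x = 1 := by
  rw [← toSp_mul, hxx]
  rfl

end omega

end Cfsg.Agent.Helper2.OCent
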