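import Mathlib
import Cfsg.Agent.Helper2.OCentC

set_option autoImplicit false
set_option linter.unusedSectionVars false

/-! Characteristic two: the orders of the centralisers in `Ω⁺_{2m}(q)` of the involutions of
`O⁺_{2m}(q)`: the final formulas. -/

namespace Cfsg.Agent.Helper2.OCent

open Matrix Module Cfsg.Agent.Helper28.QWitt Cfsg.Agent.Helper28.IsoTransport Cfsg.Agent.Helper2.Sp
  Cfsg.Agent.Helper28.Spin Cfsg.Agent.Helper2.OInv

theorem sg_split (q r' : ℕ) (hq : 0 < q) :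
    sg q (r' + 1) = q ^ (r' + 1) * (q ^ (r' + 1) + 1) *
      (q ^ ((r' + 1) * r') * (q ^ (r' + 1) - 1) *
        ∏ i : Fin r', (q ^ (2 * ((i : ℕ) + 1)) - 1)) := by
  unfold sg
  rw [Finset.prod_range_succ, Fin.prod_univ_eq_prod_range (fun i => q ^ (2 * (i + 1)) - 1) r']
  obtain ⟨Z, hZ⟩ : ∃ Z, q ^ (r' + 1) = Z + 1 :=
    ⟨q ^ (r' + 1) - 1, by have := pow_pos hq (r' + 1); omega⟩
  have e1 : q ^ (2 * (r' + 1)) - 1 = Z * (Z + 2) := by
    apply Nat.sub_eq_of_eq_add
    rw [show 2 * (r' + 1) = (r' + 1) + (r' + 1) by ring, pow_add q (r' + 1) (r' + 1), hZ]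
    ring
  have e2 : (r' + 1) ^ 2 = (r' + 1) + (r' + 1) * r' := by ring
  rw [e1, e2, pow_add q (r' + 1) ((r' + 1) * r'), hZ, Nat.add_sub_cancel]
  ring

theorem arith_two {NK CO CΩ A B : ℕ} (hA : 0 < A) (N2 : 2 * NK = A) (CO2 : CO = 2 * CΩ)
    (orb : A * B = NK * CO) : CΩ = B := by
  apply Nat.eq_of_mul_eq_mul_left hA
  calc A * CΩ = (2 * NK) * CΩ := by rw [N2]
    _ = NK * (2 * CΩ) := by ring
    _ = NK * CO := by rw [CO2]
    _ = A * B := orb.symm

theorem arith_one {NK CO CΩ A B : ℕ} (hA : 0 < A) (N2 : 2 * NK = A + A) (CO1 : CO = CΩ)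
    (orb : A * B = NK * CO) : CΩ = B := by
  have hNK : NK = A := by omega
  apply Nat.eq_of_mul_eq_mul_left hA
  rw [orb, hNK, CO1]

section final

variable {F : Type*} [Field F] [Fintype F] {m s : ℕ}

/-- odd rank -/
theorem cent_omega_odd (h2 : (2 : F) = 0) (h : Fintype.card F ≠ 2 ∨ m ≠ 2)
    (x : ↥(Cfsg.isometryGroup F ⇑(QfPlus m F))) (hxx : x * x = 1)
    (hs : (mt (QfPlus m F) x - 1).rank = s) (hodd : Odd s) :
    Nat.card {g : ↥(Cfsg.Omega F ⇑(QfPlus m F)) //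
        (g : ↥(Cfsg.isometryGroup F ⇑(QfPlus m F))) * x = x * g} =
      Fintype.card F ^ (2 * m * (s - 1) - (3 * s ^ 2 - 3 * s) / 2) *
        (Fintype.card F ^ (((s - 1) / 2) ^ 2) *
          ∏ i : Fin ((s - 1) / 2), (Fintype.card F ^ (2 * ((i : ℕ) + 1)) - 1)) *
        (Fintype.card F ^ ((m - s) ^ 2) *
          ∏ i : Fin (m - s), (Fintype.card F ^ (2 * ((i : ℕ) + 1)) - 1)) := by
  classical
  have hq : 0 < Fintype.card F := Fintype.card_pos
  have hXX := sq_mt (QfPlus m F) hxx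
  have hXQ := mt_isom (QfPlus m F) x
  have hle := two_rank_le h2 _ hXX
  rw [Fintype.card_sum, Fintype.card_fin, hs] at hle
  obtain ⟨a, ha⟩ := hodd
  have hm : 1 ≤ m := by omega
  have main := cent_main h2 (toSp h2 x) (toSp_sq h2 x hxx)
  rw [Fintype.card_fin] at main
  by_cases halt : ∀ v, QfPlus m F ((mt (QfPlus m F) x - 1) *ᵥ v) = 0
  · obtain ⟨k, r, hk, -, -⟩ := main.1 ((altS_iff h2 x).2 halt)
    exfalso
    have hk' : s = 2 * k := hs.symm.trans hk
    omega
  · have hnalt : ¬ AltS (⊥ : Submodule F (Fin m ⊕ Fin m → F)) (toSp h2 x).1 :=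
      fun hh => halt ((altS_iff h2 x).1 hh)
    push Not at halt
    rcases main.2 hnalt with ⟨k, r, hk, hr, hc⟩ | ⟨k, r, hk, -, -⟩
    · have hk' : s = 2 * k + 1 := hs.symm.trans hk
      have N2 := card_fix_nonalt h2 _ hXX hXQ halt
      rw [hs] at N2
      have CO2 := card_CO_of_not h2 hm h x hxx (fun hh => by
        obtain ⟨v, hv⟩ := halt
        exact hv (hh.2 v))
      have orb := (card_cent_eq h2 x hxx).symm.trans hc
      rw [Nat.card_eq_fintype_card (α := F)] at orb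
      have e1 : (s - 1) / 2 = k := by omega
      have e2 : m - s = r := by omega
      have e3 : 2 * m * (s - 1) - (3 * s ^ 2 - 3 * s) / 2 = 2 * k ^ 2 + k + 4 * k * r := by
        rw [hk', hr]
        have a1 : 3 * (2 * k + 1) ^ 2 - 3 * (2 * k + 1) = 2 * (6 * k ^ 2 + 3 * k) :=
          Nat.sub_eq_of_eq_add (by ring)
        rw [a1, Nat.mul_div_cancel_left _ (by norm_num : 0 < 2), Nat.add_sub_cancel]
        exact Nat.sub_eq_of_eq_add (by ring)
      have e4 : 2 * m - s = 2 * k + 1 + 2 * r := by omega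
      rw [e4] at N2
      rw [e1, e2, e3, ← sg_eq, ← sg_eq]
      refine arith_two (pow_pos hq (2 * k + 1 + 2 * r)) N2 CO2 ?_
      rw [orb, show 2 * k ^ 2 + 3 * k + 1 + 2 * r * (2 * k + 1) =
        (2 * k + 1 + 2 * r) + (2 * k ^ 2 + k + 4 * k * r) by ring, pow_add]
      ring
    · exfalso
      have hk' : s = 2 * k + 2 := hs.symm.trans hk
      omega

/-- even rank, non-alternating -/
theorem cent_omega_nonalt (h2 : (2 : F) = 0) (h : Fintype.card F ≠ 2 ∨ m ≠ 2)
    (x : ↥(Cfsg.isometryGroup F ⇑(QfPlus m F))) (hxx : x * x = 1)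
    (hs : (mt (QfPlus m F) x - 1).rank = s) (heven : Even s)
    (hna : ∃ v, QfPlus m F ((mt (QfPlus m F) x - 1) *ᵥ v) ≠ 0) :
    Nat.card {g : ↥(Cfsg.Omega F ⇑(QfPlus m F)) //
        (g : ↥(Cfsg.isometryGroup F ⇑(QfPlus m F))) * x = x * g} =
      Fintype.card F ^ (2 * m * (s - 1) - (3 * s ^ 2 - 5 * s) / 2 - 1) *
        (Fintype.card F ^ (((s - 2) / 2) ^ 2) *
          ∏ i : Fin ((s - 2) / 2), (Fintype.card F ^ (2 * ((i : ℕ) + 1)) - 1)) *
        (Fintype.card F ^ ((m - s) ^ 2) *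
          ∏ i : Fin (m - s), (Fintype.card F ^ (2 * ((i : ℕ) + 1)) - 1)) := by
  classical
  have hq : 0 < Fintype.card F := Fintype.card_pos
  have hXX := sq_mt (QfPlus m F) hxx
  have hXQ := mt_isom (QfPlus m F) x
  obtain ⟨a, ha⟩ := heven
  have main := cent_main h2 (toSp h2 x) (toSp_sq h2 x hxx)
  rw [Fintype.card_fin] at main
  have hnalt : ¬ AltS (⊥ : Submodule F (Fin m ⊕ Fin m → F)) (toSp h2 x).1 := by
    intro hh
    obtain ⟨v, hv⟩ := hna
    exact hv ((altS_iff h2 x).1 hh v)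
  rcases main.2 hnalt with ⟨k, r, hk, -, -⟩ | ⟨k, r, hk, hr, hc⟩
  · exfalso
    have hk' : s = 2 * k + 1 := hs.symm.trans hk
    omega
  · have hk' : s = 2 * k + 2 := hs.symm.trans hk
    have hm : 1 ≤ m := by omega
    have N2 := card_fix_nonalt h2 _ hXX hXQ hna
    rw [hs] at N2
    have CO2 := card_CO_of_not h2 hm h x hxx (fun hh => by
      obtain ⟨v, hv⟩ := hna
      exact hv (hh.2 v))
    have orb := (card_cent_eq h2 x hxx).symm.trans hc
    rw [Nat.card_eq_fintype_card (α := F)] at orb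
    have e1 : (s - 2) / 2 = k := by omega
    have e2 : m - s = r := by omega
    have e3 : 2 * m * (s - 1) - (3 * s ^ 2 - 5 * s) / 2 - 1 =
        2 * k ^ 2 + 5 * k + 2 + 4 * k * r + 2 * r := by
      rw [hk', hr]
      have a1 : 3 * (2 * k + 2) ^ 2 - 5 * (2 * k + 2) = 2 * (6 * k ^ 2 + 7 * k + 1) :=
        Nat.sub_eq_of_eq_add (by ring)
      have a2 : 2 * k + 2 - 1 = 2 * k + 1 := by omega
      rw [a1, Nat.mul_div_cancel_left _ (by norm_num : 0 < 2), a2]
      exact Nat.sub_eq_of_eq_add (Nat.sub_eq_of_eq_add (by ring))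
    have e4 : 2 * m - s = 2 * k + 2 + 2 * r := by omega
    rw [e4] at N2
    rw [e1, e2, e3, ← sg_eq, ← sg_eq]
    refine arith_two (pow_pos hq (2 * k + 2 + 2 * r)) N2 CO2 ?_
    rw [orb, show 2 * k ^ 2 + 7 * k + 4 + 4 * r * (k + 1) =
      (2 * k + 2 + 2 * r) + (2 * k ^ 2 + 5 * k + 2 + 4 * k * r + 2 * r) by ring, pow_add]
    ring

/-- alternating type -/
theorem cent_omega_alt (h2 : (2 : F) = 0) (h : Fintype.card F ≠ 2 ∨ m ≠ 2)
    (x : ↥(Cfsg.isometryGroup F ⇑(QfPlus m F))) (hxx : x * x = 1) (hx1 : x ≠ 1)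
    (hs : (mt (QfPlus m F) x - 1).rank = s)
    (halt : ∀ v, QfPlus m F ((mt (QfPlus m F) x - 1) *ᵥ v) = 0) :
    Nat.card {g : ↥(Cfsg.Omega F ⇑(QfPlus m F)) //
        (g : ↥(Cfsg.isometryGroup F ⇑(QfPlus m F))) * x = x * g} =
      Fintype.card F ^ (2 * m * s - (3 * s ^ 2 + s) / 2) *
        (Fintype.card F ^ ((s / 2) ^ 2) *
          ∏ i : Fin (s / 2), (Fintype.card F ^ (2 * ((i : ℕ) + 1)) - 1)) *
        (if s = m then 1 else Fintype.card F ^ ((m - s) * (m - s - 1)) *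
          (Fintype.card F ^ (m - s) - 1) *
          ∏ i : Fin (m - s - 1), (Fintype.card F ^ (2 * ((i : ℕ) + 1)) - 1)) := by
  classical
  have hq : 0 < Fintype.card F := Fintype.card_pos
  have hXX := sq_mt (QfPlus m F) hxx
  have hXQ := mt_isom (QfPlus m F) x
  have main := cent_main h2 (toSp h2 x) (toSp_sq h2 x hxx)
  rw [Fintype.card_fin] at main
  obtain ⟨k, r, hk, hr, hc⟩ := main.1 ((altS_iff h2 x).2 halt)
  have hk' : s = 2 * k := hs.symm.trans hk
  have hs0 : s ≠ 0 := by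
    intro h0
    apply hx1
    apply mt_injective (QfPlus m F)
    rw [mt_one]
    by_contra hne
    have := rank_ne_zero_of_ne_zero (A := mt (QfPlus m F) x - 1) (sub_ne_zero.mpr hne)
    rw [hs] at this
    exact this h0
  have hk1 : 1 ≤ k := by omega
  have hm : 1 ≤ m := by omega
  obtain ⟨E2, hE2⟩ : ∃ E2, E2 + k = 2 * k ^ 2 + 4 * k * r :=
    ⟨2 * k ^ 2 + 4 * k * r - k, Nat.sub_add_cancel (by nlinarith)⟩
  have N2 := card_fix_alt h2 _ hXX hXQ halt
  rw [hs] at N2
  have orb := (card_cent_eq h2 x hxx).symm.trans hc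
  rw [Nat.card_eq_fintype_card (α := F)] at orb
  have e1 : s / 2 = k := by omega
  have e3 : 2 * m * s - (3 * s ^ 2 + s) / 2 = E2 := by
    rw [hk', hr]
    have a1 : 3 * (2 * k) ^ 2 + 2 * k = 2 * (6 * k ^ 2 + k) := by ring
    rw [a1, Nat.mul_div_cancel_left _ (by norm_num : 0 < 2)]
    apply Nat.sub_eq_of_eq_add
    linarith
  rw [e1, e3, ← sg_eq]
  rcases Nat.eq_zero_or_pos r with hr0 | hr0
  · subst hr0
    rw [if_pos (by omega : s = m), mul_one]
    have CO1 := card_CO_one h2 hm h x (hs.trans (by omega : s = m)) halt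
    have e4 : 2 * m - s = 2 * k := by omega
    have e5 : Fintype.card F ^ m = Fintype.card F ^ (2 * k) := by
      rw [show m = 2 * k by omega]
    rw [e4, e5] at N2
    refine arith_one (pow_pos hq (2 * k)) N2 CO1 ?_
    rw [orb, sg_zero, mul_one, show 4 * k * 0 + 2 * k ^ 2 + k = 2 * k + E2 by linarith, pow_add]
    ring
  · obtain ⟨r', rfl⟩ : ∃ r', r = r' + 1 := ⟨r - 1, by omega⟩
    rw [if_neg (by omega : ¬ s = m)]
    have e2' : m - s - 1 = r' := by omega
    have e2 : m - s = r' + 1 := by omega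
    rw [e2', e2]
    have CO2 := card_CO_of_not h2 hm h x hxx (fun hh => by
      have := hh.1
      rw [Fintype.card_sum, Fintype.card_fin, hs] at this
      omega)
    have e4 : 2 * m - s = 2 * k + (r' + 1) + (r' + 1) := by omega
    have e5 : Fintype.card F ^ m = Fintype.card F ^ (2 * k + (r' + 1)) := by
      rw [show m = 2 * k + (r' + 1) from hr]
    have N2' := N2.trans (show Fintype.card F ^ m + Fintype.card F ^ (2 * m - s) =
        Fintype.card F ^ (2 * k) * Fintype.card F ^ (r' + 1) *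
          (Fintype.card F ^ (r' + 1) + 1) by
      rw [e4, e5]
      ring)
    have hA : 0 < Fintype.card F ^ (2 * k) * Fintype.card F ^ (r' + 1) *
        (Fintype.card F ^ (r' + 1) + 1) :=
      Nat.mul_pos (Nat.mul_pos (pow_pos hq _) (pow_pos hq _)) (Nat.succ_pos _)
    refine arith_two hA N2' CO2 ?_
    rw [orb, sg_split _ _ hq,
      show 4 * k * (r' + 1) + 2 * k ^ 2 + k = 2 * k + E2 by linarith]
    ring

end final

end Cfsg.Agent.Helper2.OCent
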