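import Mathlib
import Cfsg.Agent.Helper2.OCentD

set_option autoImplicit false
set_option linter.unusedSectionVars false

/-! Characteristic two: elements of prime order of `Ω⁺_{2d}(q)` and fixed nonsingular points. -/

namespace Cfsg.Agent.Helper2.ONs

open Matrix Module Cfsg.Agent.Helper28.QWitt Cfsg.Agent.Helper28.IsoTransport Cfsg.Agent.Helper2.Sp
  Cfsg.Agent.Helper28.Spin Cfsg.Agent.Helper2.OInv Cfsg.Agent.Helper2.OCent

section lines

variable {F : Type*} [Field F] [Fintype F] {ι : Type*} [Fintype ι] [DecidableEq ι]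

/-- counting the lines spanned by the vectors of a set closed under non-zero scalars -/
theorem card_lines_mul (S : (ι → F) → Prop) (hS0 : ¬ S 0)
    (hSsm : ∀ (c : F) v, c ≠ 0 → S v → S (c • v)) :
    Nat.card {W : Submodule F (ι → F) // finrank F ↥W = 1 ∧ ∃ v ∈ W, S v} *
      (Fintype.card F - 1) = Nat.card {v : ι → F // S v} := by
  classical
  have hne : ∀ v, S v → v ≠ 0 := fun v hv h0 => hS0 (h0 ▸ hv)
  let f : {v : ι → F // S v} →
      {W : Submodule F (ι → F) // finrank F ↥W = 1 ∧ ∃ v ∈ W, S v} :=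
    fun v => ⟨F ∙ v.1, finrank_span_singleton (hne v.1 v.2), v.1,
      Submodule.mem_span_singleton_self v.1, v.2⟩
  have key : ∀ (W : {W : Submodule F (ι → F) // finrank F ↥W = 1 ∧ ∃ v ∈ W, S v})
      (v : ι → F), v ∈ W.1 → v ≠ 0 → S v ∧ F ∙ v = W.1 := by
    intro W v hvW hv0
    obtain ⟨hW1, v₀, hv₀W, hSv₀⟩ := W.2
    have hspan : F ∙ v = W.1 := by
      apply Submodule.eq_of_le_of_finrank_eq
      · rw [Submodule.span_singleton_le_iff_mem]; exact hvW
      · rw [finrank_span_singleton hv0, hW1]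
    refine ⟨?_, hspan⟩
    have : v₀ ∈ F ∙ v := by rw [hspan]; exact hv₀W
    obtain ⟨c, hc⟩ := Submodule.mem_span_singleton.mp this
    have hc0 : c ≠ 0 := by
      intro h0
      rw [h0, zero_smul] at hc
      exact hne v₀ hSv₀ hc.symm
    have hv : v = c⁻¹ • v₀ := by rw [← hc, smul_smul, inv_mul_cancel₀ hc0, one_smul]
    rw [hv]
    exact hSsm _ _ (inv_ne_zero hc0) hSv₀
  have hfib : ∀ W, Nat.card {v : {v : ι → F // S v} // f v = W} * 1 = Fintype.card F - 1 := by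
    intro W
    have e : {v : {v : ι → F // S v} // f v = W} ≃ {v : ι → F // v ∈ W.1 ∧ ¬ v = 0} :=
      ⟨fun v => ⟨v.1.1, by
          have := congrArg Subtype.val v.2
          rw [← this]
          exact Submodule.mem_span_singleton_self _, hne _ v.1.2⟩,
        fun v => ⟨⟨v.1, (key W v.1 v.2.1 v.2.2).1⟩, Subtype.ext (key W v.1 v.2.1 v.2.2).2⟩,
        fun v => rfl, fun v => rfl⟩
    rw [mul_one, Nat.card_congr e]
    have h3 := card_split (fun v : ι → F => v ∈ W.1) (fun v => v = 0)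
    have h4 : Nat.card {x : ι → F // x ∈ W.1 ∧ x = 0} = 1 := by
      have : Unique {x : ι → F // x ∈ W.1 ∧ x = 0} :=
        ⟨⟨⟨0, W.1.zero_mem, rfl⟩⟩, fun x => Subtype.ext x.2.2⟩
      exact Nat.card_unique
    have h5 : Nat.card {x : ι → F // x ∈ W.1} = Fintype.card F := by
      have := Module.natCard_eq_pow_finrank (K := F) (V := ↥W.1)
      rw [W.2.1, pow_one, Nat.card_eq_fintype_card (α := F)] at this
      exact this
    omega
  have h1 := card_sigma_mul
    (β := fun W => {v : {v : ι → F // S v} // f v = W}) 1 (Fintype.card F - 1) hfib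
  rw [mul_one] at h1
  rw [← Nat.card_congr (Equiv.sigmaFiberEquiv f), h1]

theorem arith_lines {N Z q X t : ℕ} (ht : q = t + 1) (ht0 : 0 < t) (E1 : N * t + Z = X * X)
    (E2 : Z * q + X = X * X + X * q) : N * q = X * (X - 1) := by
  subst ht
  have h1 : (t : ℤ) * ((N : ℤ) * (t + 1) + X - X * X) = 0 := by
    zify at E1 E2
    linear_combination ((t : ℤ) + 1) * E1 - E2
  have ht' : (t : ℤ) ≠ 0 := by exact_mod_cast ht0.ne'
  have h3 : (N : ℤ) * (t + 1) + X - X * X = 0 := (mul_eq_zero.mp h1).resolve_left ht'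
  have h5 : N * (t + 1) + X = X * X := by
    zify
    linear_combination h3
  rw [Nat.mul_sub_one]
  exact Nat.eq_sub_of_add_eq h5

end lines

section count

variable {F : Type*} [Field F] [Fintype F]

theorem card_sing_plus (m : ℕ) :
    Nat.card {v : Fin m ⊕ Fin m → F // QfPlus m F v = 0} * Fintype.card F +
      Fintype.card F ^ m = Fintype.card F ^ (2 * m) + Fintype.card F ^ (m + 1) := by
  classical
  rw [card_pred_eq_Sk m (fun c : F => c = 0) (fun c => neg_eq_zero)]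
  exact Quad.Sk_zero_plus _ (by simp) (by simp) m

theorem card_nonsing_lines (m : ℕ) :
    Nat.card {W : Submodule F (Fin m ⊕ Fin m → F) //
        finrank F ↥W = 1 ∧ ∃ v ∈ W, ¬ QfPlus m F v = 0} * Fintype.card F =
      Fintype.card F ^ m * (Fintype.card F ^ m - 1) := by
  classical
  have hq : 1 < Fintype.card F := Fintype.one_lt_card
  have h1 := card_lines_mul (F := F) (fun v : Fin m ⊕ Fin m → F => ¬ QfPlus m F v = 0)
    (by simp) (fun c v hc hv => by
      rw [QuadraticMap.map_smul, smul_eq_mul]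
      exact mul_ne_zero (mul_ne_zero hc hc) hv)
  have h3 := card_sing_plus (F := F) m
  have h4 := Nat.card_congr (Equiv.sumCompl (fun v : Fin m ⊕ Fin m → F => QfPlus m F v = 0))
  rw [Nat.card_sum, card_V] at h4
  obtain ⟨t, ht⟩ : ∃ t, Fintype.card F = t + 1 := ⟨Fintype.card F - 1, by omega⟩
  have ht0 : 0 < t := by omega
  have e1 : Fintype.card F - 1 = t := by omega
  rw [e1] at h1
  refine arith_lines ht ht0 ?_ ?_ (Z := Nat.card {v : Fin m ⊕ Fin m → F // QfPlus m F v = 0})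
  · rw [h1, add_comm, h4]
    ring
  · rw [h3]
    ring

theorem dvd_of_dvd_lines (h2 : (2 : F) = 0) (m r : ℕ) (hr : r.Prime)
    (hdvd : r ∣ Nat.card {W : Submodule F (Fin m ⊕ Fin m → F) //
        finrank F ↥W = 1 ∧ ∃ v ∈ W, ¬ QfPlus m F v = 0}) :
    r = 2 ∨ r ∣ Fintype.card F ^ m - 1 := by
  have h1 := card_nonsing_lines (F := F) m
  have h3 : r ∣ Fintype.card F ^ m * (Fintype.card F ^ m - 1) := by
    rw [← h1]
    exact Dvd.dvd.mul_right hdvd _
  rcases (Nat.Prime.dvd_mul hr).mp h3 with h4 | h4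
  · left
    have h5 := hr.dvd_of_dvd_pow h4
    have hchar : CharP F 2 := CharTwo.of_one_ne_zero_of_two_eq_zero one_ne_zero h2
    obtain ⟨n, hp, hn⟩ := FiniteField.card F 2
    rw [hn] at h5
    have h6 := hr.dvd_of_dvd_pow h5
    exact (Nat.prime_dvd_prime_iff_eq hr Nat.prime_two).mp h6
  · right
    exact h4

end count

section general

variable {F : Type*} [Field F] [Fintype F] {ι : Type} [Fintype ι] [DecidableEq ι]
  (Q : QuadraticForm F (ι → F))

theorem scalar_one (h2 : (2 : F) = 0) {z : F} {v₀ : ι → F} (hv₀ : Q v₀ ≠ 0)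
    (h : z * z * Q v₀ = Q v₀) : z = 1 := by
  have hcc : z * z = 1 := by
    have : (z * z - 1) * Q v₀ = 0 := by linear_combination h
    rcases mul_eq_zero.mp this with h' | h'
    · linear_combination h'
    · exact absurd h' hv₀
  have h3 : (z + 1) * (z + 1) = 0 := by linear_combination hcc + (z + 1) * h2
  have h4 := mul_self_eq_zero.mp h3
  linear_combination h4 - h2

/-- an isometry stabilising a nonsingular line fixes its vectors (characteristic two) -/
theorem fixed_of_line (h2 : (2 : F) = 0) (x : ↥(Cfsg.isometryGroup F ⇑Q))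
    (W : Submodule F (ι → F)) (hW1 : finrank F ↥W = 1) (v : ι → F) (hvW : v ∈ W)
    (hQv : Q v ≠ 0) (hmap : W.map (Matrix.toLin' (mt Q x)) ≤ W) : mt Q x *ᵥ v = v := by
  have hv0 : v ≠ 0 := fun h0 => hQv (by rw [h0]; exact QuadraticMap.map_zero _)
  have hXvW : mt Q x *ᵥ v ∈ W :=
    hmap (Submodule.mem_map.2 ⟨v, hvW, by rw [Matrix.toLin'_apply]⟩)
  have h1 := (finrank_eq_one_iff_of_nonzero' (⟨v, hvW⟩ : ↥W)
    (fun h => hv0 (congrArg Subtype.val h))).1 hW1 ⟨_, hXvW⟩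
  obtain ⟨c, hc⟩ := h1
  have hc' : c • v = mt Q x *ᵥ v := congrArg Subtype.val hc
  have hQ := mt_isom Q x v
  rw [← hc', QuadraticMap.map_smul, smul_eq_mul] at hQ
  have hc1 : c = 1 := scalar_one Q h2 hQv hQ
  rw [← hc', hc1, one_smul]

/-- an alternating involution of half rank has only singular fixed vectors -/
theorem fixed_singular_of_alt_half (h2 : (2 : F) = 0) (x : ↥(Cfsg.isometryGroup F ⇑Q))
    (hxx : x * x = 1) (hr : 2 * (mt Q x - 1).rank = Fintype.card ι) (halt : IsAltO Q x)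
    (v : ι → F) (hv : mt Q x *ᵥ v = v) : Q v = 0 := by
  have hXX := sq_mt Q hxx
  have hle : LinearMap.range (mt Q x - 1).mulVecLin ≤ LinearMap.ker (mt Q x - 1).mulVecLin := by
    rintro _ ⟨y, rfl⟩
    rw [LinearMap.mem_ker, Matrix.mulVecLin_apply, Matrix.mulVecLin_apply, Matrix.mulVec_mulVec,
      sq_zero_of_sq_one h2 _ hXX, Matrix.zero_mulVec]
  have h4 := LinearMap.finrank_range_add_finrank_ker (mt Q x - 1).mulVecLin
  rw [Module.finrank_fintype_fun_eq_card] at h4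
  have h5 : finrank F (LinearMap.range (mt Q x - 1).mulVecLin) = (mt Q x - 1).rank := rfl
  have heq : LinearMap.range (mt Q x - 1).mulVecLin = LinearMap.ker (mt Q x - 1).mulVecLin :=
    Submodule.eq_of_le_of_finrank_eq hle (by omega)
  have hvk : v ∈ LinearMap.ker (mt Q x - 1).mulVecLin := by
    rw [LinearMap.mem_ker, Matrix.mulVecLin_apply, Matrix.sub_mulVec, Matrix.one_mulVec, hv,
      sub_self]
  rw [← heq] at hvk
  obtain ⟨y, hy⟩ := hvk
  rw [← hy, Matrix.mulVecLin_apply]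
  exact halt y

theorem sq_mem_Omega (h2 : (2 : F) = 0) (hQ : (QuadraticMap.polarBilin Q).Nondegenerate)
    (H : HOm Q) (y : ↥(Cfsg.isometryGroup F ⇑Q)) : y * y ∈ Cfsg.Omega F ⇑Q := by
  by_cases hy : y ∈ Cfsg.Omega F ⇑Q
  · exact Subgroup.mul_mem _ hy hy
  · exact mul_mem_of_not_mem Q h2 hQ H hy hy

theorem eq_zero_of_fix {n : Type*} [Fintype n] [DecidableEq n] (M C : Matrix n n F)
    (hC : C * (M - 1) = 1) (w : n → F) (hw : M *ᵥ w = w) : w = 0 := by
  have : (C * (M - 1)) *ᵥ w = 0 := by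
    rw [← mulVec_mulVec, sub_mulVec, one_mulVec, hw, sub_self, mulVec_zero]
  rw [hC, one_mulVec] at this
  exact this

/-- a fixed nonsingular vector gives a fixed nonsingular line -/
theorem line_of_fixed (x : ↥(Cfsg.isometryGroup F ⇑Q)) (u : ι → F) (hxu : mt Q x *ᵥ u = u)
    (hu : Q u ≠ 0) :
    ∃ W : Submodule F (ι → F), (finrank F ↥W = 1 ∧ ∃ v ∈ W, Q v ≠ 0) ∧
      W.map (Matrix.toLin' (mt Q x)) ≤ W := by
  have hu0 : u ≠ 0 := fun h0 => hu (by rw [h0]; exact QuadraticMap.map_zero _)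
  refine ⟨F ∙ u, ⟨finrank_span_singleton hu0, u, Submodule.mem_span_singleton_self u, hu⟩, ?_⟩
  rintro _ ⟨w, hw, rfl⟩
  obtain ⟨c, rfl⟩ := Submodule.mem_span_singleton.1 hw
  rw [Matrix.toLin'_apply, mulVec_smul, hxu]
  exact Submodule.smul_mem _ _ (Submodule.mem_span_singleton_self u)

end general

section levi

variable {F : Type*} [Field F] {d : ℕ}

/-- the Levi embedding of `GL_d` in `O⁺_{2d}` -/
def levM (A A' : Matrix (Fin d) (Fin d) F) : Matrix (Fin d ⊕ Fin d) (Fin d ⊕ Fin d) F :=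
  fromBlocks A 0 0 A'ᵀ

theorem levM_mul (A A' B B' : Matrix (Fin d) (Fin d) F) :
    levM A A' * levM B B' = levM (A * B) (B' * A') := by
  unfold levM
  rw [fromBlocks_multiply, transpose_mul]
  simp

theorem levM_one : levM (1 : Matrix (Fin d) (Fin d) F) 1 = 1 := by
  unfold levM
  rw [transpose_one, fromBlocks_one]

theorem levM_mulVec_inl (A A' : Matrix (Fin d) (Fin d) F) (v : Fin d ⊕ Fin d → F) :
    (levM A A' *ᵥ v) ∘ Sum.inl = A *ᵥ (v ∘ Sum.inl) := by
  unfold levM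
  rw [fromBlocks_mulVec]
  funext i
  simp

theorem levM_mulVec_inr (A A' : Matrix (Fin d) (Fin d) F) (v : Fin d ⊕ Fin d → F) :
    (levM A A' *ᵥ v) ∘ Sum.inr = A'ᵀ *ᵥ (v ∘ Sum.inr) := by
  unfold levM
  rw [fromBlocks_mulVec]
  funext i
  simp

theorem levM_isom {A A' : Matrix (Fin d) (Fin d) F} (h : A' * A = 1) (v : Fin d ⊕ Fin d → F) :
    QfPlus d F (levM A A' *ᵥ v) = QfPlus d F v := by
  have hQ : ∀ w : Fin d ⊕ Fin d → F, QfPlus d F w = (w ∘ Sum.inl) ⬝ᵥ (w ∘ Sum.inr) :=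
    fun w => rfl
  rw [hQ, hQ, levM_mulVec_inl, levM_mulVec_inr, mulVec_transpose, dotProduct_comm,
    dotProduct_mulVec, vecMul_vecMul, h, vecMul_one, dotProduct_comm]

/-- the Levi element -/
def levO (A A' : Matrix (Fin d) (Fin d) F) (h1 : A * A' = 1) (h2 : A' * A = 1) :
    ↥(Cfsg.isometryGroup F ⇑(QfPlus d F)) :=
  ⟨⟨levM A A', levM A' A, by rw [levM_mul, h1, levM_one], by rw [levM_mul, h2, levM_one]⟩,
    (mem_isometryGroup_iff _ _).2 (levM_isom h2)⟩

theorem mt_levO (A A' : Matrix (Fin d) (Fin d) F) (h1 : A * A' = 1) (h2 : A' * A = 1) :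
    mt (QfPlus d F) (levO A A' h1 h2) = levM A A' := rfl

/-- an element of odd prime order of `Ω⁺_{2d}(q)` without non-zero fixed vectors -/
theorem exists_fpf_omega [Fintype F] (h2 : (2 : F) = 0) (hd : 1 ≤ d)
    (h : Fintype.card F ≠ 2 ∨ d ≠ 2) (r : ℕ) (hr : r.Prime) (hr2 : r ≠ 2)
    (hdvd : r ∣ Fintype.card F ^ d - 1) :
    ∃ x : ↥(Cfsg.isometryGroup F ⇑(QfPlus d F)), x ∈ Cfsg.Omega F ⇑(QfPlus d F) ∧ x ^ r = 1 ∧
      ∀ v, mt (QfPlus d F) x *ᵥ v = v → v = 0 := by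
  classical
  have hchar : CharP F 2 := CharTwo.of_one_ne_zero_of_two_eq_zero one_ne_zero h2
  have : Fact (Nat.Prime 2) := ⟨Nat.prime_two⟩
  have : NeZero d := ⟨by omega⟩
  have : Fact r.Prime := ⟨hr⟩
  let K := FiniteField.Extension F 2 d
  have hfr : Module.finrank F K = d := FiniteField.finrank_extension F 2 d
  let b : Module.Basis (Fin d) F K := Module.finBasisOfFinrankEq F K hfr
  let φ : K →ₐ[F] Matrix (Fin d) (Fin d) F := Algebra.leftMulMatrix b
  have hcardK : Nat.card Kˣ = Fintype.card F ^ d - 1 := by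
    rw [Nat.card_units, FiniteField.natCard_extension, Nat.card_eq_fintype_card]
  obtain ⟨ζ, hζ⟩ := exists_prime_orderOf_dvd_card' (G := Kˣ) r (by rw [hcardK]; exact hdvd)
  have hφ : ∀ u : Kˣ, φ u.1 * φ (u⁻¹).1 = 1 := fun u => by
    rw [← map_mul, ← Units.val_mul, mul_inv_cancel, Units.val_one, map_one]
  have hφ' : ∀ u : Kˣ, φ (u⁻¹).1 * φ u.1 = 1 := fun u => by
    rw [← map_mul, ← Units.val_mul, inv_mul_cancel, Units.val_one, map_one]
  let ψ : Kˣ → ↥(Cfsg.isometryGroup F ⇑(QfPlus d F)) :=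
    fun u => levO (φ u.1) (φ (u⁻¹).1) (hφ u) (hφ' u)
  have hψmul : ∀ u w, ψ (u * w) = ψ u * ψ w := by
    intro u w
    apply mt_injective (QfPlus d F)
    show levM (φ (u * w).1) (φ ((u * w)⁻¹).1) =
      levM (φ u.1) (φ (u⁻¹).1) * levM (φ w.1) (φ (w⁻¹).1)
    rw [levM_mul, _root_.mul_inv_rev, Units.val_mul, Units.val_mul, map_mul, map_mul]
  let Ψ : Kˣ →* ↥(Cfsg.isometryGroup F ⇑(QfPlus d F)) := MonoidHom.mk' ψ hψmul
  have hΨ : ∀ u, Ψ u = ψ u := fun u => rfl
  have hζr : ζ ^ r = 1 := by rw [← hζ]; exact pow_orderOf_eq_one ζ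
  have hζ1 : ζ ≠ 1 := by
    intro h1
    rw [h1, orderOf_one] at hζ
    exact hr.one_lt.ne hζ
  have hodd : Odd r := hr.odd_of_ne_two hr2
  obtain ⟨k, hk⟩ := hodd
  have hQnd := QfPlus_nondeg (F := F) d
  have H := HOm_plus h2 hd h
  refine ⟨Ψ ζ, ?_, ?_, ?_⟩
  · have h1 : Ψ ζ = Ψ (ζ ^ (k + 1)) * Ψ (ζ ^ (k + 1)) := by
      rw [← map_mul, ← pow_add, show k + 1 + (k + 1) = r + 1 by omega, pow_succ, hζr, one_mul]
    rw [h1]
    exact sq_mem_Omega (QfPlus d F) h2 hQnd H _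
  · rw [← map_pow, hζr, map_one]
  · intro v hv
    have hv' : levM (φ ζ.1) (φ (ζ⁻¹).1) *ᵥ v = v := hv
    have hl : φ ζ.1 *ᵥ (v ∘ Sum.inl) = v ∘ Sum.inl := by
      rw [← levM_mulVec_inl (φ ζ.1) (φ (ζ⁻¹).1), hv']
    have hr' : (φ (ζ⁻¹).1)ᵀ *ᵥ (v ∘ Sum.inr) = v ∘ Sum.inr := by
      rw [← levM_mulVec_inr (φ ζ.1) (φ (ζ⁻¹).1), hv']
    have hz1 : ζ.1 - 1 ≠ 0 := sub_ne_zero.2 (fun hh => hζ1 (Units.ext hh))
    have hz2 : (ζ⁻¹).1 - 1 ≠ 0 :=
      sub_ne_zero.2 (fun hh => hζ1 (inv_eq_one.mp (Units.ext hh)))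
    have hC1 : φ (ζ.1 - 1)⁻¹ * (φ ζ.1 - 1) = 1 := by
      rw [← map_one φ, ← map_sub, ← map_mul, inv_mul_cancel₀ hz1]
    have hC2 : (φ ((ζ⁻¹).1 - 1)⁻¹)ᵀ * ((φ (ζ⁻¹).1)ᵀ - 1) = 1 := by
      rw [← transpose_one, ← transpose_sub, ← transpose_mul, ← map_one φ, ← map_sub, ← map_mul,
        mul_inv_cancel₀ hz2, map_one, transpose_one]
    have e1 := eq_zero_of_fix _ _ hC1 _ hl
    have e2 := eq_zero_of_fix _ _ hC2 _ hr'
    funext i
    rcases i with i | i
    · exact congrFun e1 i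
    · exact congrFun e2 i

end levi

end Cfsg.Agent.Helper2.ONs
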