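import Mathlib
import Cfsg.Agent.Helper2.ONsA
import Cfsg.Prelude.Def_GeometricClasses

set_option autoImplicit false
set_option linter.unusedSectionVars false

/-! Characteristic two: `Ω⁺_{2d}(q)` on nonsingular points: which primes are elusive. -/

namespace Cfsg.Agent.Helper2.ONs

open Matrix Module Cfsg.Agent.Helper28.QWitt Cfsg.Agent.Helper28.IsoTransport Cfsg.Agent.Helper2.Sp
  Cfsg.Agent.Helper28.Spin Cfsg.Agent.Helper2.OInv Cfsg.Agent.Helper2.OCent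

section general

variable {F : Type*} [Field F] [Fintype F] {ι : Type} [Fintype ι] [DecidableEq ι]
  (Q : QuadraticForm F (ι → F))

/-- the key step: an element of `Ω` of order `r` all of whose fixed vectors are singular
contradicts the hypothesis that all elements of order `r` fix a nonsingular point -/
theorem no_fixed_point (h2 : (2 : F) = 0) (r : ℕ) {v₀ : ι → F} (hv₀ : Q v₀ ≠ 0)
    (hall : ∀ x : GL ι F, x ∈ Cfsg.Geo.omegaGL ⇑Q →
      (∃ z : F, ((x ^ r : GL ι F) : Matrix ι ι F) = z • (1 : Matrix ι ι F)) →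
      (∀ z : F, (x : Matrix ι ι F) ≠ z • (1 : Matrix ι ι F)) →
      ∃ W : Submodule F (ι → F), (finrank F ↥W = 1 ∧ ∃ v ∈ W, Q v ≠ 0) ∧
        W.map (Matrix.toLin' (x : Matrix ι ι F)) ≤ W)
    (x : ↥(Cfsg.isometryGroup F ⇑Q)) (hxΩ : x ∈ Cfsg.Omega F ⇑Q) (hxr : x ^ r = 1)
    (hfix : ∀ v, mt Q x *ᵥ v = v → Q v = 0) (hx1 : x ≠ 1) : False := by
  have hns : ∀ z : F, mt Q x ≠ z • (1 : Matrix ι ι F) := by
    intro z hz
    have h1 := mt_isom Q x v₀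
    rw [hz, smul_mulVec, one_mulVec, QuadraticMap.map_smul, smul_eq_mul] at h1
    have hz1 := scalar_one Q h2 hv₀ h1
    apply hx1
    apply mt_injective Q
    rw [hz, hz1, one_smul, mt_one]
  have hpow : ((((x : GL ι F)) ^ r : GL ι F) : Matrix ι ι F) = (1 : F) • (1 : Matrix ι ι F) := by
    have := congrArg (fun g : ↥(Cfsg.isometryGroup F ⇑Q) => ((g : GL ι F) : Matrix ι ι F)) hxr
    rw [one_smul]
    exact this
  obtain ⟨W, ⟨hW1, v, hvW, hQv⟩, hmap⟩ :=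
    hall x.1 (Subgroup.mem_map.2 ⟨x, hxΩ, rfl⟩) ⟨1, hpow⟩ hns
  exact hQv (hfix v (fixed_of_line Q h2 x W hW1 v hvW hQv hmap))

/-- involutions: reduce to `x * x = 1` -/
theorem sq_one_of_scalar (h2 : (2 : F) = 0) {v₀ : ι → F} (hv₀ : Q v₀ ≠ 0)
    (x : ↥(Cfsg.isometryGroup F ⇑Q))
    (hsq : ∃ z : F, (((x : GL ι F) ^ 2 : GL ι F) : Matrix ι ι F) = z • (1 : Matrix ι ι F)) :
    x * x = 1 := by
  obtain ⟨z, hz⟩ := hsq
  have hz' : mt Q x * mt Q x = z • (1 : Matrix ι ι F) := by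
    rw [← hz, sq]
    rfl
  have h1 := mt_isom Q (x * x) v₀
  rw [mt_mul, hz', smul_mulVec, one_mulVec, QuadraticMap.map_smul, smul_eq_mul] at h1
  have hz1 := scalar_one Q h2 hv₀ h1
  apply mt_injective Q
  rw [mt_mul, hz', hz1, one_smul, mt_one]

end general

section plus

variable {F : Type*} [Field F] [Fintype F] {d : ℕ}

theorem exists_nonsing_plus (h2 : (2 : F) = 0) (hd : 1 ≤ d) :
    ∃ v₀ : Fin d ⊕ Fin d → F, QfPlus d F v₀ ≠ 0 := by
  have hQ := QfPlus_nondeg (F := F) d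
  obtain ⟨u, -, hu⟩ := exists_fixed_nonsingular (QfPlus d F) h2 hQ 1 (one_mul 1) (by
    rintro ⟨h1, -⟩
    rw [mt_one, sub_self, Matrix.rank_zero, Fintype.card_sum, Fintype.card_fin] at h1
    omega)
  exact ⟨u, hu⟩

theorem plus_backward (h2 : (2 : F) = 0) (hd : 1 ≤ d) (hodd : Odd d)
    (x : GL (Fin d ⊕ Fin d) F) (hx : x ∈ Cfsg.Geo.omegaGL ⇑(QfPlus d F))
    (hsq : ∃ z : F, ((x ^ 2 : GL (Fin d ⊕ Fin d) F) : Matrix (Fin d ⊕ Fin d) (Fin d ⊕ Fin d) F) =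
      z • (1 : Matrix (Fin d ⊕ Fin d) (Fin d ⊕ Fin d) F)) :
    ∃ W : Submodule F (Fin d ⊕ Fin d → F), (finrank F ↥W = 1 ∧ ∃ v ∈ W, QfPlus d F v ≠ 0) ∧
      W.map (Matrix.toLin' (x : Matrix (Fin d ⊕ Fin d) (Fin d ⊕ Fin d) F)) ≤ W := by
  obtain ⟨x', hx'Ω, rfl⟩ := Subgroup.mem_map.1 hx
  have hQ := QfPlus_nondeg (F := F) d
  obtain ⟨v₀, hv₀⟩ := exists_nonsing_plus (F := F) h2 hd
  have hxx : x' * x' = 1 := sq_one_of_scalar (QfPlus d F) h2 hv₀ x' hsq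
  obtain ⟨u, hxu, hu⟩ := exists_fixed_nonsingular (QfPlus d F) h2 hQ x' hxx (by
    rintro ⟨h1, h3⟩
    have hev := even_rank_of_altO (QfPlus d F) h2 hQ (k := d)
      (by rw [Fintype.card_sum, Fintype.card_fin]; ring) x' hxx h3
    rw [Fintype.card_sum, Fintype.card_fin] at h1
    obtain ⟨a, ha⟩ := hev
    obtain ⟨b, hb⟩ := hodd
    omega)
  exact line_of_fixed (QfPlus d F) x' u hxu hu

theorem plus_forward (h2 : (2 : F) = 0) (hd : 4 ≤ d) (r : ℕ) (hr : r.Prime)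
    (hrΩ : r ∣ Nat.card {W : Submodule F (Fin d ⊕ Fin d → F) //
        finrank F ↥W = 1 ∧ ∃ v ∈ W, QfPlus d F v ≠ 0})
    (hall : ∀ x : GL (Fin d ⊕ Fin d) F, x ∈ Cfsg.Geo.omegaGL ⇑(QfPlus d F) →
      (∃ z : F, ((x ^ r : GL (Fin d ⊕ Fin d) F) : Matrix (Fin d ⊕ Fin d) (Fin d ⊕ Fin d) F) =
        z • (1 : Matrix (Fin d ⊕ Fin d) (Fin d ⊕ Fin d) F)) →
      (∀ z : F, (x : Matrix (Fin d ⊕ Fin d) (Fin d ⊕ Fin d) F) ≠
        z • (1 : Matrix (Fin d ⊕ Fin d) (Fin d ⊕ Fin d) F)) →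
      ∃ W : Submodule F (Fin d ⊕ Fin d → F), (finrank F ↥W = 1 ∧ ∃ v ∈ W, QfPlus d F v ≠ 0) ∧
        W.map (Matrix.toLin' (x : Matrix (Fin d ⊕ Fin d) (Fin d ⊕ Fin d) F)) ≤ W) :
    r = 2 ∧ Odd d := by
  have hd1 : 1 ≤ d := by omega
  have hcard : Fintype.card F ≠ 2 ∨ d ≠ 2 := Or.inr (by omega)
  obtain ⟨v₀, hv₀⟩ := exists_nonsing_plus (F := F) h2 hd1
  have hv₀0 : v₀ ≠ 0 := fun h0 => hv₀ (by rw [h0]; exact QuadraticMap.map_zero _)
  have h2or := dvd_of_dvd_lines h2 d r hr hrΩ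
  by_cases hr2 : r = 2
  · refine ⟨hr2, ?_⟩
    by_contra hodd
    rw [Nat.not_odd_iff_even] at hodd
    obtain ⟨k, hk⟩ := hodd
    have hk2 : 2 * k ≤ d := by omega
    have hrank := uaO_rank F d h2 hk2
    have hxx := uaO_sq (F := F) (m := d) h2 k
    apply no_fixed_point (QfPlus d F) h2 r hv₀ hall (uaO F d h2 k)
    · rw [HOm_plus h2 hd1 hcard, hrank]
      exact ⟨k, by ring⟩
    · rw [hr2, sq]
      exact hxx
    · intro v hv
      exact fixed_singular_of_alt_half (QfPlus d F) h2 _ hxx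
        (by rw [hrank, Fintype.card_sum, Fintype.card_fin]; omega) (uaO_alt F d h2 k) v hv
    · intro h1
      rw [h1, mt_one, sub_self, Matrix.rank_zero] at hrank
      omega
  · exfalso
    have hdv : r ∣ Fintype.card F ^ d - 1 := h2or.resolve_left hr2
    obtain ⟨x, hxΩ, hxr, hfpf⟩ := exists_fpf_omega h2 hd1 hcard r hr hr2 hdv
    apply no_fixed_point (QfPlus d F) h2 r hv₀ hall x hxΩ hxr
    · intro v hv
      rw [hfpf v hv]
      exact QuadraticMap.map_zero _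
    · intro h1
      apply hv₀0
      apply hfpf
      rw [h1, mt_one, one_mulVec]

end plus

end Cfsg.Agent.Helper2.ONs
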