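import Mathlib
import Cfsg.Agent.Helper2.ONsB
import Cfsg.Agent.Helper13.OrthEmbed

set_option autoImplicit false
set_option linter.unusedSectionVars false

/-! Characteristic two: tools for the minus-type orthogonal groups: free actions, recognition of
the type of a quadratic form, change of the anisotropic part. -/

namespace Cfsg.Agent.Helper2.ONs

open Matrix Module Cfsg.Agent.Helper28.QWitt Cfsg.Agent.Helper28.IsoTransport Cfsg.Agent.Helper2.Sp
  Cfsg.Agent.Helper28.Spin Cfsg.Agent.Helper2.OInv Cfsg.Agent.Helper2.OCent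

/-- the order of a finite group acting freely divides the number of points -/
theorem card_dvd_of_free {G X : Type*} [Group G] [MulAction G X] [Finite G] [Finite X]
    (hfree : ∀ (g : G) (x : X), g • x = x → g = 1) : Nat.card G ∣ Nat.card X := by
  have e := MulAction.selfEquivSigmaOrbitsQuotientStabilizer G X
  have hstab : ∀ x : X, MulAction.stabilizer G x = ⊥ := by
    intro x
    rw [Subgroup.eq_bot_iff_forall]
    intro g hg
    exact hfree g x (MulAction.mem_stabilizer_iff.mp hg)
  have hfib : ∀ ω : Quotient (MulAction.orbitRel G X),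
      Nat.card (G ⧸ MulAction.stabilizer G ω.out) * 1 = Nat.card G := by
    intro ω
    have h1 := Subgroup.card_eq_card_quotient_mul_card_subgroup (MulAction.stabilizer G ω.out)
    rw [hstab, Subgroup.card_bot] at h1
    rw [hstab]
    exact h1.symm
  have h1 := card_sigma_mul
    (β := fun ω : Quotient (MulAction.orbitRel G X) => G ⧸ MulAction.stabilizer G ω.out) 1
    (Nat.card G) hfib
  rw [mul_one] at h1
  rw [Nat.card_congr e, h1]
  exact Dvd.intro_left _ rfl

theorem arith_not_plus {q Y Z : ℕ} (hq : 2 ≤ q) (heven : Even q) (hY : 1 ≤ Y)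
    (hZ : Z * q + q * Y = (q * Y) * (q * Y) + (q * Y) * q) (hdvd : q * Y + 1 ∣ Z - 1)
    (hZ1 : 1 ≤ Z) : False := by
  obtain ⟨Z', rfl⟩ : ∃ Z', Z = Z' + 1 := ⟨Z - 1, by omega⟩
  rw [Nat.add_sub_cancel] at hdvd
  obtain ⟨U, hU⟩ : ∃ U, q * Y = U + 1 := ⟨q * Y - 1, by
    have : 1 ≤ q * Y := Nat.mul_pos (by omega) hY
    omega⟩
  have h1 : Z' * q = U * (q * Y + q) := by
    zify at hZ hU ⊢
    have hU' : (U : ℤ) = q * Y - 1 := by linarith
    rw [hU']
    linear_combination hZ
  have h3 : q * Y + 1 ∣ U * (q * Y + q) := by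
    rw [← h1]
    exact Dvd.dvd.mul_right hdvd q
  have hUodd : Odd U := by
    obtain ⟨c, hc⟩ := heven
    refine ⟨c * Y - 1, ?_⟩
    have : 1 ≤ c * Y := Nat.mul_pos (by omega) hY
    have h5 : q * Y = 2 * (c * Y) := by rw [hc]; ring
    omega
  have hc1 : Nat.Coprime (q * Y + 1) U := by
    have : q * Y + 1 = 2 + U := by omega
    rw [this, Nat.coprime_add_self_left, Nat.coprime_two_left]
    exact hUodd
  have h4 : q * Y + 1 ∣ q * Y + q := hc1.dvd_of_dvd_mul_left h3
  have hc2 : Nat.Coprime (q * Y + 1) q := by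
    have h5 : Nat.gcd (q * Y + 1) q ∣ q := Nat.gcd_dvd_right _ _
    have h6 : Nat.gcd (q * Y + 1) q ∣ q * Y + 1 := Nat.gcd_dvd_left _ _
    have h7 : Nat.gcd (q * Y + 1) q ∣ 1 := (Nat.dvd_add_right (Dvd.dvd.mul_right h5 Y)).mp h6
    exact Nat.dvd_one.mp h7
  have h8 : q * Y + 1 ∣ q * (Y + 1) := by
    rw [mul_add, mul_one]
    exact h4
  have h9 : q * Y + 1 ∣ Y + 1 := hc2.dvd_of_dvd_mul_left h8
  have h10 := Nat.le_of_dvd (Nat.succ_pos Y) h9
  nlinarith

section dichotomy

variable {F V : Type*} [Field F] [Finite F] [AddCommGroup V] [Module F V] [FiniteDimensional F V]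

open Cfsg.Agent.Helper13 Cfsg.Agent.S2617 Cfsg.Agent.S2562 in
/-- a non-degenerate quadratic form of dimension `2m` over a finite field is the plus form or a
minus form in suitable coordinates -/
theorem isometry_dichotomy {m : ℕ} (hm : 1 ≤ m) (hV : finrank F V = 2 * m)
    (Q : QuadraticForm F V) (hQ : (QuadraticMap.polarBilin Q).Nondegenerate) :
    (∃ g : V ≃ₗ[F] (Fin m ⊕ Fin m → F), ∀ v, Cfsg.quadFormPlus m F (g v) = Q v) ∨
    (∃ ζ : F, (∀ t : F, t ^ 2 + t + ζ ≠ 0) ∧
      ∃ g : V ≃ₗ[F] ((Fin (m - 1) ⊕ Fin (m - 1)) ⊕ Fin 2 → F),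
        ∀ v, Cfsg.quadFormMinus (m - 1) F 1 ζ (g v) = Q v) := by
  classical
  rcases Cfsg.Agent.S2616.result hm hV Q hQ with ⟨b, h1, h2, h3⟩ |
    ⟨b, ζ, hζ, h1, h2, h3, h4, hx, hxy, hy⟩
  · left
    refine ⟨b.equivFun, ?_⟩
    intro v
    rw [← Qp_apply]
    symm
    apply eq_comp_equivFun b Q (Qp m F)
    · intro k
      rw [Qp_single]
      rcases k with i | i
      · exact (h1 i).1
      · exact (h1 i).2
    · intro k l
      rw [Qp_polar_single]
      rcases k with i | i <;> rcases l with j | j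
      · rw [(h3 i j).1]; simp
      · rw [h2 i j]; simp [Matrix.one_apply]
      · rw [QuadraticMap.polar_comm, h2 j i]; simp [Matrix.one_apply, eq_comm]
      · rw [(h3 i j).2]; simp
  · right
    refine ⟨ζ, hζ, b.equivFun, ?_⟩
    intro v
    rw [← Qm_apply]
    symm
    apply eq_comp_equivFun b Q (Qm (m - 1) F 1 ζ)
    · intro k
      rw [Qm_single]
      rcases k with (i | i) | k
      · exact (h1 i).1
      · exact (h1 i).2
      · fin_cases k
        · exact hx
        · exact hy
    · intro k l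
      rw [Qm_polar_single]
      rcases k with (i | i) | k <;> rcases l with (j | j) | l
      · rw [(h3 i j).1]; simp
      · rw [h2 i j]; simp [Matrix.one_apply]
      · rw [(h4 i l).1]; simp
      · rw [QuadraticMap.polar_comm, h2 j i]; simp [Matrix.one_apply, eq_comm]
      · rw [(h3 i j).2]; simp
      · rw [(h4 i l).2]; simp
      · rw [QuadraticMap.polar_comm, (h4 j k).1]; simp
      · rw [QuadraticMap.polar_comm, (h4 j k).2]; simp
      · fin_cases k <;> fin_cases l
        · show QuadraticMap.polar Q (b (Sum.inr 0)) (b (Sum.inr 0)) = _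
          rw [Cfsg.Agent.Helper13.polar_self', hx]; simp
        · show QuadraticMap.polar Q (b (Sum.inr 0)) (b (Sum.inr 1)) = _
          rw [hxy]; simp
        · show QuadraticMap.polar Q (b (Sum.inr 1)) (b (Sum.inr 0)) = _
          rw [QuadraticMap.polar_comm, hxy]; simp
        · show QuadraticMap.polar Q (b (Sum.inr 1)) (b (Sum.inr 1)) = _
          rw [Cfsg.Agent.Helper13.polar_self', hy]; simp

end dichotomy

section adjust

variable {F : Type*} [Field F] [Fintype F]

/-- changing the anisotropic part: the minus forms with parameters `(1, ζ)` and `(a, b)` are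
equivalent -/
theorem minus_adjust (h2 : (2 : F) = 0) (k : ℕ) {a b ζ : F} (hab : Quad.Aniso a b)
    (hζ : ∀ t : F, t ^ 2 + t + ζ ≠ 0) :
    ∃ g : ((Fin k ⊕ Fin k) ⊕ Fin 2 → F) ≃ₗ[F] ((Fin k ⊕ Fin k) ⊕ Fin 2 → F),
      ∀ w, QfMinus k F a b (g w) = QfMinus k F 1 ζ w := by
  have hneg : ∀ c : F, -c = c := fun c =>
    neg_eq_of_add_eq_zero_left (by rw [← two_mul, h2, zero_mul])
  have hchar : CharP F 2 := CharTwo.of_one_ne_zero_of_two_eq_zero one_ne_zero h2
  have ha : a ≠ 0 := Cfsg.Agent.S2171.ne_zero_of_aniso a b hab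
  -- `b / a ^ 2` and `ζ` both lie outside the Artin–Schreier subgroup
  have hb : ¬ Wp (b / (a * a)) := by
    rintro ⟨s, hs⟩
    have h1 := hab (a * s) 1 (by
      have : b = (s * s + s) * (a * a) := by rw [hs]; field_simp
      rw [this]
      linear_combination (a * a * s * s + a * a * s) * h2)
    exact one_ne_zero h1.2
  have hz : ¬ Wp ζ := by
    rintro ⟨s, hs⟩
    apply hζ s
    rw [← hs]
    linear_combination (s * s + s) * h2
  have hsum : Wp (ζ + b / (a * a)) := by
    rw [wp_add_iff h2]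
    tauto
  obtain ⟨t, ht⟩ := hsum
  -- the matrix of the change of coordinates on the anisotropic part
  obtain ⟨M, hM⟩ : ∃ M : Matrix (Fin 2) (Fin 2) F, M = !![1, t; 0, a⁻¹] := ⟨_, rfl⟩
  obtain ⟨M', hM'⟩ : ∃ M' : Matrix (Fin 2) (Fin 2) F, M' = !![1, t * a; 0, a] := ⟨_, rfl⟩
  have hMM' : M * M' = 1 := by
    rw [hM, hM']
    ext i j
    fin_cases i <;> fin_cases j <;> simp [Matrix.mul_apply, Fin.sum_univ_two, ha]
    all_goals (try linear_combination (t * a) * h2)
  have hM'M : M' * M = 1 := by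
    rw [hM, hM']
    ext i j
    fin_cases i <;> fin_cases j <;> simp [Matrix.mul_apply, Fin.sum_univ_two, ha]
    all_goals (try linear_combination t * h2)
  have hbin : ∀ z : Fin 2 → F, bin F a b (M *ᵥ z) = bin F 1 ζ z := by
    intro z
    have e0 : (M *ᵥ z) 0 = z 0 + t * z 1 := by
      rw [hM]; simp [Matrix.mulVec, dotProduct, Fin.sum_univ_two]
    have e1 : (M *ᵥ z) 1 = a⁻¹ * z 1 := by
      rw [hM]; simp [Matrix.mulVec, dotProduct, Fin.sum_univ_two]
    unfold bin
    rw [e0, e1]
    have hb' : b = (t * t + t + ζ) * (a * a) := by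
      have : b / (a * a) = t * t + t + ζ := by
        have h5 : ζ + b / (a * a) = t * t + t := ht.symm
        linear_combination h5 - ζ * h2
      rw [← this]; field_simp
    have hai : a * a⁻¹ = 1 := mul_inv_cancel₀ ha
    rw [hb']
    linear_combination (z 0 * z 1 + t * z 1 ^ 2 + (t * t + t + ζ) * z 1 ^ 2 * (a * a⁻¹ + 1)) *
      hai + (t * z 0 * z 1 + t * t * z 1 ^ 2 + t * z 1 ^ 2) * h2
  have hT1 : blk F k 1 M * blk F k 1 M' = 1 := by
    unfold blk
    rw [fromBlocks_multiply]
    simp [hMM', fromBlocks_one]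
  have hT2 : blk F k 1 M' * blk F k 1 M = 1 := by
    unfold blk
    rw [fromBlocks_multiply]
    simp [hM'M, fromBlocks_one]
  refine ⟨LinearEquiv.ofLinearMap (Matrix.toLin' (blk F k 1 M)) (Matrix.toLin' (blk F k 1 M'))
    (by rw [← Matrix.toLin'_mul, hT1, Matrix.toLin'_one])
    (by rw [← Matrix.toLin'_mul, hT2, Matrix.toLin'_one]), ?_⟩
  intro w
  show QfMinus k F a b (Matrix.toLin' (blk F k 1 M) w) = _
  rw [Matrix.toLin'_apply, Qm_split, Qm_split, blk_mulVec_inl, blk_mulVec_inr, one_mulVec, hbin]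

end adjust

end Cfsg.Agent.Helper2.ONs
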