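import Mathlib
import Cfsg.Agent.Helper2.ONsC
import Cfsg.Agent.Helper28.WittOmega

set_option autoImplicit false
set_option linter.unusedSectionVars false

/-! Characteristic two: `Ω⁻_{2d}(q)` on nonsingular points. The minus form is realised on the field
with `q ^ (2 d)` elements as `x ↦ T (x ^ (q ^ d + 1))`, which exhibits the isometries given by the
elements of norm one. -/

namespace Cfsg.Agent.Helper2.ONs

open Matrix Module Cfsg.Agent.Helper28.QWitt Cfsg.Agent.Helper28.IsoTransport Cfsg.Agent.Helper2.Sp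
  Cfsg.Agent.Helper28.Spin Cfsg.Agent.Helper2.OInv Cfsg.Agent.Helper2.OCent

section model

variable {F : Type*} [Field F] {K : Type*} [Field K] [Algebra F K]

/-- the bilinear map `(x, y) ↦ T (x σ(y))` -/
noncomputable def trB (T : K →ₗ[F] F) (σ : K ≃ₐ[F] K) : LinearMap.BilinMap F K F :=
  LinearMap.mk₂ F (fun x y => T (x * σ y))
    (fun x y z => by rw [add_mul, map_add])
    (fun c x y => by rw [smul_mul_assoc, map_smul])
    (fun x y z => by rw [map_add, mul_add, map_add])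
    (fun c x y => by rw [map_smul, mul_smul_comm, map_smul])

/-- the quadratic form `x ↦ T (x σ(x))` -/
noncomputable def trQ (T : K →ₗ[F] F) (σ : K ≃ₐ[F] K) : QuadraticForm F K :=
  (trB T σ).toQuadraticMap

theorem trQ_apply (T : K →ₗ[F] F) (σ : K ≃ₐ[F] K) (x : K) : trQ T σ x = T (x * σ x) := rfl

theorem trQ_polar (T : K →ₗ[F] F) (σ : K ≃ₐ[F] K) (x y : K) :
    QuadraticMap.polar (trQ T σ) x y = T (x * σ y) + T (y * σ x) :=
  LinearMap.BilinMap.polar_toQuadraticMap (B := trB T σ) x y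

theorem trQ_nondeg (T : K →ₗ[F] F) (σ : K ≃ₐ[F] K) (hσσ : ∀ x, σ (σ x) = x) {z₀ : K}
    (hz₀ : T (z₀ + σ z₀) ≠ 0) : (QuadraticMap.polarBilin (trQ T σ)).Nondegenerate := by
  have key : ∀ x : K, (∀ y, QuadraticMap.polar (trQ T σ) x y = 0) → x = 0 := by
    intro x hx
    by_contra hx0
    apply hz₀
    have h1 := hx (σ (z₀ / x))
    rw [trQ_polar, hσσ] at h1
    have e1 : x * (z₀ / x) = z₀ := by field_simp
    have e2 : σ (z₀ / x) * σ x = σ z₀ := by
      rw [← map_mul]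
      congr 1
      field_simp
    rw [e1, e2, ← map_add] at h1
    exact h1
  constructor
  · intro x hx
    exact key x (fun y => by
      have := hx y
      rwa [QuadraticMap.polarBilin_apply_apply] at this)
  · intro y hy
    exact key y (fun x => by
      have := hy x
      rw [QuadraticMap.polarBilin_apply_apply, QuadraticMap.polar_comm] at this
      exact this)

theorem trQ_mul (T : K →ₗ[F] F) (σ : K ≃ₐ[F] K) {u : K} (hu : u * σ u = 1) (x : K) :
    trQ T σ (u * x) = trQ T σ x := by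
  have h1 : u * x * σ (u * x) = x * σ x := by
    rw [map_mul σ]
    linear_combination (x * σ x) * hu
  rw [trQ_apply, trQ_apply, h1]

/-- the elements of norm one -/
def normOne (K : Type*) [Field K] (n : ℕ) : Subgroup Kˣ := (powMonoidHom (n + 1) : Kˣ →* Kˣ).ker

theorem mem_normOne (n : ℕ) {u : Kˣ} : u ∈ normOne K n ↔ u ^ (n + 1) = 1 := by
  unfold normOne
  rw [MonoidHom.mem_ker, powMonoidHom_apply]

theorem normOne_mul_sigma (σ : K ≃ₐ[F] K) (n : ℕ) (hσ : ∀ x, σ x = x ^ n) {u : Kˣ}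
    (hu : u ∈ normOne K n) : (u : K) * σ (u : K) = 1 := by
  rw [hσ, ← pow_succ', ← Units.val_pow_eq_pow_val, (mem_normOne n).1 hu, Units.val_one]

variable [Finite K]

theorem sigma_sigma (σ : K ≃ₐ[F] K) (n : ℕ) (hK : Nat.card K = n * n) (hσ : ∀ x, σ x = x ^ n)
    (x : K) : σ (σ x) = x := by
  have := Fintype.ofFinite K
  rw [hσ, hσ, ← pow_mul, ← hK, Nat.card_eq_fintype_card, FiniteField.pow_card]

theorem exists_add_sigma_ne (σ : K ≃ₐ[F] K) (n : ℕ) (h2K : (2 : K) = 0) (hn : 2 ≤ n)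
    (hK : Nat.card K = n * n) (hσ : ∀ x, σ x = x ^ n) : ∃ z : K, z + σ z ≠ 0 := by
  by_contra hcon
  push Not at hcon
  have := Fintype.ofFinite K
  have hfix : ∀ z : K, z ^ n = z := by
    intro z
    have h1 := hcon z
    rw [hσ] at h1
    linear_combination h1 - z * h2K
  have hall : ∀ x : Kˣ, x ^ (n - 1) = 1 := by
    intro x
    have h1 := hfix x.1
    apply Units.ext
    rw [Units.val_pow_eq_pow_val, Units.val_one]
    have hx : x.1 ≠ 0 := x.ne_zero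
    have h3 : x.1 ^ (n - 1) * x.1 = 1 * x.1 := by
      rw [← pow_succ, Nat.sub_add_cancel (by omega), h1, one_mul]
    exact mul_right_cancel₀ hx h3
  rw [FiniteField.forall_pow_eq_one_iff, ← Nat.card_eq_fintype_card, hK] at hall
  have h5 := Nat.le_of_dvd (by omega) hall
  have h6 : 2 * n ≤ n * n := Nat.mul_le_mul_right n hn
  obtain ⟨N, hN⟩ : ∃ N, N = n * n := ⟨_, rfl⟩
  rw [← hN] at h5 h6
  omega

theorem dvd_card_normOne (n : ℕ) (hn : 2 ≤ n) (hK : Nat.card K = n * n) :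
    n + 1 ∣ Nat.card ↥(normOne K n) := by
  obtain ⟨g, hg⟩ := IsCyclic.exists_generator (α := Kˣ)
  have hord : orderOf g = n * n - 1 := by
    rw [orderOf_eq_card_of_forall_mem_zpowers hg, Nat.card_units, hK]
  have hfac : n * n - 1 = (n - 1) * (n + 1) := by
    obtain ⟨m, rfl⟩ : ∃ m, n = m + 1 := ⟨n - 1, by omega⟩
    rw [Nat.add_sub_cancel]
    apply Nat.sub_eq_of_eq_add
    ring
  have hγ : orderOf (g ^ (n - 1)) = n + 1 := by
    rw [orderOf_pow_of_dvd (by omega) (by rw [hord, hfac]; exact Dvd.intro _ rfl), hord, hfac]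
    exact Nat.mul_div_cancel_left _ (by omega)
  have hmem : g ^ (n - 1) ∈ normOne K n := by
    rw [mem_normOne, ← pow_mul, ← hfac, ← hord]
    exact pow_orderOf_eq_one g
  have h1 : orderOf (⟨g ^ (n - 1), hmem⟩ : ↥(normOne K n)) = n + 1 := by
    rw [← hγ]
    exact Subgroup.orderOf_mk _ _
  rw [← h1]
  exact orderOf_dvd_natCard _

/-- the elements of norm one act freely on the non-zero singular vectors -/
theorem card_norm_dvd (T : K →ₗ[F] F) (σ : K ≃ₐ[F] K) (N : Subgroup Kˣ)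
    (hN : ∀ u ∈ N, (u : K) * σ (u : K) = 1) :
    Nat.card ↥N ∣ Nat.card {x : K // x ≠ 0 ∧ trQ T σ x = 0} := by
  let inst : MulAction ↥N {x : K // x ≠ 0 ∧ trQ T σ x = 0} :=
    { smul := fun u x => ⟨(u.1 : K) * x.1, mul_ne_zero u.1.ne_zero x.2.1, by
        rw [trQ_mul T σ (hN u.1 u.2), x.2.2]⟩
      one_smul := fun x => Subtype.ext (by
        show (((1 : ↥N) : Kˣ) : K) * x.1 = x.1
        rw [Subgroup.coe_one, Units.val_one, one_mul])
      mul_smul := fun u v x => Subtype.ext (by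
        show (((u * v : ↥N) : Kˣ) : K) * x.1 = (u.1 : K) * ((v.1 : K) * x.1)
        rw [Subgroup.coe_mul, Units.val_mul, mul_assoc]) }
  apply card_dvd_of_free
  intro u x hux
  have h1 : (u.1 : K) * x.1 = x.1 := congrArg Subtype.val hux
  have h3 : (u.1 : K) = 1 := mul_right_cancel₀ x.2.1 (h1.trans (one_mul _).symm)
  exact Subtype.ext (Units.ext h3)

theorem card_pred_zero {V : Type*} [AddCommGroup V] [Finite V] (P : V → Prop) (h0 : P 0) :
    Nat.card {w : V // P w} = Nat.card {w : V // w ≠ 0 ∧ P w} + 1 := by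
  classical
  rw [← Finite.card_option]
  apply Nat.card_congr
  exact
    { toFun := fun w => if h : w.1 = 0 then none else some ⟨w.1, h, w.2⟩
      invFun := fun o => o.elim ⟨0, h0⟩ (fun w => ⟨w.1, w.2.2⟩)
      left_inv := by
        rintro ⟨w, hw⟩
        by_cases h : w = 0
        · subst h
          simp
        · simp [h]
      right_inv := by
        intro o
        cases o with
        | none => simp
        | some w => simp [w.2.1] }

theorem not_plus [Fintype F] (T : K →ₗ[F] F) (σ : K ≃ₐ[F] K) (n : ℕ) {d : ℕ} (hd : 1 ≤ d)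
    (heven : Even (Fintype.card F)) (hn : n = Fintype.card F ^ d) (N : Subgroup Kˣ)
    (hN : ∀ u ∈ N, (u : K) * σ (u : K) = 1) (hcardN : n + 1 ∣ Nat.card ↥N)
    (g : K ≃ₗ[F] (Fin d ⊕ Fin d → F))
    (hg : ∀ v, Cfsg.quadFormPlus d F (g v) = trQ T σ v) : False := by
  have h1 : n + 1 ∣ Nat.card {x : K // x ≠ 0 ∧ trQ T σ x = 0} :=
    dvd_trans hcardN (card_norm_dvd T σ N hN)
  have e : {x : K // x ≠ 0 ∧ trQ T σ x = 0} ≃
      {w : Fin d ⊕ Fin d → F // w ≠ 0 ∧ QfPlus d F w = 0} :=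
    Equiv.subtypeEquiv g.toEquiv (fun x => by
      show (x ≠ 0 ∧ trQ T σ x = 0) ↔ (g x ≠ 0 ∧ QfPlus d F (g x) = 0)
      rw [← hg x]
      have : g x ≠ 0 ↔ x ≠ 0 := g.map_ne_zero_iff
      rw [this]
      rfl)
  rw [Nat.card_congr e] at h1
  have h3 : Nat.card {w : Fin d ⊕ Fin d → F // QfPlus d F w = 0} =
      Nat.card {w : Fin d ⊕ Fin d → F // w ≠ 0 ∧ QfPlus d F w = 0} + 1 :=
    card_pred_zero (fun w : Fin d ⊕ Fin d → F => QfPlus d F w = 0) (QuadraticMap.map_zero _)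
  obtain ⟨d', rfl⟩ : ∃ d', d = d' + 1 := ⟨d - 1, by omega⟩
  have h4 := card_sing_plus (F := F) (d' + 1)
  obtain ⟨q, hq⟩ : ∃ q, q = Fintype.card F := ⟨_, rfl⟩
  have hq2 : 2 ≤ q := by rw [hq]; exact Fintype.one_lt_card
  rw [← hq] at h4 heven hn
  obtain ⟨Z, hZ⟩ : ∃ Z, Z = Nat.card {w : Fin (d' + 1) ⊕ Fin (d' + 1) → F //
      QfPlus (d' + 1) F w = 0} := ⟨_, rfl⟩
  rw [← hZ] at h3 h4
  have hnq : n = q * q ^ d' := by rw [hn, pow_succ']
  apply arith_not_plus (q := q) (Y := q ^ d') (Z := Z) hq2 heven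
    (Nat.one_le_pow _ _ (by omega))
  · calc Z * q + q * q ^ d' = Z * q + q ^ (d' + 1) := by ring
      _ = q ^ (2 * (d' + 1)) + q ^ (d' + 1 + 1) := h4
      _ = _ := by ring
  · rw [← hnq, h3, Nat.add_sub_cancel]
    exact h1
  · rw [h3]
    omega

end model

section hom

variable {F : Type*} [Field F] {K : Type*} [Field K] [Algebra F K] {ι : Type} [Fintype ι]
  [DecidableEq ι]

/-- multiplication by a unit as a linear equivalence -/
noncomputable def mulEquiv (u : Kˣ) : K ≃ₗ[F] K :=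
  LinearEquiv.ofLinearMap (LinearMap.mulLeft F (u : K)) (LinearMap.mulLeft F ((u⁻¹ : Kˣ) : K))
    (LinearMap.ext fun x => by simp) (LinearMap.ext fun x => by simp)

theorem mulEquiv_apply (u : Kˣ) (x : K) : mulEquiv (F := F) u x = (u : K) * x := rfl

theorem exists_hom (T : K →ₗ[F] F) (σ : K ≃ₐ[F] K) (Q : QuadraticForm F (ι → F))
    (N : Subgroup Kˣ) (hN : ∀ u ∈ N, (u : K) * σ (u : K) = 1) (G : K ≃ₗ[F] (ι → F))
    (hG : ∀ v, Q (G v) = trQ T σ v) :
    ∃ Ψ : ↥N →* ↥(Cfsg.isometryGroup F ⇑Q), ∀ (u : ↥N) (w : ι → F),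
      mt Q (Ψ u) *ᵥ w = G ((u.1 : K) * G.symm w) := by
  have hL : ∀ u : ↥N, ∀ w, Q (((G.symm.trans (mulEquiv (F := F) u.1)).trans G) w) = Q w := by
    intro u w
    show Q (G ((u.1 : K) * G.symm w)) = Q w
    rw [hG, trQ_mul T σ (hN u.1 u.2), ← hG, LinearEquiv.apply_symm_apply]
  choose ψ hψ using fun u : ↥N => Cfsg.Agent.Helper28.WO.exists_isom Q _ (hL u)
  have hψ' : ∀ (u : ↥N) (w : ι → F), mt Q (ψ u) *ᵥ w = G ((u.1 : K) * G.symm w) :=
    fun u w => hψ u w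
  have hmul : ∀ u v, ψ (u * v) = ψ u * ψ v := by
    intro u v
    apply mt_injective Q
    rw [mt_mul]
    apply mat_ext
    intro w
    rw [hψ', ← Matrix.mulVec_mulVec, hψ', hψ', LinearEquiv.symm_apply_apply, Subgroup.coe_mul,
      Units.val_mul, mul_assoc]
  exact ⟨MonoidHom.mk' ψ hmul, hψ'⟩

end hom

section main

variable {F : Type*} [Field F] [Fintype F] {K : Type*} [Field K] [Algebra F K] [Finite K]

theorem exists_fpf_of_model (h2 : (2 : F) = 0) {d : ℕ} (hd : 1 ≤ d) {a b : F}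
    (hab : Quad.Aniso a b) (hfr : finrank F K = 2 * d) (σ : K ≃ₐ[F] K)
    (hσ : ∀ x, σ x = x ^ (Fintype.card F ^ d)) (r : ℕ) (hr : r.Prime) (hr2 : r ≠ 2)
    (hdvd : r ∣ Fintype.card F ^ d + 1) :
    ∃ x : ↥(Cfsg.isometryGroup F ⇑(QfMinus (d - 1) F a b)),
      x ∈ Cfsg.Omega F ⇑(QfMinus (d - 1) F a b) ∧ x ^ r = 1 ∧
      ∀ v, mt (QfMinus (d - 1) F a b) x *ᵥ v = v → v = 0 := by
  classical
  have hchar : CharP F 2 := CharTwo.of_one_ne_zero_of_two_eq_zero one_ne_zero h2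
  have : Fact r.Prime := ⟨hr⟩
  have ha : a ≠ 0 := Cfsg.Agent.S2171.ne_zero_of_aniso a b hab
  have heven : Even (Fintype.card F) := by
    obtain ⟨m, -, hm⟩ := FiniteField.card F 2
    rw [hm]
    exact Nat.even_pow.2 ⟨even_two, m.ne_zero⟩
  obtain ⟨n, hn⟩ : ∃ n, n = Fintype.card F ^ d := ⟨_, rfl⟩
  rw [← hn] at hσ hdvd
  have hq2 : 2 ≤ Fintype.card F := Fintype.one_lt_card
  have hn2 : 2 ≤ n := by
    rw [hn]
    calc 2 ≤ Fintype.card F := hq2
      _ = Fintype.card F ^ 1 := (pow_one _).symm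
      _ ≤ Fintype.card F ^ d := Nat.pow_le_pow_right (by omega) hd
  have hK : Nat.card K = n * n := by
    rw [Module.natCard_eq_pow_finrank (K := F) (V := K), hfr, Nat.card_eq_fintype_card, hn,
      two_mul, pow_add]
  have h2K : (2 : K) = 0 := by
    have := congrArg (algebraMap F K) h2
    rw [map_ofNat, map_zero] at this
    exact this
  have hσσ := sigma_sigma σ n hK hσ
  obtain ⟨z₀, hz₀⟩ := exists_add_sigma_ne σ n h2K hn2 hK hσ
  obtain ⟨T, hT⟩ := Module.Projective.exists_dual_ne_zero F hz₀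
  have hQnd := trQ_nondeg T σ hσσ hT
  have hN : ∀ u ∈ normOne K n, (u : K) * σ (u : K) = 1 :=
    fun u hu => normOne_mul_sigma σ n hσ hu
  have hcardN := dvd_card_normOne (K := K) n hn2 hK
  -- the type of the form
  obtain ⟨G, hG⟩ : ∃ G : K ≃ₗ[F] ((Fin (d - 1) ⊕ Fin (d - 1)) ⊕ Fin 2 → F),
      ∀ v, QfMinus (d - 1) F a b (G v) = trQ T σ v := by
    rcases isometry_dichotomy hd hfr (trQ T σ) hQnd with ⟨g, hg⟩ | ⟨ζ, hζ, g, hg⟩
    · exact (not_plus T σ n hd heven hn (normOne K n) hN hcardN g hg).elim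
    · obtain ⟨g₂, hg₂⟩ := minus_adjust h2 (d - 1) hab hζ
      refine ⟨g.trans g₂, fun v => ?_⟩
      rw [LinearEquiv.trans_apply, hg₂]
      exact hg v
  obtain ⟨Ψ, hΨ⟩ := exists_hom T σ (QfMinus (d - 1) F a b) (normOne K n) hN G hG
  -- an element of order `r`
  obtain ⟨ζ, hζ⟩ := exists_prime_orderOf_dvd_card' (G := ↥(normOne K n)) r
    (dvd_trans hdvd hcardN)
  have hζr : ζ ^ r = 1 := by rw [← hζ]; exact pow_orderOf_eq_one ζ
  have hζ1 : ζ ≠ 1 := by
    intro h1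
    rw [h1, orderOf_one] at hζ
    exact hr.one_lt.ne hζ
  obtain ⟨k, hk⟩ := hr.odd_of_ne_two hr2
  have H := HOm_minus_all a b h2 hab ha (d - 1)
  have hQm := QfMinus_nondeg' (F := F) h2 (d - 1) (d := b) ha
  refine ⟨Ψ ζ, ?_, ?_, ?_⟩
  · have h1 : Ψ ζ = Ψ (ζ ^ (k + 1)) * Ψ (ζ ^ (k + 1)) := by
      rw [← map_mul, ← pow_add, show k + 1 + (k + 1) = r + 1 by omega, pow_succ, hζr, one_mul]
    rw [h1]
    exact sq_mem_Omega (QfMinus (d - 1) F a b) h2 hQm H _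
  · rw [← map_pow, hζr, map_one]
  · intro v hv
    rw [hΨ] at hv
    have h3 : ((ζ.1 : Kˣ) : K) * G.symm v = G.symm v := by
      have := congrArg G.symm hv
      rwa [LinearEquiv.symm_apply_apply] at this
    have h4 : (((ζ.1 : Kˣ) : K) - 1) * G.symm v = 0 := by rw [sub_mul, h3, one_mul, sub_self]
    have h5 : ((ζ.1 : Kˣ) : K) - 1 ≠ 0 :=
      sub_ne_zero.2 (fun hh => hζ1 (Subtype.ext (Units.ext hh)))
    have h6 : G.symm v = 0 := (mul_eq_zero.1 h4).resolve_left h5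
    have := congrArg G h6
    rwa [LinearEquiv.apply_symm_apply, map_zero] at this

end main

section final

variable {F : Type*} [Field F] [Fintype F]

/-- an element of odd prime order of `Ω⁻_{2d}(q)` without non-zero fixed vectors -/
theorem exists_fpf_omega_minus (h2 : (2 : F) = 0) {d : ℕ} (hd : 1 ≤ d) {a b : F}
    (hab : Quad.Aniso a b) (r : ℕ) (hr : r.Prime) (hr2 : r ≠ 2)
    (hdvd : r ∣ Fintype.card F ^ d + 1) :
    ∃ x : ↥(Cfsg.isometryGroup F ⇑(QfMinus (d - 1) F a b)),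
      x ∈ Cfsg.Omega F ⇑(QfMinus (d - 1) F a b) ∧ x ^ r = 1 ∧
      ∀ v, mt (QfMinus (d - 1) F a b) x *ᵥ v = v → v = 0 := by
  have hchar : CharP F 2 := CharTwo.of_one_ne_zero_of_two_eq_zero one_ne_zero h2
  have : Fact (Nat.Prime 2) := ⟨Nat.prime_two⟩
  have : NeZero (2 * d) := ⟨by omega⟩
  have hfr : Module.finrank F (FiniteField.Extension F 2 (2 * d)) = 2 * d :=
    FiniteField.finrank_extension F 2 (2 * d)
  refine exists_fpf_of_model (K := FiniteField.Extension F 2 (2 * d)) h2 hd hab hfr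
    ((FiniteField.Extension.frob F 2 (2 * d)) ^ d) ?_ r hr hr2 hdvd
  intro x
  rw [FiniteField.Extension.frob_iterate_apply, Nat.card_eq_fintype_card]

theorem card_sing_minus (k : ℕ) {a b : F} (hab : Quad.Aniso a b) :
    Nat.card {v : (Fin k ⊕ Fin k) ⊕ Fin 2 → F // QfMinus k F a b v = 0} +
      Fintype.card F ^ (k + 1) = Fintype.card F ^ (2 * k + 1) + Fintype.card F ^ k := by
  have h5 := Quad.Sk_zero_minus (Quad.minusModel k a b hab).N₀ (Quad.Model.N₀_zero _)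
    (by rw [Quad.Model.sum_N₀]; simp) k
  rw [← h5]
  congr 1
  have h6 := congrFun (Quad.Model.NV_eq (Quad.minusModel k a b hab)) 0
  rw [← h6]
  unfold Quad.NV
  apply Nat.card_congr
  apply Equiv.subtypeEquivRight
  intro v
  have h7 := congrFun (Quad.quadFormMinus_eq k a b hab) v
  show Cfsg.quadFormMinus k F a b v = 0 ↔ _
  rw [h7]

theorem arith_lines_minus {N Z q X t : ℕ} (ht : q = t + 1) (ht0 : 0 < t)
    (E1 : N * t + Z = (q * X) * (q * X)) (E2 : Z + q * X = q * X * X + X) :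
    N = X * (q * X + 1) := by
  subst ht
  have h : N * t = (X * ((t + 1) * X + 1)) * t := by
    zify at E1 E2 ⊢
    linear_combination E1 - E2
  exact Nat.eq_of_mul_eq_mul_right ht0 h

theorem card_nonsing_lines_minus (k : ℕ) {a b : F} (hab : Quad.Aniso a b) :
    Nat.card {W : Submodule F ((Fin k ⊕ Fin k) ⊕ Fin 2 → F) //
        finrank F ↥W = 1 ∧ ∃ v ∈ W, ¬ QfMinus k F a b v = 0} =
      Fintype.card F ^ k * (Fintype.card F * Fintype.card F ^ k + 1) := by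
  classical
  have hq : 1 < Fintype.card F := Fintype.one_lt_card
  have h1 := card_lines_mul (F := F)
    (fun v : (Fin k ⊕ Fin k) ⊕ Fin 2 → F => ¬ QfMinus k F a b v = 0)
    (by simp) (fun c v hc hv => by
      rw [QuadraticMap.map_smul, smul_eq_mul]
      exact mul_ne_zero (mul_ne_zero hc hc) hv)
  have h3 := card_sing_minus (F := F) k hab
  have h4 := Nat.card_congr (Equiv.sumCompl
    (fun v : (Fin k ⊕ Fin k) ⊕ Fin 2 → F => QfMinus k F a b v = 0))
  have hcV : Nat.card ((Fin k ⊕ Fin k) ⊕ Fin 2 → F) = Fintype.card F ^ (2 * k + 2) := by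
    rw [Module.natCard_eq_pow_finrank (K := F), Module.finrank_fintype_fun_eq_card,
      card_minus_index, Nat.card_eq_fintype_card]
  rw [Nat.card_sum, hcV] at h4
  obtain ⟨t, ht⟩ : ∃ t, Fintype.card F = t + 1 := ⟨Fintype.card F - 1, by omega⟩
  have ht0 : 0 < t := by omega
  have e1 : Fintype.card F - 1 = t := by omega
  rw [e1] at h1
  refine arith_lines_minus ht ht0 ?_ ?_
    (Z := Nat.card {v : (Fin k ⊕ Fin k) ⊕ Fin 2 → F // QfMinus k F a b v = 0})
  · rw [h1, add_comm, h4]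
    ring
  · have : Fintype.card F * Fintype.card F ^ k = Fintype.card F ^ (k + 1) := by ring
    rw [this, h3]
    ring

theorem dvd_of_dvd_lines_minus (h2 : (2 : F) = 0) (k r : ℕ) (hr : r.Prime) {a b : F}
    (hab : Quad.Aniso a b)
    (hdvd : r ∣ Nat.card {W : Submodule F ((Fin k ⊕ Fin k) ⊕ Fin 2 → F) //
        finrank F ↥W = 1 ∧ ∃ v ∈ W, ¬ QfMinus k F a b v = 0}) :
    r = 2 ∨ r ∣ Fintype.card F ^ (k + 1) + 1 := by
  rw [card_nonsing_lines_minus k hab] at hdvd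
  rcases (Nat.Prime.dvd_mul hr).mp hdvd with h4 | h4
  · left
    have h5 := hr.dvd_of_dvd_pow h4
    have hchar : CharP F 2 := CharTwo.of_one_ne_zero_of_two_eq_zero one_ne_zero h2
    obtain ⟨n, hp, hn⟩ := FiniteField.card F 2
    rw [hn] at h5
    have h6 := hr.dvd_of_dvd_pow h5
    exact (Nat.prime_dvd_prime_iff_eq hr Nat.prime_two).mp h6
  · right
    rw [pow_succ']
    exact h4

theorem exists_nonsing_minus (h2 : (2 : F) = 0) (k : ℕ) {a b : F} (hab : Quad.Aniso a b) :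
    ∃ v₀ : (Fin k ⊕ Fin k) ⊕ Fin 2 → F, QfMinus k F a b v₀ ≠ 0 := by
  have hchar : CharP F 2 := CharTwo.of_one_ne_zero_of_two_eq_zero one_ne_zero h2
  have ha : a ≠ 0 := Cfsg.Agent.S2171.ne_zero_of_aniso a b hab
  have hQ := QfMinus_nondeg' (F := F) h2 k (d := b) ha
  obtain ⟨u, -, hu⟩ := exists_fixed_nonsingular (QfMinus k F a b) h2 hQ 1 (one_mul 1)
    (not_half_alt_minus h2 k hab ha 1 (one_mul 1))
  exact ⟨u, hu⟩

theorem minus_backward (h2 : (2 : F) = 0) (k : ℕ) {a b : F} (hab : Quad.Aniso a b)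
    (x : GL ((Fin k ⊕ Fin k) ⊕ Fin 2) F) (hx : x ∈ Cfsg.Geo.omegaGL ⇑(QfMinus k F a b))
    (hsq : ∃ z : F, ((x ^ 2 : GL ((Fin k ⊕ Fin k) ⊕ Fin 2) F) :
      Matrix ((Fin k ⊕ Fin k) ⊕ Fin 2) ((Fin k ⊕ Fin k) ⊕ Fin 2) F) =
      z • (1 : Matrix ((Fin k ⊕ Fin k) ⊕ Fin 2) ((Fin k ⊕ Fin k) ⊕ Fin 2) F)) :
    ∃ W : Submodule F ((Fin k ⊕ Fin k) ⊕ Fin 2 → F),
      (finrank F ↥W = 1 ∧ ∃ v ∈ W, QfMinus k F a b v ≠ 0) ∧
      W.map (Matrix.toLin'
        (x : Matrix ((Fin k ⊕ Fin k) ⊕ Fin 2) ((Fin k ⊕ Fin k) ⊕ Fin 2) F)) ≤ W := by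
  obtain ⟨x', hx'Ω, rfl⟩ := Subgroup.mem_map.1 hx
  have hchar : CharP F 2 := CharTwo.of_one_ne_zero_of_two_eq_zero one_ne_zero h2
  have ha : a ≠ 0 := Cfsg.Agent.S2171.ne_zero_of_aniso a b hab
  have hQ := QfMinus_nondeg' (F := F) h2 k (d := b) ha
  obtain ⟨v₀, hv₀⟩ := exists_nonsing_minus (F := F) h2 k hab
  have hxx : x' * x' = 1 := sq_one_of_scalar (QfMinus k F a b) h2 hv₀ x' hsq
  obtain ⟨u, hxu, hu⟩ := exists_fixed_nonsingular (QfMinus k F a b) h2 hQ x' hxx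
    (not_half_alt_minus h2 k hab ha x' hxx)
  exact line_of_fixed (QfMinus k F a b) x' u hxu hu

theorem minus_forward (h2 : (2 : F) = 0) {d : ℕ} (hd : 1 ≤ d) {a b : F} (hab : Quad.Aniso a b)
    (r : ℕ) (hr : r.Prime)
    (hrΩ : r ∣ Nat.card {W : Submodule F ((Fin (d - 1) ⊕ Fin (d - 1)) ⊕ Fin 2 → F) //
        finrank F ↥W = 1 ∧ ∃ v ∈ W, QfMinus (d - 1) F a b v ≠ 0})
    (hall : ∀ x : GL ((Fin (d - 1) ⊕ Fin (d - 1)) ⊕ Fin 2) F,
      x ∈ Cfsg.Geo.omegaGL ⇑(QfMinus (d - 1) F a b) →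
      (∃ z : F, ((x ^ r : GL ((Fin (d - 1) ⊕ Fin (d - 1)) ⊕ Fin 2) F) :
        Matrix ((Fin (d - 1) ⊕ Fin (d - 1)) ⊕ Fin 2) ((Fin (d - 1) ⊕ Fin (d - 1)) ⊕ Fin 2) F) =
        z • (1 : Matrix ((Fin (d - 1) ⊕ Fin (d - 1)) ⊕ Fin 2)
          ((Fin (d - 1) ⊕ Fin (d - 1)) ⊕ Fin 2) F)) →
      (∀ z : F, (x : Matrix ((Fin (d - 1) ⊕ Fin (d - 1)) ⊕ Fin 2)
          ((Fin (d - 1) ⊕ Fin (d - 1)) ⊕ Fin 2) F) ≠
        z • (1 : Matrix ((Fin (d - 1) ⊕ Fin (d - 1)) ⊕ Fin 2)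
          ((Fin (d - 1) ⊕ Fin (d - 1)) ⊕ Fin 2) F)) →
      ∃ W : Submodule F ((Fin (d - 1) ⊕ Fin (d - 1)) ⊕ Fin 2 → F),
        (finrank F ↥W = 1 ∧ ∃ v ∈ W, QfMinus (d - 1) F a b v ≠ 0) ∧
        W.map (Matrix.toLin' (x : Matrix ((Fin (d - 1) ⊕ Fin (d - 1)) ⊕ Fin 2)
          ((Fin (d - 1) ⊕ Fin (d - 1)) ⊕ Fin 2) F)) ≤ W) :
    r = 2 := by
  by_contra hr2
  have h2or := dvd_of_dvd_lines_minus h2 (d - 1) r hr hab hrΩ
  have hdv : r ∣ Fintype.card F ^ d + 1 := by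
    have := h2or.resolve_left hr2
    rwa [Nat.sub_add_cancel hd] at this
  obtain ⟨x, hxΩ, hxr, hfpf⟩ := exists_fpf_omega_minus h2 hd hab r hr hr2 hdv
  obtain ⟨v₀, hv₀⟩ := exists_nonsing_minus (F := F) h2 (d - 1) hab
  have hv₀0 : v₀ ≠ 0 := fun h0 => hv₀ (by rw [h0]; exact QuadraticMap.map_zero _)
  apply no_fixed_point (QfMinus (d - 1) F a b) h2 r hv₀ hall x hxΩ hxr
  · intro v hv
    rw [hfpf v hv]
    exact QuadraticMap.map_zero _
  · intro h1
    apply hv₀0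
    apply hfpf
    rw [h1, mt_one, one_mulVec]

end final

end Cfsg.Agent.Helper2.ONs
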