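import Mathlib
import Cfsg.Agent.Helper5.VL.Defs

set_option autoImplicit false
set_option linter.style.haveILetI false
set_option linter.unusedSectionVars false
set_option linter.unusedVariables false

namespace Cfsg.Agent.Helper5.VL

open Subgroup
open scoped commutatorElement

universe u
variable {p : ℕ} [Fact p.Prime] {G : Type u} [Group G] [Finite G]

/-- the subgroup of elements of the normalizer of `R` whose commutator with `g` lies in `R` -/
def ptwo_aux_D (R : Subgroup G) (g : G) : Subgroup G where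
  carrier := {h | h ∈ normalizer (R : Set G) ∧ ⁅g, h⁆ ∈ R}
  one_mem' := ⟨one_mem _, by simp⟩
  mul_mem' := by
    intro a b ha hb
    refine ⟨mul_mem ha.1 hb.1, ?_⟩
    have h1 : ⁅g, a * b⁆ = ⁅g, a⁆ * (a * ⁅g, b⁆ * a⁻¹) := by
      rw [commutatorElement_mul_right_eq_mul_conj]; group
    rw [h1]
    exact mul_mem ha.2 ((mem_normalizer_iff.mp ha.1 _).mp hb.2)
  inv_mem' := by
    intro a ha
    refine ⟨inv_mem ha.1, ?_⟩
    have h1 : ⁅g, a⁻¹⁆ = a⁻¹ * ⁅g, a⁆⁻¹ * a := by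
      rw [commutatorElement_inv_right, commutatorElement_inv]
    rw [h1]
    exact (mem_normalizer_iff''.mp ha.1 _).mp (inv_mem ha.2)

theorem ptwo_aux_mem_D {R : Subgroup G} {g h : G} :
    h ∈ ptwo_aux_D R g ↔ h ∈ normalizer (R : Set G) ∧ ⁅g, h⁆ ∈ R := Iff.rfl

/-- if `R` is normalised by `K` and `x`, contains `⁅K,K⁆` and all `⁅k,x⁆`, then it contains the
derived subgroup of `K ⊔ ⟨x⟩`. -/
theorem ptwo_aux_comm_le (K R : Subgroup G) (x : G)
    (hKN : K ≤ normalizer (R : Set G)) (hxN : x ∈ normalizer (R : Set G))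
    (hKK : ∀ a ∈ K, ∀ b ∈ K, ⁅a, b⁆ ∈ R) (hKx : ∀ a ∈ K, ⁅a, x⁆ ∈ R) :
    ⁅K ⊔ zpowers x, K ⊔ zpowers x⁆ ≤ R := by
  have hxK : ∀ a ∈ K, ⁅x, a⁆ ∈ R := fun a ha => by
    rw [← commutatorElement_inv]; exact inv_mem (hKx a ha)
  -- for `t ∈ K ∪ {x}` the subgroup `D t` contains `K ⊔ ⟨x⟩`
  have h1 : ∀ t : G, (t ∈ K ∨ t = x) → K ⊔ zpowers x ≤ ptwo_aux_D R t := by
    intro t ht
    refine sup_le ?_ ?_
    · intro a ha
      refine ⟨hKN ha, ?_⟩
      rcases ht with ht | rfl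
      · exact hKK t ht a ha
      · exact hxK a ha
    · rw [zpowers_le]
      refine ⟨hxN, ?_⟩
      rcases ht with ht | rfl
      · exact hKx t ht
      · simp
  have h2 : ∀ g ∈ K ⊔ zpowers x, K ⊔ zpowers x ≤ ptwo_aux_D R g := by
    intro g hg
    refine sup_le ?_ ?_
    · intro a ha
      refine ⟨hKN ha, ?_⟩
      have := (h1 a (Or.inl ha) hg).2
      rw [← commutatorElement_inv]; exact inv_mem this
    · rw [zpowers_le]
      refine ⟨hxN, ?_⟩
      have := (h1 x (Or.inr rfl) hg).2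
      rw [← commutatorElement_inv]; exact inv_mem this
  rw [Subgroup.commutator_le]
  intro g hg h hh
  exact (h2 g hg hh).2


theorem ptwo_aux_comm_mem (K : Subgroup G) [K.Normal] {k : G} (hk : k ∈ K) (x : G) :
    ⁅k, x⁆ ∈ K := by
  rw [commutatorElement_def]
  have : x * k⁻¹ * x⁻¹ ∈ K := (inferInstance : K.Normal).conj_mem _ (inv_mem hk) x
  have h2 : k * x * k⁻¹ * x⁻¹ = k * (x * k⁻¹ * x⁻¹) := by group
  rw [h2]; exact mul_mem hk this

/-- the hom `k ↦ ⁅k,x⁆ K'` from `K` to `G ⧸ K'` -/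
noncomputable def ptwo_aux_hom (K : Subgroup G) [K.Normal] (x : G) : ↥K →* G ⧸ ⁅K, K⁆ where
  toFun k := QuotientGroup.mk' ⁅K, K⁆ ⁅(k : G), x⁆
  map_one' := by simp
  map_mul' := by
    intro a b
    have ha := a.2
    have hb := b.2
    have hbx : ⁅(b : G), x⁆ ∈ K := ptwo_aux_comm_mem K hb x
    have hax : ⁅(a : G), x⁆ ∈ K := ptwo_aux_comm_mem K ha x
    show QuotientGroup.mk' ⁅K, K⁆ ⁅((a * b : ↥K) : G), x⁆ = _
    rw [Subgroup.coe_mul, commutatorElement_mul_left_eq_conj_mul, ← map_mul]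
    rw [QuotientGroup.mk'_eq_mk']
    -- a * ⁅b,x⁆ * a⁻¹ * ⁅a,x⁆ * z = ⁅a,x⁆ * ⁅b,x⁆
    refine ⟨(↑a * ⁅(b : G), x⁆ * (↑a)⁻¹ * ⁅(a : G), x⁆)⁻¹ * (⁅(a : G), x⁆ * ⁅(b : G), x⁆), ?_, by group⟩
    -- the element is ⁅a,x⁆⁻¹ * (a ⁅b,x⁆⁻¹ a⁻¹ ⁅b,x⁆ ...) ; rewrite as a product of commutators of K
    have e : (↑a * ⁅(b : G), x⁆ * (↑a)⁻¹ * ⁅(a : G), x⁆)⁻¹ * (⁅(a : G), x⁆ * ⁅(b : G), x⁆)
        = ⁅(a : G), x⁆⁻¹ * ⁅(a : G), ⁅(b : G), x⁆⁻¹⁆ * ⁅(a : G), x⁆ * ⁅⁅(a : G), x⁆⁻¹, ⁅(b : G), x⁆⁻¹⁆ := by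
      generalize ⁅(a : G), x⁆ = u
      generalize ⁅(b : G), x⁆ = v
      simp only [commutatorElement_def]; group
    rw [e]
    have c1 : ⁅(a : G), ⁅(b : G), x⁆⁻¹⁆ ∈ ⁅K, K⁆ := Subgroup.commutator_mem_commutator ha (inv_mem hbx)
    have c2 : ⁅⁅(a : G), x⁆⁻¹, ⁅(b : G), x⁆⁻¹⁆ ∈ ⁅K, K⁆ :=
      Subgroup.commutator_mem_commutator (inv_mem hax) (inv_mem hbx)
    have c3 : ⁅(a : G), x⁆⁻¹ * ⁅(a : G), ⁅(b : G), x⁆⁻¹⁆ * ⁅(a : G), x⁆ ∈ ⁅K, K⁆ := by
      have := (inferInstance : (⁅K, K⁆ : Subgroup G).Normal).conj_mem _ c1 (⁅(a : G), x⁆⁻¹)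
      simpa using this
    exact mul_mem c3 c2

theorem ptwo_aux_hom_apply (K : Subgroup G) [K.Normal] (x : G) (k : ↥K) :
    ptwo_aux_hom K x k = QuotientGroup.mk' ⁅K, K⁆ ⁅(k : G), x⁆ := rfl


/-- the image of the derived subgroup of `K ⊔ ⟨x⟩` in `G ⧸ K'` is the range of `ptwo_aux_hom` -/
theorem ptwo_aux_range (K : Subgroup G) [K.Normal] (x : G) :
    (ptwo_aux_hom K x).range
      = (⁅K ⊔ zpowers x, K ⊔ zpowers x⁆ : Subgroup G).map (QuotientGroup.mk' ⁅K, K⁆) := by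
  set π := QuotientGroup.mk' (⁅K, K⁆ : Subgroup G) with hπ
  apply le_antisymm
  · rintro _ ⟨k, rfl⟩
    rw [ptwo_aux_hom_apply]
    exact Subgroup.mem_map_of_mem _
      (Subgroup.commutator_mem_commutator (le_sup_left (a := K) k.2)
        (le_sup_right (a := K) (mem_zpowers x)))
  · -- R := comap π range
    set R : Subgroup G := (ptwo_aux_hom K x).range.comap π with hR
    have hKR : (⁅K, K⁆ : Subgroup G) ≤ R := by
      intro c hc
      rw [hR, Subgroup.mem_comap]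
      have : π c = 1 := by rw [hπ]; exact (QuotientGroup.eq_one_iff c).mpr hc
      rw [this]; exact one_mem _
    have hRK : R ≤ K := by
      intro r hr
      rw [hR, Subgroup.mem_comap] at hr
      obtain ⟨k, hk⟩ := hr
      rw [ptwo_aux_hom_apply, hπ, QuotientGroup.mk'_eq_mk'] at hk
      obtain ⟨z, hz, hzr⟩ := hk
      rw [← hzr]
      exact mul_mem (ptwo_aux_comm_mem K k.2 x) (Subgroup.commutator_le_right K K hz)
    have hKx : ∀ a ∈ K, ⁅a, x⁆ ∈ R := by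
      intro a ha
      rw [hR, Subgroup.mem_comap]
      exact ⟨⟨a, ha⟩, rfl⟩
    have hKK : ∀ a ∈ K, ∀ b ∈ K, ⁅a, b⁆ ∈ R := fun a ha b hb =>
      hKR (Subgroup.commutator_mem_commutator ha hb)
    have hKN : K ≤ normalizer (R : Set G) := by
      intro k hk
      have key : ∀ g ∈ K, ∀ r ∈ R, g * r * g⁻¹ ∈ R := by
        intro g hg r hr
        have : g * r * g⁻¹ = ⁅g, r⁆ * r := by rw [commutatorElement_def]; group
        rw [this]
        exact mul_mem (hKK g hg r (hRK hr)) hr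
      rw [mem_normalizer_iff]
      intro r
      refine ⟨fun hr => key k hk r hr, fun hr => ?_⟩
      have := key k⁻¹ (inv_mem hk) _ hr
      simpa [mul_assoc] using this
    have keyx : ∀ y : G, (y = x ∨ y = x⁻¹) → ∀ r ∈ R, y * r * y⁻¹ ∈ R := by
      intro y hy r hr
      have hr' := hr
      rw [hR, Subgroup.mem_comap] at hr'
      obtain ⟨k, hk⟩ := hr'
      rw [ptwo_aux_hom_apply, hπ, QuotientGroup.mk'_eq_mk'] at hk
      obtain ⟨z, hz, hzr⟩ := hk
      -- r = ⁅k,x⁆ * z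
      have hyk : y * (k : G) * y⁻¹ ∈ K := (inferInstance : K.Normal).conj_mem _ k.2 y
      have hyx : y * x * y⁻¹ = x := by
        rcases hy with rfl | rfl
        · group
        · group
      have e : y * r * y⁻¹ = ⁅y * (k : G) * y⁻¹, x⁆ * (y * z * y⁻¹) := by
        rw [← hzr]
        have : ⁅y * (k : G) * y⁻¹, x⁆ = y * ⁅(k : G), x⁆ * y⁻¹ := by
          rw [conjugate_commutatorElement, hyx]
        rw [this]; group
      rw [e]
      exact mul_mem (hKx _ hyk)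
        (hKR ((inferInstance : (⁅K, K⁆ : Subgroup G).Normal).conj_mem _ hz y))
    have hxN : x ∈ normalizer (R : Set G) := by
      rw [mem_normalizer_iff]
      intro r
      refine ⟨fun hr => keyx x (Or.inl rfl) r hr, fun hr => ?_⟩
      have := keyx x⁻¹ (Or.inr rfl) _ hr
      simpa [mul_assoc] using this
    have hle := ptwo_aux_comm_le K R x hKN hxN hKK hKx
    rintro _ ⟨g, hg, rfl⟩
    have := hle hg
    rw [hR, Subgroup.mem_comap] at this
    exact this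


theorem ptwo_aux_card_ker (K : Subgroup G) [K.Normal] (x : G) :
    Nat.card (ptwo_aux_hom K x).ker
      = Nat.card {k : G // k ∈ K ∧ ⁅k, x⁆ ∈ (⁅K, K⁆ : Subgroup G)} := by
  refine Nat.card_congr
    { toFun := fun k => ⟨(k.1 : G), k.1.2, ?_⟩
      invFun := fun k => ⟨⟨k.1, k.2.1⟩, ?_⟩
      left_inv := fun k => rfl
      right_inv := fun k => rfl }
  · have := k.2
    rw [MonoidHom.mem_ker, ptwo_aux_hom_apply] at this
    exact (QuotientGroup.eq_one_iff _).mp this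
  · rw [MonoidHom.mem_ker, ptwo_aux_hom_apply]
    exact (QuotientGroup.eq_one_iff _).mpr k.2.2

theorem ptwo_aux_card_map (K H' : Subgroup G) [K.Normal] (hle : (⁅K, K⁆ : Subgroup G) ≤ H') :
    Nat.card H' = Nat.card (⁅K, K⁆ : Subgroup G)
      * Nat.card (H'.map (QuotientGroup.mk' (⁅K, K⁆ : Subgroup G))) := by
  set π := QuotientGroup.mk' (⁅K, K⁆ : Subgroup G) with hπ
  set g : ↥H' →* G ⧸ (⁅K, K⁆ : Subgroup G) := π.comp H'.subtype with hg
  have hr : g.range = H'.map π := by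
    rw [hg, MonoidHom.range_comp, Subgroup.range_subtype]
  have hk : g.ker = (⁅K, K⁆ : Subgroup G).subgroupOf H' := by
    ext y
    rw [MonoidHom.mem_ker, hg, MonoidHom.comp_apply, Subgroup.mem_subgroupOf, hπ]
    exact QuotientGroup.eq_one_iff _
  have h1 := Subgroup.card_mul_index g.ker
  rw [Subgroup.index_ker, hr, hk] at h1
  rw [← h1]
  congr 1
  exact Nat.card_congr (Subgroup.subgroupOfEquivOfLe hle).toEquiv

/-- PTWO -/
theorem ptwo (K : Subgroup G) [K.Normal] (x : G) (hx : x ∉ K) (hxp : x ^ p ∈ K) :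
    der (K ⊔ zpowers x) * Nat.card {k : G // k ∈ K ∧ ⁅k, x⁆ ∈ ⁅K, K⁆}
      = der K * Nat.card K := by
  have h1 := Subgroup.card_mul_index (ptwo_aux_hom K x).ker
  rw [Subgroup.index_ker, ptwo_aux_range, ptwo_aux_card_ker] at h1
  have hle : (⁅K, K⁆ : Subgroup G) ≤ ⁅K ⊔ zpowers x, K ⊔ zpowers x⁆ :=
    Subgroup.commutator_mono le_sup_left le_sup_left
  have h2 := ptwo_aux_card_map K _ hle
  unfold der
  rw [h2, ← h1]
  ring

end Cfsg.Agent.Helper5.VL
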