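import Mathlib
import Cfsg.Agent.Helper5.VL.Defs
import Cfsg.Agent.Helper2.VLPTWO

set_option autoImplicit false
set_option linter.style.haveILetI false
set_option linter.unusedSectionVars false
set_option linter.unusedVariables false

namespace Cfsg.Agent.Helper5.VL

open Subgroup
open scoped commutatorElement

universe u
variable {p : ℕ} [Fact p.Prime] {G : Type u} [Group G] [Finite G]

/-- PTWOLE -/
theorem ptwo_le (K : Subgroup G) [K.Normal] (x : G) (hx : x ∉ K) (hxp : x ^ p ∈ K) :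
    der (K ⊔ zpowers x)
      ≤ der K * (centralizer ({x} : Set G)).relIndex K := by
  have h1 := ptwo (p := p) K x hx hxp
  set C := centralizer ({x} : Set G) with hC
  -- |K| = relIndex * |C ⊓ K|
  have h2 : C.relIndex K * Nat.card ↥(C ⊓ K) = Nat.card K := by
    have := (C.subgroupOf K).index_mul_card
    rw [← Subgroup.relIndex] at this
    rwa [← inf_subgroupOf_right, Nat.card_congr
      (Subgroup.subgroupOfEquivOfLe (inf_le_right : C ⊓ K ≤ K)).toEquiv] at this
  -- C ⊓ K embeds into S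
  have h3 : Nat.card ↥(C ⊓ K) ≤ Nat.card {k : G // k ∈ K ∧ ⁅k, x⁆ ∈ (⁅K, K⁆ : Subgroup G)} := by
    refine Nat.card_le_card_of_injective
      (fun k => ⟨(k : G), (Subgroup.mem_inf.mp k.2).2, ?_⟩) ?_
    · have hk : (k : G) ∈ centralizer ({x} : Set G) := (Subgroup.mem_inf.mp k.2).1
      rw [Subgroup.mem_centralizer_singleton_iff] at hk
      have : ⁅(k : G), x⁆ = 1 := by
        rw [commutatorElement_eq_one_iff_mul_comm]; exact hk
      rw [this]; exact one_mem _
    · intro a b hab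
      exact Subtype.ext (by simpa using congrArg Subtype.val hab)
  have hSpos : 0 < Nat.card {k : G // k ∈ K ∧ ⁅k, x⁆ ∈ (⁅K, K⁆ : Subgroup G)} := by
    haveI : Nonempty {k : G // k ∈ K ∧ ⁅k, x⁆ ∈ (⁅K, K⁆ : Subgroup G)} :=
      ⟨⟨1, one_mem _, by simp⟩⟩
    exact Nat.card_pos
  -- combine
  have h4 : der (K ⊔ zpowers x) * Nat.card {k : G // k ∈ K ∧ ⁅k, x⁆ ∈ (⁅K, K⁆ : Subgroup G)}
      ≤ (der K * C.relIndex K) * Nat.card {k : G // k ∈ K ∧ ⁅k, x⁆ ∈ (⁅K, K⁆ : Subgroup G)} := by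
    rw [h1, ← h2]
    calc der K * (C.relIndex K * Nat.card ↥(C ⊓ K))
        = (der K * C.relIndex K) * Nat.card ↥(C ⊓ K) := by ring
      _ ≤ _ := Nat.mul_le_mul_left _ h3
  exact Nat.le_of_mul_le_mul_right h4 hSpos

end Cfsg.Agent.Helper5.VL
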