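import Mathlib
import Cfsg.Prelude.Def_SteinbergCover
import Cfsg.Prelude.Def_LieTypes
import Cfsg.Prelude.Def_ChevB2
import Cfsg.Prelude.Def_ChevD4

set_option autoImplicit false
set_option linter.unusedSectionVars false
set_option linter.unusedSimpArgs false
set_option linter.unusedVariables false

/-! Root elements of a group satisfying Steinberg's relations (R1), (R2) lie in its derived
subgroup: the generic lemmas (after helper6's `Perfect.lean`, for an abstract group). -/

namespace Cfsg.Agent.Helper2.StPerf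

open Cfsg.Lie
open scoped commutatorElement

variable {D : ChevalleyDatum} {F : Type*} [Field F] {M : Type*} [Group M]

/-- the product of a word of root elements -/
def wordX (X : ℕ → F → M) (w : List (ℕ × F)) : M := (w.map fun p => X p.1 p.2).prod

theorem wordX_cons (X : ℕ → F → M) (p : ℕ × F) (w : List (ℕ × F)) :
    wordX X (p :: w) = X p.1 p.2 * wordX X w := by
  unfold wordX
  simp only [List.map_cons, List.prod_cons]

theorem wordX_nil (X : ℕ → F → M) : wordX X ([] : List (ℕ × F)) = 1 := by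
  unfold wordX
  simp

/-- Steinberg's relations (R1) and (R2) -/
structure R12 (D : ChevalleyDatum) (X : ℕ → F → M) : Prop where
  add : ∀ r < D.nroots, ∀ t u : F, X r t * X r u = X r (t + u)
  comm : ∀ r < D.nroots, ∀ s < D.nroots, s ≠ r → s ≠ D.neg r → ∀ t u : F,
    (X s u)⁻¹ * (X r t)⁻¹ * X s u * X r t = wordX X (D.commWord F r s t u)

/-- the root elements `X_r` lie in the derived subgroup -/
def InDer (X : ℕ → F → M) (r : ℕ) : Prop := ∀ t : F, X r t ∈ commutator M

theorem X_zero {X : ℕ → F → M} (h : R12 D X) {r : ℕ} (hr : r < D.nroots) : X r 0 = 1 := by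
  have h1 := h.add r hr 0 0
  rw [add_zero] at h1
  have h' : X r 0 * X r 0 = X r 0 * 1 := by rw [mul_one]; exact h1
  exact mul_left_cancel h'

theorem X_inv {X : ℕ → F → M} (h : R12 D X) {r : ℕ} (hr : r < D.nroots) (t : F) :
    (X r t)⁻¹ = X r (-t) := by
  apply inv_eq_of_mul_eq_one_right
  rw [h.add r hr, add_neg_cancel, X_zero h hr]

theorem commWord_mem {X : ℕ → F → M} (h : R12 D X) {a b : ℕ} (ha : a < D.nroots)
    (hb : b < D.nroots) (h1 : b ≠ a) (h2 : b ≠ D.neg a) (t u : F) :
    wordX X (D.commWord F a b t u) ∈ commutator M := by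
  rw [← h.comm a ha b hb h1 h2 t u]
  have e : (X b u)⁻¹ * (X a t)⁻¹ * X b u * X a t = ⁅(X b u)⁻¹, (X a t)⁻¹⁆ := by
    rw [commutatorElement_def, inv_inv, inv_inv]
  rw [e, commutator_def]
  exact Subgroup.commutator_mem_commutator (Subgroup.mem_top _) (Subgroup.mem_top _)

/-- a single-term commutator `[x_b(u), x_a(t)] = x_r(± t u)` puts `X_r` in the derived subgroup -/
theorem inDer_of_single {X : ℕ → F → M} (h : R12 D X) {a b r : ℕ} {c : ℤ} (ha : a < D.nroots)
    (hb : b < D.nroots) (h1 : b ≠ a) (h2 : b ≠ D.neg a)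
    (hT : D.commTerms a b = [(r, c, 1, 1)]) (hc : c * c = 1) : InDer X r := by
  intro t
  have hm := commWord_mem h ha hb h1 h2 (-(c : F) * t) 1
  have hcF : (c : F) * (c : F) = 1 := by exact_mod_cast congrArg (fun z : ℤ => (z : F)) hc
  have e : D.commWord F a b (-(c : F) * t) 1 = [(r, t)] := by
    unfold ChevalleyDatum.commWord
    rw [hT]
    simp only [List.map_cons, List.map_nil, pow_one, mul_one, neg_mul, neg_neg]
    rw [← mul_assoc, hcF, one_mul]
  rw [e, wordX_cons, wordX_nil, mul_one] at hm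
  exact hm

theorem wordX_mem_of_inDer (X : ℕ → F → M) (w : List (ℕ × F)) (hw : ∀ p ∈ w, InDer X p.1) :
    wordX X w ∈ commutator M := by
  unfold wordX
  apply Subgroup.list_prod_mem
  intro g hg
  simp only [List.mem_map] at hg
  obtain ⟨p, hp, rfl⟩ := hg
  exact hw p hp p.2

/-- the two-term trick -/
theorem inDer_of_double {X : ℕ → F → M} (h : R12 D X) {a b r₁ r₂ : ℕ} {c₁ c₂ : ℤ}
    {rest : List (ℕ × ℤ × ℕ × ℕ)} (ha : a < D.nroots) (hb : b < D.nroots)
    (hn1 : b ≠ a) (hn2 : b ≠ D.neg a) (hr₁ : r₁ < D.nroots) (hr₂ : r₂ < D.nroots)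
    (hT : D.commTerms a b = (r₁, c₁, 1, 1) :: (r₂, c₂, 2, 1) :: rest)
    (hc₁ : c₁ * c₁ = 1) (hc₂ : c₂ * c₂ = 1) (hrest : ∀ p ∈ rest, InDer X p.1)
    {l : F} (hl0 : l ≠ 0) (hl1 : l ≠ 1) :
    InDer X r₁ ∧ InDer X r₂ := by
  have hc₁F : (c₁ : F) * (c₁ : F) = 1 := by exact_mod_cast congrArg (fun z : ℤ => (z : F)) hc₁
  have hc₂F : (c₂ : F) * (c₂ : F) = 1 := by exact_mod_cast congrArg (fun z : ℤ => (z : F)) hc₂
  have hv : ∀ t u : F, X r₁ ((c₁ : F) * (-t) * u) * X r₂ ((c₂ : F) * (t * t) * u) ∈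
      commutator M := by
    intro t u
    have hm := commWord_mem h ha hb hn1 hn2 t u
    have e : D.commWord F a b t u =
        (r₁, (c₁ : F) * (-t) * u) :: (r₂, (c₂ : F) * (t * t) * u) ::
          rest.map fun c => (c.1, (c.2.1 : F) * (-t) ^ c.2.2.1 * u ^ c.2.2.2) := by
      unfold ChevalleyDatum.commWord
      rw [hT]
      simp only [List.map_cons, pow_one, neg_sq, sq, neg_mul_neg]
    rw [e, wordX_cons, wordX_cons, ← mul_assoc] at hm
    have hr : wordX X (rest.map fun c => (c.1, (c.2.1 : F) * (-t) ^ c.2.2.1 * u ^ c.2.2.2)) ∈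
        commutator M := by
      apply wordX_mem_of_inDer
      intro p hp
      simp only [List.mem_map] at hp
      obtain ⟨q, hq, rfl⟩ := hp
      exact hrest q hq
    exact (Subgroup.mul_mem_cancel_right _ hr).1 hm
  have h2 : InDer X r₂ := by
    intro s
    have hl1' : l - 1 ≠ 0 := sub_ne_zero.2 hl1
    obtain ⟨u, hu⟩ : ∃ u : F, u = (c₂ : F) * s * (l - 1)⁻¹ := ⟨_, rfl⟩
    have h1 := hv 1 u
    have h2 := hv l (u * l⁻¹)
    have h3 := Subgroup.mul_mem _ (Subgroup.inv_mem _ h1) h2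
    have e : (X r₁ ((c₁ : F) * (-1) * u) * X r₂ ((c₂ : F) * (1 * 1) * u))⁻¹ *
        (X r₁ ((c₁ : F) * (-l) * (u * l⁻¹)) * X r₂ ((c₂ : F) * (l * l) * (u * l⁻¹))) =
        X r₂ s := by
      have e1 : (c₁ : F) * (-l) * (u * l⁻¹) = (c₁ : F) * (-1) * u := by
        field_simp
      rw [e1]
      have hg : ∀ (A B B' : M), (A * B)⁻¹ * (A * B') = B⁻¹ * B' := by intros; group
      rw [hg, X_inv h hr₂, h.add r₂ hr₂]
      congr 1
      have e2 : (c₂ : F) * (l * l) * (u * l⁻¹) = (c₂ : F) * u * l := by field_simp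
      rw [e2, hu]
      have e3 : -((c₂ : F) * (1 * 1) * ((c₂ : F) * s * (l - 1)⁻¹)) +
          (c₂ : F) * ((c₂ : F) * s * (l - 1)⁻¹) * l
          = ((c₂ : F) * (c₂ : F)) * s * ((l - 1) * (l - 1)⁻¹) := by ring
      rw [e3, hc₂F, mul_inv_cancel₀ hl1', one_mul, mul_one]
    rw [e] at h3
    exact h3
  refine ⟨?_, h2⟩
  intro s
  have h1 := hv (-(c₁ : F) * s) 1
  have h3 := (Subgroup.mul_mem_cancel_right _ (h2 _)).1 h1
  have e : (c₁ : F) * (-(-(c₁ : F) * s)) * 1 = s := by
    rw [mul_one, neg_mul, neg_neg, ← mul_assoc, hc₁F, one_mul]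
  rw [e] at h3
  exact h3

/-- a cheap bounded universal quantifier -/
def allLt' (n : ℕ) (p : ℕ → Bool) : Bool := Nat.rec true (fun k ih => bif p k then ih else false) n

theorem allLt'_succ (n : ℕ) (p : ℕ → Bool) :
    allLt' (n + 1) p = (bif p n then allLt' n p else false) := rfl

theorem allLt'_iff {n : ℕ} {p : ℕ → Bool} : allLt' n p = true ↔ ∀ k < n, p k = true := by
  induction n with
  | zero => simp [allLt']
  | succ n ih =>
    rw [allLt'_succ]
    constructor
    · intro h k hk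
      cases hp : p n with
      | false => rw [hp] at h; simp at h
      | true =>
        rw [hp] at h
        simp only [cond_true] at h
        rcases Nat.lt_succ_iff_lt_or_eq.1 hk with h' | rfl
        · exact ih.1 h k h'
        · exact hp
    · intro h
      rw [h n (Nat.lt_succ_self n)]
      simp only [cond_true]
      exact ih.2 (fun k hk => h k (Nat.lt_succ_of_lt hk))

/-- for every root `r` the pair listed at position `r` has the single-term commutator
`x_r(± t u)` -/
def singleChk' (D : ChevalleyDatum) (wit : List (ℕ × ℕ)) : Bool :=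
  allLt' D.nroots fun r =>
    let p := wit.getD r (0, 0)
    decide (p.1 < D.nroots) && decide (p.2 < D.nroots) && decide (p.2 ≠ p.1) &&
      decide (p.2 ≠ D.neg p.1) &&
      (decide (D.commTerms p.1 p.2 = [(r, 1, 1, 1)]) || decide (D.commTerms p.1 p.2 = [(r, -1, 1, 1)]))

theorem inDer_of_singleChk {X : ℕ → F → M} (h : R12 D X)
    {wit : List (ℕ × ℕ)} (hw : singleChk' D wit = true) : ∀ r < D.nroots, InDer X r := by
  intro r hr
  have h1 := allLt'_iff.1 hw r hr
  simp only [Bool.and_eq_true, Bool.or_eq_true, decide_eq_true_eq] at h1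
  obtain ⟨⟨⟨⟨ha, hb⟩, hne⟩, hneg⟩, hT⟩ := h1
  rcases hT with hT | hT
  · exact inDer_of_single h ha hb hne hneg hT (by norm_num)
  · exact inDer_of_single h ha hb hne hneg hT (by norm_num)

end Cfsg.Agent.Helper2.StPerf
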