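import Mathlib
import Cfsg.Agent.Helper29.TV2Basic

/-! Board `tv2pieces`: piece COFIX (a 2-group acting on a nonzero finite `𝔽₂`-space fixes a nonzero functional). -/

set_option autoImplicit false

namespace Cfsg.Agent.TV2

/-- the contragredient action of `T` on additive functionals. -/
@[reducible] def COFIX_aux_act (T : Type*) [Group T] (U : Type*) [AddCommGroup U] [DistribMulAction T U] :
    MulAction T (U →+ ZMod 2) where
  smul t ζ := ζ.comp (DistribSMul.toAddMonoidHom U t⁻¹)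
  one_smul ζ := by
    ext u
    show ζ ((1 : T)⁻¹ • u) = ζ u
    rw [inv_one, one_smul]
  mul_smul s t ζ := by
    ext u
    show ζ ((s * t)⁻¹ • u) = ζ (t⁻¹ • s⁻¹ • u)
    rw [mul_inv_rev, mul_smul]

theorem COFIX_aux_smul_apply {T : Type*} [Group T] {U : Type*} [AddCommGroup U] [DistribMulAction T U]
    (t : T) (ζ : U →+ ZMod 2) (u : U) :
    letI := COFIX_aux_act T U
    (t • ζ) u = ζ (t⁻¹ • u) := rfl

theorem COFIX_aux_exists_ne_zero {U : Type*} [AddCommGroup U] [Module (ZMod 2) U] [Nontrivial U] :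
    ∃ ζ : U →+ ZMod 2, ζ ≠ 0 := by
  obtain ⟨v, hv⟩ := exists_ne (0 : U)
  have h := (Module.forall_dual_apply_eq_zero_iff (ZMod 2) v).not.mpr hv
  rw [not_forall] at h
  obtain ⟨f, hf⟩ := h
  refine ⟨f.toAddMonoidHom, ?_⟩
  intro h0
  apply hf
  have := DFunLike.congr_fun h0 v
  simpa using this

theorem COFIX_aux_two_dvd {U : Type*} [AddCommGroup U] [Module (ZMod 2) U] [Finite U] [Nontrivial U] :
    2 ∣ Nat.card (U →+ ZMod 2) := by
  obtain ⟨ζ, hζ⟩ := COFIX_aux_exists_ne_zero (U := U)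
  have : Finite (U →+ ZMod 2) := Finite.of_injective (fun f : U →+ ZMod 2 => (f : U → ZMod 2)) DFunLike.coe_injective
  have h2 : addOrderOf ζ = 2 := by
    apply addOrderOf_eq_prime
    · ext u
      show (2 • ζ) u = 0
      rw [AddMonoidHom.smul_apply, two_smul]
      exact CharTwo.add_self_eq_zero _
    · exact hζ
  have h3 := addOrderOf_dvd_natCard ζ
  rw [h2] at h3
  exact h3

theorem COFIX {T : Type*} [Group T] [Finite T] (hT : IsPGroup 2 T) {U : Type*} [AddCommGroup U] [Module (ZMod 2) U] [Finite U]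
    [Nontrivial U] [DistribMulAction T U] : ∃ ζ : U →+ ZMod 2, ζ ≠ 0 ∧ ∀ (t : T) (u : U), ζ (t • u) = ζ u := by
  classical
  let _ := COFIX_aux_act T U
  have : Finite (U →+ ZMod 2) := Finite.of_injective (fun f : U →+ ZMod 2 => (f : U → ZMod 2)) DFunLike.coe_injective
  have hmod := hT.card_modEq_card_fixedPoints (U →+ ZMod 2)
  have h2 : 2 ∣ Nat.card (U →+ ZMod 2) := COFIX_aux_two_dvd
  have h3 : 2 ∣ Nat.card (MulAction.fixedPoints T (U →+ ZMod 2)) := by
    rw [← Nat.modEq_zero_iff_dvd] at h2 ⊢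
    exact hmod.symm.trans h2
  have h0 : (0 : U →+ ZMod 2) ∈ MulAction.fixedPoints T (U →+ ZMod 2) := by
    intro t
    ext u
    rfl
  have hgt : 1 < Nat.card (MulAction.fixedPoints T (U →+ ZMod 2)) := by
    have hpos : 0 < Nat.card (MulAction.fixedPoints T (U →+ ZMod 2)) := by
      have : Nonempty (MulAction.fixedPoints T (U →+ ZMod 2)) := ⟨⟨0, h0⟩⟩
      exact Nat.card_pos
    have := Nat.le_of_dvd hpos h3
    omega
  rw [Finite.one_lt_card_iff_nontrivial] at hgt
  obtain ⟨⟨ζ, hζ⟩, hne⟩ := exists_ne (⟨0, h0⟩ : MulAction.fixedPoints T (U →+ ZMod 2))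
  refine ⟨ζ, ?_, ?_⟩
  · intro h
    apply hne
    exact Subtype.ext h
  · intro t u
    have h1 := hζ t⁻¹
    have h2 := DFunLike.congr_fun h1 u
    rw [COFIX_aux_smul_apply, inv_inv] at h2
    exact h2

end Cfsg.Agent.TV2
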