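import Mathlib
import Cfsg.Agent.Helper29.TV2Basic
import Cfsg.Agent.Helper2.TV2_COFIX

/-! Board `tv2pieces`: piece COFIX2 (a 2-subgroup `H` stabilising a nonzero subgroup `U ≤ W` fixes, on `U`, a functional
of `W` that is nonzero on `U`). -/

set_option autoImplicit false

namespace Cfsg.Agent.TV2

variable {P : Type*} [Group P] [Finite P] {W : Type*} [AddCommGroup W] [Module (ZMod 2) W] [Finite W] [DistribMulAction P W]

omit [Finite P] [Module (ZMod 2) W] [Finite W] in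
/-- the restricted action of `H` on `U`. -/
@[reducible] def COFIX_aux_subAct (H : Subgroup P) (U : AddSubgroup W) (hU : ∀ h ∈ H, ∀ u ∈ U, h • u ∈ U) :
    DistribMulAction H U where
  smul h u := ⟨(h : P) • (u : W), hU h h.2 u u.2⟩
  one_smul u := Subtype.ext (one_smul P (u : W))
  mul_smul g h u := Subtype.ext (mul_smul (g : P) (h : P) (u : W))
  smul_zero h := Subtype.ext (smul_zero (h : P))
  smul_add h u v := Subtype.ext (smul_add (h : P) (u : W) (v : W))

theorem COFIX2 (H : Subgroup P) (hH : IsPGroup 2 H) (U : AddSubgroup W) (hU : ∀ h ∈ H, ∀ u ∈ U, h • u ∈ U) (hne : U ≠ ⊥) :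
    ∃ ζ : W →+ ZMod 2, (∃ u ∈ U, ζ u ≠ 0) ∧ ∀ h ∈ H, ∀ u ∈ U, ζ (h • u) = ζ u := by
  classical
  let Us : Submodule (ZMod 2) W := AddSubgroup.toZModSubmodule 2 U
  have hUs : ∀ w : W, w ∈ Us ↔ w ∈ U := fun w => Iff.rfl
  let _ : DistribMulAction H Us := COFIX_aux_subAct H U hU
  have hact : ∀ (h : H) (u : Us), ((h • u : Us) : W) = (h : P) • (u : W) := fun h u => rfl
  have : Nontrivial Us := by
    obtain ⟨u, hu, hu0⟩ := (AddSubgroup.bot_or_exists_ne_zero U).resolve_left hne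
    refine ⟨⟨⟨u, hu⟩, 0, ?_⟩⟩
    intro h
    exact hu0 (congrArg Subtype.val h)
  obtain ⟨ζ, hζ0, hζ⟩ := COFIX (T := H) hH (U := Us)
  obtain ⟨g, hg⟩ := LinearMap.exists_extend (AddMonoidHom.toZModLinearMap 2 ζ)
  have hgζ : ∀ u : Us, g (u : W) = ζ u := by
    intro u
    have := LinearMap.congr_fun hg u
    simpa using this
  refine ⟨g.toAddMonoidHom, ?_, ?_⟩
  · obtain ⟨u, hu⟩ := DFunLike.ne_iff.mp hζ0
    refine ⟨(u : W), u.2, ?_⟩
    show g (u : W) ≠ 0
    rw [hgζ u]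
    exact hu
  · intro h hh u hu
    show g (h • u) = g u
    have h1 := hζ ⟨h, hh⟩ ⟨u, hu⟩
    rw [← hgζ, ← hgζ, hact] at h1
    exact h1

end Cfsg.Agent.TV2
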