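import Mathlib
import Cfsg.Prelude.Def_Local

/-! S3086 (the P(G,V)-theorem): definitions for the board `s3086pieces`.
Blueprint: `departures/helper2_S3086_blueprint.md`.  We work in `GL(V) = V ≃ₗ[ZMod p] V` with the LEFT action,
`(g * h) v = g (h v)`; `Nop g = g - 1` in `Module.End`; `cjg a K = a K a⁻¹`. -/

set_option autoImplicit false

namespace Cfsg.Agent.S3086P

universe u

variable (p : ℕ) (V : Type u) [AddCommGroup V] [Module (ZMod p) V]

/-- the group `GL(V)` of linear automorphisms of `V` -/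
abbrev GLV := V ≃ₗ[ZMod p] V

variable {p V}

/-- a linear automorphism as an element of the ring `End(V)` -/
def toE (g : GLV p V) : Module.End (ZMod p) V := (g : V →ₗ[ZMod p] V)

/-- `N_g = g - 1` in `End(V)`; `ker N_g = C_V(g)`, `range N_g = [V,g]` -/
def Nop (g : GLV p V) : Module.End (ZMod p) V := toE g - 1

/-- `t_x = x + x⁻¹` in `End(V)` -/
def tx (x : GLV p V) : Module.End (ZMod p) V := toE x + toE x⁻¹

/-- the fixed points `C_V(B)` of a subgroup `B ≤ GL(V)` -/
def fixS (B : Subgroup (GLV p V)) : Submodule (ZMod p) V where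
  carrier := {v | ∀ b ∈ B, b v = v}
  add_mem' := by
    intro v w hv hw b hb
    rw [map_add, hv b hb, hw b hb]
  zero_mem' := by
    intro b _
    exact map_zero b
  smul_mem' := by
    intro c v hv b hb
    rw [map_smul, hv b hb]

/-- `q(B) = |B| |C_V(B)|` -/
noncomputable def qv (B : Subgroup (GLV p V)) : ℕ := Nat.card ↥B * Nat.card ↥(fixS B)

/-- the commutator `[V,B]`, spanned by the `b v - v` -/
def comV (B : Subgroup (GLV p V)) : Submodule (ZMod p) V :=
  Submodule.span (ZMod p) {w | ∃ b ∈ B, ∃ v : V, w = b v - v}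

/-- the pointwise stabiliser `C_{GL(V)}(W)` of a subspace -/
def centS (W : Submodule (ZMod p) V) : Subgroup (GLV p V) where
  carrier := {g | ∀ w ∈ W, g w = w}
  mul_mem' := by
    intro g h hg hh w hw
    show g (h w) = w
    rw [hh w hw, hg w hw]
  one_mem' := by
    intro w _
    rfl
  inv_mem' := by
    intro g hg w hw
    have h1 : g⁻¹ (g w) = w := g.symm_apply_apply w
    rw [hg w hw] at h1
    exact h1

/-- the setwise stabiliser `N_{GL(V)}(W)` of a subspace -/
def stabS (W : Submodule (ZMod p) V) : Subgroup (GLV p V) where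
  carrier := {g | ∀ w : V, w ∈ W ↔ g w ∈ W}
  mul_mem' := by
    intro g h hg hh w
    show w ∈ W ↔ g (h w) ∈ W
    rw [hh w, hg (h w)]
  one_mem' := by
    intro w
    rfl
  inv_mem' := by
    intro g hg w
    have h1 : g (g⁻¹ w) = w := g.apply_symm_apply w
    rw [hg (g⁻¹ w), h1]

/-- restriction of an element of `N(W)` to `W` -/
def resE (W : Submodule (ZMod p) V) (g : ↥(stabS W)) : GLV p ↥W where
  toFun w := ⟨(g : GLV p V) w, ((g.2 (w : V)).mp w.2)⟩
  invFun w := ⟨(g : GLV p V)⁻¹ w, (((stabS W).inv_mem g.2) (w : V)).mp w.2⟩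
  map_add' := by
    intro v w
    apply Subtype.ext
    simp
  map_smul' := by
    intro c v
    apply Subtype.ext
    simp
  left_inv := by
    intro w
    apply Subtype.ext
    exact (g : GLV p V).symm_apply_apply (w : V)
  right_inv := by
    intro w
    apply Subtype.ext
    exact (g : GLV p V).apply_symm_apply (w : V)

/-- the restriction homomorphism `N(W) → GL(W)` -/
def res (W : Submodule (ZMod p) V) : ↥(stabS W) →* GLV p ↥W where
  toFun := resE W
  map_one' := by
    apply LinearEquiv.ext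
    intro w
    rfl
  map_mul' := by
    intro g h
    apply LinearEquiv.ext
    intro w
    rfl

/-- the image in `GL(W)` of (the part in `N(W)` of) a subgroup `S ≤ GL(V)` -/
def imgS (W : Submodule (ZMod p) V) (S : Subgroup (GLV p V)) : Subgroup (GLV p ↥W) :=
  (S.subgroupOf (stabS W)).map (res W)

/-- conjugation `a K a⁻¹` -/
def cjg (a : GLV p V) (K : Subgroup (GLV p V)) : Subgroup (GLV p V) := K.map (MulAut.conj a).toMonoidHom

/-- `A* = C_A([V,A])` (Timmesfeld) -/
def Astar (A : Subgroup (GLV p V)) : Subgroup (GLV p V) := A ⊓ centS (comV A)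

/-- the "diagonal" `Δ = ⟨x · a x a⁻¹ : x ∈ K⟩` -/
def DeltaS (a : GLV p V) (K : Subgroup (GLV p V)) : Subgroup (GLV p V) :=
  Subgroup.closure {d | ∃ x ∈ K, d = x * (a * x * a⁻¹)}

/-- elementwise commuting subgroups -/
def CommS (K L : Subgroup (GLV p V)) : Prop := ∀ x ∈ K, ∀ y ∈ L, x * y = y * x

variable (p V)

/-- the hypotheses of the CORE statement -/
structure Hyp (K A : Subgroup (GLV p V)) : Prop where
  hK : Cfsg.IsQuasisimple ↥K
  hA1 : A ≠ ⊥
  hAel : Cfsg.IsElementaryAbelian p A
  hbest : ∀ B : Subgroup (GLV p V), B ≤ A → qv B ≤ qv A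
  hcomm : ∀ a ∈ A, cjg a K = K ∨ CommS K (cjg a K)

variable {p V}

/-- the conclusion of the CORE statement: `A` normalises `K` -/
def Norm (A K : Subgroup (GLV p V)) : Prop := ∀ a ∈ A, cjg a K = K

variable (p V)

/-- a minimal counterexample: `(|V|, |A|)` lexicographically minimal -/
structure MC [Finite V] (K A : Subgroup (GLV p V)) : Prop where
  hyp : Hyp p V K A
  hnot : ¬ Norm A K
  ihV : ∀ (V' : Type u) [AddCommGroup V'] [Module (ZMod p) V'] [Finite V'] (K' A' : Subgroup (GLV p V')),
    Nat.card V' < Nat.card V → Hyp p V' K' A' → Norm A' K'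
  ihA : ∀ A' : Subgroup (GLV p V), Nat.card ↥A' < Nat.card ↥A → Hyp p V K A' → Norm A' K

end Cfsg.Agent.S3086P
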