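import Mathlib
import Cfsg.Agent.Helper2.S3086Defs

/-! S3086 (P(G,V)-theorem): basic API for the definitions of `S3086Defs`. -/

set_option autoImplicit false

namespace Cfsg.Agent.S3086P

universe u

variable {p : ℕ} {V : Type u} [AddCommGroup V] [Module (ZMod p) V]

/-- `GL(V)` is finite -/
instance GLV_finite [Finite V] : Finite (GLV p V) :=
  Finite.of_injective (fun g : GLV p V => (g : V → V)) DFunLike.coe_injective

@[simp] theorem toE_apply (g : GLV p V) (v : V) : toE g v = g v := rfl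

@[simp] theorem toE_one : toE (1 : GLV p V) = 1 := rfl

theorem toE_mul (g h : GLV p V) : toE (g * h) = toE g * toE h := rfl

theorem toE_inv_mul (g : GLV p V) : toE g⁻¹ * toE g = 1 := by
  rw [← toE_mul, inv_mul_cancel, toE_one]

theorem toE_mul_inv (g : GLV p V) : toE g * toE g⁻¹ = 1 := by
  rw [← toE_mul, mul_inv_cancel, toE_one]

theorem toE_injective : Function.Injective (toE : GLV p V → Module.End (ZMod p) V) := by
  intro g h hgh
  apply LinearEquiv.ext
  intro v
  have := congrArg (fun f : Module.End (ZMod p) V => f v) hgh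
  simpa using this

theorem toE_pow (g : GLV p V) (n : ℕ) : toE (g ^ n) = toE g ^ n := by
  induction n with
  | zero => simp
  | succ n ih => rw [pow_succ, pow_succ, toE_mul, ih]

@[simp] theorem Nop_apply (g : GLV p V) (v : V) : Nop g v = g v - v := by
  simp [Nop]

theorem toE_eq (g : GLV p V) : toE g = 1 + Nop g := by
  simp [Nop]

theorem Nop_one : Nop (1 : GLV p V) = 0 := by
  simp [Nop]

theorem mem_ker_Nop {g : GLV p V} {v : V} : v ∈ LinearMap.ker (Nop g) ↔ g v = v := by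
  rw [LinearMap.mem_ker, Nop_apply, sub_eq_zero]

theorem mem_fixS {B : Subgroup (GLV p V)} {v : V} : v ∈ fixS B ↔ ∀ b ∈ B, b v = v := Iff.rfl

theorem fixS_anti {B C : Subgroup (GLV p V)} (h : B ≤ C) : fixS C ≤ fixS B :=
  fun _ hv b hb => hv b (h hb)

theorem fixS_bot : fixS (⊥ : Subgroup (GLV p V)) = ⊤ := by
  ext v
  simp only [mem_fixS, Subgroup.mem_bot, Submodule.mem_top, iff_true]
  rintro b rfl
  rfl

theorem mem_centS {W : Submodule (ZMod p) V} {g : GLV p V} : g ∈ centS W ↔ ∀ w ∈ W, g w = w := Iff.rfl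

theorem mem_stabS {W : Submodule (ZMod p) V} {g : GLV p V} : g ∈ stabS W ↔ ∀ w : V, w ∈ W ↔ g w ∈ W := Iff.rfl

theorem centS_le_stabS (W : Submodule (ZMod p) V) : centS W ≤ stabS W := by
  intro g hg w
  constructor
  · intro hw
    rw [hg w hw]; exact hw
  · intro hw
    have h1 := (centS W).inv_mem hg (g w) hw
    have h2 : g⁻¹ (g w) = w := g.symm_apply_apply w
    rw [h2] at h1
    rw [h1]; exact hw

theorem le_centS_fixS (B : Subgroup (GLV p V)) : B ≤ centS (fixS B) :=
  fun b hb _ hw => hw b hb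

@[simp] theorem res_apply (W : Submodule (ZMod p) V) (g : ↥(stabS W)) (w : ↥W) :
    ((res W g w : ↥W) : V) = (g : GLV p V) (w : V) := rfl

theorem mem_imgS {W : Submodule (ZMod p) V} {S : Subgroup (GLV p V)} {h : GLV p ↥W} :
    h ∈ imgS W S ↔ ∃ g : ↥(stabS W), (g : GLV p V) ∈ S ∧ res W g = h := by
  unfold imgS
  rw [Subgroup.mem_map]
  constructor
  · rintro ⟨g, hg, rfl⟩
    exact ⟨g, Subgroup.mem_subgroupOf.mp hg, rfl⟩
  · rintro ⟨g, hg, rfl⟩
    exact ⟨g, Subgroup.mem_subgroupOf.mpr hg, rfl⟩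

theorem mem_cjg {a x : GLV p V} {K : Subgroup (GLV p V)} : x ∈ cjg a K ↔ a⁻¹ * x * a ∈ K := by
  unfold cjg
  rw [Subgroup.mem_map]
  constructor
  · rintro ⟨y, hy, rfl⟩
    simpa [MulAut.conj_apply, mul_assoc] using hy
  · intro h
    refine ⟨a⁻¹ * x * a, h, ?_⟩
    simp [MulAut.conj_apply, mul_assoc]

theorem conj_mem_cjg {a x : GLV p V} {K : Subgroup (GLV p V)} (hx : x ∈ K) : a * x * a⁻¹ ∈ cjg a K := by
  rw [mem_cjg]
  have : a⁻¹ * (a * x * a⁻¹) * a = x := by group
  rwa [this]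

theorem cjg_one (K : Subgroup (GLV p V)) : cjg 1 K = K := by
  ext x; rw [mem_cjg]; simp

theorem cjg_mul (a b : GLV p V) (K : Subgroup (GLV p V)) : cjg a (cjg b K) = cjg (a * b) K := by
  ext x
  rw [mem_cjg, mem_cjg, mem_cjg]
  have : b⁻¹ * (a⁻¹ * x * a) * b = (a * b)⁻¹ * x * (a * b) := by group
  rw [this]

theorem cjg_mono {a : GLV p V} {K L : Subgroup (GLV p V)} (h : K ≤ L) : cjg a K ≤ cjg a L := Subgroup.map_mono h

theorem cjg_card (a : GLV p V) (K : Subgroup (GLV p V)) : Nat.card ↥(cjg a K) = Nat.card ↥K :=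
  Subgroup.card_map_of_injective (MulAut.conj a).injective

theorem cjg_eq_iff {a : GLV p V} {K : Subgroup (GLV p V)} :
    cjg a K = K ↔ a ∈ Subgroup.normalizer (K : Set (GLV p V)) := by
  constructor
  · intro h
    rw [Subgroup.mem_normalizer_iff]
    intro x
    constructor
    · intro hx
      have := conj_mem_cjg (a := a) hx
      rwa [h] at this
    · intro hx
      rw [← h, mem_cjg] at hx
      have e : a⁻¹ * (a * x * a⁻¹) * a = x := by group
      rwa [e] at hx
  · intro h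
    ext x
    rw [mem_cjg]
    have h2 := (Subgroup.mem_normalizer_iff.mp (Subgroup.inv_mem _ h)) x
    rw [inv_inv] at h2
    exact h2.symm

theorem CommS.symm {K L : Subgroup (GLV p V)} (h : CommS K L) : CommS L K :=
  fun x hx y hy => (h y hy x hx).symm

theorem CommS.cjg {K L : Subgroup (GLV p V)} (h : CommS K L) (a : GLV p V) : CommS (cjg a K) (cjg a L) := by
  intro x hx y hy
  rw [mem_cjg] at hx hy
  have := h _ hx _ hy
  have e1 : x * y = a * ((a⁻¹ * x * a) * (a⁻¹ * y * a)) * a⁻¹ := by group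
  have e2 : y * x = a * ((a⁻¹ * y * a) * (a⁻¹ * x * a)) * a⁻¹ := by group
  rw [e1, e2, this]

theorem Astar_le (A : Subgroup (GLV p V)) : Astar A ≤ A := inf_le_left

theorem mem_comV {B : Subgroup (GLV p V)} {b : GLV p V} (hb : b ∈ B) (v : V) : b v - v ∈ comV B :=
  Submodule.subset_span ⟨b, hb, v, rfl⟩

theorem range_Nop_le_comV {B : Subgroup (GLV p V)} {b : GLV p V} (hb : b ∈ B) : LinearMap.range (Nop b) ≤ comV B := by
  rintro w ⟨v, rfl⟩
  rw [Nop_apply]
  exact mem_comV hb v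

theorem mem_DeltaS {a x : GLV p V} {K : Subgroup (GLV p V)} (hx : x ∈ K) : x * (a * x * a⁻¹) ∈ DeltaS a K :=
  Subgroup.subset_closure ⟨x, hx, rfl⟩

end Cfsg.Agent.S3086P
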