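import Cfsg.Agent.Helper26.S3818Defs

/-! # S3818, row FR2: the decomposition `End V = ⊕_{t ∈ T} ρ(t) 𝒞` along a transversal `T` of `Z = Z(Q)` in `Q`
(`Q` of class at most two, `Z` acting by scalars, `|Q : Z|` invertible in `F`). -/

set_option autoImplicit false

namespace Cfsg.Agent.S3818P

open Module

/-- summation over a transversal is invariant under left translation. -/
theorem FR2_aux_sum_shift {G : Type*} [Group G] {M : Type*} [AddCommMonoid M] (Q Z : Subgroup G)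
    (T : Finset G) (hTQ : ∀ t ∈ T, t ∈ Q) (hT : ∀ u ∈ Q, ∃! t, t ∈ T ∧ t⁻¹ * u ∈ Z)
    (f : G → M) (hf : ∀ u ∈ Q, ∀ z ∈ Z, f (u * z) = f u) (w : G) (hw : w ∈ Q) :
    ∑ t ∈ T, f (w * t) = ∑ t ∈ T, f t := by
  classical
  have hex : ∀ u : G, ∃ t, u ∈ Q → (t ∈ T ∧ t⁻¹ * u ∈ Z) := fun u => by
    by_cases hu : u ∈ Q
    · obtain ⟨t, ht, _⟩ := hT u hu
      exact ⟨t, fun _ => ht⟩
    · exact ⟨1, fun h => absurd h hu⟩
  choose rep hrep using hex
  have huniq : ∀ u ∈ Q, ∀ t ∈ T, t⁻¹ * u ∈ Z → t = rep u := fun u hu t ht htz =>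
    (hT u hu).unique ⟨ht, htz⟩ (hrep u hu)
  have hwinv : w⁻¹ ∈ Q := Q.inv_mem hw
  have h1 : ∀ t ∈ T, f (w * t) = f (rep (w * t)) := by
    intro t ht
    have hwt : w * t ∈ Q := Q.mul_mem hw (hTQ t ht)
    obtain ⟨hr, hz⟩ := hrep (w * t) hwt
    have e : w * t = rep (w * t) * ((rep (w * t))⁻¹ * (w * t)) := by group
    calc f (w * t) = f (rep (w * t) * ((rep (w * t))⁻¹ * (w * t))) := congrArg f e
      _ = f (rep (w * t)) := hf _ (hTQ _ hr) _ hz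
  rw [Finset.sum_congr rfl h1]
  refine Finset.sum_bij' (fun t _ => rep (w * t)) (fun t _ => rep (w⁻¹ * t)) ?_ ?_ ?_ ?_ ?_
  · intro t ht
    exact (hrep (w * t) (Q.mul_mem hw (hTQ t ht))).1
  · intro t ht
    exact (hrep (w⁻¹ * t) (Q.mul_mem hwinv (hTQ t ht))).1
  · intro t ht
    have hwt : w * t ∈ Q := Q.mul_mem hw (hTQ t ht)
    obtain ⟨hr, hz⟩ := hrep (w * t) hwt
    symm
    apply huniq _ (Q.mul_mem hwinv (hTQ _ hr)) t ht
    have e : t⁻¹ * (w⁻¹ * rep (w * t)) = ((rep (w * t))⁻¹ * (w * t))⁻¹ := by group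
    rw [e]
    exact Z.inv_mem hz
  · intro t ht
    have hwt : w⁻¹ * t ∈ Q := Q.mul_mem hwinv (hTQ t ht)
    obtain ⟨hr, hz⟩ := hrep (w⁻¹ * t) hwt
    symm
    apply huniq _ (Q.mul_mem hw (hTQ _ hr)) t ht
    have e : t⁻¹ * (w * rep (w⁻¹ * t)) = ((rep (w⁻¹ * t))⁻¹ * (w⁻¹ * t))⁻¹ := by group
    rw [e]
    exact Z.inv_mem hz
  · intro t _
    rfl

/-- the order of a transversal. -/
theorem FR2_aux_card {G : Type*} [Group G] [Finite G] (Q Z : Subgroup G) (hZQ : Z ≤ Q)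
    (T : Finset G) (hTQ : ∀ t ∈ T, t ∈ Q) (hT : ∀ u ∈ Q, ∃! t, t ∈ T ∧ t⁻¹ * u ∈ Z) :
    Nat.card Q = T.card * Nat.card Z := by
  classical
  have hbij : Function.Bijective (fun p : ↥T × ↥Z => (⟨(p.1 : G) * (p.2 : G),
      Q.mul_mem (hTQ _ p.1.2) (hZQ p.2.2)⟩ : ↥Q)) := by
    constructor
    · rintro ⟨⟨t, ht⟩, ⟨z, hz⟩⟩ ⟨⟨t', ht'⟩, ⟨z', hz'⟩⟩ h
      have h' : t * z = t' * z' := congrArg Subtype.val h
      have hu : t * z ∈ Q := Q.mul_mem (hTQ _ ht) (hZQ hz)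
      have h1 : t⁻¹ * (t * z) ∈ Z := by
        have : t⁻¹ * (t * z) = z := by group
        rw [this]; exact hz
      have h2 : t'⁻¹ * (t * z) ∈ Z := by
        rw [h']
        have : t'⁻¹ * (t' * z') = z' := by group
        rw [this]; exact hz'
      have htt : t = t' := (hT _ hu).unique ⟨ht, h1⟩ ⟨ht', h2⟩
      subst htt
      have hzz : z = z' := mul_left_cancel h'
      subst hzz
      rfl
    · rintro ⟨u, hu⟩
      obtain ⟨t, ⟨ht, hz⟩, _⟩ := hT u hu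
      refine ⟨(⟨t, ht⟩, ⟨t⁻¹ * u, hz⟩), ?_⟩
      apply Subtype.ext
      show t * (t⁻¹ * u) = u
      group
  rw [← Nat.card_congr (Equiv.ofBijective _ hbij), Nat.card_prod]
  congr 1
  rw [Nat.card_eq_fintype_card, Fintype.card_coe]

/-- FR2 (decomposition of `End V` along a transversal `T` of `Z` in `Q`). -/
theorem FR2_decomp {G : Type*} [Group G] [Finite G] {F V : Type*} [Field F] [AddCommGroup V]
    [Module F V] [FiniteDimensional F V] (ρ : Representation F G V)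
    (hfaith : Function.Injective ρ) (Q Z : Subgroup G)
    (hZ : Z = Q ⊓ Subgroup.centralizer (Q : Set G)) (hcomm : ∀ u ∈ Q, ∀ v ∈ Q, u * v * u⁻¹ * v⁻¹ ∈ Z)
    (ζ : G → F) (hζ : ∀ z ∈ Z, ρ z = ζ z • 1) (D : ℕ) (hD : Nat.card Q = D * Nat.card Z)
    (hDF : (D : F) ≠ 0) (T : Finset G) (hTQ : ∀ t ∈ T, t ∈ Q)
    (hT : ∀ u ∈ Q, ∃! t, t ∈ T ∧ t⁻¹ * u ∈ Z) :
    iSupIndep (fun t : T => (commutant ρ Q).map (LinearMap.mulLeft F (ρ (t : G)))) ∧
      (⨆ t : T, (commutant ρ Q).map (LinearMap.mulLeft F (ρ (t : G)))) = ⊤ ∧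
      T.card = D := by
  classical
  have hZQ : Z ≤ Q := by rw [hZ]; exact inf_le_left
  have hZc : ∀ z ∈ Z, ∀ u ∈ Q, u * z = z * u := by
    intro z hz u hu
    rw [hZ] at hz
    exact (Subgroup.mem_centralizer_iff.mp hz.2) u hu
  have hρZ : ∀ z ∈ Z, ∀ A : Module.End F V, ρ z * A = A * ρ z := by
    intro z hz A
    rw [hζ z hz, smul_mul_assoc, mul_smul_comm, one_mul, mul_one]
  have hρinv : ∀ g : G, ρ g * ρ g⁻¹ = 1 := fun g => by rw [← map_mul, mul_inv_cancel, map_one]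
  have hρinv' : ∀ g : G, ρ g⁻¹ * ρ g = 1 := fun g => by rw [← map_mul, inv_mul_cancel, map_one]
  -- the order of `T`
  have hcard : T.card = D := by
    have h1 := FR2_aux_card Q Z hZQ T hTQ hT
    rw [hD] at h1
    have hZpos : 0 < Nat.card Z := Nat.card_pos
    exact (Nat.eq_of_mul_eq_mul_right hZpos h1).symm
  have hshift := fun (f : G → Module.End F V) => FR2_aux_sum_shift Q Z T hTQ hT f
  -- the character sums
  set Λ : G → Module.End F V := fun w => ∑ t ∈ T, ρ (t * w * t⁻¹ * w⁻¹) with hΛ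
  have hΛ0 : ∀ w ∈ Q, w ∉ Z → Λ w = 0 := by
    intro w hw hwZ
    -- some `y ∈ Q` does not commute with `w`
    have hex : ∃ y ∈ Q, y * w ≠ w * y := by
      by_contra hcon
      push Not at hcon
      apply hwZ
      rw [hZ]
      exact ⟨hw, Subgroup.mem_centralizer_iff.mpr hcon⟩
    obtain ⟨y, hy, hyw⟩ := hex
    set k := y * w * y⁻¹ * w⁻¹ with hk
    have hkZ : k ∈ Z := hcomm y hy w hw
    have hk1 : k ≠ 1 := by
      intro h1
      apply hyw
      have : y * w = k * (w * y) := by rw [hk]; group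
      rw [this, h1, one_mul]
    have hf : ∀ u ∈ Q, ∀ z ∈ Z, ρ ((u * z) * w * (u * z)⁻¹ * w⁻¹) = ρ (u * w * u⁻¹ * w⁻¹) := by
      intro u _ z hz
      have hzw : w * z = z * w := hZc z hz w hw
      congr 1
      calc (u * z) * w * (u * z)⁻¹ * w⁻¹ = u * (z * w) * z⁻¹ * u⁻¹ * w⁻¹ := by group
        _ = u * (w * z) * z⁻¹ * u⁻¹ * w⁻¹ := by rw [hzw]
        _ = u * w * u⁻¹ * w⁻¹ := by group
    have h1 : ρ k * Λ w = Λ w := by
      rw [hΛ]
      simp only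
      rw [Finset.mul_sum, ← hshift (fun u => ρ (u * w * u⁻¹ * w⁻¹)) hf y hy]
      apply Finset.sum_congr rfl
      intro t ht
      rw [← map_mul]
      congr 1
      have htQ := hTQ t ht
      have hc : y * (t * w * t⁻¹ * w⁻¹) = (t * w * t⁻¹ * w⁻¹) * y :=
        hZc _ (hcomm t htQ w hw) y hy
      calc k * (t * w * t⁻¹ * w⁻¹) = y * w * y⁻¹ * w⁻¹ * (t * w * t⁻¹ * w⁻¹) := by rw [hk]
        _ = (t * w * t⁻¹ * w⁻¹) * (y * w * y⁻¹ * w⁻¹) := (hZc _ (hcomm t htQ w hw) _ (hZQ hkZ))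
        _ = ((t * w * t⁻¹ * w⁻¹) * y) * w * y⁻¹ * w⁻¹ := by group
        _ = (y * (t * w * t⁻¹ * w⁻¹)) * w * y⁻¹ * w⁻¹ := by rw [hc]
        _ = y * t * w * (y * t)⁻¹ * w⁻¹ := by group
    rw [hζ k hkZ, smul_mul_assoc, one_mul] at h1
    have h2 : (ζ k - 1) • Λ w = 0 := by rw [sub_smul, one_smul, h1, sub_self]
    rcases smul_eq_zero.mp h2 with h3 | h3
    · exfalso
      apply hk1
      apply hfaith
      rw [hζ k hkZ, sub_eq_zero.mp h3, one_smul, map_one]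
    · exact h3
  have hΛZ : ∀ w ∈ Z, Λ w = (D : F) • 1 := by
    intro w hw
    rw [hΛ]
    simp only
    have : ∀ t ∈ T, ρ (t * w * t⁻¹ * w⁻¹) = 1 := by
      intro t ht
      have hc := hZc w hw t (hTQ t ht)
      have : t * w * t⁻¹ * w⁻¹ = 1 := by rw [hc]; group
      rw [this, map_one]
    rw [Finset.sum_congr rfl this, Finset.sum_const, hcard, Nat.cast_smul_eq_nsmul]
  -- the averaging operator
  set π : Module.End F V → Module.End F V := fun B => ∑ s ∈ T, ρ s * B * ρ s⁻¹ with hπ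
  have hπ𝒞 : ∀ B, π B ∈ commutant ρ Q := by
    intro B u hu
    have hg : ∀ v ∈ Q, ∀ z ∈ Z, ρ (v * z) * B * ρ (v * z)⁻¹ = ρ v * B * ρ v⁻¹ := by
      intro v _ z hz
      have e1 : ρ (v * z)⁻¹ = ρ z⁻¹ * ρ v⁻¹ := by rw [← map_mul]; congr 1; group
      rw [map_mul, e1]
      calc ρ v * ρ z * B * (ρ z⁻¹ * ρ v⁻¹) = ρ v * (ρ z * B) * ρ z⁻¹ * ρ v⁻¹ := by noncomm_ring
        _ = ρ v * (B * ρ z) * ρ z⁻¹ * ρ v⁻¹ := by rw [hρZ z hz B]
        _ = ρ v * B * (ρ z * ρ z⁻¹) * ρ v⁻¹ := by noncomm_ring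
        _ = ρ v * B * ρ v⁻¹ := by rw [hρinv, mul_one]
    have h1 := hshift (fun v => ρ v * B * ρ v⁻¹) hg u hu
    -- `ρ u * π B * ρ u⁻¹ = π B`
    have h2 : ρ u * π B * ρ u⁻¹ = π B := by
      rw [hπ]
      simp only
      rw [Finset.mul_sum, Finset.sum_mul, ← h1]
      apply Finset.sum_congr rfl
      intro s _
      have e1 : ρ (u * s)⁻¹ = ρ s⁻¹ * ρ u⁻¹ := by rw [← map_mul]; congr 1; group
      rw [map_mul, e1]
      noncomm_ring
    calc π B * ρ u = (ρ u * π B * ρ u⁻¹) * ρ u := by rw [h2]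
      _ = ρ u * π B * (ρ u⁻¹ * ρ u) := by noncomm_ring
      _ = ρ u * π B := by rw [hρinv', mul_one]
  -- the key computation
  have hkey : ∀ t ∈ T, ∀ t' ∈ T, ∀ c ∈ commutant ρ Q,
      ρ t * π (ρ t⁻¹ * (ρ t' * c)) = if t = t' then (D : F) • (ρ t * c) else 0 := by
    intro t ht t' ht' c hc
    have htQ := hTQ t ht
    have ht'Q := hTQ t' ht'
    set w := t⁻¹ * t' with hw
    have hwQ : w ∈ Q := Q.mul_mem (Q.inv_mem htQ) ht'Q
    have h1 : π (ρ t⁻¹ * (ρ t' * c)) = Λ w * (ρ w * c) := by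
      rw [hπ, hΛ]
      simp only
      rw [Finset.sum_mul]
      apply Finset.sum_congr rfl
      intro s hs
      have hcs : c * ρ s⁻¹ = ρ s⁻¹ * c := hc s⁻¹ (Q.inv_mem (hTQ s hs))
      have e1 : ρ (s * w * s⁻¹ * w⁻¹) * ρ w = ρ s * ρ w * ρ s⁻¹ := by
        rw [← map_mul, ← map_mul, ← map_mul]
        congr 1
        group
      calc ρ s * (ρ t⁻¹ * (ρ t' * c)) * ρ s⁻¹ = ρ s * (ρ t⁻¹ * ρ t') * (c * ρ s⁻¹) := by noncomm_ring
        _ = ρ s * ρ w * (ρ s⁻¹ * c) := by rw [hcs, hw, map_mul]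
        _ = (ρ s * ρ w * ρ s⁻¹) * c := by noncomm_ring
        _ = ρ (s * w * s⁻¹ * w⁻¹) * (ρ w * c) := by rw [← e1]; noncomm_ring
    rw [h1]
    by_cases htt : t = t'
    · rw [if_pos htt]
      have hw1 : w = 1 := by rw [hw, htt]; group
      rw [hw1, hΛZ 1 Z.one_mem, map_one, one_mul, smul_mul_assoc, one_mul, mul_smul_comm]
    · rw [if_neg htt]
      have hwZ : w ∉ Z := by
        intro hwZ
        apply htt
        have h2 : t'⁻¹ * t' ∈ Z := by rw [inv_mul_cancel]; exact Z.one_mem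
        exact (hT t' ht'Q).unique ⟨ht, hwZ⟩ ⟨ht', h2⟩
      rw [hΛ0 w hwQ hwZ, zero_mul, mul_zero]
  refine ⟨?_, ?_, hcard⟩
  · -- independence
    intro t
    rw [Submodule.disjoint_def]
    intro A hA1 hA2
    -- the linear map `L A = ρ t * π (ρ t⁻¹ * A)`
    set L : Module.End F V →ₗ[F] Module.End F V :=
      (LinearMap.mulLeft F (ρ (t : G))).comp
        ((∑ s ∈ T, (LinearMap.mulLeft F (ρ s)).comp (LinearMap.mulRight F (ρ s⁻¹))).comp
          (LinearMap.mulLeft F (ρ (t : G)⁻¹))) with hL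
    have hLapp : ∀ B, L B = ρ (t : G) * π (ρ (t : G)⁻¹ * B) := by
      intro B
      rw [hL, hπ]
      simp only [LinearMap.comp_apply, LinearMap.mulLeft_apply, LinearMap.sum_apply, LinearMap.mulRight_apply]
      refine congrArg (fun Y => ρ (t : G) * Y) (Finset.sum_congr rfl ?_)
      intro s _
      rw [mul_assoc, mul_assoc, mul_assoc]
    have hker : (⨆ (j : T) (_ : j ≠ t), (commutant ρ Q).map (LinearMap.mulLeft F (ρ (j : G)))) ≤
        LinearMap.ker L := by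
      apply iSup_le
      intro j
      apply iSup_le
      intro hj
      rintro _ ⟨c, hc, rfl⟩
      rw [LinearMap.mem_ker, hLapp, LinearMap.mulLeft_apply, hkey t t.2 j j.2 c hc,
        if_neg (fun h => hj (Subtype.ext h.symm))]
    obtain ⟨c, hc, rfl⟩ := hA1
    have h1 : L (ρ (t : G) * c) = 0 := LinearMap.mem_ker.mp (hker hA2)
    rw [hLapp, hkey t t.2 t t.2 c hc, if_pos rfl] at h1
    rcases smul_eq_zero.mp h1 with h2 | h2
    · exact absurd h2 hDF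
    · exact h2
  · -- spanning
    rw [eq_top_iff]
    intro A _
    -- the representative of the trivial coset
    obtain ⟨s₀, ⟨hs₀T, hs₀Z⟩, _⟩ := hT 1 Q.one_mem
    have hs₀Z' : s₀ ∈ Z := by
      have : s₀ = (s₀⁻¹ * 1)⁻¹ := by group
      rw [this]; exact Z.inv_mem hs₀Z
    have hsum : ∑ t ∈ T, ρ t * π (ρ t⁻¹ * A) = (D : F) • A := by
      have h1 : ∀ t ∈ T, ρ t * π (ρ t⁻¹ * A) = ∑ s ∈ T, ρ (t * s * t⁻¹ * s⁻¹) * (ρ s * A * ρ s⁻¹) := by
        intro t _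
        rw [hπ]
        simp only
        rw [Finset.mul_sum]
        apply Finset.sum_congr rfl
        intro s _
        have e1 : ρ (t * s * t⁻¹ * s⁻¹) * ρ s = ρ t * ρ s * ρ t⁻¹ := by
          rw [← map_mul, ← map_mul, ← map_mul]
          congr 1
          group
        calc ρ t * (ρ s * (ρ t⁻¹ * A) * ρ s⁻¹) = (ρ t * ρ s * ρ t⁻¹) * A * ρ s⁻¹ := by noncomm_ring
          _ = ρ (t * s * t⁻¹ * s⁻¹) * (ρ s * A * ρ s⁻¹) := by rw [← e1]; noncomm_ring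
      rw [Finset.sum_congr rfl h1, Finset.sum_comm]
      have h2 : ∀ s ∈ T, ∑ t ∈ T, ρ (t * s * t⁻¹ * s⁻¹) * (ρ s * A * ρ s⁻¹) = Λ s * (ρ s * A * ρ s⁻¹) := by
        intro s _
        rw [hΛ]
        simp only
        rw [Finset.sum_mul]
      rw [Finset.sum_congr rfl h2, Finset.sum_eq_single s₀]
      · rw [hΛZ s₀ hs₀Z', smul_mul_assoc, one_mul]
        congr 1
        calc ρ s₀ * A * ρ s₀⁻¹ = (ρ s₀ * A) * ρ s₀⁻¹ := rfl
          _ = (A * ρ s₀) * ρ s₀⁻¹ := by rw [hρZ s₀ hs₀Z' A]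
          _ = A * (ρ s₀ * ρ s₀⁻¹) := by noncomm_ring
          _ = A := by rw [hρinv, mul_one]
      · intro s hs hne
        have hsZ : s ∉ Z := by
          intro hsZ
          apply hne
          have h3 : s⁻¹ * 1 ∈ Z := by rw [mul_one]; exact Z.inv_mem hsZ
          exact (hT 1 Q.one_mem).unique ⟨hs, h3⟩ ⟨hs₀T, hs₀Z⟩
        rw [hΛ0 s (hTQ s hs) hsZ, zero_mul]
      · intro h; exact absurd hs₀T h
    have hA : A = (D : F)⁻¹ • ∑ t ∈ T, ρ t * π (ρ t⁻¹ * A) := by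
      rw [hsum, smul_smul, inv_mul_cancel₀ hDF, one_smul]
    rw [hA]
    apply Submodule.smul_mem
    apply Submodule.sum_mem
    intro t ht
    apply Submodule.mem_iSup_of_mem (⟨t, ht⟩ : T)
    exact ⟨π (ρ t⁻¹ * A), hπ𝒞 _, rfl⟩

end Cfsg.Agent.S3818P
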