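import Mathlib
import Cfsg.Agent.Helper10.S4017Defs
import Cfsg.Agent.S0071

set_option autoImplicit false
set_option linter.style.haveILetI false

/-! # S4017 piece FROB: if a third prime divides `|G|`, Frobenius' criterion fails for `q`. -/

open Cfsg.Agent.S4017P

namespace Cfsg.Agent.S4017P

theorem FROB {G : Type*} [Group G] [Finite G] {p q : ℕ} (h : Hyp G p q)
    (hI : ∀ H : Subgroup G, H ≠ ⊤ → q ∣ Nat.card H → PQ p q (Nat.card H))
    (r : ℕ) (hr : r.Prime) (hrG : r ∣ Nat.card G) (hrp : r ≠ p) (hrq : r ≠ q) :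
    ∃ (P : Sylow q G) (Q0 : Subgroup G) (g : G), Q0 ≤ (P : Subgroup G) ∧
      g ∈ Subgroup.normalizer (Q0 : Set G) ∧ (orderOf g).Coprime q ∧
      g ∉ Subgroup.centralizer (Q0 : Set G) := by
  haveI : Fact q.Prime := ⟨h.hq⟩
  haveI : Fact r.Prime := ⟨hr⟩
  by_contra hcon
  push Not at hcon
  have P : Sylow q G := default
  obtain ⟨N, hN, hcompl⟩ := (Cfsg.Agent.S0071.result P).2
    (fun Q hQ g hg hc => hcon P Q g hQ hg hc)
  haveI := hN
  have hcard : Nat.card N * Nat.card P = Nat.card G := hcompl.card_mul_card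
  have hPcard : Nat.card P = q ^ (Nat.card G).factorization q := P.card_eq_multiplicity
  have hqP : q ∣ Nat.card P := P.dvd_card_of_dvd_card h.hqG
  -- `r` divides `|N|`
  have hrN : r ∣ Nat.card N := by
    rw [← hcard] at hrG
    rcases (Nat.Prime.dvd_mul hr).1 hrG with h1 | h1
    · exact h1
    · exfalso
      rw [hPcard] at h1
      have := (Nat.prime_dvd_prime_iff_eq hr h.hq).1 (hr.dvd_of_dvd_pow h1)
      exact hrq this
  -- a Sylow `r`-subgroup of `N`
  have R : Sylow r ↥N := default
  have hrR : r ∣ Nat.card R := R.dvd_card_of_dvd_card hrN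
  obtain ⟨k, hk⟩ := IsPGroup.iff_card.1 R.isPGroup'
  set R' : Subgroup G := (R : Subgroup ↥N).map N.subtype with hR'
  have hR'card : Nat.card R' = r ^ k := by
    rw [hR', Subgroup.card_map_of_injective N.subtype_injective]
    exact hk
  set H : Subgroup G := Subgroup.normalizer (R' : Set G) with hH
  have hfr : H ⊔ N = ⊤ := Sylow.normalizer_sup_eq_top R
  -- `q` divides `|H|`
  have hidx : N.index = Nat.card P := by
    have h1 := N.card_mul_index
    rw [← hcard] at h1
    exact Nat.eq_of_mul_eq_mul_left Nat.card_pos h1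
  have hqH : q ∣ Nat.card H := by
    have h1 : N.relIndex (H ⊔ N) = N.relIndex H := Subgroup.relIndex_sup_right _ _
    rw [hfr, Subgroup.relIndex_top_right, hidx] at h1
    have h2 : N.relIndex H ∣ Nat.card H := Subgroup.relIndex_dvd_card N H
    rw [← h1] at h2
    exact hqP.trans h2
  -- an element of order `q` in `H`
  obtain ⟨y, hy⟩ := exists_prime_orderOf_dvd_card' q hqH
  set R'' : Subgroup ↥H := R'.subgroupOf H with hR''
  haveI hR''n : R''.Normal := Subgroup.normal_in_normalizer
  have hR'H : R' ≤ H := Subgroup.le_normalizer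
  have hR''card : Nat.card R'' = r ^ k := by
    rw [hR'', ← hR'card]
    exact Nat.card_congr (Subgroup.subgroupOfEquivOfLe hR'H).toEquiv
  set K' : Subgroup ↥H := Subgroup.zpowers y ⊔ R'' with hK'
  have hK'card : Nat.card K' = R''.relIndex (Subgroup.zpowers y) * r ^ k := by
    have h1 : R''.relIndex (Subgroup.zpowers y ⊔ R'') = R''.relIndex (Subgroup.zpowers y) :=
      Subgroup.relIndex_sup_right _ _
    have h2 := (R''.subgroupOf K').card_mul_index
    have h3 : Nat.card (R''.subgroupOf K') = Nat.card R'' :=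
      Nat.card_congr (Subgroup.subgroupOfEquivOfLe (le_sup_right : R'' ≤ K')).toEquiv
    rw [h3, hR''card] at h2
    rw [← h2, mul_comm]
    congr 1
  have hrel : R''.relIndex (Subgroup.zpowers y) ∣ q := by
    have h1 := Subgroup.relIndex_dvd_card R'' (Subgroup.zpowers y)
    rwa [Nat.card_zpowers, hy] at h1
  set K : Subgroup G := K'.map H.subtype with hK
  have hKcard : Nat.card K = Nat.card K' := by
    rw [hK, Subgroup.card_map_of_injective H.subtype_injective]
  have hqK : q ∣ Nat.card K := by
    rw [hKcard]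
    have h1 : Nat.card (Subgroup.zpowers y) ∣ Nat.card K' :=
      Subgroup.card_dvd_of_le (le_sup_left : Subgroup.zpowers y ≤ K')
    rwa [Nat.card_zpowers, hy] at h1
  have hrK : r ∣ Nat.card K := by
    rw [hKcard]
    have h1 : Nat.card R'' ∣ Nat.card K' := Subgroup.card_dvd_of_le (le_sup_right : R'' ≤ K')
    rw [hR''card] at h1
    have h2 : r ∣ r ^ k := by
      rw [← hk]
      exact hrR
    exact h2.trans h1
  have hpK : ¬ p ∣ Nat.card K := by
    intro hp
    rw [hKcard, hK'card] at hp
    rcases (Nat.Prime.dvd_mul h.hp).1 hp with h1 | h1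
    · have h2 := h1.trans hrel
      exact h.hpq ((Nat.prime_dvd_prime_iff_eq h.hp h.hq).1 h2)
    · have h2 := h.hp.dvd_of_dvd_pow h1
      exact hrp ((Nat.prime_dvd_prime_iff_eq h.hp hr).1 h2).symm
  have hKtop : K ≠ ⊤ := by
    intro htop
    apply hpK
    rw [htop, Subgroup.card_top]
    exact h.hpG
  rcases hI K hKtop hqK r hr hrK with h1 | h1
  · exact hrp h1
  · exact hrq h1

end Cfsg.Agent.S4017P
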