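import Mathlib
import Cfsg.Agent.Helper10.S4017Defs

set_option autoImplicit false
set_option linter.style.haveILetI false

/-! # S4017 piece TRANS: orbit counting.  A `q'`-element `g` of `N(Q0)` not centralizing the
`q`-subgroup `Q0` forces `q = 2`, `2 ^ a = p + 1`, `Q0` Sylow, `g` a `p`-element transitive on
`Q0 - 1`, and the Sylow `p`-subgroups abelian. -/

open Cfsg.Agent.S4017P

namespace Cfsg.Agent.S4017P

/-- conjugation by a power, in `ConjAct` form -/
theorem TRANS_aux_smul {G : Type*} [Group G] (g x : G) (k : ℤ) :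
    (ConjAct.toConjAct g ^ k) • x = g ^ k * x * (g ^ k)⁻¹ := by
  rw [ConjAct.smul_def, map_zpow, ConjAct.ofConjAct_toConjAct]

theorem TRANS {G : Type*} [Group G] [Finite G] {p q : ℕ} (h : Hyp G p q)
    (hI : ∀ H : Subgroup G, H ≠ ⊤ → q ∣ Nat.card H → PQ p q (Nat.card H))
    (hO : ∀ N : Subgroup G, N.Normal → IsPGroup q N → N = ⊥)
    (P : Sylow q G) (Q0 : Subgroup G) (g : G) (hQ0 : Q0 ≤ (P : Subgroup G))
    (hgN : g ∈ Subgroup.normalizer (Q0 : Set G)) (hgc : (orderOf g).Coprime q)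
    (hgC : g ∉ Subgroup.centralizer (Q0 : Set G)) :
    q = 2 ∧ 2 ^ (Nat.card G).factorization 2 = p + 1 ∧
      Nat.card Q0 = 2 ^ (Nat.card G).factorization 2 ∧ IsPEl p g ∧
      (∀ x ∈ Q0, x ≠ 1 → ∀ y ∈ Q0, y ≠ 1 → ∃ i : ℕ, g ^ i * x * (g ^ i)⁻¹ = y) ∧
      (∀ P : Sylow p G, IsMulCommutative P) := by
  haveI : Fact q.Prime := ⟨h.hq⟩
  haveI : Fact p.Prime := ⟨h.hp⟩
  have hQ0q : IsPGroup q ↥Q0 := P.isPGroup'.to_le hQ0
  -- an element of `Q0` not commuting with `g`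
  obtain ⟨x0, hx0Q, hx0g⟩ : ∃ x0 ∈ Q0, x0 * g ≠ g * x0 := by
    by_contra hcon
    push Not at hcon
    exact hgC (Subgroup.mem_centralizer_iff.2 hcon)
  have hx01 : x0 ≠ 1 := by
    rintro rfl
    exact hx0g (by rw [one_mul, mul_one])
  have hQ0bot : Q0 ≠ ⊥ := by
    intro hb
    rw [hb, Subgroup.mem_bot] at hx0Q
    exact hx01 hx0Q
  -- the normalizer of `Q0` is a proper subgroup of order divisible by `q`
  set M : Subgroup G := Subgroup.normalizer (Q0 : Set G) with hM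
  have hMtop : M ≠ ⊤ := by
    intro htop
    have hn : Q0.Normal := Subgroup.normalizer_eq_top_iff.1 htop
    exact hQ0bot (hO Q0 hn hQ0q)
  obtain ⟨n, hn⟩ := IsPGroup.iff_card.1 hQ0q
  have hn0 : n ≠ 0 := by
    rintro rfl
    rw [pow_zero] at hn
    exact hQ0bot (Subgroup.card_eq_one.1 hn)
  have hqQ0 : q ∣ Nat.card Q0 := by
    rw [hn]
    exact dvd_pow_self q hn0
  have hqM : q ∣ Nat.card M :=
    hqQ0.trans (Subgroup.card_dvd_of_le (Subgroup.le_normalizer : Q0 ≤ M))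
  have hPQ := hI M hMtop hqM
  -- `g` is a `p`-element
  have hgM : orderOf g ∣ Nat.card M := by
    have h1 : orderOf (⟨g, hgN⟩ : ↥M) ∣ Nat.card M := orderOf_dvd_natCard _
    rwa [Subgroup.orderOf_mk] at h1
  have hgp : IsPEl p g := by
    refine ⟨(orderOf g).primeFactorsList.length, ?_⟩
    apply Nat.eq_prime_pow_of_unique_prime_dvd (orderOf_pos g).ne'
    intro d hd hdvd
    rcases hPQ d hd (hdvd.trans hgM) with h1 | h1
    · exact h1
    · exfalso
      subst h1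
      have h2 : d ∣ Nat.gcd (orderOf g) d := Nat.dvd_gcd hdvd dvd_rfl
      rw [Nat.Coprime] at hgc
      rw [hgc] at h2
      exact hd.one_lt.ne' (Nat.dvd_one.1 h2)
  obtain ⟨k, hk⟩ := hgp
  -- the group generated by conjugation by `g`
  set c : ConjAct G := ConjAct.toConjAct g with hc
  set Z : Subgroup (ConjAct G) := Subgroup.zpowers c with hZ
  have hZp : IsPGroup p ↥Z := by
    apply IsPGroup.of_card (n := k)
    rw [hZ, Nat.card_zpowers, hc, MulEquiv.orderOf_eq]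
    exact hk
  obtain ⟨m, hm⟩ := hZp.card_orbit (α := G) x0
  -- the orbit of `x0` lies in `Q0 - 1`
  have hsub : MulAction.orbit ↥Z x0 ⊆ (Q0 : Set G) \ {1} := by
    rintro y ⟨⟨z, hz⟩, rfl⟩
    obtain ⟨i, rfl⟩ := Subgroup.mem_zpowers_iff.1 hz
    change (c ^ i) • x0 ∈ _
    rw [hc, TRANS_aux_smul]
    have hgi : g ^ i ∈ Subgroup.normalizer (Q0 : Set G) := Subgroup.zpow_mem _ hgN i
    refine ⟨(Subgroup.mem_normalizer_iff.1 hgi x0).1 hx0Q, ?_⟩
    intro h1
    apply hx01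
    have h2 : g ^ i * x0 * (g ^ i)⁻¹ = 1 := h1
    have h3 : x0 = (g ^ i)⁻¹ * (g ^ i * x0 * (g ^ i)⁻¹) * (g ^ i) := by group
    rw [h3, h2]
    group
  have hm0 : m ≠ 0 := by
    rintro rfl
    rw [pow_zero] at hm
    have h1 : (MulAction.orbit ↥Z x0).ncard = 1 := by
      rw [← _root_.Nat.card_coe_set_eq]
      exact hm
    obtain ⟨a, ha⟩ := Set.ncard_eq_one.1 h1
    have h2 : x0 ∈ MulAction.orbit ↥Z x0 := MulAction.mem_orbit_self x0
    have h3 : (⟨c, Subgroup.mem_zpowers c⟩ : ↥Z) • x0 ∈ MulAction.orbit ↥Z x0 :=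
      MulAction.mem_orbit x0 _
    rw [ha] at h2 h3
    have h4 : (⟨c, Subgroup.mem_zpowers c⟩ : ↥Z) • x0 = x0 := by
      rw [Set.mem_singleton_iff] at h2 h3
      rw [h3, h2]
    change c • x0 = x0 at h4
    rw [hc, ConjAct.toConjAct_smul] at h4
    apply hx0g
    have h5 : g * x0 = g * x0 * g⁻¹ * g := by group
    rw [h5, h4]
  have hncard : (MulAction.orbit ↥Z x0).ncard = p ^ m := by
    rw [← _root_.Nat.card_coe_set_eq]
    exact hm
  have hQ0ncard : ((Q0 : Set G) \ {1}).ncard = Nat.card Q0 - 1 := by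
    rw [Set.ncard_sdiff_singleton_of_mem (Q0.one_mem)]
    rfl
  have hle1 : p ^ m ≤ Nat.card Q0 - 1 := by
    rw [← hncard, ← hQ0ncard]
    exact Set.ncard_le_ncard hsub (Set.toFinite _)
  have hpm : p ≤ p ^ m := by
    calc p = p ^ 1 := (pow_one p).symm
      _ ≤ p ^ m := Nat.pow_le_pow_right h.hp.pos (Nat.one_le_iff_ne_zero.2 hm0)
  -- `|Q0| ≤ q ^ a`
  have hPcard : Nat.card P = q ^ (Nat.card G).factorization q := P.card_eq_multiplicity
  have hQ0le : Nat.card Q0 ≤ q ^ (Nat.card G).factorization q := by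
    rw [← hPcard]
    exact Nat.le_of_dvd Nat.card_pos (Subgroup.card_dvd_of_le hQ0)
  have hQ0pos : 0 < Nat.card Q0 := Nat.card_pos
  rcases h.hlarge with hl | ⟨hl, hab⟩
  · exfalso
    omega
  · have hqa : q ^ (Nat.card G).factorization q = p + 1 := by
      have : 0 < q ^ (Nat.card G).factorization q := Nat.pow_pos h.hq.pos
      omega
    have hQ0card : Nat.card Q0 = q ^ (Nat.card G).factorization q := by omega
    have hpm' : p ^ m = p := by omega
    -- `q = 2`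
    have hq2 : q = 2 := by
      have hodd : Odd p := h.hp.odd_of_ne_two h.hp2
      have heven : 2 ∣ q ^ (Nat.card G).factorization q := by
        rw [hqa]
        obtain ⟨j, hj⟩ := hodd
        exact ⟨j + 1, by omega⟩
      have h2q : 2 ∣ q := Nat.prime_two.dvd_of_dvd_pow heven
      exact ((Nat.prime_dvd_prime_iff_eq Nat.prime_two h.hq).1 h2q).symm
    subst hq2
    refine ⟨rfl, hqa, hQ0card, ⟨k, hk⟩, ?_, hab⟩
    -- transitivity
    have horb : MulAction.orbit ↥Z x0 = (Q0 : Set G) \ {1} := by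
      apply Set.eq_of_subset_of_ncard_le hsub _ (Set.toFinite _)
      rw [hncard, hQ0ncard]
      omega
    intro x hx hx1 y hy hy1
    have hxo : x ∈ MulAction.orbit ↥Z x0 := by
      rw [horb]
      exact ⟨hx, hx1⟩
    have hyo : y ∈ MulAction.orbit ↥Z x0 := by
      rw [horb]
      exact ⟨hy, hy1⟩
    rw [← MulAction.orbit_eq_iff.2 hxo] at hyo
    obtain ⟨⟨z, hz⟩, hzy⟩ := hyo
    have hcfin : IsOfFinOrder c := by
      rw [hc, ← orderOf_pos_iff, MulEquiv.orderOf_eq]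
      exact orderOf_pos g
    have hz' : z ∈ Submonoid.powers c := hcfin.mem_powers_iff_mem_zpowers.2 hz
    obtain ⟨i, rfl⟩ := (Submonoid.mem_powers_iff _ _).1 hz'
    refine ⟨i, ?_⟩
    change (c ^ i) • x = y at hzy
    have h1 := TRANS_aux_smul g x (i : ℤ)
    rw [zpow_natCast, zpow_natCast] at h1
    rw [← h1]
    exact hzy

end Cfsg.Agent.S4017P
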