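import Mathlib
import Cfsg.Agent.Helper2.S3086Defs
import Cfsg.Agent.Helper2.S3086Basic

/-! S3086 (P(G,V)-theorem): the structures `TP` (pairs of Lemma T) and `TC` (its conclusion) for the `p = 2` rows. -/

set_option autoImplicit false

namespace Cfsg.Agent.S3086P

universe u

variable (p : ℕ) (V : Type u) [AddCommGroup V] [Module (ZMod p) V]

/-- the pair `(a,b)` of Lemma T -/
structure TP (K : Subgroup (GLV p V)) (a b : GLV p V) : Prop where
  hK : Cfsg.IsQuasisimple ↥K
  ha : a * a = 1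
  hb : b * b = 1
  hab : a * b = b * a
  hq : Nop a * Nop b = 0
  hne : cjg a K ≠ K
  hc : CommS K (cjg a K)
  hbK : cjg b K = K
  hbn : ¬ ∀ x ∈ K, b * x = x * b

variable {p V}

/-- the conclusion of Lemma T: `t_x = x + x⁻¹` is "central", and `Δ` centralises `[V,a]` -/
def TC (K : Subgroup (GLV p V)) (a : GLV p V) : Prop :=
  ∀ x ∈ K, Commute (tx x) (toE a) ∧ (∀ y ∈ K, Commute (tx x) (toE y)) ∧ (∀ y ∈ cjg a K, Commute (tx x) (toE y)) ∧
    ∀ v : V, (x * (a * x * a⁻¹)) (Nop a v) = Nop a v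

end Cfsg.Agent.S3086P
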