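import Mathlib
import Cfsg.Agent.Helper2.St2F
import Cfsg.Agent.Helper6.Chev.TablesReach
import Cfsg.Agent.Helper6.Chev.TablesAddC
import Cfsg.Agent.Helper6.Chev.GLvl

set_option autoImplicit false
set_option linter.unusedSectionVars false
set_option linter.unusedSimpArgs false
set_option linter.unusedVariables false

/-! The homomorphisms `SL₂(F) → ⟨X_r, X_{-r}⟩` in the tabulated Chevalley groups. -/

namespace Cfsg.Agent.Helper2.ChevSL2

open Cfsg.Lie Cfsg.Agent.Helper6 Cfsg.Agent.Helper2.St2F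

variable {D : ChevalleyDatum} (F : Type*) [Field F]

/-- there is a homomorphism from `SL₂(F)` with the prescribed values on the unitriangular
elements -/
def HasSL2 (hB : BasicOK D) (r : ℕ) : Prop :=
  ∃ φ : Matrix.SpecialLinearGroup (Fin 2) F →* GL D.Idx F,
    (∀ t, φ (upperSL t) = xU hB r t) ∧ (∀ t, φ (lowerSL t) = xU hB (D.neg r) t)

variable {F}

theorem xU_mul (hB : BasicOK D) (r : ℕ) (t u : F) : xU hB r t * xU hB r u = xU hB r (t + u) := by
  apply Units.ext
  rw [Units.val_mul, xU_val, xU_val, xU_val, x_add hB.neg hB.keys hB.chain hB.coroot]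

theorem nU_inv_val (hB : BasicOK D) (r : ℕ) {c : F} (hc : c ≠ 0) :
    (((nU hB r hc)⁻¹ : GL D.Idx F) : Matrix D.Idx D.Idx F) = D.nMat F r (-c) := rfl

theorem hasSL2_simple (hB : BasicOK D) {i : ℕ} (hA : SimpleAll D i) (hAdd : AddOK D i) :
    HasSL2 F hB (D.simple i) := by
  classical
  have hp := hA.hS.1
  have hnp := hB.neg _ hp
  obtain ⟨p, hpdef⟩ : ∃ p, p = D.simple i := ⟨_, rfl⟩
  rw [← hpdef] at hp hnp ⊢
  obtain ⟨n, hn⟩ : ∃ n : GL D.Idx F, n = nU hB p (one_ne_zero (α := F)) := ⟨_, rfl⟩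
  have hn' : xU hB p (1 : F) * xU hB (D.neg p) (-1) * xU hB p 1 = n := by
    rw [hn]
    apply Units.ext
    simp only [Units.val_mul, xU_val, nU_val]
    rw [nMat_eq', inv_one]
  let H : F → GL D.Idx F := fun t => if ht : t ≠ 0 then nU hB p ht * n⁻¹ else 1
  have hH : ∀ (t : F) (ht : t ≠ 0), H t = nU hB p ht * n⁻¹ := fun t ht => by
    simp only [H, dif_pos ht]
  have hHval : ∀ t : F, t ≠ 0 → ((H t : GL D.Idx F) : Matrix D.Idx D.Idx F) = D.hMat F p t := by
    intro t ht
    rw [hH t ht, Units.val_mul, nU_val, hn, nU_inv_val, hMat_eq']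
  have hcp : D.cartan i p = 2 := by rw [hpdef]; exact hA.hS.2.1
  have hcn : D.cartan i (D.neg p) = -2 := by rw [hpdef]; exact hA.hS.2.2.1
  refine SL2_lift' (xU hB p) (xU hB (D.neg p)) H (xU_mul hB p) (xU_mul hB (D.neg p)) ?_ ?_ ?_ ?_ ?_ ?_
  · intro u
    rw [hn', hn, hpdef, nU_conj_xU hB hA hA.hS.1 u]
    have e1 : wR D (D.simple i) (D.simple i) = D.neg (D.simple i) := by
      unfold wR; rw [if_pos rfl]
    have e2 : etaR D (D.simple i) (D.simple i) = -1 := by
      unfold etaR; rw [if_pos (Or.inl rfl)]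
    rw [e1, e2, Int.cast_neg, Int.cast_one, neg_mul, one_mul]
  · intro u
    rw [hn', hn, hpdef, nU_conj_xU hB hA (hB.neg _ hA.hS.1).1 u]
    have e1 : wR D (D.simple i) (D.neg (D.simple i)) = D.simple i := by
      unfold wR; rw [if_neg (hB.neg _ hA.hS.1).2.1, if_pos rfl]
    have e2 : etaR D (D.simple i) (D.neg (D.simple i)) = -1 := by
      unfold etaR; rw [if_pos (Or.inr rfl)]
    rw [e1, e2, Int.cast_neg, Int.cast_one, neg_mul, one_mul]
  · intro t ht
    rw [hn', hH t ht, inv_mul_cancel_right]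
    apply Units.ext
    simp only [Units.val_mul, xU_val, nU_val]
    rw [nMat_eq']
  · intro t u ht
    rw [mul_inv_eq_iff_eq_mul]
    apply Units.ext
    rw [Units.val_mul, Units.val_mul, hHval t ht, xU_val, xU_val, hpdef,
      hMat_mul_x hB hA.hS hA.hR hAdd hA.hi hA.hS.1 ht u, hA.hS.2.1]
    congr 2
    norm_cast
  · intro t u ht
    rw [mul_inv_eq_iff_eq_mul]
    apply Units.ext
    rw [Units.val_mul, Units.val_mul, hHval t ht, xU_val, xU_val, hpdef,
      hMat_mul_x hB hA.hS hA.hR hAdd hA.hi (hB.neg _ hA.hS.1).1 ht u, hA.hS.2.2.1]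
    congr 2
    rw [zpow_neg, inv_pow]
    norm_cast
  · intro t u ht hu
    apply Units.ext
    rw [Units.val_mul, hHval t ht, hHval u hu, hHval (t * u) (mul_ne_zero ht hu), hpdef,
      hMat_simple_eq_diagonal hB hA.hS hA.hR ht, hMat_simple_eq_diagonal hB hA.hS hA.hR hu,
      hMat_simple_eq_diagonal hB hA.hS hA.hR (mul_ne_zero ht hu), Matrix.diagonal_mul_diagonal]
    congr 1
    funext x
    rcases x with j | s
    · simp
    · simp [mul_zpow]

theorem hasSL2_step (hB : BasicOK D) {i : ℕ} (hA : SimpleAll D i) {s : ℕ} (hs : s < D.nroots)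
    (h : HasSL2 F hB s) : HasSL2 F hB (wR D (D.simple i) s) := by
  obtain ⟨φ, h1, h2⟩ := h
  obtain ⟨n, hn⟩ : ∃ n : GL D.Idx F, n = nU hB (D.simple i) (one_ne_zero (α := F)) := ⟨_, rfl⟩
  have hns := (hB.neg s hs).1
  have c1 : ∀ t : F, n * xU hB s t * n⁻¹ =
      xU hB (wR D (D.simple i) s) (((etaR D (D.simple i) s : ℤ) : F) * t) := fun t => by
    rw [hn]; exact nU_conj_xU hB hA hs t
  have c2 : ∀ t : F, n * xU hB (D.neg s) t * n⁻¹ =
      xU hB (D.neg (wR D (D.simple i) s)) (((etaR D (D.simple i) s : ℤ) : F) * t) := fun t => by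
    rw [hn, nU_conj_xU hB hA hns t, hA.hC.negw s hs, etaR_neg hB hA hs]
  rcases (hA.hE.2 s hs).1 with hη | hη
  · rw [hη] at c1 c2
    refine ⟨(MulAut.conj n).toMonoidHom.comp φ, fun t => ?_, fun t => ?_⟩
    · rw [MonoidHom.comp_apply, h1]
      change n * xU hB s t * n⁻¹ = _
      rw [c1, Int.cast_one, one_mul]
    · rw [MonoidHom.comp_apply, h2]
      change n * xU hB (D.neg s) t * n⁻¹ = _
      rw [c2, Int.cast_one, one_mul]
  · rw [hη] at c1 c2
    refine ⟨((MulAut.conj n).toMonoidHom.comp φ).comp flipSL, fun t => ?_, fun t => ?_⟩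
    · rw [MonoidHom.comp_apply, flipSL_upper, MonoidHom.comp_apply, h1]
      change n * xU hB s (-t) * n⁻¹ = _
      rw [c1, Int.cast_neg, Int.cast_one, neg_mul, one_mul, neg_neg]
    · rw [MonoidHom.comp_apply, flipSL_lower, MonoidHom.comp_apply, h2]
      change n * xU hB (D.neg s) (-t) * n⁻¹ = _
      rw [c2, Int.cast_neg, Int.cast_one, neg_mul, one_mul, neg_neg]

theorem hasSL2_of_reach (hB : BasicOK D) (hAll : ∀ i < D.rank, SimpleAll D i)
    (hAdd : ∀ i < D.rank, AddOK D i) {r : ℕ} (h : Reach D r) : HasSL2 F hB r := by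
  induction h with
  | simple hi => exact hasSL2_simple hB (hAll _ hi) (hAdd _ hi)
  | step hi hs _ ih => exact hasSL2_step hB (hAll _ hi) hs ih

/-- the hom for every root of a tabulated datum -/
theorem hasSL2_of_tabulated (hD : IsTabulated D) {r : ℕ} (hr : r < D.nroots) :
    HasSL2 F (basicOK_of_tabulated hD) r :=
  hasSL2_of_reach (basicOK_of_tabulated hD) (fun i hi => simpleAll_of_tabulated hD hi)
    (fun i hi => addOK_of_tabulated hD hi) (reach_of_tabulated hD hr)

/-- the range of such a hom -/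
theorem range_eq (hB : BasicOK D) {r : ℕ}
    {φ : Matrix.SpecialLinearGroup (Fin 2) F →* GL D.Idx F}
    (h1 : ∀ t, φ (upperSL t) = xU hB r t) (h2 : ∀ t, φ (lowerSL t) = xU hB (D.neg r) t) :
    φ.range = D.rootSubgroup F r ⊔ D.rootSubgroup F (D.neg r) := by
  apply le_antisymm
  · rw [MonoidHom.range_eq_map, ← closure_upper_lower, MonoidHom.map_closure, Subgroup.closure_le]
    rintro _ ⟨g, hg | hg, rfl⟩
    · obtain ⟨t, rfl⟩ := hg
      apply Subgroup.mem_sup_left
      apply Subgroup.subset_closure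
      exact ⟨t, by rw [h1]; rfl⟩
    · obtain ⟨t, rfl⟩ := hg
      apply Subgroup.mem_sup_right
      apply Subgroup.subset_closure
      exact ⟨t, by rw [h2]; rfl⟩
  · apply sup_le
    · unfold ChevalleyDatum.rootSubgroup
      rw [Subgroup.closure_le]
      rintro g ⟨t, hg⟩
      exact ⟨upperSL t, by rw [h1]; exact Units.ext hg.symm⟩
    · unfold ChevalleyDatum.rootSubgroup
      rw [Subgroup.closure_le]
      rintro g ⟨t, hg⟩
      exact ⟨lowerSL t, by rw [h2]; exact Units.ext hg.symm⟩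

end Cfsg.Agent.Helper2.ChevSL2
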