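import Mathlib
import Cfsg.Agent.Helper25.SL2RankOne

set_option autoImplicit false

/-! In `SL₂(F)`, `F` finite of characteristic 2, an element with non-zero trace has odd order. -/

namespace Cfsg.Agent.Helper2.SL2Char2

open Cfsg Cfsg.Agent.Helper25 Matrix

variable {F : Type*} [Field F] [CharP F 2]

theorem involution_eq_one_of_comm (g h : Matrix.SpecialLinearGroup (Fin 2) F)
    (hh : h * h = 1) (hgh : g * h = h * g) (ht : g 0 0 + g 1 1 ≠ 0) : h = 1 := by
  have two : (2 : F) = 0 := CharTwo.two_eq_zero
  have E1 := congrArg (fun m : Matrix.SpecialLinearGroup (Fin 2) F => m 0 0) hh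
  have E2 := congrArg (fun m : Matrix.SpecialLinearGroup (Fin 2) F => m 0 1) hh
  have E3 := congrArg (fun m : Matrix.SpecialLinearGroup (Fin 2) F => m 1 0) hh
  have E4 := congrArg (fun m : Matrix.SpecialLinearGroup (Fin 2) F => m 1 1) hh
  have C1 := congrArg (fun m : Matrix.SpecialLinearGroup (Fin 2) F => m 0 1) hgh
  have C2 := congrArg (fun m : Matrix.SpecialLinearGroup (Fin 2) F => m 1 0) hgh
  have E5 := sl2_det h
  simp only [sl2_mul_apply, Matrix.SpecialLinearGroup.coe_one, Matrix.one_apply_eq] at E1 E4
  simp only [sl2_mul_apply, Matrix.SpecialLinearGroup.coe_one] at E2 E3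
  simp only [sl2_mul_apply] at C1 C2
  have E2' : h 0 0 * h 0 1 + h 0 1 * h 1 1 = 0 := by simpa using E2
  have E3' : h 1 0 * h 0 0 + h 1 1 * h 1 0 = 0 := by simpa using E3
  set a := g 0 0
  set b := g 0 1
  set c := g 1 0
  set d := g 1 1
  set x := h 0 0
  set y := h 0 1
  set z := h 1 0
  set w := h 1 1
  -- trace of h vanishes
  have hτ : x + w = 0 := by
    by_contra hτ
    have hy : y = 0 := by
      have : y * (x + w) = 0 := by linear_combination E2'
      exact (mul_eq_zero.mp this).resolve_right hτ
    have hz : z = 0 := by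
      have : z * (x + w) = 0 := by linear_combination E3'
      exact (mul_eq_zero.mp this).resolve_right hτ
    have hx : x = 0 := by
      have : x * (x + w) = 0 := by linear_combination E1 + E5 + two
      exact (mul_eq_zero.mp this).resolve_right hτ
    have hw : w = 0 := by
      have : w * (x + w) = 0 := by linear_combination E4 + E5 + two
      exact (mul_eq_zero.mp this).resolve_right hτ
    rw [hx, hy, hz, hw] at E5
    simp at E5
  have hw : w = x := by
    have : w = -x := by linear_combination hτ
    rw [this, CharTwo.neg_eq]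
  have hy : y = 0 := by
    have : y * (a + d) = 0 := by
      rw [hw] at C1
      linear_combination C1 + (y * d) * two
    exact (mul_eq_zero.mp this).resolve_right ht
  have hz : z = 0 := by
    have : z * (a + d) = 0 := by
      rw [hw] at C2
      linear_combination -C2 + (z * d) * two
    exact (mul_eq_zero.mp this).resolve_right ht
  have hx : x = 1 := by
    have : (x - 1) * (x - 1) = 0 := by
      rw [hy] at E1
      linear_combination E1 + (1 - x) * two
    have := mul_self_eq_zero.mp this
    linear_combination this
  apply sl2_ext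
  · show x = _; rw [hx]; simp
  · show y = _; rw [hy]; simp
  · show z = _; rw [hz]; simp
  · show w = _; rw [hw, hx]; simp

theorem odd_orderOf_of_trace_ne_zero [Finite F] (g : Matrix.SpecialLinearGroup (Fin 2) F)
    (ht : g 0 0 + g 1 1 ≠ 0) : Odd (orderOf g) := by
  by_contra hodd
  rw [Nat.not_odd_iff_even] at hodd
  obtain ⟨m, hm⟩ := hodd
  have hpos : 0 < orderOf g := orderOf_pos g
  have hm0 : 0 < m := by omega
  have hlt : m < orderOf g := by omega
  have h1 : g ^ m ≠ 1 := pow_ne_one_of_lt_orderOf (by omega) hlt
  have h2 : g ^ m * g ^ m = 1 := by rw [← pow_add, ← hm, pow_orderOf_eq_one]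
  have h3 : g * g ^ m = g ^ m * g := by rw [← pow_succ', ← pow_succ]
  exact h1 (involution_eq_one_of_comm g (g ^ m) h2 h3 ht)

end Cfsg.Agent.Helper2.SL2Char2
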