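import Mathlib
import Cfsg.Agent.S0780
import Cfsg.Agent.S0781
import Cfsg.Agent.S2644

/-! Piece GEN for helper11's `S2090` (Schur multiplier of `PSU₄(3)`): a subgroup of `SU₄(3)` that
contains one unitary transvection and is transitive on the isotropic points is everything. -/

set_option autoImplicit false
set_option linter.all false

namespace Cfsg.Agent.Helper2.U43

open Matrix Cfsg.Agent.S2644

theorem eq_top_of_transvection {F : Type*} [Field F] [Fintype F] (hF : Fintype.card F = 3 ^ 2)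
    (H : Subgroup (Cfsg.SU 4 F 3)) (v0 : Fin 4 → F) (c0 : F)
    (hiso : Cfsg.hermForm 4 F 3 v0 v0 = 0) (hc0 : c0 ≠ 0) (hskew : c0 ^ 3 = -c0)
    (hT : ∃ g ∈ H, Cfsg.Agent.S2644.toM F 4 3 g = Cfsg.unitaryTransvection 4 3 v0 c0)
    (htrans : ∀ v : Fin 4 → F, v ≠ 0 → Cfsg.hermForm 4 F 3 v v = 0 →
      ∃ g ∈ H, ∃ a : F, a ≠ 0 ∧ Matrix.mulVec (Cfsg.Agent.S2644.toM F 4 3 g) v0 = a • v) : H = ⊤ := by
  classical
  obtain ⟨σ, hσ, hσ2⟩ := Cfsg.Agent.Helper28.exists_frob hF
  rw [eq_top_iff, ← Cfsg.Agent.S0780.result hF 4 (by norm_num) (by norm_num), Subgroup.closure_le]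
  rintro A ⟨v, c, hv, hA⟩
  have hA' : toM F 4 3 A = Cfsg.unitaryTransvection 4 3 v c := hA
  show A ∈ H
  by_cases hv0 : v = 0
  · have : A = 1 := by
      apply toM_injective
      rw [hA', hv0, Cfsg.Agent.S0781.T_zero_vec, map_one]
    rw [this]
    exact one_mem H
  by_cases hc : c = 0
  · have : A = 1 := by
      apply toM_injective
      rw [hA', hc, Cfsg.Agent.S0781.T_zero_coeff, map_one]
    rw [this]
    exact one_mem H
  have hPT : Pres (q := 3) (Cfsg.unitaryTransvection 4 3 v c) := by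
    rw [← hA']
    exact toM_pres A
  have hcs : c ^ 3 = -c := Cfsg.Agent.S0781.skew_of_Pres σ hσ hσ2 v c hv0 hv hPT
  obtain ⟨g, hgH, a, ha, hga⟩ := htrans v hv0 hv
  obtain ⟨t, htH, htM⟩ := hT
  set B : Cfsg.SU 4 F 3 := g * t * g⁻¹ with hB
  have hBH : B ∈ H := H.mul_mem (H.mul_mem hgH htH) (H.inv_mem hgH)
  have hBM : toM F 4 3 B = Cfsg.unitaryTransvection 4 3 v (c0 * a ^ (3 + 1)) := by
    rw [hB, map_mul, map_mul, htM, T_conj _ (toM_pres g), hga, Matrix.mul_assoc, ← map_mul,
      mul_inv_cancel, map_one, Matrix.mul_one, T_smul]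
  set c1 : F := c0 * a ^ (3 + 1) with hc1
  have hPT1 : Pres (q := 3) (Cfsg.unitaryTransvection 4 3 v c1) := by
    rw [← hBM]
    exact toM_pres B
  have hc1s : c1 ^ 3 = -c1 := Cfsg.Agent.S0781.skew_of_Pres σ hσ hσ2 v c1 hv0 hv hPT1
  have hc1ne : c1 ≠ 0 := mul_ne_zero hc0 (pow_ne_zero _ ha)
  -- `c = c1` or `c = -c1`
  have hc2 : c ^ 2 = -1 := by
    have : c * (c ^ 2 + 1) = 0 := by linear_combination hcs
    rcases mul_eq_zero.mp this with h | h
    · exact absurd h hc
    · linear_combination h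
  have hc12 : c1 ^ 2 = -1 := by
    have : c1 * (c1 ^ 2 + 1) = 0 := by linear_combination hc1s
    rcases mul_eq_zero.mp this with h | h
    · exact absurd h hc1ne
    · linear_combination h
  have hor : c = c1 ∨ c = -c1 := by
    have : (c - c1) * (c + c1) = 0 := by linear_combination hc2 - hc12
    rcases mul_eq_zero.mp this with h | h
    · exact Or.inl (sub_eq_zero.mp h)
    · exact Or.inr (eq_neg_of_add_eq_zero_left h)
  rcases hor with h | h
  · have : A = B := by
      apply toM_injective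
      rw [hA', hBM, h]
    rw [this]
    exact hBH
  · have : A = B⁻¹ := by
      apply eq_inv_of_mul_eq_one_left
      apply toM_injective
      rw [map_mul, hA', hBM, Cfsg.Agent.S0781.T_mul σ hσ v c c1 hv, h, neg_add_cancel,
        Cfsg.Agent.S0781.T_zero_coeff, map_one]
    rw [this]
    exact H.inv_mem hBH

end Cfsg.Agent.Helper2.U43
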