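import Mathlib
import Cfsg.Prelude.Def_Classical
import Cfsg.Agent.Helper11.U43Data

set_option autoImplicit false

/-! S2090 piece TRANS: the submonoid generated by the three letter matrices of `PSU₄(3)` moves the
base isotropic vector `n0` to every non-zero isotropic vector (one kernel-checked walk). -/

namespace Cfsg.Agent.Helper2.U43

open Cfsg.Agent.Helper11.U43 Cfsg.Agent.Helper19.TCS

/-- follow the walk, accumulating the bit mask of the visited codes. -/
noncomputable def walkMask : List ℕ → ℕ → ℕ → ℕ
  | [], _, m => m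
  | l :: w, n, m =>
    force (mvec (cG l) n) fun n' => force (m ||| 2 ^ n') fun m' => walkMask w n' m'

/-- the final test: every non-zero isotropic code below `9 ^ 4` has its bit set. -/
def allIso (M : ℕ) : Bool :=
  (List.range 6561).all fun n => n == 0 || !(cherm n == 0) || M.testBit n

theorem walkMask_spec (R : ℕ → Prop) (step : ∀ l n, l < 3 → R n → R (mvec (cG l) n)) :
    ∀ (w : List ℕ) (n m : ℕ), (∀ l ∈ w, l < 3) → R n → (∀ k, m.testBit k = true → R k) →
      ∀ k, (walkMask w n m).testBit k = true → R k := by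
  intro w
  induction w with
  | nil =>
    intro n m _ _ hm k hk
    exact hm k hk
  | cons l w ih =>
    intro n m hw hn hm k hk
    simp only [walkMask, force_eq] at hk
    have hl : l < 3 := hw l (List.mem_cons_self)
    have hn' : R (mvec (cG l) n) := step l n hl hn
    refine ih (mvec (cG l) n) (m ||| 2 ^ mvec (cG l) n)
      (fun l' hl' => hw l' (List.mem_cons_of_mem _ hl')) hn' ?_ k hk
    intro k' hk'
    rw [Nat.testBit_or, Bool.or_eq_true] at hk'
    rcases hk' with h | h
    · exact hm k' h
    · rw [Nat.testBit_two_pow, decide_eq_true_eq] at h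
      rw [← h]; exact hn'

theorem letters_ok : walkW.all (fun l => decide (l < 3)) = true := by decide +kernel

theorem walk_check : allIso (walkMask walkW n0 (2 ^ n0)) = true := by decide +kernel

theorem trans_of_codes {F : Type*} [Field F] [Fintype F] [CharP F 3] (hF : Fintype.card F = 9)
    {i : F} (hi : i ^ 2 = -1) (S : Submonoid (Matrix (Fin 4) (Fin 4) F))
    (hG : ∀ l, l < 3 → evM i (cG l) ∈ S) :
    ∀ v : Fin 4 → F, v ≠ 0 → Cfsg.hermForm 4 F 3 v v = 0 →
      ∃ A ∈ S, Matrix.mulVec A (evV i n0) = v := by
  have h3 : (3 : F) = 0 := three_eq_zero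
  intro v hv hherm
  obtain ⟨n, hn, rfl⟩ := evV_surj hF hi v
  have hn0 : n ≠ 0 := by
    rintro rfl
    apply hv
    ext k
    fin_cases k <;> simp [evV, ev_zero]
  have hc : cherm n = 0 := by
    apply eq_zero_of_ev hi (cherm n) (cherm_lt n)
    rw [ev_cherm h3 hi]
    exact hherm
  let R : ℕ → Prop := fun k => ∃ A ∈ S, Matrix.mulVec A (evV i n0) = evV i k
  have step : ∀ l k, l < 3 → R k → R (mvec (cG l) k) := by
    rintro l k hl ⟨A, hA, hAk⟩
    refine ⟨evM i (cG l) * A, S.mul_mem (hG l hl) hA, ?_⟩
    rw [evV_mvec h3 hi, ← hAk, Matrix.mulVec_mulVec]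
  have hR0 : R n0 := ⟨1, S.one_mem, Matrix.one_mulVec _⟩
  have hlet : ∀ l ∈ walkW, l < 3 := by
    intro l hl
    have := List.all_eq_true.mp letters_ok l hl
    exact of_decide_eq_true this
  have hmask := walkMask_spec R step walkW n0 (2 ^ n0) hlet hR0 (by
    intro k hk
    rw [Nat.testBit_two_pow, decide_eq_true_eq] at hk
    rw [← hk]; exact hR0)
  have hall := walk_check
  unfold allIso at hall
  rw [List.all_eq_true] at hall
  have hn' := hall n (List.mem_range.mpr hn)
  simp only [Bool.or_eq_true, beq_iff_eq, Bool.not_eq_true', beq_eq_false_iff_ne] at hn'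
  rcases hn' with (h | h) | h
  · exact absurd h hn0
  · exact absurd hc h
  · exact hmask n h

end Cfsg.Agent.Helper2.U43
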