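import Mathlib

/-! A counting criterion for transitivity (used for Zassenhaus groups). -/

set_option autoImplicit false
set_option linter.unusedSectionVars false
set_option linter.unusedVariables false

namespace Cfsg.Agent.Helper2.Zass

open MulAction

/-- If every non-identity element of the finite group `A` fixes at most one point of the finite set
`Y` and all point stabilisers are non-trivial, then `A` is transitive on `Y`. -/
theorem isPretransitive_of_fix_le_one {A Y : Type*} [Group A] [MulAction A Y] [Finite A] [Finite Y]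
    (h1 : ∀ x : A, x ≠ 1 → ∀ y z : Y, x • y = y → x • z = z → y = z)
    (h2 : ∀ y : Y, stabilizer A y ≠ ⊥) : IsPretransitive A Y := by
  classical
  have : Fintype A := Fintype.ofFinite A
  have : Fintype Y := Fintype.ofFinite Y
  have : Fintype (Quotient (orbitRel A Y)) := Fintype.ofFinite _
  set t := Fintype.card (Quotient (orbitRel A Y)) with ht
  set c := Nat.card A with hc
  have hcpos : 0 < c := Nat.card_pos
  -- Burnside
  have hB : Nat.card (Σ g : A, fixedBy Y g) = t * c := by
    rw [Nat.card_congr (sigmaFixedByEquivOrbitsProdGroup A Y), Nat.card_prod,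
      Nat.card_eq_fintype_card]
  rw [Nat.card_sigma] at hB
  have hfix : ∀ x : A, x ≠ 1 → Nat.card (fixedBy Y x) ≤ 1 := by
    intro x hx
    rw [Finite.card_le_one_iff_subsingleton]
    constructor
    rintro ⟨y, hy⟩ ⟨z, hz⟩
    apply Subtype.ext
    exact h1 x hx y z hy hz
  have hfix1 : Nat.card (fixedBy Y (1 : A)) = Nat.card Y := by
    apply Nat.card_congr
    exact ⟨fun y => y.1, fun y => ⟨y, by simp [mem_fixedBy]⟩, fun _ => rfl, fun _ => rfl⟩
  have hsum : ∑ x : A, Nat.card (fixedBy Y x) ≤ Nat.card Y + (c - 1) := by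
    rw [← Finset.add_sum_erase Finset.univ _ (Finset.mem_univ (1 : A)), hfix1]
    apply Nat.add_le_add_left
    calc ∑ x ∈ Finset.univ.erase (1 : A), Nat.card (fixedBy Y x)
        ≤ ∑ x ∈ Finset.univ.erase (1 : A), 1 :=
          Finset.sum_le_sum (fun x hx => hfix x (Finset.ne_of_mem_erase hx))
      _ = c - 1 := by
          rw [Finset.sum_const, Finset.card_erase_of_mem (Finset.mem_univ _), Finset.card_univ,
            smul_eq_mul, mul_one, hc, Nat.card_eq_fintype_card]
  -- class formula
  have hY : Nat.card Y = ∑ ω : Quotient (orbitRel A Y), (stabilizer A ω.out).index := by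
    rw [Nat.card_congr (selfEquivSigmaOrbitsQuotientStabilizer A Y), Nat.card_sigma]
    rfl
  have hidx : ∀ y : Y, 2 * (stabilizer A y).index ≤ c := by
    intro y
    have h3 := (stabilizer A y).index_mul_card
    have h4 : 1 < Nat.card (stabilizer A y) := (Subgroup.one_lt_card_iff_ne_bot _).mpr (h2 y)
    rw [hc, ← h3, mul_comm]
    exact Nat.mul_le_mul_left _ h4
  have hY2 : 2 * Nat.card Y ≤ t * c := by
    rw [hY, Finset.mul_sum]
    calc ∑ ω : Quotient (orbitRel A Y), 2 * (stabilizer A ω.out).index
        ≤ ∑ ω : Quotient (orbitRel A Y), c := Finset.sum_le_sum (fun ω _ => hidx _)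
      _ = t * c := by rw [Finset.sum_const, Finset.card_univ, smul_eq_mul]
  -- so `t ≤ 1`
  have ht1 : t ≤ 1 := by
    by_contra hlt
    have h5 : 2 ≤ t := by omega
    have h6 : 2 * c ≤ t * c := Nat.mul_le_mul_right _ h5
    rw [hB] at hsum
    generalize t * c = X at *
    omega
  rw [pretransitive_iff_subsingleton_quotient]
  exact Fintype.card_le_one_iff_subsingleton.mp ht1

end Cfsg.Agent.Helper2.Zass
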