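import Mathlib
import Cfsg.Prelude.Def_LieExceptional
import Cfsg.Agent.Helper1.FrobeniusThm
import Cfsg.Agent.Helper2.ZassBurnside

/-! Normal subgroups of Zassenhaus groups. -/

set_option autoImplicit false
set_option linter.unusedSectionVars false
set_option linter.unusedVariables false

namespace Cfsg.Agent.Helper2.Zass

open MulAction

variable {G Ω : Type*} [Group G] [MulAction G Ω]

theorem finite_of_faithful [Finite Ω] [FaithfulSMul G Ω] : Finite G :=
  Finite.of_injective (MulAction.toPerm : G → Equiv.Perm Ω) MulAction.toPerm_injective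

/-- a non-trivial normal subgroup of a faithful `2`-transitive group is transitive -/
theorem isPretransitive_of_normal (hf : FaithfulSMul G Ω) (h2 : IsMultiplyPretransitive G Ω 2)
    (N : Subgroup G) [N.Normal] (hN : N ≠ ⊥) : IsPretransitive N Ω := by
  have : IsPreprimitive G Ω := isPreprimitive_of_is_two_pretransitive h2
  apply IsQuasiPreprimitive.isPretransitive_of_normal (G := G) (X := Ω) (N := N)
  intro h
  apply hN
  rw [Subgroup.eq_bot_iff_forall]
  intro n hn
  apply hf.eq_of_smul_eq_smul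
  intro x
  have hx : x ∈ fixedPoints N Ω := by rw [h]; trivial
  have := hx ⟨n, hn⟩
  rw [one_smul]
  exact this

theorem exists_smul_of_normal (hf : FaithfulSMul G Ω) (h2 : IsMultiplyPretransitive G Ω 2)
    (N : Subgroup G) [N.Normal] (hN : N ≠ ⊥) (x y : Ω) : ∃ n ∈ N, n • x = y := by
  have := isPretransitive_of_normal hf h2 N hN
  obtain ⟨n, hn⟩ := exists_smul_eq N x y
  exact ⟨n.1, n.2, hn⟩

/-- In a Zassenhaus group, a non-trivial normal subgroup contains a non-identity element fixing two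
points. -/
theorem exists_fix_two_of_normal [Finite Ω] (hZ : Cfsg.IsZassenhausGroup G Ω) (N : Subgroup G)
    [hNn : N.Normal] (hN : N ≠ ⊥) :
    ∃ n ∈ N, n ≠ 1 ∧ ∃ a b : Ω, a ≠ b ∧ n • a = a ∧ n • b = b := by
  classical
  obtain ⟨hf, h2, h3, ⟨g₀, hg₀, a₀, b₀, hab₀, -, -⟩, hreg⟩ := hZ
  have hfin : Finite G := finite_of_faithful (G := G) (Ω := Ω)
  by_contra hcon
  push Not at hcon
  have htr := isPretransitive_of_normal hf h2 N hN
  obtain ⟨a, ha⟩ := hreg N hNn htr
  set Hc : Subgroup N := stabilizer N a with hHc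
  have : Fintype N := Fintype.ofFinite N
  have hsm : ∀ (n : N) (x : Ω), n • x = (n : G) • x := fun n x => rfl
  -- `Hc` is a Frobenius complement
  have hfrob : Cfsg.IsFrobeniusComplement Hc := by
    refine ⟨ha, ?_, ?_⟩
    · intro htop
      obtain ⟨x, hx⟩ : ∃ x : Ω, x ≠ a := by
        by_cases h : a₀ = a
        · exact ⟨b₀, fun hb => hab₀ (h.trans hb.symm)⟩
        · exact ⟨a₀, h⟩
      obtain ⟨n, hn⟩ := exists_smul_eq N a x
      have : n ∈ Hc := by rw [htop]; trivial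
      rw [hHc, mem_stabilizer_iff] at this
      exact hx (hn.symm.trans this)
    · intro g hg
      rw [Subgroup.eq_bot_iff_forall]
      intro x hx
      obtain ⟨hx1, hx2⟩ := Subgroup.mem_inf.mp hx
      rw [Cfsg.Agent.Helper1.mem_conj_smul_iff] at hx2
      rw [hHc, mem_stabilizer_iff] at hx1 hx2 hg
      by_contra hx
      have hx' : (x : G) ≠ 1 := fun h => hx (Subtype.ext h)
      have hga : a ≠ g • a := fun h => hg h.symm
      apply hcon x.1 x.2 hx' a (g • a) hga hx1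
      rw [mul_smul, mul_smul, inv_smul_eq_iff] at hx2
      exact hx2
  obtain ⟨M, hM, hMn, hMc⟩ := Cfsg.Agent.Helper1.frobenius_theorem hfrob
  -- characterisation of the kernel
  have hchar : ∀ y : N, y ∈ M ↔ y = 1 ∨ ∀ x : Ω, (y : G) • x ≠ x := by
    intro y
    rw [← SetLike.mem_coe, hM, Cfsg.Agent.Helper1.mem_frobeniusKernel_iff]
    constructor
    · rintro (h | h)
      · exact Or.inl h
      · right
        intro x hx
        obtain ⟨g, hg⟩ := exists_smul_eq N x a
        apply h g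
        rw [hHc, mem_stabilizer_iff, mul_smul, mul_smul, ← hg, inv_smul_smul, hsm y x, hx]
    · rintro (h | h)
      · exact Or.inl h
      · right
        intro g hg
        rw [hHc, mem_stabilizer_iff, mul_smul, mul_smul, smul_eq_iff_eq_inv_smul] at hg
        exact h _ hg
  -- the kernel as a subgroup of `G`
  set M' : Subgroup G := M.map N.subtype with hM'
  have hM'mem : ∀ x : G, x ∈ M' ↔ x ∈ N ∧ (x = 1 ∨ ∀ ω : Ω, x • ω ≠ ω) := by
    intro x
    rw [hM', Subgroup.mem_map]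
    constructor
    · rintro ⟨y, hy, rfl⟩
      refine ⟨y.2, ?_⟩
      rcases (hchar y).mp hy with h | h
      · left; rw [h]; rfl
      · right; exact h
    · rintro ⟨hxN, h⟩
      refine ⟨⟨x, hxN⟩, ?_, rfl⟩
      rw [hchar]
      rcases h with h | h
      · left; exact Subtype.ext h
      · right; exact h
  have hM'n : M'.Normal := by
    constructor
    intro x hx g
    rw [hM'mem] at hx ⊢
    refine ⟨hNn.conj_mem x hx.1 g, ?_⟩
    rcases hx.2 with h | h
    · left; rw [h]; simp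
    · right
      intro ω hω
      apply h (g⁻¹ • ω)
      rw [mul_smul, mul_smul, smul_eq_iff_eq_inv_smul] at hω
      exact hω
  have hM'tr : IsPretransitive M' Ω := by
    have key : ∀ x : Ω, ∃ μ : M', μ • a = x := by
      intro x
      obtain ⟨n, hn⟩ := exists_smul_eq N a x
      obtain ⟨⟨μ, h⟩, hμh, -⟩ := hMc.existsUnique n
      simp only at hμh
      have hh : (h : N) • a = a := h.2
      refine ⟨⟨(μ : N), Subgroup.mem_map_of_mem _ μ.2⟩, ?_⟩
      rw [← hn, ← hμh, mul_smul, hh]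
      rfl
    constructor
    intro x y
    obtain ⟨μ, hμ⟩ := key x
    obtain ⟨ν, hν⟩ := key y
    refine ⟨ν * μ⁻¹, ?_⟩
    rw [mul_smul, ← hμ, inv_smul_smul, hν]
  obtain ⟨b, hb⟩ := hreg M' hM'n hM'tr
  apply hb
  rw [Subgroup.eq_bot_iff_forall]
  intro μ hμ
  rw [mem_stabilizer_iff] at hμ
  have := (hM'mem μ.1).mp μ.2
  rcases this.2 with h | h
  · exact Subtype.ext h
  · exact absurd hμ (h b)


/-- the stabiliser in `N` of a point `a` is transitive on the remaining points -/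
theorem exists_smul_fix_of_normal [Finite Ω] (hZ : Cfsg.IsZassenhausGroup G Ω) (N : Subgroup G)
    [hNn : N.Normal] (hN : N ≠ ⊥) (a b c : Ω) (hb : b ≠ a) (hc : c ≠ a) :
    ∃ n ∈ N, n • a = a ∧ n • b = c := by
  classical
  obtain ⟨n₀, hn₀N, hn₀, a₀, b₀, hab₀, hfa, hfb⟩ := exists_fix_two_of_normal hZ N hN
  obtain ⟨hf, h2, h3, -, hreg⟩ := hZ
  have hfin : Finite G := finite_of_faithful (G := G) (Ω := Ω)
  have h2' : ∀ {a b c d : Ω}, a ≠ b → c ≠ d → ∃ g : G, g • a = c ∧ g • b = d :=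
    is_two_pretransitive_iff.mp h2
  have hsm : ∀ (n : N) (x : Ω), n • x = (n : G) • x := fun n x => rfl
  have htr : IsPretransitive (stabilizer N a) (SubMulAction.ofStabilizer N a) := by
    apply isPretransitive_of_fix_le_one
    · intro x hx y z hy hz
      by_contra hyz
      apply hx
      apply Subtype.ext
      apply Subtype.ext
      have hy' : ((x : N) : G) • (y : Ω) = y := congrArg Subtype.val hy
      have hz' : ((x : N) : G) • (z : Ω) = z := congrArg Subtype.val hz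
      have hyz' : (y : Ω) ≠ z := fun h => hyz (Subtype.ext h)
      have hya : (y : Ω) ≠ a := SubMulAction.neq_of_mem_ofStabilizer N a
      have hza : (z : Ω) ≠ a := SubMulAction.neq_of_mem_ofStabilizer N a
      have hxa : ((x : N) : G) • a = a := x.2
      exact h3 _ a y z hya.symm hyz' hza.symm hxa hy' hz'
    · intro y
      have hya : (y : Ω) ≠ a := SubMulAction.neq_of_mem_ofStabilizer N a
      obtain ⟨g, hga, hgb⟩ := h2' hab₀ hya.symm
      have hmem : g * n₀ * g⁻¹ ∈ N := hNn.conj_mem n₀ hn₀N g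
      have hfixa : (⟨g * n₀ * g⁻¹, hmem⟩ : N) • a = a := by
        rw [hsm]
        change (g * n₀ * g⁻¹) • a = a
        rw [mul_smul, mul_smul, ← hga, inv_smul_smul, hfa]
      have hfixy : (g * n₀ * g⁻¹) • (y : Ω) = y := by
        rw [mul_smul, mul_smul, ← hgb, inv_smul_smul, hfb]
      intro hbot
      have hmem2 : (⟨⟨g * n₀ * g⁻¹, hmem⟩, hfixa⟩ : stabilizer N a) ∈
          stabilizer (stabilizer N a) y := by
        rw [mem_stabilizer_iff]
        apply Subtype.ext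
        exact hfixy
      rw [hbot, Subgroup.mem_bot] at hmem2
      have h1 : g * n₀ * g⁻¹ = 1 := congrArg (fun t : stabilizer N a => ((t : N) : G)) hmem2
      apply hn₀
      have : n₀ = g⁻¹ * (g * n₀ * g⁻¹) * g := by group
      rw [this, h1]
      group
  have hbm : b ∈ SubMulAction.ofStabilizer N a := (SubMulAction.mem_ofStabilizer_iff N a).mpr hb
  have hcm : c ∈ SubMulAction.ofStabilizer N a := (SubMulAction.mem_ofStabilizer_iff N a).mpr hc
  obtain ⟨x, hx⟩ := htr.exists_smul_eq ⟨b, hbm⟩ ⟨c, hcm⟩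
  refine ⟨((x : N) : G), (x : N).2, x.2, ?_⟩
  exact congrArg Subtype.val hx

/-- a non-trivial normal subgroup of a Zassenhaus group is doubly transitive -/
theorem two_pretransitive_of_normal [Finite Ω] (hZ : Cfsg.IsZassenhausGroup G Ω) (N : Subgroup G)
    [hNn : N.Normal] (hN : N ≠ ⊥) : IsMultiplyPretransitive N Ω 2 := by
  rw [is_two_pretransitive_iff]
  intro a b c d hab hcd
  obtain ⟨n₁, hn₁, h1⟩ := exists_smul_of_normal hZ.1 hZ.2.1 N hN a c
  have hd : n₁⁻¹ • d ≠ a := by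
    intro h
    apply hcd
    rw [← h1, ← h, smul_inv_smul]
  obtain ⟨n₂, hn₂, h2a, h2b⟩ := exists_smul_fix_of_normal hZ N hN a b (n₁⁻¹ • d) hab.symm hd
  refine ⟨⟨n₁ * n₂, N.mul_mem hn₁ hn₂⟩, ?_, ?_⟩
  · change (n₁ * n₂) • a = c
    rw [mul_smul, h2a, h1]
  · change (n₁ * n₂) • b = d
    rw [mul_smul, h2b, smul_inv_smul]


/-- `M` is a subgroup of `N`, normalised by `N`, acting regularly on `Ω` -/
structure IsRegIn (N M : Subgroup G) (Ω : Type*) [MulAction G Ω] : Prop where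
  le : M ≤ N
  norm : ∀ n ∈ N, ∀ m ∈ M, n * m * n⁻¹ ∈ M
  trans : ∀ x y : Ω, ∃ m ∈ M, m • x = y
  semi : ∀ m ∈ M, ∀ x : Ω, m • x = x → m = 1

theorem IsRegIn.conj {N M : Subgroup G} [hNn : N.Normal] (h : IsRegIn N M Ω) (g : G) :
    IsRegIn N (M.map (MulAut.conj g).toMonoidHom) Ω := by
  have hmem : ∀ x, x ∈ M.map (MulAut.conj g).toMonoidHom ↔ g⁻¹ * x * g ∈ M := by
    intro x
    rw [Subgroup.mem_map]
    constructor
    · rintro ⟨m, hm, rfl⟩
      simp only [MulEquiv.coe_toMonoidHom, MulAut.conj_apply]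
      have : g⁻¹ * (g * m * g⁻¹) * g = m := by group
      rw [this]; exact hm
    · intro hx
      refine ⟨_, hx, ?_⟩
      simp only [MulEquiv.coe_toMonoidHom, MulAut.conj_apply]
      group
  refine ⟨?_, ?_, ?_, ?_⟩
  · intro x hx
    rw [hmem] at hx
    have := hNn.conj_mem _ (h.le hx) g
    have e : g * (g⁻¹ * x * g) * g⁻¹ = x := by group
    rwa [e] at this
  · intro n hn m hm
    rw [hmem] at hm ⊢
    have h1 : g⁻¹ * n * g ∈ N := by
      have := hNn.conj_mem n hn g⁻¹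
      simpa using this
    have := h.norm _ h1 _ hm
    have e : g⁻¹ * n * g * (g⁻¹ * m * g) * (g⁻¹ * n * g)⁻¹ = g⁻¹ * (n * m * n⁻¹) * g := by group
    rwa [e] at this
  · intro x y
    obtain ⟨m, hm, hmx⟩ := h.trans (g⁻¹ • x) (g⁻¹ • y)
    refine ⟨g * m * g⁻¹, ?_, ?_⟩
    · rw [hmem]
      have e : g⁻¹ * (g * m * g⁻¹) * g = m := by group
      rwa [e]
    · rw [mul_smul, mul_smul, hmx, smul_inv_smul]
  · intro m hm x hx
    rw [hmem] at hm
    have := h.semi _ hm (g⁻¹ • x) (by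
      rw [mul_smul, mul_smul, smul_inv_smul, hx])
    have e : m = g * (g⁻¹ * m * g) * g⁻¹ := by group
    rw [e, this]
    group

/-- uniqueness of the regular subgroup normalised by a doubly transitive `N` -/
theorem IsRegIn.le_of {N M₀ M₁ : Subgroup G}
    (h3 : ∀ g : G, ∀ a b c : Ω, a ≠ b → b ≠ c → a ≠ c → g • a = a → g • b = b → g • c = c → g = 1)
    (hNfix : ∀ a b c : Ω, b ≠ a → c ≠ a → ∃ n ∈ N, n • a = a ∧ n • b = c)
    (h0 : IsRegIn N M₀ Ω) (h1 : IsRegIn N M₁ Ω) {a b c : Ω} (hab : a ≠ b) (hbc : b ≠ c)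
    (hac : a ≠ c) : M₀ ≤ M₁ := by
  by_cases hD : ∃ d, d ∈ M₀ ∧ d ∈ M₁ ∧ d ≠ 1
  · obtain ⟨d, hd0, hd1, hd⟩ := hD
    intro m hm
    by_cases hm1 : m = 1
    · rw [hm1]; exact M₁.one_mem
    have hma : m • a ≠ a := fun h => hm1 (h0.semi m hm a h)
    have hda : d • a ≠ a := fun h => hd (h0.semi d hd0 a h)
    obtain ⟨x, hxN, hxa, hxd⟩ := hNfix a (d • a) (m • a) hda hma
    have hc0 : x * d * x⁻¹ ∈ M₀ := h0.norm x hxN d hd0
    have hc1 : x * d * x⁻¹ ∈ M₁ := h1.norm x hxN d hd1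
    have hxa' : x⁻¹ • a = a := by rw [inv_smul_eq_iff, hxa]
    have h2 : (m⁻¹ * (x * d * x⁻¹)) • a = a := by
      rw [mul_smul, mul_smul, mul_smul, hxa', hxd, inv_smul_smul]
    have h4 := h0.semi _ (M₀.mul_mem (M₀.inv_mem hm) hc0) a h2
    have h5 : m = x * d * x⁻¹ := by
      rw [← mul_one m, ← h4]; group
    rw [h5]; exact hc1
  · exfalso
    push Not at hD
    -- the two subgroups commute
    have hcomm : ∀ m ∈ M₀, ∀ m' ∈ M₁, m * m' = m' * m := by
      intro m hm m' hm'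
      have e1 : m * m' * m⁻¹ * m'⁻¹ ∈ M₁ :=
        M₁.mul_mem (h1.norm m (h0.le hm) m' hm') (M₁.inv_mem hm')
      have e0 : m * m' * m⁻¹ * m'⁻¹ ∈ M₀ := by
        have := M₀.mul_mem hm (h0.norm m' (h1.le hm') m⁻¹ (M₀.inv_mem hm))
        have e : m * (m' * m⁻¹ * m'⁻¹) = m * m' * m⁻¹ * m'⁻¹ := by group
        rwa [e] at this
      have := hD _ e0 e1
      have e : m * m' = (m * m' * m⁻¹ * m'⁻¹) * (m' * m) := by group
      rw [e, this, one_mul]
    -- centralisers in `M₀` are tiny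
    have hcent : ∀ μ ∈ M₀, μ ≠ 1 → ∀ m ∈ M₀, m * μ = μ * m → m = 1 ∨ m = μ := by
      intro μ hμ hμ1 m hm hmμ
      by_contra hne
      push Not at hne
      obtain ⟨μ', hμ', hμ'a⟩ := h1.trans a (μ • a)
      have hx1 : (μ'⁻¹ * μ) • a = a := by
        rw [mul_smul, inv_smul_eq_iff, hμ'a]
      have hc1 : μ * μ'⁻¹ = μ'⁻¹ * μ := hcomm μ hμ μ'⁻¹ (M₁.inv_mem hμ')
      have hc2 : m * μ'⁻¹ = μ'⁻¹ * m := hcomm m hm μ'⁻¹ (M₁.inv_mem hμ')
      have hx2 : (μ'⁻¹ * μ) • (μ • a) = μ • a := by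
        have e : μ'⁻¹ * μ * μ = μ * (μ'⁻¹ * μ) := by
          rw [← hc1, mul_assoc, hc1]
        rw [← mul_smul, e, mul_smul, hx1]
      have hx3 : (μ'⁻¹ * μ) • (m • a) = m • a := by
        have e : μ'⁻¹ * μ * m = m * (μ'⁻¹ * μ) := by
          rw [mul_assoc, ← hmμ, ← mul_assoc, ← hc2, mul_assoc]
        rw [← mul_smul, e, mul_smul, hx1]
      have d1 : a ≠ μ • a := fun h => hμ1 (h0.semi μ hμ a h.symm)
      have d2 : μ • a ≠ m • a := by
        intro h
        apply hne.2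
        have h6 : (μ⁻¹ * m) • a = a := by rw [mul_smul, ← h, inv_smul_smul]
        have := h0.semi _ (M₀.mul_mem (M₀.inv_mem hμ) hm) a h6
        rw [← mul_one μ, ← this]; group
      have d3 : a ≠ m • a := fun h => hne.1 (h0.semi m hm a h.symm)
      have hx := h3 _ a (μ • a) (m • a) d1 d2 d3 hx1 hx2 hx3
      apply hμ1
      have hμeq : μ = μ' := by
        rw [← mul_one μ', ← hx]; group
      exact hD μ hμ (hμeq ▸ hμ')
    have hsq : ∀ μ ∈ M₀, μ * μ = 1 := by
      intro μ hμ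
      by_cases hμ1 : μ = 1
      · rw [hμ1, one_mul]
      rcases hcent μ hμ hμ1 (μ * μ) (M₀.mul_mem hμ hμ) (by group) with h | h
      · exact h
      · exfalso; apply hμ1
        have : μ = μ⁻¹ * (μ * μ) := by group
        rw [this, h]; group
    obtain ⟨μ, hμ, hμa⟩ := h0.trans a b
    obtain ⟨ν, hν, hνa⟩ := h0.trans a c
    have hμ1 : μ ≠ 1 := by
      rintro rfl
      rw [one_smul] at hμa
      exact hab hμa
    have hcm : ν * μ = μ * ν := by
      have h6 := hsq (ν * μ) (M₀.mul_mem hν hμ)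
      have h7 := hsq ν hν
      have h8 := hsq μ hμ
      have : ν * μ = ν * ((ν * μ) * (ν * μ)) * μ := by rw [h6, mul_one]
      rw [this]
      have e : ν * ((ν * μ) * (ν * μ)) * μ = (ν * ν) * μ * ν * (μ * μ) := by group
      rw [e, h7, h8, one_mul, mul_one]
    rcases hcent μ hμ hμ1 ν hν hcm with h | h
    · rw [h, one_smul] at hνa
      exact hac hνa
    · rw [h, hμa] at hνa
      exact hbc hνa


theorem exists_three (hZ : Cfsg.IsZassenhausGroup G Ω) : ∃ a b c : Ω, a ≠ b ∧ b ≠ c ∧ a ≠ c := by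
  obtain ⟨hf, -, -, ⟨g₀, hg₀, a₀, b₀, hab₀, hfa, hfb⟩, -⟩ := hZ
  have : ∃ c : Ω, g₀ • c ≠ c := by
    by_contra h
    push Not at h
    apply hg₀
    apply hf.eq_of_smul_eq_smul
    intro x
    rw [h x, one_smul]
  obtain ⟨c, hc⟩ := this
  refine ⟨a₀, b₀, c, hab₀, ?_, ?_⟩
  · rintro rfl; exact hc hfb
  · rintro rfl; exact hc hfa

/-- a non-trivial normal subgroup of a Zassenhaus group is a Zassenhaus group -/
theorem isZassenhaus_of_normal [Finite Ω] (hZ : Cfsg.IsZassenhausGroup G Ω) (N : Subgroup G)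
    [hNn : N.Normal] (hN : N ≠ ⊥) : Cfsg.IsZassenhausGroup N Ω := by
  have h2N := two_pretransitive_of_normal hZ N hN
  obtain ⟨n₀, hn₀N, hn₀, a₀, b₀, hab₀, hfa, hfb⟩ := exists_fix_two_of_normal hZ N hN
  obtain ⟨a, b, c, hab, hbc, hac⟩ := exists_three hZ
  have hNfix := exists_smul_fix_of_normal hZ N hN
  obtain ⟨hf, h2, h3, -, hreg⟩ := hZ
  refine ⟨⟨fun {n n'} h => Subtype.ext (hf.eq_of_smul_eq_smul h)⟩, h2N, ?_, ?_, ?_⟩
  · intro g a b c hab hbc hac ha hb hc
    exact Subtype.ext (h3 g.1 a b c hab hbc hac ha hb hc)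
  · exact ⟨⟨n₀, hn₀N⟩, fun h => hn₀ (congrArg Subtype.val h), a₀, b₀, hab₀, hfa, hfb⟩
  · intro M hMn hMtr
    by_contra hcon
    push Not at hcon
    have hreg0 : IsRegIn N (M.map N.subtype) Ω := by
      refine ⟨Subgroup.map_subtype_le M, ?_, ?_, ?_⟩
      · rintro n hn m ⟨y, hy, rfl⟩
        exact ⟨⟨n, hn⟩ * y * ⟨n, hn⟩⁻¹, hMn.conj_mem y hy ⟨n, hn⟩, rfl⟩
      · intro x y
        obtain ⟨m, hm⟩ := hMtr.exists_smul_eq x y
        exact ⟨((m : N) : G), Subgroup.mem_map_of_mem _ m.2, hm⟩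
      · rintro m ⟨y, hy, rfl⟩ x hx
        have hmem : (⟨y, hy⟩ : M) ∈ stabilizer M x := hx
        rw [hcon x, Subgroup.mem_bot] at hmem
        have : y = 1 := congrArg Subtype.val hmem
        rw [this]; rfl
    have hnorm : (M.map N.subtype).Normal := by
      constructor
      intro m hm g
      apply IsRegIn.le_of h3 hNfix (hreg0.conj g) hreg0 hab hbc hac
      exact ⟨m, hm, rfl⟩
    have htr : IsPretransitive (M.map N.subtype) Ω := by
      constructor
      intro x y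
      obtain ⟨m, hm, hmx⟩ := hreg0.trans x y
      exact ⟨⟨m, hm⟩, hmx⟩
    obtain ⟨x, hx⟩ := hreg _ hnorm htr
    apply hx
    rw [Subgroup.eq_bot_iff_forall]
    intro m hm
    exact Subtype.ext (hreg0.semi m.1 m.2 x hm)

end Cfsg.Agent.Helper2.Zass
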