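import Mathlib
import Cfsg.Prelude.Def_LieExceptional

/-! The Suzuki–Tits ovoid: basic algebra of `f x y = x y + x^(σ+2) + y^σ`, and the ovoid property. -/

set_option autoImplicit false
set_option linter.unusedSectionVars false

namespace Cfsg.Agent.Helper2.SzO

variable {F : Type*} [Field F] [Fintype F] {m : ℕ}

theorem two_eq_zero (hF : Fintype.card F = 2 ^ (2 * m + 1)) : (2 : F) = 0 := by
  obtain ⟨p, hchar, k, hp, hk⟩ := FiniteField.card' F
  rw [hF] at hk
  have hdvd : p ∣ 2 ^ (2 * m + 1) := by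
    rw [hk]; exact dvd_pow_self p k.ne_zero
  have hp2 : p = 2 := (Nat.prime_dvd_prime_iff_eq hp Nat.prime_two).mp (hp.dvd_of_dvd_pow hdvd)
  subst hp2
  exact_mod_cast CharP.cast_eq_zero F 2

theorem charP_two (hF : Fintype.card F = 2 ^ (2 * m + 1)) : CharP F 2 := by
  obtain ⟨p, hchar, k, hp, hk⟩ := FiniteField.card' F
  rw [hF] at hk
  have hdvd : p ∣ 2 ^ (2 * m + 1) := by
    rw [hk]; exact dvd_pow_self p k.ne_zero
  have hp2 : p = 2 := (Nat.prime_dvd_prime_iff_eq hp Nat.prime_two).mp (hp.dvd_of_dvd_pow hdvd)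
  subst hp2
  exact hchar

/-- `σ = 2^(m+1)` -/
def sg (m : ℕ) : ℕ := 2 ^ (m + 1)

theorem add_pow_sg (hF : Fintype.card F = 2 ^ (2 * m + 1)) (a b : F) :
    (a + b) ^ sg m = a ^ sg m + b ^ sg m := by
  have := charP_two hF
  exact add_pow_char_pow a b 2 (m + 1)

theorem pow_sg_pow_sg (hF : Fintype.card F = 2 ^ (2 * m + 1)) (a : F) :
    (a ^ sg m) ^ sg m = a ^ 2 := by
  rw [← pow_mul]
  have h1 : sg m * sg m = 2 ^ (2 * m + 1) * 2 := by
    unfold sg; rw [← pow_add, ← pow_succ]; congr 1; omega
  rw [h1, pow_mul, ← hF, FiniteField.pow_card]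

/-- the defining function of the ovoid -/
def f (m : ℕ) (x y : F) : F := x * y + x ^ (sg m + 2) + y ^ sg m

theorem f_def' (x y : F) : f m x y = x * y + x ^ sg m * x ^ 2 + y ^ sg m := by
  unfold f; rw [pow_add]

/-- `f x y = 0` only for `x = y = 0`. -/
theorem f_eq_zero (hF : Fintype.card F = 2 ^ (2 * m + 1)) {x y : F} (h : f m x y = 0) :
    x = 0 ∧ y = 0 := by
  have h2 := two_eq_zero hF
  have hs : sg m ≠ 0 := by unfold sg; positivity
  rw [f_def'] at h
  have e1 : y ^ sg m = -(x * y + x ^ sg m * x ^ 2) := by linear_combination h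
  have e2 := congrArg (fun z => z ^ sg m) h
  simp only [add_pow_sg hF, mul_pow, pow_sg_pow_sg hF, zero_pow hs] at e2
  have e3 : y * (x ^ sg m * x + y) = 0 := by
    linear_combination e2 - x ^ sg m * e1 + (x ^ sg m * x * y) * h2
  rcases mul_eq_zero.mp e3 with hy | hy
  · subst hy
    rw [zero_pow hs] at e1
    have : x ^ sg m * x ^ 2 = 0 := by linear_combination e1
    rcases mul_eq_zero.mp this with h' | h'
    · exact ⟨pow_eq_zero_iff hs |>.mp h', rfl⟩
    · exact ⟨pow_eq_zero_iff (by norm_num) |>.mp h', rfl⟩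
  · have hy' : y = x ^ sg m * x := by linear_combination hy - (x ^ sg m * x) * h2
    have : y ^ sg m = 0 := by
      rw [e1, hy']; linear_combination -(x ^ sg m * x ^ 2) * h2
    have hy0 : y = 0 := pow_eq_zero_iff hs |>.mp this
    rw [hy0] at hy'
    rcases mul_eq_zero.mp hy'.symm with h' | h'
    · exact ⟨pow_eq_zero_iff hs |>.mp h', hy0⟩
    · exact ⟨h', hy0⟩

/-- the inversion identity -/
theorem f_inv (hF : Fintype.card F = 2 ^ (2 * m + 1)) {x y : F} (h : f m x y ≠ 0) :
    f m (y / f m x y) (x / f m x y) = 1 / f m x y := by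
  have h2 := two_eq_zero hF
  set w := f m x y with hw
  have key : w ^ sg m * w = x * y * w ^ sg m + y ^ sg m * y ^ 2 + x ^ sg m * w ^ 2 := by
    have hws : w ^ sg m = x ^ sg m * y ^ sg m + x ^ 2 * (x ^ sg m) ^ 2 + y ^ 2 := by
      rw [hw, f_def', add_pow_sg hF, add_pow_sg hF, mul_pow, mul_pow, pow_sg_pow_sg hF,
        pow_sg_pow_sg hF, ← pow_mul, mul_comm 2 (sg m), pow_mul]
    rw [hws, hw, f_def']
    linear_combination (-(x ^ sg m) ^ 2 * x ^ 3 * y - x ^ sg m * y ^ sg m * x * y) * h2
  rw [f_def', div_pow, div_pow, div_pow]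
  have hws0 : w ^ sg m ≠ 0 := pow_ne_zero _ h
  field_simp
  linear_combination -key

/-- translation formula -/
theorem f_add (hF : Fintype.card F = 2 ^ (2 * m + 1)) (x y u v t : F) :
    f m (x + t * u) (y + t * v) =
      f m x y + t * (u * y + x * v) + f m (t * u) (t * (v + x ^ sg m * u)) := by
  have h2 := two_eq_zero hF
  simp only [f_def', add_pow_sg hF, mul_pow, pow_sg_pow_sg hF]
  linear_combination (x ^ sg m * x * t * u + t ^ sg m * u ^ sg m * x * t * u) * h2

/-- key lemma: three collinear affine ovoid points through a common base point coincide -/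
theorem key (hF : Fintype.card F = 2 ^ (2 * m + 1)) {x y u v w t : F} (huv : ¬ (u = 0 ∧ v = 0))
    (ht : t ≠ 0) (h1 : f m (x + u) (y + v) = f m x y + w)
    (h2 : f m (x + t * u) (y + t * v) = f m x y + t * w) : t = 1 := by
  set v' := v + x ^ sg m * u with hv'
  set A := u * y + x * v with hA
  have e1 : f m u v' = w - A := by
    have := f_add hF x y u v 1
    simp only [one_mul] at this
    rw [h1] at this
    linear_combination -this
  have e2 : f m (t * u) (t * v') = t * (w - A) := by
    have := f_add hF x y u v t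
    rw [h2] at this
    linear_combination -this
  have huv' : ¬ (u = 0 ∧ v' = 0) := by
    rintro ⟨hu, hv0⟩
    apply huv
    refine ⟨hu, ?_⟩
    rw [hv', hu, mul_zero, add_zero] at hv0
    exact hv0
  have hw0 : w - A ≠ 0 := by
    intro h0
    rw [h0] at e1
    exact huv' (f_eq_zero hF e1)
  have i1 := f_inv hF (x := u) (y := v') (by rw [e1]; exact hw0)
  have i2 := f_inv hF (x := t * u) (y := t * v') (by rw [e2]; exact mul_ne_zero ht hw0)
  rw [e1] at i1
  rw [e2, mul_div_mul_left _ _ ht, mul_div_mul_left _ _ ht, i1] at i2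
  field_simp at i2
  exact i2

/-- the affine ovoid point with parameters `x y` -/
def pt (m : ℕ) (x y : F) : Fin 4 → F := ![f m x y, y, x, 1]

/-- the point at infinity -/
def e0 : Fin 4 → F := ![1, 0, 0, 0]

theorem pt_ne_zero (x y : F) : pt m x y ≠ 0 := by
  intro h
  have := congrFun h 3
  simp [pt] at this

theorem pt_injective {x y x' y' : F} (h : pt m x y = pt m x' y') : x = x' ∧ y = y' := by
  have h2 := congrFun h 2
  have h1 := congrFun h 1
  simp [pt] at h1 h2
  exact ⟨h2, h1⟩

theorem e0_ne_pt (x y : F) : (e0 : Fin 4 → F) ≠ pt m x y := by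
  intro h
  have := congrFun h 3
  simp [pt, e0] at this

theorem indep_inf (hF : Fintype.card F = 2 ^ (2 * m + 1)) {x1 y1 x2 y2 a b c : F}
    (hne : ¬ (x1 = x2 ∧ y1 = y2))
    (h : a • (e0 : Fin 4 → F) + b • pt m x1 y1 + c • pt m x2 y2 = 0) :
    a = 0 ∧ b = 0 ∧ c = 0 := by
  have c0 := congrFun h 0
  have c1 := congrFun h 1
  have c2 := congrFun h 2
  have c3 := congrFun h 3
  simp [pt, e0] at c0 c1 c2 c3
  have hc : c = -b := by linear_combination c3
  subst hc
  have hb : b = 0 := by
    by_contra hb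
    apply hne
    constructor
    · have : b * (x1 - x2) = 0 := by linear_combination c2
      rcases mul_eq_zero.mp this with h' | h'
      · exact absurd h' hb
      · exact sub_eq_zero.mp h'
    · have : b * (y1 - y2) = 0 := by linear_combination c1
      rcases mul_eq_zero.mp this with h' | h'
      · exact absurd h' hb
      · exact sub_eq_zero.mp h'
  subst hb
  refine ⟨?_, rfl, by simp⟩
  simpa using c0

theorem indep_aff (hF : Fintype.card F = 2 ^ (2 * m + 1)) {x1 y1 x2 y2 x3 y3 a b c : F}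
    (h12 : ¬ (x1 = x2 ∧ y1 = y2)) (h13 : ¬ (x1 = x3 ∧ y1 = y3)) (h23 : ¬ (x2 = x3 ∧ y2 = y3))
    (h : a • pt m x1 y1 + b • pt m x2 y2 + c • pt m x3 y3 = 0) :
    a = 0 ∧ b = 0 ∧ c = 0 := by
  have c0 := congrFun h 0
  have c1 := congrFun h 1
  have c2 := congrFun h 2
  have c3 := congrFun h 3
  simp [pt] at c0 c1 c2 c3
  have ha : a = -b - c := by linear_combination c3
  subst ha
  have d2 : b * (x2 - x1) + c * (x3 - x1) = 0 := by linear_combination c2
  have d1 : b * (y2 - y1) + c * (y3 - y1) = 0 := by linear_combination c1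
  have d0 : b * (f m x2 y2 - f m x1 y1) + c * (f m x3 y3 - f m x1 y1) = 0 := by
    linear_combination c0
  by_cases hb : b = 0
  · subst hb
    have hc : c = 0 := by
      by_contra hc
      apply h13
      constructor
      · have : c * (x3 - x1) = 0 := by linear_combination d2
        rcases mul_eq_zero.mp this with h' | h'
        · exact absurd h' hc
        · exact (sub_eq_zero.mp h').symm
      · have : c * (y3 - y1) = 0 := by linear_combination d1
        rcases mul_eq_zero.mp this with h' | h'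
        · exact absurd h' hc
        · exact (sub_eq_zero.mp h').symm
    subst hc
    simp
  · exfalso
    have hc : c ≠ 0 := by
      intro hc
      subst hc
      apply h12
      constructor
      · have : b * (x2 - x1) = 0 := by linear_combination d2
        rcases mul_eq_zero.mp this with h' | h'
        · exact absurd h' hb
        · exact (sub_eq_zero.mp h').symm
      · have : b * (y2 - y1) = 0 := by linear_combination d1
        rcases mul_eq_zero.mp this with h' | h'
        · exact absurd h' hb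
        · exact (sub_eq_zero.mp h').symm
    set t := -b / c with ht
    have ht0 : t ≠ 0 := div_ne_zero (neg_ne_zero.mpr hb) hc
    have hbt : b = -(t * c) := by rw [ht]; field_simp
    have e2 : x3 = x1 + t * (x2 - x1) := by
      have : c * (x3 - (x1 + t * (x2 - x1))) = 0 := by rw [hbt] at d2; linear_combination d2
      rcases mul_eq_zero.mp this with h' | h'
      · exact absurd h' hc
      · exact sub_eq_zero.mp h'
    have e1 : y3 = y1 + t * (y2 - y1) := by
      have : c * (y3 - (y1 + t * (y2 - y1))) = 0 := by rw [hbt] at d1; linear_combination d1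
      rcases mul_eq_zero.mp this with h' | h'
      · exact absurd h' hc
      · exact sub_eq_zero.mp h'
    have e0' : f m x3 y3 = f m x1 y1 + t * (f m x2 y2 - f m x1 y1) := by
      have : c * (f m x3 y3 - (f m x1 y1 + t * (f m x2 y2 - f m x1 y1))) = 0 := by
        rw [hbt] at d0; linear_combination d0
      rcases mul_eq_zero.mp this with h' | h'
      · exact absurd h' hc
      · exact sub_eq_zero.mp h'
    have huv : ¬ (x2 - x1 = 0 ∧ y2 - y1 = 0) := by
      rintro ⟨hu, hv⟩
      exact h12 ⟨(sub_eq_zero.mp hu).symm, (sub_eq_zero.mp hv).symm⟩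
    have k1 : f m (x1 + (x2 - x1)) (y1 + (y2 - y1)) = f m x1 y1 + (f m x2 y2 - f m x1 y1) := by
      rw [add_sub_cancel, add_sub_cancel, add_sub_cancel]
    have k2 : f m (x1 + t * (x2 - x1)) (y1 + t * (y2 - y1)) =
        f m x1 y1 + t * (f m x2 y2 - f m x1 y1) := by
      rw [← e2, ← e1, e0']
    have ht1 := key hF huv ht0 k1 k2
    apply h23
    rw [e2, e1, ht1]
    constructor <;> ring

/-- membership in the set of standard representatives -/
def IsStd (m : ℕ) (v : Fin 4 → F) : Prop :=
  v = ![1, 0, 0, 0] ∨ ∃ x y : F,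
    v = ![x * y + x ^ (2 ^ (m + 1) + 2) + y ^ (2 ^ (m + 1)), y, x, 1]

theorem isStd_iff {v : Fin 4 → F} : IsStd m v ↔ v = e0 ∨ ∃ x y : F, v = pt m x y := Iff.rfl

theorem indep_std (hF : Fintype.card F = 2 ^ (2 * m + 1)) {P Q R : Fin 4 → F}
    (hP : IsStd m P) (hQ : IsStd m Q) (hR : IsStd m R) (hPQ : P ≠ Q) (hPR : P ≠ R) (hQR : Q ≠ R)
    {a b c : F} (h : a • P + b • Q + c • R = 0) : a = 0 ∧ b = 0 ∧ c = 0 := by
  rw [isStd_iff] at hP hQ hR
  rcases hP with rfl | ⟨x1, y1, rfl⟩ <;> rcases hQ with rfl | ⟨x2, y2, rfl⟩ <;>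
    rcases hR with rfl | ⟨x3, y3, rfl⟩
  · exact absurd rfl hPQ
  · exact absurd rfl hPQ
  · exact absurd rfl hPR
  · refine indep_inf hF ?_ h
    rintro ⟨rfl, rfl⟩; exact hQR rfl
  · exact absurd rfl hQR
  · have h' : b • (e0 : Fin 4 → F) + a • pt m x1 y1 + c • pt m x3 y3 = 0 := by
      rw [← h]; abel
    have := indep_inf hF (by rintro ⟨rfl, rfl⟩; exact hPR rfl) h'
    exact ⟨this.2.1, this.1, this.2.2⟩
  · have h' : c • (e0 : Fin 4 → F) + a • pt m x1 y1 + b • pt m x2 y2 = 0 := by
      rw [← h]; abel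
    have := indep_inf hF (by rintro ⟨rfl, rfl⟩; exact hPQ rfl) h'
    exact ⟨this.2.1, this.2.2, this.1⟩
  · refine indep_aff hF ?_ ?_ ?_ h
    · rintro ⟨rfl, rfl⟩; exact hPQ rfl
    · rintro ⟨rfl, rfl⟩; exact hPR rfl
    · rintro ⟨rfl, rfl⟩; exact hQR rfl

theorem ovoid_independent (hF : Fintype.card F = 2 ^ (2 * m + 1))
    (p : Fin 3 ↪ Cfsg.suzukiOvoid F m) :
    Projectivization.Independent (fun i => (p i : Projectivization F (Fin 4 → F))) := by
  have hex : ∀ i, ∃ (v : Fin 4 → F) (hv : v ≠ 0),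
      (p i : Projectivization F (Fin 4 → F)) = Projectivization.mk F v hv ∧ IsStd m v := by
    intro i
    obtain ⟨v, hv, h1, h2⟩ := (p i).2
    exact ⟨v, hv, h1, h2⟩
  choose v hv hpv hstd using hex
  have hfun : (fun i => (p i : Projectivization F (Fin 4 → F))) =
      fun i => Projectivization.mk F (v i) (hv i) := funext hpv
  rw [hfun]
  refine Projectivization.Independent.mk v hv ?_
  have hinj : ∀ i j, i ≠ j → v i ≠ v j := by
    intro i j hij h
    apply hij
    apply p.injective
    apply Subtype.ext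
    rw [hpv i, hpv j]
    simp only [h]
  rw [Fintype.linearIndependent_iff]
  intro g hg
  rw [Fin.sum_univ_three] at hg
  have := indep_std hF (hstd 0) (hstd 1) (hstd 2) (hinj 0 1 (by decide)) (hinj 0 2 (by decide))
    (hinj 1 2 (by decide)) hg
  intro i
  fin_cases i
  · exact this.1
  · exact this.2.1
  · exact this.2.2

end Cfsg.Agent.Helper2.SzO
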