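import Mathlib
import Cfsg.Prelude.Def_LieExceptional
import Cfsg.Agent.Helper2.SzOvoid

/-! The Suzuki group as the stabiliser of the Suzuki–Tits ovoid: explicit elements. -/

set_option autoImplicit false
set_option linter.unusedSectionVars false
set_option linter.unusedVariables false

namespace Cfsg.Agent.Helper2.SzO

open Matrix

variable {F : Type*} [Field F] [Fintype F] {m : ℕ}

local notation "ℙ³" => Projectivization F (Fin 4 → F)

theorem e0_ne_zero : (e0 : Fin 4 → F) ≠ 0 := by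
  intro h
  have := congrFun h 0
  simp [e0] at this

/-- the point at infinity -/
def infP : Projectivization F (Fin 4 → F) := Projectivization.mk F e0 e0_ne_zero

/-- affine ovoid points -/
def ptP (m : ℕ) (x y : F) : Projectivization F (Fin 4 → F) :=
  Projectivization.mk F (pt m x y) (pt_ne_zero x y)

theorem infP_eq : (infP : Projectivization F (Fin 4 → F)) = Cfsg.suzukiPointInfinity F := rfl

theorem sg_ne_zero : sg m ≠ 0 := by unfold sg; positivity

theorem f_zero_zero : f m (0 : F) 0 = 0 := by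
  simp [f, sg_ne_zero]

theorem pt_zero_zero : pt m (0 : F) 0 = ![0, 0, 0, 1] := by
  simp [pt, f_zero_zero]

theorem ptP_zero : ptP m (0 : F) 0 = Cfsg.suzukiPointZero F := by
  unfold ptP Cfsg.suzukiPointZero
  congr 1
  exact pt_zero_zero

theorem mem_ovoid_iff {p : Projectivization F (Fin 4 → F)} :
    p ∈ Cfsg.suzukiOvoid F m ↔ p = infP ∨ ∃ x y : F, p = ptP m x y := by
  constructor
  · rintro ⟨v, hv, rfl, h | ⟨x, y, h⟩⟩
    · left; subst h; rfl
    · right; subst h; exact ⟨x, y, rfl⟩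
  · rintro (rfl | ⟨x, y, rfl⟩)
    · exact ⟨e0, e0_ne_zero, rfl, Or.inl rfl⟩
    · exact ⟨pt m x y, pt_ne_zero x y, rfl, Or.inr ⟨x, y, rfl⟩⟩

theorem infP_mem : (infP : Projectivization F (Fin 4 → F)) ∈ Cfsg.suzukiOvoid F m :=
  mem_ovoid_iff.mpr (Or.inl rfl)

theorem ptP_mem (x y : F) : ptP m x y ∈ Cfsg.suzukiOvoid F m :=
  mem_ovoid_iff.mpr (Or.inr ⟨x, y, rfl⟩)

theorem infP_ne_ptP (x y : F) : (infP : Projectivization F (Fin 4 → F)) ≠ ptP m x y := by
  intro h
  unfold infP ptP at h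
  rw [Projectivization.mk_eq_mk_iff'] at h
  obtain ⟨a, ha⟩ := h
  have := congrFun ha 3
  simp [pt, e0] at this
  subst this
  have := congrFun ha 0
  simp [e0] at this

theorem ptP_injective {x y x' y' : F} (h : ptP m x y = ptP m x' y') : x = x' ∧ y = y' := by
  unfold ptP at h
  rw [Projectivization.mk_eq_mk_iff'] at h
  obtain ⟨a, ha⟩ := h
  have h3 := congrFun ha 3
  simp [pt] at h3
  subst h3
  rw [one_smul] at ha
  exact (pt_injective ha.symm)

/-- equality of a scaled vector with an affine representative -/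
theorem mk_eq_ptP_of_smul {v : Fin 4 → F} (hv : v ≠ 0) {c x y : F} (h : v = c • pt m x y) :
    Projectivization.mk F v hv = ptP m x y := by
  unfold ptP
  rw [Projectivization.mk_eq_mk_iff']
  exact ⟨c, h.symm⟩

theorem mk_eq_infP_of_smul {v : Fin 4 → F} (hv : v ≠ 0) {c : F} (h : v = c • e0) :
    Projectivization.mk F v hv = infP := by
  unfold infP
  rw [Projectivization.mk_eq_mk_iff']
  exact ⟨c, h.symm⟩

instance : Finite (Projectivization F (Fin 4 → F)) := by
  unfold Projectivization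
  exact Quotient.finite _

theorem ovoid_finite : (Cfsg.suzukiOvoid F m).Finite := Set.toFinite _

/-- the ovoid has `q² + 1` points -/
theorem card_ovoid : Nat.card (Cfsg.suzukiOvoid F m) = Fintype.card F ^ 2 + 1 := by
  classical
  have e : Option (F × F) ≃ Cfsg.suzukiOvoid F m := by
    refine Equiv.ofBijective (fun o => match o with
      | none => ⟨infP, infP_mem⟩
      | some (x, y) => ⟨ptP m x y, ptP_mem x y⟩) ⟨?_, ?_⟩
    · rintro (_ | ⟨x, y⟩) (_ | ⟨x', y'⟩) h
      · rfl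
      · exact absurd (congrArg Subtype.val h) (infP_ne_ptP x' y')
      · exact absurd (congrArg Subtype.val h).symm (infP_ne_ptP x y)
      · obtain ⟨rfl, rfl⟩ := ptP_injective (congrArg Subtype.val h)
        rfl
    · rintro ⟨p, hp⟩
      rcases mem_ovoid_iff.mp hp with rfl | ⟨x, y, rfl⟩
      · exact ⟨none, rfl⟩
      · exact ⟨some (x, y), rfl⟩
  rw [← Nat.card_congr e, Nat.card_eq_fintype_card, Fintype.card_option, Fintype.card_prod, sq]

/-! ### Translations -/

/-- matrix of the translation by `(a, b)` -/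
def Tm (m : ℕ) (a b : F) : Matrix (Fin 4) (Fin 4) F :=
  !![1, a, b + a ^ sg m * a, f m a b; 0, 1, a ^ sg m, b; 0, 0, 1, a; 0, 0, 0, 1]

theorem det_Tm (a b : F) : (Tm m a b).det = 1 := by
  rw [Matrix.det_of_isUpperTriangular]
  · simp [Tm, Fin.prod_univ_four]
  · intro i j hij
    fin_cases i <;> fin_cases j <;> first | rfl | (exfalso; revert hij; decide)

/-- the translation by `(a, b)` -/
def T (m : ℕ) (a b : F) : SpecialLinearGroup (Fin 4) F := ⟨Tm m a b, det_Tm a b⟩

theorem f_trans (hF : Fintype.card F = 2 ^ (2 * m + 1)) (a b x y : F) :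
    f m (x + a) (y + b + a ^ sg m * x) = f m x y + a * y + (b + a ^ sg m * a) * x + f m a b := by
  have h2 := two_eq_zero hF
  simp only [f_def', add_pow_sg hF, mul_pow, pow_sg_pow_sg hF]
  linear_combination (a ^ sg m * x ^ 2 + a * x ^ sg m * x + a ^ 2 * x ^ sg m + a * a ^ sg m * x) * h2

theorem Tm_mulVec (hF : Fintype.card F = 2 ^ (2 * m + 1)) (a b x y : F) :
    Tm m a b *ᵥ pt m x y = pt m (x + a) (y + b + a ^ sg m * x) := by
  ext i
  fin_cases i
  · simp [Tm, pt, Matrix.mulVec, dotProduct, Fin.sum_univ_four]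
    rw [f_trans hF]
  · simp [Tm, pt, Matrix.mulVec, dotProduct, Fin.sum_univ_four]
    ring
  · simp [Tm, pt, Matrix.mulVec, dotProduct, Fin.sum_univ_four]
  · simp [Tm, pt, Matrix.mulVec, dotProduct, Fin.sum_univ_four]

theorem Tm_mulVec_e0 (a b : F) : Tm m a b *ᵥ e0 = e0 := by
  ext i
  fin_cases i <;> simp [Tm, e0, Matrix.mulVec, dotProduct, Fin.sum_univ_four]

theorem smul_vec (g : SpecialLinearGroup (Fin 4) F) (v : Fin 4 → F) : g • v = g.1 *ᵥ v := rfl

theorem T_smul_ptP (hF : Fintype.card F = 2 ^ (2 * m + 1)) (a b x y : F) :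
    T m a b • ptP m x y = ptP m (x + a) (y + b + a ^ sg m * x) := by
  unfold ptP
  rw [Projectivization.smul_mk]
  congr 1
  exact Tm_mulVec hF a b x y

theorem T_smul_infP (a b : F) : T m a b • (infP : Projectivization F (Fin 4 → F)) = infP := by
  unfold infP
  rw [Projectivization.smul_mk]
  congr 1
  exact Tm_mulVec_e0 a b

/-! ### The inversion -/

/-- the antidiagonal matrix -/
def Wm : Matrix (Fin 4) (Fin 4) F :=
  !![0, 0, 0, 1; 0, 0, 1, 0; 0, 1, 0, 0; 1, 0, 0, 0]

theorem Wm_eq : (Wm : Matrix (Fin 4) (Fin 4) F) = Cfsg.suzukiForm F := rfl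

theorem det_Wm : (Wm : Matrix (Fin 4) (Fin 4) F).det = 1 := by
  simp [Wm, Matrix.det_succ_row_zero, Fin.sum_univ_succ, Fin.succAbove]
  norm_num

/-- the inversion -/
def W : SpecialLinearGroup (Fin 4) F := ⟨Wm, det_Wm⟩

theorem Wm_mulVec (v : Fin 4 → F) : Wm *ᵥ v = ![v 3, v 2, v 1, v 0] := by
  ext i
  fin_cases i <;> simp [Wm, Matrix.mulVec, dotProduct, Fin.sum_univ_four]

theorem W_mul_W : (W : SpecialLinearGroup (Fin 4) F) * W = 1 := by
  apply Subtype.ext
  change (Wm : Matrix (Fin 4) (Fin 4) F) * Wm = 1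
  ext i j
  fin_cases i <;> fin_cases j <;> simp [Wm, Matrix.mul_apply, Fin.sum_univ_four]

theorem W_inv : (W : SpecialLinearGroup (Fin 4) F)⁻¹ = W := inv_eq_of_mul_eq_one_left W_mul_W

theorem W_smul_infP : (W : SpecialLinearGroup (Fin 4) F) • infP = ptP m (0 : F) 0 := by
  unfold infP ptP
  rw [Projectivization.smul_mk]
  congr 1
  rw [smul_vec]
  change Wm *ᵥ e0 = _
  rw [Wm_mulVec, pt_zero_zero]
  simp [e0]

theorem W_smul_ptP_zero : (W : SpecialLinearGroup (Fin 4) F) • ptP m (0 : F) 0 = infP := by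
  rw [← W_smul_infP (F := F) (m := m), ← mul_smul, W_mul_W, one_smul]

theorem W_smul_ptP (hF : Fintype.card F = 2 ^ (2 * m + 1)) {x y : F} (h : f m x y ≠ 0) :
    (W : SpecialLinearGroup (Fin 4) F) • ptP m x y = ptP m (y / f m x y) (x / f m x y) := by
  unfold ptP
  rw [Projectivization.smul_mk]
  apply mk_eq_ptP_of_smul (c := f m x y)
  rw [smul_vec]
  change Wm *ᵥ pt m x y = _
  rw [Wm_mulVec]
  ext i
  fin_cases i
  · simp [pt, f_inv hF h]
    field_simp
  · simp [pt]; field_simp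
  · simp [pt]; field_simp
  · simp [pt]

/-! ### The torus -/

/-- diagonal entries of the torus element -/
def dvec (m : ℕ) (k : Fˣ) : Fin 4 → F :=
  ![((k ^ (2 ^ m + 1) : Fˣ) : F), ((k ^ (2 ^ m) : Fˣ) : F), (((k⁻¹) ^ (2 ^ m) : Fˣ) : F),
    (((k⁻¹) ^ (2 ^ m + 1) : Fˣ) : F)]

theorem det_diag_dvec (k : Fˣ) : (Matrix.diagonal (dvec m k)).det = 1 := by
  rw [Matrix.det_diagonal, Fin.prod_univ_four]
  have h : (k ^ (2 ^ m + 1) * k ^ (2 ^ m) * (k⁻¹) ^ (2 ^ m) * (k⁻¹) ^ (2 ^ m + 1) : Fˣ) = 1 := by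
    rw [inv_pow, inv_pow]; group
  have h' := congrArg Units.val h
  simpa [dvec, Units.val_mul] using h'

/-- the torus element -/
def D (m : ℕ) (k : Fˣ) : SpecialLinearGroup (Fin 4) F := ⟨Matrix.diagonal (dvec m k), det_diag_dvec k⟩

theorem D_mul (k l : Fˣ) : D m (k * l) = D m k * D m l := by
  apply Subtype.ext
  change Matrix.diagonal (dvec m (k * l)) = Matrix.diagonal (dvec m k) * Matrix.diagonal (dvec m l)
  rw [Matrix.diagonal_mul_diagonal]
  congr 1
  ext i
  fin_cases i <;> simp [dvec, mul_pow] <;> ring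

theorem D_one : D m (1 : Fˣ) = 1 := by
  apply Subtype.ext
  change Matrix.diagonal (dvec m 1) = 1
  rw [← Matrix.diagonal_one]
  congr 1
  ext i
  fin_cases i <;> simp [dvec]

/-- the torus as a homomorphism -/
def DHom (m : ℕ) : Fˣ →* SpecialLinearGroup (Fin 4) F where
  toFun := D m
  map_one' := D_one
  map_mul' := D_mul

theorem f_scale (hF : Fintype.card F = 2 ^ (2 * m + 1)) (k x y : F) :
    f m (k * x) (k ^ (sg m + 1) * y) = k ^ (sg m + 2) * f m x y := by
  simp only [f_def', mul_pow, pow_add, pow_one, pow_sg_pow_sg hF]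
  ring

theorem sg_eq : sg m = 2 * 2 ^ m := by unfold sg; rw [pow_succ]; ring

theorem D_mulVec (hF : Fintype.card F = 2 ^ (2 * m + 1)) (k : Fˣ) (x y : F) :
    Matrix.diagonal (dvec m k) *ᵥ pt m x y =
      (((k⁻¹) ^ (2 ^ m + 1) : Fˣ) : F) • pt m ((k : F) * x) ((k : F) ^ (sg m + 1) * y) := by
  have hk : (k : F) ≠ 0 := k.ne_zero
  have hpt : pt m ((k : F) * x) ((k : F) ^ (sg m + 1) * y) =
      ![(k : F) ^ (sg m + 2) * f m x y, (k : F) ^ (sg m + 1) * y, (k : F) * x, 1] := by
    unfold pt; rw [f_scale hF]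
  rw [hpt, sg_eq]
  unfold pt
  generalize f m x y = z
  ext i
  fin_cases i
  · simp [Matrix.mulVec_diagonal, dvec]
    field_simp
    ring
  · simp [Matrix.mulVec_diagonal, dvec]
    field_simp
    ring
  · simp [Matrix.mulVec_diagonal, dvec]
    field_simp
    ring
  · simp [Matrix.mulVec_diagonal, dvec]

theorem D_smul_ptP (hF : Fintype.card F = 2 ^ (2 * m + 1)) (k : Fˣ) (x y : F) :
    D m k • ptP m x y = ptP m ((k : F) * x) ((k : F) ^ (sg m + 1) * y) := by
  unfold ptP
  rw [Projectivization.smul_mk]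
  apply mk_eq_ptP_of_smul (c := (((k⁻¹) ^ (2 ^ m + 1) : Fˣ) : F))
  exact D_mulVec hF k x y

theorem D_smul_infP (k : Fˣ) : D m k • (infP : Projectivization F (Fin 4 → F)) = infP := by
  unfold infP
  rw [Projectivization.smul_mk]
  apply mk_eq_infP_of_smul (c := ((k ^ (2 ^ m + 1) : Fˣ) : F))
  rw [smul_vec]
  change Matrix.diagonal (dvec m k) *ᵥ e0 = _
  ext i
  fin_cases i <;> simp [Matrix.mulVec_diagonal, dvec, e0]

/-! ### Membership in the Suzuki group -/

theorem mem_Sz_of (g : SpecialLinearGroup (Fin 4) F)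
    (h1 : g • (infP : Projectivization F (Fin 4 → F)) ∈ Cfsg.suzukiOvoid F m)
    (h2 : ∀ x y : F, g • ptP m x y ∈ Cfsg.suzukiOvoid F m) : g ∈ Cfsg.Sz F m := by
  rw [MulAction.mem_stabilizer_set' ovoid_finite]
  intro p hp
  rcases mem_ovoid_iff.mp hp with rfl | ⟨x, y, rfl⟩
  · exact h1
  · exact h2 x y

theorem T_mem (hF : Fintype.card F = 2 ^ (2 * m + 1)) (a b : F) : T m a b ∈ Cfsg.Sz F m := by
  apply mem_Sz_of
  · rw [T_smul_infP]; exact infP_mem
  · intro x y; rw [T_smul_ptP hF]; exact ptP_mem _ _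

theorem D_mem (hF : Fintype.card F = 2 ^ (2 * m + 1)) (k : Fˣ) : D m k ∈ Cfsg.Sz F m := by
  apply mem_Sz_of
  · rw [D_smul_infP]; exact infP_mem
  · intro x y; rw [D_smul_ptP hF]; exact ptP_mem _ _

theorem W_mem (hF : Fintype.card F = 2 ^ (2 * m + 1)) :
    (W : SpecialLinearGroup (Fin 4) F) ∈ Cfsg.Sz F m := by
  apply mem_Sz_of
  · rw [W_smul_infP (F := F) (m := m)]; exact ptP_mem _ _
  · intro x y
    by_cases h : f m x y = 0
    · obtain ⟨rfl, rfl⟩ := f_eq_zero hF h
      rw [W_smul_ptP_zero]; exact infP_mem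
    · rw [W_smul_ptP hF h]; exact ptP_mem _ _

/-- elements of the Suzuki group preserve the ovoid -/
theorem smul_mem_ovoid {g : SpecialLinearGroup (Fin 4) F} (hg : g ∈ Cfsg.Sz F m)
    {p : Projectivization F (Fin 4 → F)} (hp : p ∈ Cfsg.suzukiOvoid F m) :
    g • p ∈ Cfsg.suzukiOvoid F m :=
  (MulAction.mem_stabilizer_set' ovoid_finite).mp hg hp

end Cfsg.Agent.Helper2.SzO
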