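import Mathlib
import Cfsg.Agent.Helper2.SzGroup

/-! The two-point stabiliser in the Suzuki group is the torus. -/

set_option autoImplicit false
set_option linter.unusedSectionVars false
set_option linter.unusedVariables false

namespace Cfsg.Agent.Helper2.SzO

open Matrix Polynomial

variable {F : Type*} [Field F] [Fintype F] {m : ℕ}

theorem four_le_sg (hm : 1 ≤ m) : 4 ≤ sg m := by
  unfold sg
  calc 4 = 2 ^ 2 := by norm_num
    _ ≤ 2 ^ (m + 1) := Nat.pow_le_pow_right (by norm_num) (by omega)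

theorem sg_add_two_lt (hm : 1 ≤ m) : sg m + 2 < 2 ^ (2 * m + 1) := by
  have h4 := four_le_sg hm
  have : 2 ^ (m + 2) ≤ 2 ^ (2 * m + 1) := Nat.pow_le_pow_right (by norm_num) (by omega)
  have h2 : 2 ^ (m + 2) = 2 * sg m := by unfold sg; rw [pow_succ]; ring
  omega

/-- a polynomial identity argument -/
theorem poly3 (hF : Fintype.card F = 2 ^ (2 * m + 1)) (hm : 1 ≤ m) (c2 cs ct : F)
    (h : ∀ x : F, c2 * x ^ 2 + cs * x ^ sg m + ct * x ^ (sg m + 2) = 0) :
    c2 = 0 ∧ cs = 0 ∧ ct = 0 := by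
  have h4 := four_le_sg hm
  set p : F[X] := C c2 * X ^ 2 + C cs * X ^ sg m + C ct * X ^ (sg m + 2) with hp
  have hdeg : p.natDegree < Fintype.card F := by
    rw [hF]
    refine lt_of_le_of_lt ?_ (sg_add_two_lt hm)
    rw [hp]
    refine (natDegree_add_le _ _).trans (max_le ((natDegree_add_le _ _).trans (max_le ?_ ?_)) ?_)
    · exact (natDegree_C_mul_X_pow_le _ _).trans (by omega)
    · exact (natDegree_C_mul_X_pow_le _ _).trans (by omega)
    · exact natDegree_C_mul_X_pow_le _ _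
  have hzero : p = 0 := by
    apply eq_zero_of_natDegree_lt_card_of_eval_eq_zero p Function.injective_id _ hdeg
    intro x
    simp only [hp, eval_add, eval_mul, eval_C, eval_pow, eval_X, id]
    exact h x
  have hc : ∀ n, p.coeff n = 0 := by intro n; rw [hzero, coeff_zero]
  have e2 := hc 2
  have es := hc (sg m)
  have et := hc (sg m + 2)
  simp only [hp, coeff_add, coeff_C_mul_X_pow] at e2 es et
  have n1 : (2 : ℕ) ≠ sg m := by omega
  have n2 : (2 : ℕ) ≠ sg m + 2 := by omega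
  have n3 : sg m ≠ 2 := by omega
  have n4 : sg m ≠ sg m + 2 := by omega
  have n5 : sg m + 2 ≠ 2 := by omega
  have n6 : sg m + 2 ≠ sg m := by omega
  simp only [n1, n2, n3, n4, n5, n6, if_true, if_false, add_zero, zero_add] at e2 es et
  exact ⟨e2, es, et⟩

theorem mulVec_pt (M : Matrix (Fin 4) (Fin 4) F) (x y : F) (i : Fin 4) :
    (M *ᵥ pt m x y) i = M i 0 * f m x y + M i 1 * y + M i 2 * x + M i 3 := by
  simp [Matrix.mulVec, dotProduct, Fin.sum_univ_four, pt]

theorem mulVec_e0 (M : Matrix (Fin 4) (Fin 4) F) (i : Fin 4) : (M *ᵥ e0) i = M i 0 := by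
  simp [Matrix.mulVec, dotProduct, Fin.sum_univ_four, e0]

/-- image of an affine point under an element of the Suzuki group fixing `∞` -/
theorem exists_image {g : SpecialLinearGroup (Fin 4) F} (hg : g ∈ Cfsg.Sz F m)
    (hinf : g • (infP : Projectivization F (Fin 4 → F)) = infP) (x y : F) :
    ∃ c x' y' : F, c ≠ 0 ∧ g.1 *ᵥ pt m x y = c • pt m x' y' := by
  have h1 : g • ptP m x y ∈ Cfsg.suzukiOvoid F m := smul_mem_ovoid hg (ptP_mem x y)
  rcases mem_ovoid_iff.mp h1 with h | ⟨x', y', h⟩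
  · exfalso
    rw [← hinf] at h
    exact infP_ne_ptP x y (MulAction.injective g h).symm
  · unfold ptP at h
    rw [Projectivization.smul_mk, Projectivization.mk_eq_mk_iff'] at h
    obtain ⟨c, hc⟩ := h
    refine ⟨c, x', y', ?_, hc.symm⟩
    rintro rfl
    rw [zero_smul] at hc
    exact (smul_ne_zero_iff_ne g).mpr (pt_ne_zero x y) hc.symm

theorem col0 {g : SpecialLinearGroup (Fin 4) F}
    (hinf : g • (infP : Projectivization F (Fin 4 → F)) = infP) :
    g.1 1 0 = 0 ∧ g.1 2 0 = 0 ∧ g.1 3 0 = 0 := by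
  unfold infP at hinf
  rw [Projectivization.smul_mk, Projectivization.mk_eq_mk_iff'] at hinf
  obtain ⟨c, hc⟩ := hinf
  have h1 := congrFun hc 1
  have h2 := congrFun hc 2
  have h3 := congrFun hc 3
  rw [smul_vec, mulVec_e0] at h1 h2 h3
  simp [e0] at h1 h2 h3
  exact ⟨h1.symm, h2.symm, h3.symm⟩

theorem col3 {g : SpecialLinearGroup (Fin 4) F}
    (hzero : g • ptP m (0 : F) 0 = ptP m 0 0) :
    g.1 0 3 = 0 ∧ g.1 1 3 = 0 ∧ g.1 2 3 = 0 := by
  unfold ptP at hzero
  rw [Projectivization.smul_mk, Projectivization.mk_eq_mk_iff'] at hzero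
  obtain ⟨c, hc⟩ := hzero
  have h0 := congrFun hc 0
  have h1 := congrFun hc 1
  have h2 := congrFun hc 2
  rw [smul_vec, mulVec_pt] at h0 h1 h2
  simp [pt, f_zero_zero] at h0 h1 h2
  exact ⟨h0.symm, h1.symm, h2.symm⟩

theorem row3 {g : SpecialLinearGroup (Fin 4) F} (hg : g ∈ Cfsg.Sz F m)
    (hinf : g • (infP : Projectivization F (Fin 4 → F)) = infP) :
    g.1 3 1 = 0 ∧ g.1 3 2 = 0 := by
  obtain ⟨-, -, h30⟩ := col0 hinf
  have key : ∀ x y : F, g.1 3 1 * y + g.1 3 2 * x + g.1 3 3 ≠ 0 := by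
    intro x y
    obtain ⟨c, x', y', hc, h⟩ := exists_image hg hinf x y
    have h3 := congrFun h 3
    rw [mulVec_pt, h30] at h3
    simp [pt] at h3
    rw [h3]; exact hc
  constructor
  · by_contra h
    apply key 0 (-(g.1 3 3) / g.1 3 1)
    field_simp
    ring
  · by_contra h
    apply key (-(g.1 3 3) / g.1 3 2) 0
    field_simp
    ring

theorem W_conj_apply (g : SpecialLinearGroup (Fin 4) F) :
    (W * g * W).1 3 1 = g.1 0 2 ∧ (W * g * W).1 3 2 = g.1 0 1 := by
  constructor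
  · change (Wm * g.1 * Wm : Matrix (Fin 4) (Fin 4) F) 3 1 = _
    simp [Wm, Matrix.mul_apply, Fin.sum_univ_four, Matrix.vecMul, dotProduct]
  · change (Wm * g.1 * Wm : Matrix (Fin 4) (Fin 4) F) 3 2 = _
    simp [Wm, Matrix.mul_apply, Fin.sum_univ_four, Matrix.vecMul, dotProduct]

theorem row0 (hF : Fintype.card F = 2 ^ (2 * m + 1)) {g : SpecialLinearGroup (Fin 4) F}
    (hg : g ∈ Cfsg.Sz F m)
    (hzero : g • ptP m (0 : F) 0 = ptP m 0 0) :
    g.1 0 1 = 0 ∧ g.1 0 2 = 0 := by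
  have hg' : W * g * W ∈ Cfsg.Sz F m :=
    Subgroup.mul_mem _ (Subgroup.mul_mem _ (W_mem hF) hg) (W_mem hF)
  have hinf' : (W * g * W) • (infP : Projectivization F (Fin 4 → F)) = infP := by
    rw [mul_smul, mul_smul, W_smul_infP (F := F) (m := m), hzero, W_smul_ptP_zero]
  obtain ⟨h1, h2⟩ := row3 hg' hinf'
  rw [(W_conj_apply g).1] at h1
  rw [(W_conj_apply g).2] at h2
  exact ⟨h2, h1⟩

theorem sq_eq_one_char_two (h2 : (2 : F) = 0) {a : F} (h : a ^ 2 = 1) : a = 1 := by
  have : (a - 1) ^ 2 = 0 := by linear_combination h - (a - 1) * h2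
  exact sub_eq_zero.mp (pow_eq_zero_iff (by norm_num) |>.mp this)

theorem sq_eq_sq_char_two (h2 : (2 : F) = 0) {a b : F} (h : a ^ 2 = b ^ 2) : a = b := by
  have : (a - b) ^ 2 = 0 := by linear_combination h - (a * b - b ^ 2) * h2
  exact sub_eq_zero.mp (pow_eq_zero_iff (by norm_num) |>.mp this)

/-- The classification: an element of the Suzuki group fixing `∞` and `0` is in the torus. -/
theorem eq_D_of_fix (hF : Fintype.card F = 2 ^ (2 * m + 1)) (hm : 1 ≤ m)
    {g : SpecialLinearGroup (Fin 4) F} (hg : g ∈ Cfsg.Sz F m)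
    (hinf : g • (infP : Projectivization F (Fin 4 → F)) = infP)
    (hzero : g • ptP m (0 : F) 0 = ptP m 0 0) : ∃ k : Fˣ, g = D m k := by
  have h2 := two_eq_zero hF
  have hs : sg m ≠ 0 := sg_ne_zero
  obtain ⟨h10, h20, h30⟩ := col0 hinf
  obtain ⟨h03, h13, h23⟩ := col3 hzero
  obtain ⟨h31, h32⟩ := row3 hg hinf
  obtain ⟨h01, h02⟩ := row0 hF hg hzero
  set M := g.1 with hM
  -- the matrix is diagonal
  have hdiag : M = Matrix.diagonal (fun i => M i i) → True := fun _ => trivial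
  set μ := M 3 3 with hμ
  -- images of affine points
  have himg : ∀ x y : F, μ ≠ 0 ∧ M 0 0 * f m x y =
      μ * f m ((M 2 1 * y + M 2 2 * x) / μ) ((M 1 1 * y + M 1 2 * x) / μ) := by
    intro x y
    obtain ⟨c, x', y', hc, h⟩ := exists_image hg hinf x y
    have e0' := congrFun h 0
    have e1 := congrFun h 1
    have e2 := congrFun h 2
    have e3 := congrFun h 3
    rw [mulVec_pt] at e0' e1 e2 e3
    rw [← hM] at e0' e1 e2 e3
    rw [h30, h31, h32] at e3
    rw [h20, h23] at e2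
    rw [h10, h13] at e1
    rw [h01, h02, h03] at e0'
    simp [pt] at e0' e1 e2 e3
    have hcμ : c = μ := by rw [hμ]; exact e3.symm
    subst hcμ
    refine ⟨hc, ?_⟩
    have hx' : x' = (M 2 1 * y + M 2 2 * x) / μ := by field_simp; linear_combination -e2
    have hy' : y' = (M 1 1 * y + M 1 2 * x) / μ := by field_simp; linear_combination -e1
    rw [← hx', ← hy']
    exact e0'
  have hμ0 : μ ≠ 0 := (himg 0 0).1
  obtain ⟨α, hα⟩ : ∃ α, α = M 2 2 / μ := ⟨_, rfl⟩
  obtain ⟨β, hβ⟩ : ∃ β, β = M 2 1 / μ := ⟨_, rfl⟩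
  obtain ⟨γ, hγ⟩ : ∃ γ, γ = M 1 2 / μ := ⟨_, rfl⟩
  obtain ⟨δ, hδ⟩ : ∃ δ, δ = M 1 1 / μ := ⟨_, rfl⟩
  obtain ⟨κ, hκ⟩ : ∃ κ, κ = M 0 0 / μ := ⟨_, rfl⟩
  have key : ∀ x y : F, f m (α * x + β * y) (γ * x + δ * y) = κ * f m x y := by
    intro x y
    have := (himg x y).2
    have e1 : (M 2 1 * y + M 2 2 * x) / μ = α * x + β * y := by
      rw [hα, hβ]; field_simp; ring
    have e2 : (M 1 1 * y + M 1 2 * x) / μ = γ * x + δ * y := by
      rw [hγ, hδ]; field_simp; ring
    rw [e1, e2] at this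
    rw [hκ, div_mul_eq_mul_div, eq_div_iff hμ0, this, mul_comm]
  -- y = 0
  have p1 := poly3 hF hm (α * γ) (γ ^ sg m) (α ^ sg m * α ^ 2 - κ) (by
    intro x
    have := key x 0
    simp only [mul_zero, add_zero, f_def', mul_pow, zero_pow hs] at this
    rw [pow_add]
    linear_combination this)
  -- x = 0
  have p2 := poly3 hF hm (β * δ) (δ ^ sg m - κ) (β ^ sg m * β ^ 2) (by
    intro y
    have := key 0 y
    simp only [mul_zero, zero_add, f_def', mul_pow, zero_pow hs, zero_mul,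
      zero_pow (two_ne_zero : (2 : ℕ) ≠ 0)] at this
    rw [pow_add]
    linear_combination this)
  obtain ⟨-, hγ0, hακ⟩ := p1
  obtain ⟨-, hδκ, hβ0⟩ := p2
  have hγ0' : γ = 0 := pow_eq_zero_iff hs |>.mp hγ0
  have hβ0' : β = 0 := by
    rcases mul_eq_zero.mp hβ0 with h | h
    · exact pow_eq_zero_iff hs |>.mp h
    · exact pow_eq_zero_iff (by norm_num) |>.mp h
  have h12 : M 1 2 = 0 := by
    rw [hγ] at hγ0'
    rcases div_eq_zero_iff.mp hγ0' with h | h
    · exact h
    · exact absurd h hμ0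
  have h21 : M 2 1 = 0 := by
    rw [hβ] at hβ0'
    rcases div_eq_zero_iff.mp hβ0' with h | h
    · exact h
    · exact absurd h hμ0
  -- the matrix is diagonal
  have hMd : M = Matrix.diagonal (fun i => M i i) := by
    ext i j
    fin_cases i <;> fin_cases j <;> simp [Matrix.diagonal] <;> assumption
  have hdet : M 0 0 * M 1 1 * M 2 2 * M 3 3 = 1 := by
    have := g.2
    rw [← hM, hMd, Matrix.det_diagonal, Fin.prod_univ_four] at this
    exact this
  have hκ' : κ = α ^ sg m * α ^ 2 := by linear_combination -hακ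
  have hδ' : δ ^ sg m = κ := by linear_combination hδκ
  have hδα : δ = α ^ sg m * α := by
    apply sq_eq_sq_char_two h2
    have := congrArg (fun z => z ^ sg m) hδ'
    simp only [pow_sg_pow_sg hF] at this
    rw [this, hκ', mul_pow, pow_sg_pow_sg hF, ← pow_mul, mul_comm 2 (sg m), pow_mul]
    ring
  -- express entries
  have e00 : M 0 0 = κ * μ := by rw [hκ]; field_simp
  have e11 : M 1 1 = δ * μ := by rw [hδ]; field_simp
  have e22 : M 2 2 = α * μ := by rw [hα]; field_simp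
  have hα0 : α ≠ 0 := by
    rintro h0
    rw [e22, h0] at hdet
    simp at hdet
  have hr : sg m = 2 * 2 ^ m := sg_eq
  have hone : α ^ (2 ^ m + 1) * μ = 1 := by
    apply sq_eq_one_char_two h2
    apply sq_eq_one_char_two h2
    rw [e00, e11, e22, hκ', hδα, hr] at hdet
    rw [← hdet]
    ring
  refine ⟨Units.mk0 α hα0, ?_⟩
  apply Subtype.ext
  change M = Matrix.diagonal (dvec m (Units.mk0 α hα0))
  rw [hMd]
  congr 1
  have hμ' : μ = (α ^ (2 ^ m + 1))⁻¹ := eq_inv_of_mul_eq_one_right hone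
  ext i
  fin_cases i
  · simp only [dvec, Fin.zero_eta, Matrix.cons_val_zero, Units.val_pow_eq_pow_val, Units.val_mk0]
    rw [e00, hκ', hμ', hr]
    field_simp
    ring
  · simp only [dvec, Fin.mk_one, Matrix.cons_val_one, Matrix.cons_val_zero,
      Units.val_pow_eq_pow_val, Units.val_mk0]
    rw [e11, hδα, hμ', hr]
    field_simp
    ring
  · simp [dvec]
    rw [e22, hμ']
    field_simp
    ring
  · simp [dvec]
    rw [← hμ, hμ']

end Cfsg.Agent.Helper2.SzO
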