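import Mathlib
import Cfsg.Agent.Helper2.SzStab
import Cfsg.Agent.Helper2.SLCard

/-! Two-point stabiliser, point stabiliser and order of the Suzuki group. -/

set_option autoImplicit false
set_option linter.unusedSectionVars false
set_option linter.unusedVariables false

namespace Cfsg.Agent.Helper2.SzO

open Matrix

variable {F : Type*} [Field F] [Fintype F] {m : ℕ}

theorem D_injective : Function.Injective (D m : Fˣ → SpecialLinearGroup (Fin 4) F) := by
  intro k l h
  have h0 := congrArg (fun g : SpecialLinearGroup (Fin 4) F => g.1 0 0) h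
  have h1 := congrArg (fun g : SpecialLinearGroup (Fin 4) F => g.1 1 1) h
  simp only [D, Matrix.diagonal_apply_eq, dvec, Matrix.cons_val_zero, Matrix.cons_val_one] at h0 h1
  have h0' : k ^ (2 ^ m + 1) = l ^ (2 ^ m + 1) := Units.ext h0
  have h1' : k ^ (2 ^ m) = l ^ (2 ^ m) := Units.ext h1
  rw [pow_succ, pow_succ, h1'] at h0'
  exact mul_left_cancel h0'

theorem D_fix_inf (hF : Fintype.card F = 2 ^ (2 * m + 1)) (k : Fˣ) :
    (⟨D m k, D_mem hF k⟩ : Cfsg.Sz F m) ∈
      MulAction.stabilizer (Cfsg.Sz F m) (Cfsg.suzukiPointInfinity F) := by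
  rw [MulAction.mem_stabilizer_iff]
  change D m k • Cfsg.suzukiPointInfinity F = _
  rw [← infP_eq, D_smul_infP]

theorem D_fix_zero (hF : Fintype.card F = 2 ^ (2 * m + 1)) (k : Fˣ) :
    (⟨D m k, D_mem hF k⟩ : Cfsg.Sz F m) ∈
      MulAction.stabilizer (Cfsg.Sz F m) (Cfsg.suzukiPointZero F) := by
  rw [MulAction.mem_stabilizer_iff]
  change D m k • Cfsg.suzukiPointZero F = _
  rw [← ptP_zero (m := m), D_smul_ptP hF]
  simp

/-- the torus inside the two-point stabiliser -/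
noncomputable def torusHom (hF : Fintype.card F = 2 ^ (2 * m + 1)) :
    Fˣ →* ↥(MulAction.stabilizer (Cfsg.Sz F m) (Cfsg.suzukiPointInfinity F) ⊓
        MulAction.stabilizer (Cfsg.Sz F m) (Cfsg.suzukiPointZero F)) where
  toFun k := ⟨⟨D m k, D_mem hF k⟩, ⟨D_fix_inf hF k, D_fix_zero hF k⟩⟩
  map_one' := by
    apply Subtype.ext; apply Subtype.ext; exact D_one
  map_mul' k l := by
    apply Subtype.ext; apply Subtype.ext; exact D_mul k l

theorem torusHom_bijective (hF : Fintype.card F = 2 ^ (2 * m + 1)) (hm : 1 ≤ m) :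
    Function.Bijective (torusHom (m := m) hF) := by
  constructor
  · intro k l h
    have := congrArg (fun x => ((x : ↥(MulAction.stabilizer (Cfsg.Sz F m)
      (Cfsg.suzukiPointInfinity F) ⊓ MulAction.stabilizer (Cfsg.Sz F m)
      (Cfsg.suzukiPointZero F))) : Cfsg.Sz F m).1) h
    exact D_injective this
  · rintro ⟨⟨g, hg⟩, h1, h2⟩
    have h1' : g • (infP : Projectivization F (Fin 4 → F)) = infP :=
      MulAction.mem_stabilizer_iff.mp h1
    have h2' : g • ptP m (0 : F) 0 = ptP m 0 0 := by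
      rw [ptP_zero]; exact MulAction.mem_stabilizer_iff.mp h2
    obtain ⟨k, rfl⟩ := eq_D_of_fix hF hm hg h1' h2'
    exact ⟨k, rfl⟩

theorem nonempty_equiv_units (hF : Fintype.card F = 2 ^ (2 * m + 1)) (hm : 1 ≤ m) :
    Nonempty (↥(MulAction.stabilizer (Cfsg.Sz F m) (Cfsg.suzukiPointInfinity F) ⊓
        MulAction.stabilizer (Cfsg.Sz F m) (Cfsg.suzukiPointZero F)) ≃* Fˣ) :=
  ⟨(MulEquiv.ofBijective _ (torusHom_bijective hF hm)).symm⟩

/-! ### The point stabiliser -/

/-- `T a b` as an element of the Suzuki group -/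
def Tz (hF : Fintype.card F = 2 ^ (2 * m + 1)) (a b : F) : Cfsg.Sz F m := ⟨T m a b, T_mem hF a b⟩

/-- `W` as an element of the Suzuki group -/
def Wz (hF : Fintype.card F = 2 ^ (2 * m + 1)) : Cfsg.Sz F m := ⟨W, W_mem hF⟩

theorem Tz_mem_stab (hF : Fintype.card F = 2 ^ (2 * m + 1)) (a b : F) :
    Tz hF a b ∈ MulAction.stabilizer (Cfsg.Sz F m) (Cfsg.suzukiPointInfinity F) := by
  rw [MulAction.mem_stabilizer_iff]
  change T m a b • Cfsg.suzukiPointInfinity F = _
  rw [← infP_eq, T_smul_infP]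

theorem T_smul_zero (hF : Fintype.card F = 2 ^ (2 * m + 1)) (a b : F) :
    T m a b • ptP m (0 : F) 0 = ptP m a b := by
  rw [T_smul_ptP hF]; simp

/-- the set of affine ovoid points -/
def affSet (F : Type*) [Field F] [Fintype F] (m : ℕ) : Set (Projectivization F (Fin 4 → F)) :=
  {p | ∃ x y : F, p = ptP m x y}

theorem card_affSet : Nat.card (affSet F m) = Fintype.card F ^ 2 := by
  have e : F × F ≃ affSet F m := by
    refine Equiv.ofBijective (fun xy => ⟨ptP m xy.1 xy.2, xy.1, xy.2, rfl⟩) ⟨?_, ?_⟩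
    · rintro ⟨x, y⟩ ⟨x', y'⟩ h
      obtain ⟨rfl, rfl⟩ := ptP_injective (congrArg Subtype.val h)
      rfl
    · rintro ⟨p, x, y, rfl⟩
      exact ⟨(x, y), rfl⟩
  rw [← Nat.card_congr e, Nat.card_eq_fintype_card, Fintype.card_prod, sq]

theorem orbit_stab_zero (hF : Fintype.card F = 2 ^ (2 * m + 1)) :
    MulAction.orbit ↥(MulAction.stabilizer (Cfsg.Sz F m) (Cfsg.suzukiPointInfinity F))
      (Cfsg.suzukiPointZero F) = affSet F m := by
  ext p
  constructor
  · rintro ⟨⟨⟨g, hg⟩, hinf⟩, rfl⟩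
    change g • Cfsg.suzukiPointZero F ∈ affSet F m
    have hinf' : g • (infP : Projectivization F (Fin 4 → F)) = infP :=
      MulAction.mem_stabilizer_iff.mp hinf
    rw [← ptP_zero (m := m)]
    have h1 := smul_mem_ovoid hg (ptP_mem (m := m) (0 : F) 0)
    rcases mem_ovoid_iff.mp h1 with h | ⟨x, y, h⟩
    · exfalso
      rw [← hinf'] at h
      exact infP_ne_ptP 0 0 (MulAction.injective g h).symm
    · exact ⟨x, y, h⟩
  · rintro ⟨x, y, rfl⟩
    refine ⟨⟨Tz hF x y, Tz_mem_stab hF x y⟩, ?_⟩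
    change T m x y • Cfsg.suzukiPointZero F = _
    rw [← ptP_zero (m := m), T_smul_zero hF]

theorem card_stab_inf (hF : Fintype.card F = 2 ^ (2 * m + 1)) (hm : 1 ≤ m) :
    Nat.card (MulAction.stabilizer (Cfsg.Sz F m) (Cfsg.suzukiPointInfinity F)) =
      (2 ^ (2 * m + 1)) ^ 2 * (2 ^ (2 * m + 1) - 1) := by
  set H := MulAction.stabilizer (Cfsg.Sz F m) (Cfsg.suzukiPointInfinity F) with hH
  have h1 := Nat.card_congr (MulAction.orbitProdStabilizerEquivGroup ↥H (Cfsg.suzukiPointZero F))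
  rw [Nat.card_prod, orbit_stab_zero hF, card_affSet, hF] at h1
  rw [← h1]
  congr 1
  -- the stabiliser of `0` in `H` is the two-point stabiliser
  let e : ↥(MulAction.stabilizer ↥H (Cfsg.suzukiPointZero F)) ≃
      ↥(H ⊓ MulAction.stabilizer (Cfsg.Sz F m) (Cfsg.suzukiPointZero F)) :=
    { toFun := fun x => ⟨x.1.1, x.1.2, x.2⟩
      invFun := fun y => ⟨⟨y.1, y.2.1⟩, y.2.2⟩
      left_inv := fun _ => rfl
      right_inv := fun _ => rfl }
  rw [Nat.card_congr e]
  obtain ⟨e'⟩ := nonempty_equiv_units hF hm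
  rw [Nat.card_congr e'.toEquiv, card_units_field, hF]

/-! ### The order -/

theorem orbit_inf (hF : Fintype.card F = 2 ^ (2 * m + 1)) :
    MulAction.orbit ↥(Cfsg.Sz F m) (Cfsg.suzukiPointInfinity F) = Cfsg.suzukiOvoid F m := by
  ext p
  constructor
  · rintro ⟨⟨g, hg⟩, rfl⟩
    change g • Cfsg.suzukiPointInfinity F ∈ _
    exact smul_mem_ovoid hg infP_mem
  · intro hp
    rcases mem_ovoid_iff.mp hp with rfl | ⟨x, y, rfl⟩
    · exact ⟨1, one_smul _ _⟩
    · refine ⟨Tz hF x y * Wz hF, ?_⟩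
      change (T m x y * W) • Cfsg.suzukiPointInfinity F = _
      rw [mul_smul, ← infP_eq, W_smul_infP (F := F) (m := m), T_smul_zero hF]

theorem card_Sz (hF : Fintype.card F = 2 ^ (2 * m + 1)) (hm : 1 ≤ m) :
    Nat.card (Cfsg.Sz F m) =
      (2 ^ (2 * m + 1)) ^ 2 * ((2 ^ (2 * m + 1)) ^ 2 + 1) * (2 ^ (2 * m + 1) - 1) := by
  have h1 := Nat.card_congr
    (MulAction.orbitProdStabilizerEquivGroup ↥(Cfsg.Sz F m) (Cfsg.suzukiPointInfinity F))
  rw [Nat.card_prod, orbit_inf hF, card_ovoid, card_stab_inf hF hm, hF] at h1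
  rw [← h1]
  ring

end Cfsg.Agent.Helper2.SzO
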