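import Mathlib
import Cfsg.Agent.Helper2.SzOrder

/-! Decomposition of Suzuki group elements; the Suzuki group is symplectic. -/

set_option autoImplicit false
set_option linter.unusedSectionVars false
set_option linter.unusedVariables false

namespace Cfsg.Agent.Helper2.SzO

open Matrix

variable {F : Type*} [Field F] [Fintype F] {m : ℕ}

/-- elements fixing `∞` are `T * D` -/
theorem decomp_fix_inf (hF : Fintype.card F = 2 ^ (2 * m + 1)) (hm : 1 ≤ m)
    {g : SpecialLinearGroup (Fin 4) F} (hg : g ∈ Cfsg.Sz F m)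
    (hinf : g • (infP : Projectivization F (Fin 4 → F)) = infP) :
    ∃ (a b : F) (k : Fˣ), g = T m a b * D m k := by
  have h1 := smul_mem_ovoid hg (ptP_mem (m := m) (0 : F) 0)
  rcases mem_ovoid_iff.mp h1 with h | ⟨a, b, h⟩
  · exfalso
    rw [← hinf] at h
    exact infP_ne_ptP 0 0 (MulAction.injective g h).symm
  · have hg1 : (T m a b)⁻¹ * g ∈ Cfsg.Sz F m :=
      Subgroup.mul_mem _ (Subgroup.inv_mem _ (T_mem hF a b)) hg
    have hinf1 : ((T m a b)⁻¹ * g) • (infP : Projectivization F (Fin 4 → F)) = infP := by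
      rw [mul_smul, hinf, inv_smul_eq_iff, T_smul_infP]
    have hzero1 : ((T m a b)⁻¹ * g) • ptP m (0 : F) 0 = ptP m 0 0 := by
      rw [mul_smul, h, inv_smul_eq_iff, T_smul_zero hF]
    obtain ⟨k, hk⟩ := eq_D_of_fix hF hm hg1 hinf1 hzero1
    refine ⟨a, b, k, ?_⟩
    rw [← hk]; group

/-- Bruhat-type decomposition -/
theorem decomp (hF : Fintype.card F = 2 ^ (2 * m + 1)) (hm : 1 ≤ m)
    {g : SpecialLinearGroup (Fin 4) F} (hg : g ∈ Cfsg.Sz F m) :
    (∃ (a b : F) (k : Fˣ), g = T m a b * D m k) ∨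
    (∃ (a b a' b' : F) (k : Fˣ), g = T m a b * W * (T m a' b' * D m k)) := by
  have h1 := smul_mem_ovoid hg (infP_mem (F := F) (m := m))
  rcases mem_ovoid_iff.mp h1 with h | ⟨a, b, h⟩
  · left; exact decomp_fix_inf hF hm hg h
  · right
    have hg1 : (T m a b * W)⁻¹ * g ∈ Cfsg.Sz F m :=
      Subgroup.mul_mem _ (Subgroup.inv_mem _ (Subgroup.mul_mem _ (T_mem hF a b) (W_mem hF))) hg
    have hinf1 : ((T m a b * W)⁻¹ * g) • (infP : Projectivization F (Fin 4 → F)) = infP := by
      rw [mul_smul, h, inv_smul_eq_iff, mul_smul, W_smul_infP (F := F) (m := m), T_smul_zero hF]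
    obtain ⟨a', b', k, hk⟩ := decomp_fix_inf hF hm hg1 hinf1
    refine ⟨a, b, a', b', k, ?_⟩
    rw [← hk]; group

/-- the symplectic condition for the antidiagonal form -/
def IsSp (M : Matrix (Fin 4) (Fin 4) F) : Prop := M.transpose * Wm * M = Wm

theorem IsSp.mul {M N : Matrix (Fin 4) (Fin 4) F} (hM : IsSp M) (hN : IsSp N) : IsSp (M * N) := by
  unfold IsSp at *
  rw [Matrix.transpose_mul]
  calc N.transpose * M.transpose * Wm * (M * N)
      = N.transpose * (M.transpose * Wm * M) * N := by simp only [Matrix.mul_assoc]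
    _ = Wm := by rw [hM, hN]

theorem isSp_W : IsSp (Wm : Matrix (Fin 4) (Fin 4) F) := by
  unfold IsSp
  ext i j
  fin_cases i <;> fin_cases j <;>
    simp [Wm, Matrix.mul_apply, Fin.sum_univ_four, Matrix.transpose_apply]

theorem isSp_T (hF : Fintype.card F = 2 ^ (2 * m + 1)) (a b : F) : IsSp (Tm m a b) := by
  have h2 := two_eq_zero hF
  unfold IsSp
  ext i j
  fin_cases i <;> fin_cases j <;>
    simp [Tm, Wm, Matrix.mul_apply, Fin.sum_univ_four, Matrix.transpose_apply]
  all_goals first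
    | linear_combination a * h2
    | linear_combination a ^ sg m * h2
    | linear_combination (b + a ^ sg m * a) * h2
    | linear_combination (f m a b + a * b) * h2

theorem isSp_D (k : Fˣ) : IsSp (Matrix.diagonal (dvec m k)) := by
  unfold IsSp
  ext i j
  fin_cases i <;> fin_cases j <;>
    simp [Wm, Matrix.mul_apply, Fin.sum_univ_four, Matrix.transpose_apply, Matrix.diagonal, dvec]

theorem isSp_of_mem (hF : Fintype.card F = 2 ^ (2 * m + 1)) (hm : 1 ≤ m)
    {g : SpecialLinearGroup (Fin 4) F} (hg : g ∈ Cfsg.Sz F m) : IsSp g.1 := by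
  rcases decomp hF hm hg with ⟨a, b, k, rfl⟩ | ⟨a, b, a', b', k, rfl⟩
  · exact (isSp_T hF a b).mul (isSp_D k)
  · exact ((isSp_T hF a b).mul isSp_W).mul ((isSp_T hF a' b').mul (isSp_D k))

theorem symplectic (hF : Fintype.card F = 2 ^ (2 * m + 1)) (hm : 1 ≤ m)
    {g : SpecialLinearGroup (Fin 4) F} (hg : g ∈ Cfsg.Sz F m) :
    (g : Matrix (Fin 4) (Fin 4) F).transpose * Cfsg.suzukiForm F * (g : Matrix (Fin 4) (Fin 4) F) =
      Cfsg.suzukiForm F :=
  isSp_of_mem hF hm hg

end Cfsg.Agent.Helper2.SzO
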