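import Mathlib
import Cfsg.Agent.Helper2.SzSymp
import Cfsg.Agent.Helper10.Crit19

/-! The Suzuki group is a Zassenhaus group on the ovoid. -/

set_option autoImplicit false
set_option linter.unusedSectionVars false
set_option linter.unusedVariables false

namespace Cfsg.Agent.Helper2.SzO

open Matrix

variable {F : Type*} [Field F] [Fintype F] {m : ℕ}

/-- multiplication of translations -/
theorem T_mul (hF : Fintype.card F = 2 ^ (2 * m + 1)) (a b a' b' : F) :
    T m a b * T m a' b' = T m (a + a') (b + b' + a ^ sg m * a') := by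
  have h2 := two_eq_zero hF
  apply Subtype.ext
  change Tm m a b * Tm m a' b' = Tm m (a + a') (b + b' + a ^ sg m * a')
  have hf := f_trans hF a b a' b'
  ext i j
  fin_cases i <;> fin_cases j <;>
    simp [Tm, Matrix.mul_apply, Fin.sum_univ_four, add_pow_sg hF]
  all_goals first
    | ring1
    | linear_combination (-(a ^ sg m * a')) * h2
    | (rw [← hf]; congr 1 <;> ring1)

theorem T_zero_zero : T m (0 : F) 0 = 1 := by
  apply Subtype.ext
  change Tm m 0 0 = 1
  ext i j
  fin_cases i <;> fin_cases j <;> simp [Tm, f_zero_zero, sg_ne_zero]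

theorem T_injective {a b a' b' : F} (h : T m a b = T m a' b') : a = a' ∧ b = b' := by
  have h1 := congrArg (fun g : SpecialLinearGroup (Fin 4) F => g.1 2 3) h
  have h2 := congrArg (fun g : SpecialLinearGroup (Fin 4) F => g.1 1 3) h
  simp [T, Tm] at h1 h2
  exact ⟨h1, h2⟩

/-! ### The action on the ovoid -/


/-- the point at infinity in the ovoid -/
def infO : Cfsg.suzukiOvoid F m := ⟨infP, infP_mem⟩

/-- affine points in the ovoid -/
def ptO (x y : F) : Cfsg.suzukiOvoid F m := ⟨ptP m x y, ptP_mem x y⟩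

theorem smul_val (g : Cfsg.Sz F m) (ω : Cfsg.suzukiOvoid F m) :
    ((g • ω : Cfsg.suzukiOvoid F m) : Projectivization F (Fin 4 → F)) =
      (g : SpecialLinearGroup (Fin 4) F) • (ω : Projectivization F (Fin 4 → F)) := rfl

theorem ovoid_cases (ω : Cfsg.suzukiOvoid F m) : ω = infO ∨ ∃ x y : F, ω = ptO x y := by
  rcases mem_ovoid_iff.mp ω.2 with h | ⟨x, y, h⟩
  · left; exact Subtype.ext h
  · right; exact ⟨x, y, Subtype.ext h⟩

theorem infO_ne_ptO (x y : F) : (infO : Cfsg.suzukiOvoid F m) ≠ ptO x y := by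
  intro h
  exact infP_ne_ptP x y (congrArg Subtype.val h)

theorem ptO_injective {x y x' y' : F} (h : (ptO x y : Cfsg.suzukiOvoid F m) = ptO x' y') :
    x = x' ∧ y = y' :=
  ptP_injective (congrArg Subtype.val h)

theorem Tz_smul_ptO (hF : Fintype.card F = 2 ^ (2 * m + 1)) (a b x y : F) :
    Tz hF a b • (ptO x y : Cfsg.suzukiOvoid F m) = ptO (x + a) (y + b + a ^ sg m * x) := by
  apply Subtype.ext
  rw [smul_val]
  exact T_smul_ptP hF a b x y

theorem Tz_smul_infO (hF : Fintype.card F = 2 ^ (2 * m + 1)) (a b : F) :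
    Tz hF a b • (infO : Cfsg.suzukiOvoid F m) = infO := by
  apply Subtype.ext
  rw [smul_val]
  exact T_smul_infP a b

theorem Wz_smul_infO (hF : Fintype.card F = 2 ^ (2 * m + 1)) :
    Wz hF • (infO : Cfsg.suzukiOvoid F m) = ptO 0 0 := by
  apply Subtype.ext
  rw [smul_val]
  exact W_smul_infP

/-- move a pair of distinct points to `(∞, 0)` -/
theorem exists_move (hF : Fintype.card F = 2 ^ (2 * m + 1)) {a b : Cfsg.suzukiOvoid F m}
    (hab : a ≠ b) : ∃ h : Cfsg.Sz F m, h • a = infO ∧ h • b = ptO 0 0 := by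
  -- first move `a` to `∞`
  obtain ⟨h1, h1a⟩ : ∃ h1 : Cfsg.Sz F m, h1 • a = infO := by
    rcases ovoid_cases a with rfl | ⟨x, y, rfl⟩
    · exact ⟨1, one_smul _ _⟩
    · refine ⟨(Tz hF x y * Wz hF)⁻¹, ?_⟩
      rw [inv_smul_eq_iff, mul_smul, Wz_smul_infO, Tz_smul_ptO]
      simp
  have hb : h1 • b ≠ infO := by
    rw [← h1a]
    intro h
    exact hab (MulAction.injective h1 h).symm
  rcases ovoid_cases (h1 • b) with h | ⟨x, y, h⟩
  · exact absurd h hb
  · refine ⟨(Tz hF x y)⁻¹ * h1, ?_, ?_⟩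
    · rw [mul_smul, h1a, inv_smul_eq_iff, Tz_smul_infO]
    · rw [mul_smul, h, inv_smul_eq_iff, Tz_smul_ptO]
      simp

theorem two_pretransitive (hF : Fintype.card F = 2 ^ (2 * m + 1)) :
    MulAction.IsMultiplyPretransitive (Cfsg.Sz F m) (Cfsg.suzukiOvoid F m) 2 := by
  rw [MulAction.is_two_pretransitive_iff]
  intro a b c d hab hcd
  obtain ⟨h1, h1a, h1b⟩ := exists_move hF hab
  obtain ⟨h2, h2c, h2d⟩ := exists_move hF hcd
  refine ⟨h2⁻¹ * h1, ?_, ?_⟩
  · rw [mul_smul, h1a, inv_smul_eq_iff, h2c]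
  · rw [mul_smul, h1b, inv_smul_eq_iff, h2d]

/-- an element fixing `∞`, `0` and a third point is trivial -/
theorem eq_one_of_fix_std (hF : Fintype.card F = 2 ^ (2 * m + 1)) (hm : 1 ≤ m)
    (g : Cfsg.Sz F m) (h1 : g • (infO : Cfsg.suzukiOvoid F m) = infO)
    (h2 : g • (ptO 0 0 : Cfsg.suzukiOvoid F m) = ptO 0 0) {x y : F} (hxy : ¬ (x = 0 ∧ y = 0))
    (h3 : g • (ptO x y : Cfsg.suzukiOvoid F m) = ptO x y) : g = 1 := by
  have hs : sg m ≠ 0 := sg_ne_zero
  obtain ⟨g, hg⟩ := g
  have h1' : g • (infP : Projectivization F (Fin 4 → F)) = infP := congrArg Subtype.val h1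
  have h2' : g • ptP m (0 : F) 0 = ptP m 0 0 := congrArg Subtype.val h2
  have h3' : g • ptP m x y = ptP m x y := congrArg Subtype.val h3
  obtain ⟨k, rfl⟩ := eq_D_of_fix hF hm hg h1' h2'
  rw [D_smul_ptP hF] at h3'
  obtain ⟨e1, e2⟩ := ptP_injective h3'
  have hk : k = 1 := by
    by_cases hx : x = 0
    · have hy : y ≠ 0 := fun hy => hxy ⟨hx, hy⟩
      have e3 : (k : F) ^ (sg m + 1) = 1 := by
        have : ((k : F) ^ (sg m + 1) - 1) * y = 0 := by linear_combination e2
        rcases mul_eq_zero.mp this with h | h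
        · exact sub_eq_zero.mp h
        · exact absurd h hy
      -- `k^σ = k⁻¹`, so `k² = (k^σ)^σ = k`
      have e4 : (k : F) ^ sg m * k = 1 := by rw [← pow_succ]; exact e3
      have e5 := congrArg (fun z => z ^ sg m) e4
      simp only [mul_pow, pow_sg_pow_sg hF, one_pow] at e5
      have hk0 : (k : F) ≠ 0 := k.ne_zero
      have e6 : (k : F) = 1 := by
        have : (k : F) * ((k : F) ^ sg m * k) = (k : F) ^ 2 * (k : F) ^ sg m := by ring
        rw [e4, e5, mul_one] at this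
        exact this
      exact Units.ext e6
    · have : ((k : F) - 1) * x = 0 := by linear_combination e1
      rcases mul_eq_zero.mp this with h | h
      · exact Units.ext (sub_eq_zero.mp h)
      · exact absurd h hx
  subst hk
  apply Subtype.ext
  exact D_one

theorem faithful (hF : Fintype.card F = 2 ^ (2 * m + 1)) (hm : 1 ≤ m) :
    FaithfulSMul (Cfsg.Sz F m) (Cfsg.suzukiOvoid F m) := by
  constructor
  intro g1 g2 h
  have h' : ∀ ω : Cfsg.suzukiOvoid F m, (g2⁻¹ * g1) • ω = ω := by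
    intro ω
    rw [mul_smul, h ω, inv_smul_smul]
  have := eq_one_of_fix_std hF hm (g2⁻¹ * g1) (h' _) (h' _) (x := 1) (y := 0)
    (by simp) (h' _)
  exact (inv_mul_eq_one.mp this).symm

theorem three_point (hF : Fintype.card F = 2 ^ (2 * m + 1)) (hm : 1 ≤ m)
    (g : Cfsg.Sz F m) (a b c : Cfsg.suzukiOvoid F m) (hab : a ≠ b) (hbc : b ≠ c) (hac : a ≠ c)
    (ha : g • a = a) (hb : g • b = b) (hc : g • c = c) : g = 1 := by
  obtain ⟨h, h1, h2⟩ := exists_move hF hab
  have fix : ∀ ω : Cfsg.suzukiOvoid F m, g • ω = ω → (h * g * h⁻¹) • (h • ω) = h • ω := by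
    intro ω hω
    rw [mul_smul, mul_smul, inv_smul_smul, hω]
  have f1 := fix a ha
  have f2 := fix b hb
  have f3 := fix c hc
  rw [h1] at f1
  rw [h2] at f2
  rcases ovoid_cases (h • c) with e | ⟨x, y, e⟩
  · exfalso
    rw [← h1] at e
    exact hac (MulAction.injective h e).symm
  · have hxy : ¬ (x = 0 ∧ y = 0) := by
      rintro ⟨rfl, rfl⟩
      rw [← h2] at e
      exact hbc (MulAction.injective h e).symm
    rw [e] at f3
    have := eq_one_of_fix_std hF hm (h * g * h⁻¹) f1 f2 hxy f3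
    have h3 : h * g = h := by
      have := congrArg (· * h) this
      simpa using this
    exact mul_left_cancel (a := h) (by rw [h3, mul_one])

theorem card_ge_eight (hF : Fintype.card F = 2 ^ (2 * m + 1)) (hm : 1 ≤ m) :
    8 ≤ Fintype.card F := by
  rw [hF]
  calc 8 = 2 ^ 3 := by norm_num
    _ ≤ 2 ^ (2 * m + 1) := Nat.pow_le_pow_right (by norm_num) (by omega)

theorem exists_fix_two (hF : Fintype.card F = 2 ^ (2 * m + 1)) (hm : 1 ≤ m) :
    ∃ g : Cfsg.Sz F m, g ≠ 1 ∧ ∃ a b : Cfsg.suzukiOvoid F m, a ≠ b ∧ g • a = a ∧ g • b = b := by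
  classical
  have h8 := card_ge_eight hF hm
  have hcard : 1 < Fintype.card Fˣ := by
    rw [Fintype.card_units]; omega
  obtain ⟨k, hk⟩ := Fintype.exists_ne_of_one_lt_card hcard (1 : Fˣ)
  refine ⟨⟨D m k, D_mem hF k⟩, ?_, infO, ptO 0 0, infO_ne_ptO 0 0, ?_, ?_⟩
  · intro h
    have h' : D m k = D m 1 := by
      rw [D_one]; exact congrArg Subtype.val h
    exact hk (D_injective h')
  · apply Subtype.ext
    rw [smul_val]
    exact D_smul_infP k
  · apply Subtype.ext
    rw [smul_val]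
    change D m k • ptP m (0 : F) 0 = ptP m 0 0
    rw [D_smul_ptP hF]
    simp

theorem Tz_zero_mul_self (hF : Fintype.card F = 2 ^ (2 * m + 1)) (c : F) :
    Tz hF 0 c * Tz hF 0 c = 1 := by
  have h2 := two_eq_zero hF
  apply Subtype.ext
  change T m 0 c * T m 0 c = 1
  rw [T_mul hF, ← T_zero_zero]
  congr 1
  · ring
  · simp [sg_ne_zero]; linear_combination c * h2

theorem Tz_zero_mul (hF : Fintype.card F = 2 ^ (2 * m + 1)) (c d : F) :
    Tz hF 0 c * Tz hF 0 d = Tz hF 0 (c + d) := by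
  apply Subtype.ext
  change T m 0 c * T m 0 d = T m 0 (c + d)
  rw [T_mul hF]
  congr 1
  · ring
  · simp [sg_ne_zero]

theorem no_regular_normal (hF : Fintype.card F = 2 ^ (2 * m + 1)) (hm : 1 ≤ m)
    (N : Subgroup (Cfsg.Sz F m)) (hN : N.Normal)
    (htr : MulAction.IsPretransitive N (Cfsg.suzukiOvoid F m)) :
    ∃ a : Cfsg.suzukiOvoid F m, MulAction.stabilizer N a ≠ ⊥ := by
  by_contra hcon
  push Not at hcon
  have h8 := card_ge_eight hF hm
  have : Finite (Cfsg.Sz F m) := inferInstance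
  -- fixed-point-freeness
  have fpf : ∀ c : F, c ≠ 0 → ∀ n ∈ N, Tz hF 0 c * n * (Tz hF 0 c)⁻¹ = n → n = 1 := by
    intro c hc n hn hcomm
    have hcomm' : Tz hF 0 c * n = n * Tz hF 0 c := by
      have := congrArg (· * Tz hF 0 c) hcomm
      simpa using this
    have hfix : Tz hF 0 c • (n • (infO : Cfsg.suzukiOvoid F m)) = n • infO := by
      rw [← mul_smul, hcomm', mul_smul, Tz_smul_infO]
    rcases ovoid_cases (n • (infO : Cfsg.suzukiOvoid F m)) with e | ⟨x, y, e⟩
    · have hmem : (⟨n, hn⟩ : N) ∈ MulAction.stabilizer N (infO : Cfsg.suzukiOvoid F m) := by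
        rw [MulAction.mem_stabilizer_iff]
        exact e
      rw [hcon] at hmem
      have := Subgroup.mem_bot.mp hmem
      exact congrArg Subtype.val this
    · exfalso
      rw [e, Tz_smul_ptO] at hfix
      obtain ⟨-, e2⟩ := ptO_injective hfix
      apply hc
      simp [sg_ne_zero] at e2
      exact e2
  have inv : ∀ c : F, c ≠ 0 → ∀ n ∈ N, Tz hF 0 c * n * (Tz hF 0 c)⁻¹ = n⁻¹ := by
    intro c hc
    exact Cfsg.Agent.Helper10.conj_eq_inv_of_fpf (Tz_zero_mul_self hF c) (fpf c hc)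
  -- choose `b ≠ 0, 1`
  obtain ⟨b, hb0, hb1⟩ : ∃ b : F, b ≠ 0 ∧ b ≠ 1 := by
    by_contra hne
    push Not at hne
    have : Fintype.card F ≤ 2 := by
      classical
      calc Fintype.card F = (Finset.univ : Finset F).card := rfl
        _ ≤ ({0, 1} : Finset F).card := by
            apply Finset.card_le_card
            intro x _
            by_cases hx : x = 0
            · simp [hx]
            · simp [hne x hx]
        _ ≤ 2 := Finset.card_le_two
    omega
  have hb2 : (1 : F) + b ≠ 0 := by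
    intro h
    apply hb1
    have h2 := two_eq_zero hF
    linear_combination h - h2
  -- an element of `N` moving `∞` to `0`
  obtain ⟨n, hn⟩ := htr.exists_smul_eq (infO : Cfsg.suzukiOvoid F m) (ptO 0 0)
  have hn' : (n : Cfsg.Sz F m) • (infO : Cfsg.suzukiOvoid F m) = ptO 0 0 := hn
  have h3 : Tz hF 0 (1 + b) * n * (Tz hF 0 (1 + b))⁻¹ = n := by
    rw [← Tz_zero_mul hF 1 b]
    have e1 := inv b hb0 n n.2
    have e2 := inv 1 one_ne_zero (n : Cfsg.Sz F m)⁻¹ (N.inv_mem n.2)
    calc Tz hF 0 1 * Tz hF 0 b * ↑n * (Tz hF 0 1 * Tz hF 0 b)⁻¹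
        = Tz hF 0 1 * (Tz hF 0 b * ↑n * (Tz hF 0 b)⁻¹) * (Tz hF 0 1)⁻¹ := by group
      _ = n := by rw [e1, e2, inv_inv]
  have h4 := fpf (1 + b) hb2 n n.2 h3
  rw [h4, one_smul] at hn'
  exact infO_ne_ptO 0 0 hn'

theorem isZassenhaus (hF : Fintype.card F = 2 ^ (2 * m + 1)) (hm : 1 ≤ m) :
    Cfsg.IsZassenhausGroup (Cfsg.Sz F m) (Cfsg.suzukiOvoid F m) :=
  ⟨faithful hF hm, two_pretransitive hF, three_point hF hm, exists_fix_two hF hm,
    no_regular_normal hF hm⟩

end Cfsg.Agent.Helper2.SzO
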