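import Mathlib
import Cfsg.Agent.Helper2.SzZass

/-! The Sylow 2-subgroup `Q = {T a b}` of the Suzuki group. -/

set_option autoImplicit false
set_option linter.unusedSectionVars false
set_option linter.unusedVariables false

namespace Cfsg.Agent.Helper2.SzO

open Matrix

variable {F : Type*} [Field F] [Fintype F] {m : ℕ}

theorem T_inv (hF : Fintype.card F = 2 ^ (2 * m + 1)) (a b : F) :
    (T m a b)⁻¹ = T m a (b + a ^ sg m * a) := by
  have h2 := two_eq_zero hF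
  apply inv_eq_of_mul_eq_one_right
  rw [T_mul hF, ← T_zero_zero]
  congr 1
  · linear_combination a * h2
  · linear_combination (b + a ^ sg m * a) * h2

theorem T_mul_central (hF : Fintype.card F = 2 ^ (2 * m + 1)) (a b c : F) :
    T m a b * T m 0 c = T m a (b + c) := by
  rw [T_mul hF]; congr 1 <;> ring

theorem T_central_mul (hF : Fintype.card F = 2 ^ (2 * m + 1)) (a b c : F) :
    T m 0 c * T m a b = T m a (c + b) := by
  rw [T_mul hF]; congr 1
  · ring
  · simp [sg_ne_zero]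

/-- `k ↦ k^(σ+1)` has trivial kernel on `F^×` -/
theorem eq_one_of_pow_sg_succ (hF : Fintype.card F = 2 ^ (2 * m + 1)) {k : Fˣ}
    (h : k ^ (sg m + 1) = 1) : k = 1 := by
  have e3 : (k : F) ^ (sg m + 1) = 1 := by
    have := congrArg Units.val h
    simpa using this
  have e4 : (k : F) ^ sg m * k = 1 := by rw [← pow_succ]; exact e3
  have e5 := congrArg (fun z => z ^ sg m) e4
  simp only [mul_pow, pow_sg_pow_sg hF, one_pow] at e5
  have hk0 : (k : F) ≠ 0 := k.ne_zero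
  have e6 : (k : F) = 1 := by
    have : (k : F) * ((k : F) ^ sg m * k) = (k : F) ^ 2 * (k : F) ^ sg m := by ring
    rw [e4, e5, mul_one] at this
    exact this
  exact Units.ext e6

theorem exists_pow_sg_succ (hF : Fintype.card F = 2 ^ (2 * m + 1)) (c : Fˣ) :
    ∃ k : Fˣ, k ^ (sg m + 1) = c := by
  classical
  have hinj : Function.Injective (powMonoidHom (sg m + 1) : Fˣ →* Fˣ) := by
    rw [injective_iff_map_eq_one]
    intro k hk
    exact eq_one_of_pow_sg_succ hF hk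
  exact (Finite.injective_iff_surjective.mp hinj) c

theorem D_mul_T (hF : Fintype.card F = 2 ^ (2 * m + 1)) (k : Fˣ) (a b : F) :
    D m k * T m a b = T m ((k : F) * a) ((k : F) ^ (sg m + 1) * b) * D m k := by
  have hk : (k : F) ≠ 0 := k.ne_zero
  apply Subtype.ext
  change Matrix.diagonal (dvec m k) * Tm m a b =
    Tm m ((k : F) * a) ((k : F) ^ (sg m + 1) * b) * Matrix.diagonal (dvec m k)
  have hf := f_scale hF (k : F) a b
  ext i j
  rw [Matrix.diagonal_mul, Matrix.mul_diagonal]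
  fin_cases i <;> fin_cases j <;> simp [Tm, dvec, hf, mul_pow]
  all_goals generalize f m a b = z
  all_goals try simp only [sg_eq]
  all_goals field_simp
  all_goals ring1

/-- `D k` as an element of the Suzuki group -/
def Dz (hF : Fintype.card F = 2 ^ (2 * m + 1)) (k : Fˣ) : Cfsg.Sz F m := ⟨D m k, D_mem hF k⟩

theorem Dz_mul_Tz (hF : Fintype.card F = 2 ^ (2 * m + 1)) (k : Fˣ) (a b : F) :
    Dz hF k * Tz hF a b * (Dz hF k)⁻¹ = Tz hF ((k : F) * a) ((k : F) ^ (sg m + 1) * b) := by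
  rw [mul_inv_eq_iff_eq_mul]
  apply Subtype.ext
  exact D_mul_T hF k a b

theorem Tz_mul (hF : Fintype.card F = 2 ^ (2 * m + 1)) (a b a' b' : F) :
    Tz hF a b * Tz hF a' b' = Tz hF (a + a') (b + b' + a ^ sg m * a') :=
  Subtype.ext (T_mul hF a b a' b')

theorem Tz_inv (hF : Fintype.card F = 2 ^ (2 * m + 1)) (a b : F) :
    (Tz hF a b)⁻¹ = Tz hF a (b + a ^ sg m * a) :=
  Subtype.ext (T_inv hF a b)

theorem Tz_one (hF : Fintype.card F = 2 ^ (2 * m + 1)) : Tz hF (0 : F) 0 = 1 :=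
  Subtype.ext T_zero_zero

theorem Tz_injective (hF : Fintype.card F = 2 ^ (2 * m + 1)) {a b a' b' : F}
    (h : Tz hF a b = Tz hF a' b') : a = a' ∧ b = b' :=
  T_injective (congrArg Subtype.val h)

/-- the subgroup of translations -/
def Qz (hF : Fintype.card F = 2 ^ (2 * m + 1)) : Subgroup (Cfsg.Sz F m) where
  carrier := {g | ∃ a b : F, g = Tz hF a b}
  one_mem' := ⟨0, 0, (Tz_one hF).symm⟩
  mul_mem' := by
    rintro _ _ ⟨a, b, rfl⟩ ⟨a', b', rfl⟩
    exact ⟨_, _, Tz_mul hF a b a' b'⟩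
  inv_mem' := by
    rintro _ ⟨a, b, rfl⟩
    exact ⟨_, _, Tz_inv hF a b⟩

theorem Tz_mem_Qz (hF : Fintype.card F = 2 ^ (2 * m + 1)) (a b : F) : Tz hF a b ∈ Qz hF :=
  ⟨a, b, rfl⟩

theorem card_Qz (hF : Fintype.card F = 2 ^ (2 * m + 1)) :
    Nat.card (Qz hF) = (2 ^ (2 * m + 1)) ^ 2 := by
  have e : F × F ≃ Qz hF := by
    refine Equiv.ofBijective (fun ab => ⟨Tz hF ab.1 ab.2, Tz_mem_Qz hF _ _⟩) ⟨?_, ?_⟩
    · rintro ⟨a, b⟩ ⟨a', b'⟩ h
      obtain ⟨rfl, rfl⟩ := Tz_injective hF (congrArg Subtype.val h)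
      rfl
    · rintro ⟨_, a, b, rfl⟩
      exact ⟨(a, b), rfl⟩
  rw [← Nat.card_congr e, Nat.card_eq_fintype_card, Fintype.card_prod, hF, sq]

theorem card_Qz_eq_pow (hF : Fintype.card F = 2 ^ (2 * m + 1)) (hm : 1 ≤ m) :
    Nat.card (Qz hF) = 2 ^ (Nat.card (Cfsg.Sz F m)).factorization 2 := by
  rw [card_Qz, card_Sz hF hm]
  set q := 2 ^ (2 * m + 1) with hq
  have hq2 : 2 ≤ q := by
    rw [hq]; calc 2 = 2 ^ 1 := by norm_num
      _ ≤ 2 ^ (2 * m + 1) := Nat.pow_le_pow_right (by norm_num) (by omega)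
  have hqe : Even q := by rw [hq, pow_succ]; exact even_two.mul_left _
  have hodd1 : ¬ 2 ∣ q ^ 2 + 1 := by
    obtain ⟨t, ht⟩ := hqe
    have : q ^ 2 = 2 * (2 * t * t) := by rw [ht]; ring
    omega
  have hodd2 : ¬ 2 ∣ q - 1 := by
    obtain ⟨t, ht⟩ := hqe
    omega
  have h1 : q ^ 2 ≠ 0 := by positivity
  have h2 : q ^ 2 + 1 ≠ 0 := by positivity
  have h3 : q - 1 ≠ 0 := by omega
  rw [Nat.factorization_mul (mul_ne_zero h1 h2) h3, Nat.factorization_mul h1 h2,
    Finsupp.add_apply, Finsupp.add_apply, Nat.factorization_eq_zero_of_not_dvd hodd1,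
    Nat.factorization_eq_zero_of_not_dvd hodd2, add_zero, add_zero, hq, ← pow_mul,
    Nat.Prime.factorization_pow Nat.prime_two, Finsupp.single_eq_same]

/-- `Q` as a Sylow 2-subgroup -/
noncomputable def QSylow (hF : Fintype.card F = 2 ^ (2 * m + 1)) (hm : 1 ≤ m) :
    Sylow 2 (Cfsg.Sz F m) :=
  Sylow.ofCard (Qz hF) (card_Qz_eq_pow hF hm)

theorem QSylow_coe (hF : Fintype.card F = 2 ^ (2 * m + 1)) (hm : 1 ≤ m) :
    ((QSylow hF hm : Sylow 2 (Cfsg.Sz F m)) : Subgroup (Cfsg.Sz F m)) = Qz hF := rfl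

end Cfsg.Agent.Helper2.SzO
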