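import Mathlib
import Cfsg.Agent.Helper2.SzQ

/-! Simplicity of the Suzuki group. -/

set_option autoImplicit false
set_option linter.unusedSectionVars false
set_option linter.unusedVariables false

namespace Cfsg.Agent.Helper2.SzO

open Matrix
open scoped Pointwise commutatorElement

variable {F : Type*} [Field F] [Fintype F] {m : ℕ}

theorem mem_smul_sylow {G : Type*} [Group G] {p : ℕ} (P0 : Sylow p G) (g h : G) :
    h ∈ g • P0 ↔ g⁻¹ * h * g ∈ P0 := by
  show h ∈ MulAut.conj g • (P0 : Subgroup G) ↔ g⁻¹ * h * g ∈ (P0 : Subgroup G)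
  rw [Subgroup.mem_pointwise_smul_iff_inv_smul_mem]
  simp [MulAut.smul_def]

/-- the normal closure of `Q` -/
def G0 (hF : Fintype.card F = 2 ^ (2 * m + 1)) : Subgroup (Cfsg.Sz F m) :=
  Subgroup.normalClosure (Qz hF : Set (Cfsg.Sz F m))

instance (hF : Fintype.card F = 2 ^ (2 * m + 1)) : (G0 (m := m) hF).Normal :=
  Subgroup.normalClosure_normal

theorem Qz_le_G0 (hF : Fintype.card F = 2 ^ (2 * m + 1)) : Qz hF ≤ G0 (m := m) hF :=
  Subgroup.subset_normalClosure

theorem Wz_mul_Wz (hF : Fintype.card F = 2 ^ (2 * m + 1)) : Wz (m := m) hF * Wz hF = 1 :=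
  Subtype.ext W_mul_W

theorem Wz_inv (hF : Fintype.card F = 2 ^ (2 * m + 1)) : (Wz (m := m) hF)⁻¹ = Wz hF :=
  inv_eq_of_mul_eq_one_left (Wz_mul_Wz hF)

theorem Wz_ne_one (hF : Fintype.card F = 2 ^ (2 * m + 1)) : Wz (m := m) hF ≠ 1 := by
  intro h
  have h1 : Wz hF • (infO : Cfsg.suzukiOvoid F m) = infO := by rw [h, one_smul]
  rw [Wz_smul_infO] at h1
  exact infO_ne_ptO 0 0 h1.symm

theorem Wz_mem_G0 (hF : Fintype.card F = 2 ^ (2 * m + 1)) (hm : 1 ≤ m) :
    Wz hF ∈ G0 (m := m) hF := by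
  have hP : IsPGroup 2 (Subgroup.zpowers (Wz (m := m) hF)) := by
    apply IsPGroup.of_card (n := 1)
    rw [Nat.card_zpowers, pow_one]
    exact orderOf_eq_prime (by rw [pow_two]; exact Wz_mul_Wz hF) (Wz_ne_one hF)
  obtain ⟨P, hP'⟩ := hP.exists_le_sylow
  obtain ⟨g, hg⟩ := MulAction.exists_smul_eq (Cfsg.Sz F m) (QSylow hF hm) P
  have hW : Wz hF ∈ g • QSylow hF hm := by
    rw [hg]; exact hP' (Subgroup.mem_zpowers _)
  rw [mem_smul_sylow] at hW
  have hW' : g⁻¹ * Wz hF * g ∈ G0 (m := m) hF := Qz_le_G0 hF hW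
  have := (inferInstance : (G0 (m := m) hF).Normal).conj_mem _ hW' g
  have e : g * (g⁻¹ * Wz hF * g) * g⁻¹ = Wz hF := by group
  rw [e] at this
  exact this

theorem diagonal_eq (d : Fin 4 → F) : Matrix.diagonal d =
    !![d 0, 0, 0, 0; 0, d 1, 0, 0; 0, 0, d 2, 0; 0, 0, 0, d 3] := by
  ext i j
  fin_cases i <;> fin_cases j <;> simp [Matrix.diagonal]

theorem W_mul_D_mul_W (k : Fˣ) : (W : SpecialLinearGroup (Fin 4) F) * D m k * W = D m k⁻¹ := by
  apply Subtype.ext
  change (Wm * Matrix.diagonal (dvec m k) * Wm : Matrix (Fin 4) (Fin 4) F) =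
    Matrix.diagonal (dvec m k⁻¹)
  rw [diagonal_eq, diagonal_eq]
  ext i j
  fin_cases i <;> fin_cases j <;>
    simp [Wm, Matrix.mul_apply, Fin.sum_univ_four, dvec]

theorem Dz_inv (hF : Fintype.card F = 2 ^ (2 * m + 1)) (k : Fˣ) :
    (Dz (m := m) hF k)⁻¹ = Dz hF k⁻¹ := by
  apply Subtype.ext
  change (D m k)⁻¹ = D m k⁻¹
  apply inv_eq_of_mul_eq_one_right
  rw [← D_mul, mul_inv_cancel, D_one]

theorem Dz_mul (hF : Fintype.card F = 2 ^ (2 * m + 1)) (k l : Fˣ) :
    Dz (m := m) hF (k * l) = Dz hF k * Dz hF l :=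
  Subtype.ext (D_mul k l)

theorem Dz_mem_G0 (hF : Fintype.card F = 2 ^ (2 * m + 1)) (hm : 1 ≤ m) (k : Fˣ) :
    Dz hF k ∈ G0 (m := m) hF := by
  have hnorm : (G0 (m := m) hF).Normal := inferInstance
  -- `k` is a square
  obtain ⟨l, rfl⟩ : ∃ l : Fˣ, l * l = k := by
    have h2 := two_eq_zero hF
    have hinj : Function.Injective (powMonoidHom 2 : Fˣ →* Fˣ) := by
      rw [injective_iff_map_eq_one]
      intro x hx
      have hx' : (x : F) ^ 2 = 1 := by
        have := congrArg Units.val hx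
        simpa using this
      exact Units.ext (sq_eq_one_char_two h2 hx')
    obtain ⟨l, hl⟩ := (Finite.injective_iff_surjective.mp hinj) k
    exact ⟨l, by rw [← hl]; simp [pow_two]⟩
  have hWD : Wz hF * Dz hF l * Wz hF = Dz hF l⁻¹ := Subtype.ext (W_mul_D_mul_W l)
  -- `x² = (x W x⁻¹) W⁻¹`
  have e : Dz (m := m) hF (l * l) = (Dz hF l * Wz hF * (Dz hF l)⁻¹) * Wz hF := by
    rw [Dz_mul, Dz_inv]
    have : Dz hF l⁻¹ = Wz hF * Dz hF l * Wz hF := hWD.symm
    rw [this]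
    have hw := Wz_mul_Wz (m := m) hF
    calc Dz hF l * Dz hF l = Dz hF l * (Wz hF * Wz hF) * Dz hF l * (Wz hF * Wz hF) := by
          rw [hw, mul_one, mul_one]
      _ = Dz hF l * Wz hF * (Wz hF * Dz hF l * Wz hF) * Wz hF := by group
  rw [e]
  exact Subgroup.mul_mem _ (hnorm.conj_mem _ (Wz_mem_G0 hF hm) _) (Wz_mem_G0 hF hm)

theorem G0_eq_top (hF : Fintype.card F = 2 ^ (2 * m + 1)) (hm : 1 ≤ m) :
    G0 (m := m) hF = ⊤ := by
  rw [eq_top_iff]
  rintro ⟨g, hg⟩ -
  have hT : ∀ a b, Tz hF a b ∈ G0 (m := m) hF := fun a b => Qz_le_G0 hF (Tz_mem_Qz hF a b)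
  rcases decomp hF hm hg with ⟨a, b, k, h⟩ | ⟨a, b, a', b', k, h⟩
  · have : (⟨g, hg⟩ : Cfsg.Sz F m) = Tz hF a b * Dz hF k := Subtype.ext h
    rw [this]
    exact Subgroup.mul_mem _ (hT a b) (Dz_mem_G0 hF hm k)
  · have : (⟨g, hg⟩ : Cfsg.Sz F m) = Tz hF a b * Wz hF * (Tz hF a' b' * Dz hF k) :=
      Subtype.ext h
    rw [this]
    exact Subgroup.mul_mem _ (Subgroup.mul_mem _ (hT a b) (Wz_mem_G0 hF hm))
      (Subgroup.mul_mem _ (hT a' b') (Dz_mem_G0 hF hm k))

/-! ### Perfectness -/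

theorem commutator_eq_of {G : Type*} [Group G] {x y z : G} (h : x * y = z * (y * x)) :
    ⁅x, y⁆ = z := by
  rw [commutatorElement_def]
  calc x * y * x⁻¹ * y⁻¹ = z * (y * x) * x⁻¹ * y⁻¹ := by rw [h]
    _ = z := by group

theorem exists_ne_zero_one (hF : Fintype.card F = 2 ^ (2 * m + 1)) (hm : 1 ≤ m) :
    ∃ b : F, b ≠ 0 ∧ b ≠ 1 := by
  have h8 := card_ge_eight hF hm
  by_contra hne
  push Not at hne
  have : Fintype.card F ≤ 2 := by
    classical
    calc Fintype.card F = (Finset.univ : Finset F).card := rfl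
      _ ≤ ({0, 1} : Finset F).card := by
          apply Finset.card_le_card
          intro x _
          by_cases hx : x = 0
          · simp [hx]
          · simp [hne x hx]
      _ ≤ 2 := Finset.card_le_two
  omega

theorem Tz_central_mem_commutator (hF : Fintype.card F = 2 ^ (2 * m + 1)) (hm : 1 ≤ m) (c : F) :
    Tz hF 0 c ∈ commutator (Cfsg.Sz F m) := by
  have h2 := two_eq_zero hF
  have hs : sg m ≠ 0 := sg_ne_zero
  obtain ⟨a₀, ha0, ha1⟩ := exists_ne_zero_one hF hm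
  have hc0 : a₀ ^ sg m + a₀ ≠ 0 := by
    intro h
    have h1 : a₀ ^ sg m = a₀ := by linear_combination h - a₀ * h2
    have h3 := congrArg (fun z => z ^ sg m) h1
    simp only [pow_sg_pow_sg hF] at h3
    rw [h1] at h3
    have : a₀ * (a₀ - 1) = 0 := by linear_combination h3
    rcases mul_eq_zero.mp this with h | h
    · exact ha0 h
    · exact ha1 (sub_eq_zero.mp h)
  have hbase : Tz hF 0 (a₀ ^ sg m + a₀) ∈ commutator (Cfsg.Sz F m) := by
    have e : ⁅Tz hF a₀ 0, Tz hF 1 0⁆ = Tz hF 0 (a₀ ^ sg m + a₀) := by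
      apply commutator_eq_of
      rw [Tz_mul, Tz_mul, Tz_mul]
      congr 1
      · simp [sg_ne_zero]; ring
      · simp [sg_ne_zero]
        linear_combination (-a₀) * h2
    rw [← e, commutator_def]
    exact Subgroup.commutator_mem_commutator (Subgroup.mem_top _) (Subgroup.mem_top _)
  by_cases hc : c = 0
  · subst hc; rw [Tz_one]; exact Subgroup.one_mem _
  · obtain ⟨k, hk⟩ := exists_pow_sg_succ hF (Units.mk0 c hc / Units.mk0 _ hc0)
    have hk' : (k : F) ^ (sg m + 1) * (a₀ ^ sg m + a₀) = c := by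
      have := congrArg Units.val hk
      simp only [Units.val_pow_eq_pow_val, Units.val_div_eq_div_val, Units.val_mk0] at this
      rw [this]; field_simp
    have hnorm : (commutator (Cfsg.Sz F m)).Normal := inferInstance
    have := hnorm.conj_mem _ hbase (Dz hF k)
    rw [Dz_mul_Tz, hk', mul_zero] at this
    exact this

theorem Qz_le_commutator (hF : Fintype.card F = 2 ^ (2 * m + 1)) (hm : 1 ≤ m) :
    Qz hF ≤ commutator (Cfsg.Sz F m) := by
  classical
  have h2 := two_eq_zero hF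
  rintro _ ⟨a, b, rfl⟩
  have h8 := card_ge_eight hF hm
  have hcard : 1 < Fintype.card Fˣ := by
    rw [Fintype.card_units]; omega
  obtain ⟨k, hk⟩ := Fintype.exists_ne_of_one_lt_card hcard (1 : Fˣ)
  have hk1 : (k : F) + 1 ≠ 0 := by
    intro h
    apply hk
    apply Units.ext
    rw [Units.val_one]
    linear_combination h - h2
  set a' := a / ((k : F) + 1) with ha'
  have e : ⁅Dz hF k, Tz hF a' 0⁆ =
      Tz hF a ((0 + a' ^ sg m * a') + ((k : F) * a') ^ sg m * a') := by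
    rw [commutatorElement_def, Dz_mul_Tz, Tz_inv, Tz_mul]
    congr 1
    · rw [ha']; field_simp
    · ring
  have h1 : Tz hF a ((0 + a' ^ sg m * a') + ((k : F) * a') ^ sg m * a') ∈
      commutator (Cfsg.Sz F m) := by
    rw [← e, commutator_def]
    exact Subgroup.commutator_mem_commutator (Subgroup.mem_top _) (Subgroup.mem_top _)
  set b₀ := (0 + a' ^ sg m * a') + ((k : F) * a') ^ sg m * a' with hb₀
  have e2 : Tz hF a b = Tz hF a b₀ * Tz hF 0 (b - b₀) := by
    apply Subtype.ext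
    change T m a b = T m a b₀ * T m 0 (b - b₀)
    rw [T_mul_central hF]
    congr 1; ring
  rw [e2]
  exact Subgroup.mul_mem _ h1 (Tz_central_mem_commutator hF hm _)

theorem commutator_eq_top (hF : Fintype.card F = 2 ^ (2 * m + 1)) (hm : 1 ≤ m) :
    commutator (Cfsg.Sz F m) = ⊤ := by
  rw [eq_top_iff, ← G0_eq_top hF hm]
  exact Subgroup.normalClosure_le_normal (Qz_le_commutator hF hm)

/-! ### Simplicity -/

/-- elements fixing `∞` normalise `Q` -/
theorem conj_mem_Qz_of_fix (hF : Fintype.card F = 2 ^ (2 * m + 1)) (hm : 1 ≤ m)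
    (h : Cfsg.Sz F m) (hfix : h • (infO : Cfsg.suzukiOvoid F m) = infO)
    {t : Cfsg.Sz F m} (ht : t ∈ Qz hF) : h * t * h⁻¹ ∈ Qz hF := by
  obtain ⟨h, hh⟩ := h
  have hfix' : h • (infP : Projectivization F (Fin 4 → F)) = infP := congrArg Subtype.val hfix
  obtain ⟨a, b, k, hk⟩ := decomp_fix_inf hF hm hh hfix'
  have e : (⟨h, hh⟩ : Cfsg.Sz F m) = Tz hF a b * Dz hF k := Subtype.ext hk
  obtain ⟨a', b', rfl⟩ := ht
  rw [e]
  have : Tz hF a b * Dz hF k * Tz hF a' b' * (Tz hF a b * Dz hF k)⁻¹ =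
      Tz hF a b * (Dz hF k * Tz hF a' b' * (Dz hF k)⁻¹) * (Tz hF a b)⁻¹ := by group
  rw [this, Dz_mul_Tz]
  exact Subgroup.mul_mem _ (Subgroup.mul_mem _ (Tz_mem_Qz hF _ _) (Tz_mem_Qz hF _ _))
    (Subgroup.inv_mem _ (Tz_mem_Qz hF _ _))

theorem isSimpleGroup (hF : Fintype.card F = 2 ^ (2 * m + 1)) (hm : 1 ≤ m) :
    IsSimpleGroup (Cfsg.Sz F m) := by
  have hfaith := faithful hF hm
  have h2t := two_pretransitive (m := m) hF
  have hprim : MulAction.IsPreprimitive (Cfsg.Sz F m) (Cfsg.suzukiOvoid F m) :=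
    MulAction.isPreprimitive_of_is_two_pretransitive h2t
  refine { exists_pair_ne := ⟨1, Wz hF, (Wz_ne_one hF).symm⟩, eq_bot_or_eq_top_of_normal := ?_ }
  intro N hN
  by_cases hbot : N = ⊥
  · exact Or.inl hbot
  right
  -- `N` is transitive
  have htr : MulAction.IsPretransitive N (Cfsg.suzukiOvoid F m) := by
    apply MulAction.IsQuasiPreprimitive.isPretransitive_of_normal
    intro huniv
    apply hbot
    rw [Subgroup.eq_bot_iff_forall]
    intro n hn
    apply hfaith.eq_of_smul_eq_smul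
    intro ω
    have : ω ∈ MulAction.fixedPoints N (Cfsg.suzukiOvoid F m) := by rw [huniv]; trivial
    rw [one_smul]
    exact this ⟨n, hn⟩
  -- conjugates of `Q` lie in `N ⊔ Q`
  have hsup : N ⊔ Qz hF = ⊤ := by
    rw [eq_top_iff, ← G0_eq_top hF hm]
    unfold G0 Subgroup.normalClosure
    rw [Subgroup.closure_le]
    intro x hx
    rw [Group.mem_conjugatesOfSet_iff] at hx
    obtain ⟨t, ht, hconj⟩ := hx
    rw [isConj_iff] at hconj
    obtain ⟨g, rfl⟩ := hconj
    obtain ⟨n, hn⟩ := htr.exists_smul_eq (infO : Cfsg.suzukiOvoid F m) (g • infO)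
    have hn' : (n : Cfsg.Sz F m) • (infO : Cfsg.suzukiOvoid F m) = g • infO := hn
    have hfix : ((n : Cfsg.Sz F m)⁻¹ * g) • (infO : Cfsg.suzukiOvoid F m) = infO := by
      rw [mul_smul, ← hn', inv_smul_smul]
    have hq := conj_mem_Qz_of_fix hF hm _ hfix ht
    have e : g * t * g⁻¹ =
        (n : Cfsg.Sz F m) * (((n : Cfsg.Sz F m)⁻¹ * g) * t * ((n : Cfsg.Sz F m)⁻¹ * g)⁻¹) *
          (n : Cfsg.Sz F m)⁻¹ := by group
    rw [SetLike.mem_coe, e]
    exact Subgroup.mul_mem _ (Subgroup.mul_mem _ (Subgroup.mem_sup_left n.2)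
      (Subgroup.mem_sup_right hq)) (Subgroup.mem_sup_left (N.inv_mem n.2))
  -- the quotient is a quotient of `Q`, hence solvable
  have hP : IsPGroup 2 (Qz hF) := IsPGroup.of_card (n := 2 * (2 * m + 1)) (by
    rw [card_Qz, ← pow_mul, mul_comm])
  have : Fact (Nat.Prime 2) := ⟨Nat.prime_two⟩
  have hnil : Group.IsNilpotent (Qz hF) := hP.isNilpotent
  have hsol : Group.IsSolvable (Qz hF) := inferInstance
  let φ : Qz hF →* (Cfsg.Sz F m) ⧸ N := (QuotientGroup.mk' N).comp (Qz hF).subtype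
  have hφ : Function.Surjective φ := by
    intro x
    obtain ⟨g, rfl⟩ := QuotientGroup.mk'_surjective N x
    have hg : g ∈ N ⊔ Qz hF := by rw [hsup]; trivial
    rw [sup_comm] at hg
    have hg' : g ∈ ((Qz hF ⊔ N : Subgroup (Cfsg.Sz F m)) : Set (Cfsg.Sz F m)) := hg
    rw [Subgroup.mul_normal] at hg'
    obtain ⟨t, ht, n, hn, rfl⟩ := hg'
    refine ⟨⟨t, ht⟩, ?_⟩
    change QuotientGroup.mk' N t = QuotientGroup.mk' N (t * n)
    rw [map_mul]
    have : QuotientGroup.mk' N n = 1 := (QuotientGroup.eq_one_iff n).mpr hn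
    rw [this, mul_one]
  have hsolq : Group.IsSolvable ((Cfsg.Sz F m) ⧸ N) := Group.isSolvable_of_surjective hφ
  have hperf : Group.IsPerfect (Cfsg.Sz F m) := Group.isPerfect_def.mpr (commutator_eq_top hF hm)
  have hperfq : Group.IsPerfect ((Cfsg.Sz F m) ⧸ N) := inferInstance
  have hsub : Subsingleton ((Cfsg.Sz F m) ⧸ N) := by
    by_contra hns
    rw [not_subsingleton_iff_nontrivial] at hns
    exact Group.IsPerfect.not_isSolvable _ hsolq
  exact QuotientGroup.subgroup_eq_top_of_subsingleton N hsub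

end Cfsg.Agent.Helper2.SzO
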