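import Mathlib
import Cfsg.Agent.Helper2.SzSimple

/-! Structure of the Sylow 2-subgroups of the Suzuki group. -/

set_option autoImplicit false
set_option linter.unusedSectionVars false
set_option linter.unusedVariables false

namespace Cfsg.Agent.Helper2.SzO

open Matrix
open scoped Pointwise commutatorElement

variable {F : Type*} [Field F] [Fintype F] {m : ℕ}

/-- the additive map `t ↦ t^σ + t` -/
def phi (hF : Fintype.card F = 2 ^ (2 * m + 1)) : F →+ F where
  toFun t := t ^ sg m + t
  map_zero' := by simp [sg_ne_zero]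
  map_add' x y := by rw [add_pow_sg hF]; ring

theorem phi_apply (hF : Fintype.card F = 2 ^ (2 * m + 1)) (t : F) :
    phi hF t = t ^ sg m + t := rfl

theorem phi_eq_zero_iff (hF : Fintype.card F = 2 ^ (2 * m + 1)) (t : F) :
    phi hF t = 0 ↔ t = 0 ∨ t = 1 := by
  have h2 := two_eq_zero hF
  rw [phi_apply]
  constructor
  · intro h
    have h1 : t ^ sg m = t := by linear_combination h - t * h2
    have h3 := congrArg (fun z => z ^ sg m) h1
    simp only [pow_sg_pow_sg hF] at h3
    rw [h1] at h3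
    have : t * (t - 1) = 0 := by linear_combination h3
    rcases mul_eq_zero.mp this with h | h
    · exact Or.inl h
    · exact Or.inr (sub_eq_zero.mp h)
  · rintro (rfl | rfl)
    · simp [sg_ne_zero]
    · rw [one_pow]; linear_combination h2

theorem one_not_mem_range_phi (hF : Fintype.card F = 2 ^ (2 * m + 1)) :
    (1 : F) ∉ (phi hF).range := by
  have h2 := two_eq_zero hF
  rintro ⟨t, ht⟩
  rw [phi_apply] at ht
  have h3 := congrArg (fun z => z ^ sg m) ht
  simp only [add_pow_sg hF, pow_sg_pow_sg hF, one_pow] at h3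
  have h4 : t * (t - 1) = 0 := by linear_combination h3 - ht
  have h5 : phi hF t = 0 := by
    rw [phi_eq_zero_iff]
    rcases mul_eq_zero.mp h4 with h | h
    · exact Or.inl h
    · exact Or.inr (sub_eq_zero.mp h)
  rw [phi_apply, ht] at h5
  exact one_ne_zero h5

theorem card_ker_phi (hF : Fintype.card F = 2 ^ (2 * m + 1)) : Nat.card (phi hF).ker = 2 := by
  rw [Nat.card_eq_two_iff]
  refine ⟨⟨0, by rw [AddMonoidHom.mem_ker, phi_eq_zero_iff]; exact Or.inl rfl⟩,
    ⟨1, by rw [AddMonoidHom.mem_ker, phi_eq_zero_iff]; exact Or.inr rfl⟩, ?_, ?_⟩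
  · intro h
    have := congrArg Subtype.val h
    exact zero_ne_one this
  · ext ⟨x, hx⟩
    simp only [Set.mem_insert_iff, Set.mem_singleton_iff, Set.mem_univ, iff_true]
    rw [AddMonoidHom.mem_ker, phi_eq_zero_iff] at hx
    rcases hx with rfl | rfl
    · left; rfl
    · right; rfl

theorem index_range_phi (hF : Fintype.card F = 2 ^ (2 * m + 1)) : (phi hF).range.index = 2 := by
  have h1 := AddSubgroup.index_ker (phi hF)
  have h2 := AddSubgroup.card_mul_index (phi hF).ker
  have h3 := AddSubgroup.card_mul_index (phi hF).range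
  rw [card_ker_phi, h1] at h2
  rw [← h2] at h3
  have hpos : 0 < Nat.card (phi hF).range := Nat.card_pos
  rw [mul_comm] at h3
  exact Nat.eq_of_mul_eq_mul_right hpos h3

/-- every element is `φ(t)` or `1 + φ(t)` -/
theorem exists_phi (hF : Fintype.card F = 2 ^ (2 * m + 1)) (c : F) :
    ∃ t : F, c = phi hF t ∨ c = 1 + phi hF t := by
  have h2 := two_eq_zero hF
  obtain ⟨a, ha⟩ := AddSubgroup.index_eq_two_iff.mp (index_range_phi hF)
  have h1 := ha 1
  have hc := ha c
  have h1' : (1 : F) + a ∈ (phi hF).range := by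
    rcases h1 with ⟨h, -⟩ | ⟨h, -⟩
    · exact h
    · exact absurd h (one_not_mem_range_phi hF)
  by_cases hcr : c ∈ (phi hF).range
  · obtain ⟨t, ht⟩ := hcr
    exact ⟨t, Or.inl ht.symm⟩
  · have hca : c + a ∈ (phi hF).range := by
      rcases hc with ⟨h, -⟩ | ⟨h, -⟩
      · exact h
      · exact absurd h hcr
    have : c + a - (1 + a) ∈ (phi hF).range := AddSubgroup.sub_mem _ hca h1'
    obtain ⟨t, ht⟩ := this
    refine ⟨t, Or.inr ?_⟩
    rw [ht]
    ring

/-! ### The group `Q` -/

/-- elements of `Q` -/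
def tq (hF : Fintype.card F = 2 ^ (2 * m + 1)) (a b : F) : Qz (m := m) hF :=
  ⟨Tz hF a b, Tz_mem_Qz hF a b⟩

theorem tq_surj (hF : Fintype.card F = 2 ^ (2 * m + 1)) (x : Qz (m := m) hF) :
    ∃ a b : F, x = tq hF a b := by
  obtain ⟨x, a, b, rfl⟩ := x
  exact ⟨a, b, rfl⟩

theorem tq_mul (hF : Fintype.card F = 2 ^ (2 * m + 1)) (a b a' b' : F) :
    tq (m := m) hF a b * tq hF a' b' = tq hF (a + a') (b + b' + a ^ sg m * a') :=
  Subtype.ext (Tz_mul hF a b a' b')

theorem tq_injective (hF : Fintype.card F = 2 ^ (2 * m + 1)) {a b a' b' : F}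
    (h : tq (m := m) hF a b = tq hF a' b') : a = a' ∧ b = b' :=
  Tz_injective hF (congrArg Subtype.val h)

theorem tq_one (hF : Fintype.card F = 2 ^ (2 * m + 1)) : tq (m := m) hF 0 0 = 1 :=
  Subtype.ext (Tz_one hF)

theorem tq_congr (hF : Fintype.card F = 2 ^ (2 * m + 1)) {a b a' b' : F} (h1 : a = a')
    (h2 : b = b') : tq (m := m) hF a b = tq hF a' b' := by rw [h1, h2]

theorem tq_commutator (hF : Fintype.card F = 2 ^ (2 * m + 1)) (a b a' b' : F) :
    ⁅tq (m := m) hF a b, tq hF a' b'⁆ = tq hF 0 (a ^ sg m * a' + a' ^ sg m * a) := by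
  have h2 := two_eq_zero hF
  apply commutator_eq_of
  rw [tq_mul, tq_mul, tq_mul]
  apply tq_congr
  · ring
  · simp [sg_ne_zero]
    linear_combination (-(a' ^ sg m * a)) * h2

theorem mem_center_Qz_iff (hF : Fintype.card F = 2 ^ (2 * m + 1)) (hm : 1 ≤ m)
    (x : Qz (m := m) hF) : x ∈ Subgroup.center (Qz hF) ↔ ∃ c : F, x = tq hF 0 c := by
  have h2 := two_eq_zero hF
  constructor
  · intro hx
    obtain ⟨a, b, rfl⟩ := tq_surj hF x
    rw [Subgroup.mem_center_iff] at hx
    obtain ⟨a₀, ha0, ha1⟩ := exists_ne_zero_one hF hm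
    have e1 := hx (tq hF 1 0)
    have e2 := hx (tq hF a₀ 0)
    rw [tq_mul, tq_mul] at e1 e2
    have e1' := (tq_injective hF e1).2
    have e2' := (tq_injective hF e2).2
    simp only [one_pow, mul_one, add_zero, zero_add] at e1' e2'
    have h1 : a ^ sg m = a := by linear_combination -e1'
    have h3 : a * (a₀ ^ sg m + a₀) = 0 := by
      rw [h1] at e2'
      linear_combination e2' + a * a₀ * h2
    rcases mul_eq_zero.mp h3 with h | h
    · exact ⟨b, by rw [h]⟩
    · exfalso
      have := (phi_eq_zero_iff hF a₀).mp h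
      rcases this with h | h
      · exact ha0 h
      · exact ha1 h
  · rintro ⟨c, rfl⟩
    rw [Subgroup.mem_center_iff]
    intro y
    obtain ⟨a, b, rfl⟩ := tq_surj hF y
    rw [tq_mul, tq_mul]
    apply tq_congr
    · ring
    · simp [sg_ne_zero]; ring

theorem central_mem_commutator (hF : Fintype.card F = 2 ^ (2 * m + 1)) (hm : 1 ≤ m) (c : F) :
    tq (m := m) hF 0 c ∈ commutator (Qz (m := m) hF) := by
  have h2 := two_eq_zero hF
  have hcomm : ∀ x y : Qz (m := m) hF, ⁅x, y⁆ ∈ commutator (Qz (m := m) hF) := by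
    intro x y
    rw [commutator_def]
    exact Subgroup.commutator_mem_commutator (Subgroup.mem_top _) (Subgroup.mem_top _)
  have hphi : ∀ t : F, tq (m := m) hF 0 (phi hF t) ∈ commutator (Qz (m := m) hF) := by
    intro t
    have := hcomm (tq hF t 0) (tq hF 1 0)
    rw [tq_commutator] at this
    simpa [phi_apply] using this
  have hone : tq (m := m) hF 0 1 ∈ commutator (Qz (m := m) hF) := by
    obtain ⟨a₀, ha0, ha1⟩ := exists_ne_zero_one hF hm
    have hc0 : phi hF a₀ ≠ 0 := by
      intro h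
      rcases (phi_eq_zero_iff hF a₀).mp h with h | h
      · exact ha0 h
      · exact ha1 h
    obtain ⟨u, hu⟩ := exists_pow_sg_succ hF (Units.mk0 _ hc0)⁻¹
    have hu' : (u : F) ^ (sg m + 1) * phi hF a₀ = 1 := by
      have := congrArg Units.val hu
      simp only [Units.val_pow_eq_pow_val, Units.val_inv_eq_inv_val, Units.val_mk0] at this
      rw [this]; field_simp
    have := hcomm (tq hF ((u : F) * a₀) 0) (tq hF (u : F) 0)
    rw [tq_commutator] at this
    have e : ((u : F) * a₀) ^ sg m * (u : F) + (u : F) ^ sg m * ((u : F) * a₀) = 1 := by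
      rw [← hu', phi_apply]; ring
    rw [e] at this
    exact this
  obtain ⟨t, ht | ht⟩ := exists_phi hF c
  · rw [ht]; exact hphi t
  · have e : tq (m := m) hF 0 c = tq hF 0 1 * tq hF 0 (phi hF t) := by
      rw [tq_mul, ht]
      apply tq_congr
      · ring
      · simp [sg_ne_zero]
    rw [e]
    exact Subgroup.mul_mem _ hone (hphi t)

theorem center_eq_commutator_Qz (hF : Fintype.card F = 2 ^ (2 * m + 1)) (hm : 1 ≤ m) :
    Subgroup.center (Qz (m := m) hF) = commutator (Qz (m := m) hF) := by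
  apply le_antisymm
  · intro x hx
    obtain ⟨c, rfl⟩ := (mem_center_Qz_iff hF hm x).mp hx
    exact central_mem_commutator hF hm c
  · rw [commutator_def, Subgroup.commutator_le]
    intro x _ y _
    obtain ⟨a, b, rfl⟩ := tq_surj hF x
    obtain ⟨a', b', rfl⟩ := tq_surj hF y
    rw [tq_commutator]
    exact (mem_center_Qz_iff hF hm _).mpr ⟨_, rfl⟩

theorem card_center_Qz (hF : Fintype.card F = 2 ^ (2 * m + 1)) (hm : 1 ≤ m) :
    Nat.card (Subgroup.center (Qz (m := m) hF)) = 2 ^ (2 * m + 1) := by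
  have e : F ≃ Subgroup.center (Qz (m := m) hF) := by
    refine Equiv.ofBijective
      (fun c => ⟨tq hF 0 c, (mem_center_Qz_iff hF hm _).mpr ⟨c, rfl⟩⟩) ⟨?_, ?_⟩
    · intro c c' h
      exact (tq_injective hF (congrArg Subtype.val h)).2
    · rintro ⟨x, hx⟩
      obtain ⟨c, rfl⟩ := (mem_center_Qz_iff hF hm x).mp hx
      exact ⟨c, rfl⟩
  rw [← Nat.card_congr e, Nat.card_eq_fintype_card, hF]

theorem tq_sq (hF : Fintype.card F = 2 ^ (2 * m + 1)) (a b : F) :
    tq (m := m) hF a b ^ 2 = tq hF 0 (a ^ sg m * a) := by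
  have h2 := two_eq_zero hF
  rw [pow_two, tq_mul]
  apply tq_congr
  · linear_combination a * h2
  · linear_combination b * h2

theorem exponent_Qz (hF : Fintype.card F = 2 ^ (2 * m + 1)) :
    Monoid.exponent (Qz (m := m) hF) = 4 := by
  have h2 := two_eq_zero hF
  have hdvd : Monoid.exponent (Qz (m := m) hF) ∣ 2 ^ 2 := by
    apply Monoid.exponent_dvd_of_forall_pow_eq_one
    intro x
    obtain ⟨a, b, rfl⟩ := tq_surj hF x
    rw [show (2 : ℕ) ^ 2 = 2 * 2 from rfl, pow_mul, tq_sq, tq_sq, ← tq_one hF]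
    apply tq_congr hF rfl
    simp [sg_ne_zero]
  have hne : tq (m := m) hF 1 0 ^ 2 ≠ 1 := by
    rw [tq_sq, ← tq_one hF]
    intro h
    have := (tq_injective hF h).2
    simp at this
  obtain ⟨k, hk, hk'⟩ := (Nat.dvd_prime_pow Nat.prime_two).mp hdvd
  have hpow := Monoid.pow_exponent_eq_one (tq (m := m) hF 1 0)
  interval_cases k
  · exfalso
    rw [hk', pow_zero, pow_one] at hpow
    apply hne
    rw [hpow, one_pow]
  · exfalso
    rw [hk', pow_one] at hpow
    exact hne hpow
  · rw [hk']; norm_num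

/-! ### Transfer to arbitrary Sylow 2-subgroups -/

theorem center_eq_commutator_of_equiv {A B : Type*} [Group A] [Group B] (e : A ≃* B)
    (h : Subgroup.center B = commutator B) : Subgroup.center A = commutator A := by
  have hmap : (commutator A).map e.toMonoidHom = commutator B := by
    rw [commutator_def, commutator_def, Subgroup.map_commutator,
      Subgroup.map_top_of_surjective _ e.surjective]
  ext x
  constructor
  · intro hx
    have hx' : e x ∈ Subgroup.center B := by
      rw [Subgroup.mem_center_iff] at hx ⊢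
      intro y
      obtain ⟨y', rfl⟩ := e.surjective y
      rw [← map_mul, ← map_mul, hx y']
    rw [h, ← hmap] at hx'
    obtain ⟨y, hy, hyx⟩ := hx'
    have : y = x := e.injective hyx
    rw [← this]; exact hy
  · intro hx
    have hx' : e x ∈ commutator B := by
      rw [← hmap]; exact ⟨x, hx, rfl⟩
    rw [← h] at hx'
    rw [Subgroup.mem_center_iff] at hx' ⊢
    intro y
    apply e.injective
    rw [map_mul, map_mul, hx' (e y)]

theorem sylow_two (hF : Fintype.card F = 2 ^ (2 * m + 1)) (hm : 1 ≤ m)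
    (P : Sylow 2 (Cfsg.Sz F m)) :
    Nat.card P = (2 ^ (2 * m + 1)) ^ 2 ∧ Monoid.exponent P = 4 ∧
      Subgroup.center P = commutator P ∧ Nat.card (Subgroup.center P) = 2 ^ (2 * m + 1) := by
  have : Fact (Nat.Prime 2) := ⟨Nat.prime_two⟩
  obtain ⟨g, hg⟩ := MulAction.exists_smul_eq (Cfsg.Sz F m) (QSylow hF hm) P
  have e0 : (QSylow hF hm) ≃* (g • QSylow hF hm : Sylow 2 (Cfsg.Sz F m)) :=
    Sylow.equivSMul (QSylow hF hm) g
  rw [hg] at e0
  have e : P ≃* Qz (m := m) hF := e0.symm
  refine ⟨?_, ?_, ?_, ?_⟩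
  · rw [Nat.card_congr e.toEquiv, card_Qz]
  · rw [Monoid.exponent_eq_of_mulEquiv e, exponent_Qz]
  · exact center_eq_commutator_of_equiv e (center_eq_commutator_Qz hF hm)
  · rw [Nat.card_congr (Subgroup.centerCongr e).toEquiv, card_center_Qz hF hm]

end Cfsg.Agent.Helper2.SzO
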