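import Cfsg.Agent.Helper2.S3786LIFTcore
import Cfsg.Agent.Helper7.S3786POWFORM

/-! # S3786 board, row LIFT. -/

set_option autoImplicit false

namespace Cfsg.Agent.S3786P

open Subgroup

universe u

section F

variable {X : Type u} [Group X] [Finite X] {p : ℕ} [Fact p.Prime] {V : Type u} [AddCommGroup V] [Module (ZMod p) V]
  {π : ↥(Cfsg.pCore p X) →* Multiplicative V} {ρb : Representation (ZMod p) (X ⧸ Cfsg.pCore p X) V}

/-- F3. Lifting. -/
theorem LIFT (D : FratData p V π ρb) (x : X) (m : ℕ) (hx : x ^ p ^ m ∈ Cfsg.pCore p X)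
    (hne : (ρb (QuotientGroup.mk' (Cfsg.pCore p X) x) - 1) ^ (p ^ m - 1) ≠ 0) :
    ∃ g : X, (∃ k : ℕ, g ^ p ^ k = 1) ∧ g ^ p ^ m ≠ 1 :=
  LIFT_aux_core D (fun x r N => POWFORM D x r N) x m hx hne

end F

end Cfsg.Agent.S3786P
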