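import Cfsg.Agent.Helper11.S3786Defs
import Cfsg.Agent.Helper5.HHTk
import Cfsg.Agent.Helper19.Cores
import Cfsg.Agent.Lead.CoprimeSylow

/-! # S3786 board, row SYL2 (core): a `T`-invariant Sylow 2-subgroup of `O_{p'}(H)` on which `T̂` is faithful. -/

set_option autoImplicit false

namespace Cfsg.Agent.S3786P

open Subgroup

universe u

/-- a family of Sylow subgroups, one for each prime, generates the group -/
theorem SYL2_aux_gen {G : Type*} [Group G] [Finite G] (K : Subgroup G)
    (Q : ∀ r : {r : ℕ // r.Prime}, Sylow r.1 K) :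
    (⨆ r : {r : ℕ // r.Prime}, (Q r : Subgroup K).map K.subtype) = K := by
  have hJK : (⨆ r : {r : ℕ // r.Prime}, (Q r : Subgroup K).map K.subtype) ≤ K :=
    iSup_le fun r => map_subtype_le _
  have hdvd : Nat.card K ∣ Nat.card ↥(⨆ r : {r : ℕ // r.Prime}, (Q r : Subgroup K).map K.subtype) := by
    rw [← Nat.factorization_prime_le_iff_dvd Nat.card_pos.ne' Nat.card_pos.ne']
    intro r hr
    have := Fact.mk hr
    rw [← hr.pow_dvd_iff_le_factorization Nat.card_pos.ne']
    have h1 : Nat.card (Q ⟨r, hr⟩ : Subgroup K) = r ^ (Nat.card K).factorization r :=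
      (Q ⟨r, hr⟩).card_eq_multiplicity
    rw [← h1, ← card_map_of_injective K.subtype_injective]
    exact card_dvd_of_le (le_iSup (fun r : {r : ℕ // r.Prime} =>
      (Q r : Subgroup K).map K.subtype) ⟨r, hr⟩)
  apply Subgroup.eq_of_le_of_card_ge hJK
  exact Nat.le_of_dvd Nat.card_pos hdvd

theorem SYL2_aux_That_le {H : Type*} [Group H] (T : Subgroup H) (p n : ℕ) : That T p n ≤ T := by
  rw [That, closure_le]
  rintro z ⟨w, hw, -, rfl⟩
  exact T.pow_mem hw _

/-- core of SYL2: `hTC` is the statement of `That_cent` -/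
theorem SYL2_aux_core {H : Type u} [Group H] [Finite H] {p : ℕ} [Fact p.Prime] {T : Sylow p H} {n : ℕ}
    (hsol : Cfsg.IsPSolvable p H) (hcore : Cfsg.pCore p H = ⊥)
    (hTC : ∀ (q : ℕ), q.Prime → q ≠ p → ∀ R : Subgroup H, IsPGroup q R →
      (T : Subgroup H) ≤ normalizer (R : Set H) → (q ≠ 2 ∨ ∀ a ∈ R, ∀ b ∈ R, a * b = b * a) →
      That (T : Subgroup H) p n ≤ centralizer (R : Set H)) :
    ∃ S₂ : Subgroup H, S₂ ≤ Cfsg.pPrimeCore p H ∧ IsPGroup 2 S₂ ∧
      (T : Subgroup H) ≤ normalizer (S₂ : Set H) ∧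
      That (T : Subgroup H) p n ⊓ centralizer (S₂ : Set H) = ⊥ := by
  have hp : p.Prime := Fact.out
  obtain ⟨K, hK⟩ : ∃ K : Subgroup H, K = Cfsg.pPrimeCore p H := ⟨_, rfl⟩
  have hKn : K.Normal := by rw [hK]; infer_instance
  have hTK : (T : Subgroup H) ≤ normalizer (K : Set H) := by
    rw [normalizer_eq_top]; exact le_top
  have hKcop : (Nat.card K).Coprime p := by rw [hK]; exact Cfsg.Agent.Helper19.pPrimeCore_coprime p
  obtain ⟨k, hk⟩ := IsPGroup.iff_card.mp T.2
  have hcop : (Nat.card (T : Subgroup H)).Coprime (Nat.card K) := by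
    rw [hk]; exact (Nat.Coprime.pow_left k hKcop.symm)
  have hTsol : Group.IsSolvable (T : Subgroup H) := by
    have := (T.2 : IsPGroup p (T : Subgroup H)).isNilpotent
    infer_instance
  have hex : ∀ r : {r : ℕ // r.Prime}, ∃ Q : Sylow r.1 K,
      (T : Subgroup H) ≤ normalizer (((Q : Subgroup K).map K.subtype : Subgroup H) : Set H) := by
    intro r
    have := Fact.mk r.2
    exact Cfsg.Agent.Lead.coprime_exists_invariant_sylow (T : Subgroup H) K hTK hcop (Or.inl hTsol) r.1
  choose Q hQ using hex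
  have hgen := SYL2_aux_gen K Q
  refine ⟨(Q ⟨2, Nat.prime_two⟩ : Subgroup K).map K.subtype, ?_, (Q ⟨2, Nat.prime_two⟩).isPGroup'.map _,
    hQ ⟨2, Nat.prime_two⟩, ?_⟩
  · rw [← hK]; exact map_subtype_le _
  · rw [eq_bot_iff]
    intro a ha
    obtain ⟨A₀, hA₀⟩ : ∃ A₀ : Subgroup H, A₀ = That (T : Subgroup H) p n ⊓
        centralizer (((Q ⟨2, Nat.prime_two⟩ : Subgroup K).map K.subtype : Subgroup H) : Set H) := ⟨_, rfl⟩
    rw [← hA₀] at ha
    have hA₀T : A₀ ≤ (T : Subgroup H) := by
      rw [hA₀]; exact inf_le_left.trans (SYL2_aux_That_le _ p n)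
    have hA₀K : A₀ ≤ centralizer (K : Set H) := by
      rw [le_centralizer_iff, ← hgen]
      apply iSup_le
      intro r
      rw [← le_centralizer_iff]
      by_cases hr2 : r.1 = 2
      · have : r = ⟨2, Nat.prime_two⟩ := Subtype.ext hr2
        rw [this, hA₀]; exact inf_le_right
      · by_cases hrp : r.1 = p
        · -- `Q r` is trivial
          have := Fact.mk r.2
          have hQp : IsPGroup r.1 (Q r : Subgroup K) := (Q r).isPGroup'
          have hbot : (Q r : Subgroup K) = ⊥ := by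
            rcases hQp.card_eq_or_dvd with h1 | h1
            · exact (Subgroup.card_eq_one).mp h1
            · exfalso
              have h2 : r.1 ∣ Nat.card K := h1.trans (Subgroup.card_subgroup_dvd_card _)
              rw [hrp] at h2
              have h3 := Nat.Coprime.eq_one_of_dvd hKcop.symm h2
              exact hp.one_lt.ne' h3
          rw [hbot, Subgroup.map_bot]
          intro x _
          rw [mem_centralizer_iff]
          intro y hy
          rw [SetLike.mem_coe, mem_bot] at hy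
          rw [hy, one_mul, mul_one]
        · rw [hA₀]
          exact inf_le_left.trans (hTC r.1 r.2 hrp _ ((Q r).isPGroup'.map _) (hQ r) (Or.inl hr2))
    have hA₀K' : A₀ ≤ K := by
      rw [hK]
      refine hA₀K.trans ?_
      rw [hK]
      exact Cfsg.Agent.Helper7.centralizer_pPrimeCore_le_of_isPSolvable hsol hcore
    have h1 : orderOf a ∣ Nat.card (T : Subgroup H) := Subgroup.orderOf_dvd_natCard _ (hA₀T ha)
    have h2 : orderOf a ∣ Nat.card K := Subgroup.orderOf_dvd_natCard _ (hA₀K' ha)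
    have h3 : orderOf a = 1 := Nat.eq_one_of_dvd_coprimes hcop h1 h2
    rw [mem_bot]
    exact orderOf_eq_one_iff.mp h3

end Cfsg.Agent.S3786P
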