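import Cfsg.Agent.Helper2.S3786KmainCore
import Cfsg.Agent.Helper3.S3786Kcommute

/-! # S3786 board, row K_main (Proposition K). -/

set_option autoImplicit false

namespace Cfsg.Agent.S3786P

open Subgroup

universe u

section K2

variable {F : Type*} [Field F] {p : ℕ} [Fact p.Prime] [CharP F p] {V : Type*} [AddCommGroup V] [Module F V]
  [FiniteDimensional F V] [Nontrivial V] {H : Type u} [Group H] [Finite H] {ρ₀ : Representation F H V}
  {T : Sylow p H} {n : ℕ}

/-- **Proposition K.** -/
theorem K_main (S : KSet ρ₀ p (T : Subgroup H) n) :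
    ∀ w ∈ (T : Subgroup H), w ^ p ^ (n - 1) ∈ Cfsg.pPrimePCore p H :=
  K_main_aux_core S.p_odd S.sol S.one_le S.exp (fun hx hxn hd => K_commute S hx hxn hd)

end K2

end Cfsg.Agent.S3786P
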