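import Mathlib
import Cfsg.Prelude.Def_Classical

/-! `S₆ → GO₄⁻(3)` via the permutation module `F₃⁶`: sum-zero vectors modulo constants. -/

set_option autoImplicit false
set_option linter.unusedSectionVars false
set_option linter.unusedVariables false
set_option linter.unusedSimpArgs false

namespace Cfsg.Agent.Helper2.A6O4

open Matrix Equiv

/-- the index type of the four-dimensional minus form -/
abbrev I4m := (Fin 1 ⊕ Fin 1) ⊕ Fin 2

/-- the field with three elements -/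
abbrev F3 := ZMod 3

/-- basis matrix: columns `b₁, b₂, b₃, b₄` -/
def B : Matrix (Fin 6) I4m F3 := Matrix.of fun k j =>
  match j with
  | .inl (.inl _) => ![1, 1, 1, 0, 0, 0] k
  | .inl (.inr _) => ![1, 0, 0, 1, 1, 0] k
  | .inr 0 => ![0, 1, -1, 0, 0, 0] k
  | .inr 1 => ![0, 0, 0, 1, -1, 0] k

/-- dual basis matrix: rows `b₂, b₁, -b₃, -b₄` -/
def L : Matrix I4m (Fin 6) F3 := Matrix.of fun i k =>
  match i with
  | .inl (.inl _) => ![1, 0, 0, 1, 1, 0] k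
  | .inl (.inr _) => ![1, 1, 1, 0, 0, 0] k
  | .inr 0 => ![0, -1, 1, 0, 0, 0] k
  | .inr 1 => ![0, 0, 0, -1, 1, 0] k

/-- the correction matrix: `B L = 1 - C` -/
def C : Matrix (Fin 6) (Fin 6) F3 := Matrix.of fun i j =>
  ((if j = 5 then 1 else 0) - 1) + (if i = 5 then 1 else 0)

theorem LB : L * B = 1 := by decide

theorem BL : B * L = 1 - C := by decide

theorem colsum (j : I4m) : ∑ k, B k j = 0 := by revert j; decide

theorem rowsum (i : I4m) : ∑ k, L i k = 0 := by revert i; decide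

theorem three_eq_zero : (3 : F3) = 0 := by decide

theorem quadB (y : I4m → F3) :
    -∑ k, (B *ᵥ y) k ^ 2 = Cfsg.quadFormMinus 1 F3 0 1 y := by
  simp only [Fin.sum_univ_six, Matrix.mulVec, dotProduct, Fintype.sum_sum_type,
    Cfsg.quadFormMinus, Fin.sum_univ_one, Fin.sum_univ_two]
  simp [B]
  linear_combination (-(y (.inl (.inl 0))) ^ 2 - (y (.inl (.inr 0))) ^ 2
    - y (.inl (.inl 0)) * y (.inl (.inr 0)) - y (.inr 0) ^ 2 - y (.inr 1) ^ 2) * three_eq_zero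

/-- the basis matrix with rows permuted by `σ` -/
def Bs (σ : Perm (Fin 6)) : Matrix (Fin 6) I4m F3 := Matrix.of fun k j => B (σ⁻¹ k) j

/-- the matrix of `σ` on the quotient module -/
def M (σ : Perm (Fin 6)) : Matrix I4m I4m F3 := L * Bs σ

theorem colsum_Bs (σ : Perm (Fin 6)) (j : I4m) : ∑ k, Bs σ k j = 0 := by
  simp only [Bs, Matrix.of_apply]
  rw [Equiv.sum_comp (σ⁻¹) (fun k => B k j)]
  exact colsum j

/-- `C * Bs σ` has constant columns -/
theorem C_mul_Bs (σ : Perm (Fin 6)) (i : Fin 6) (j : I4m) :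
    (C * Bs σ) i j = Bs σ 5 j := by
  rw [Matrix.mul_apply]
  simp only [C, Matrix.of_apply, add_mul, sub_mul, one_mul, Finset.sum_add_distrib,
    Finset.sum_sub_distrib, ite_mul, zero_mul, Finset.sum_ite_eq', Finset.mem_univ, if_true]
  rw [colsum_Bs]
  simp [Finset.sum_ite, Finset.sum_const_zero]
  intro _
  exact colsum_Bs σ j

theorem B_mul_M (σ : Perm (Fin 6)) (k : Fin 6) (j : I4m) :
    (B * M σ) k j = Bs σ k j - Bs σ 5 j := by
  rw [M, ← Matrix.mul_assoc, BL, Matrix.sub_mul, Matrix.one_mul, Matrix.sub_apply, C_mul_Bs]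

theorem Bs_mul_M (σ τ : Perm (Fin 6)) (k : Fin 6) (j : I4m) :
    (Bs σ * M τ) k j = Bs (σ * τ) k j - Bs τ 5 j := by
  have h := B_mul_M τ (σ⁻¹ k) j
  rw [Matrix.mul_apply] at h
  rw [Matrix.mul_apply]
  simp only [Bs, Matrix.of_apply] at h ⊢
  rw [h, _root_.mul_inv_rev, Perm.mul_apply]

theorem M_mul (σ τ : Perm (Fin 6)) : M (σ * τ) = M σ * M τ := by
  ext i j
  rw [M, M, Matrix.mul_assoc, Matrix.mul_apply, Matrix.mul_apply]
  simp only [Bs_mul_M, mul_sub, Finset.sum_sub_distrib]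
  rw [← Finset.sum_mul, rowsum, zero_mul, sub_zero]

theorem M_one : M 1 = 1 := by
  rw [M, ← LB]
  congr 1

theorem mulVec_B_M (σ : Perm (Fin 6)) (y : I4m → F3) (k : Fin 6) :
    (B *ᵥ (M σ *ᵥ y)) k = (Bs σ *ᵥ y) k - (Bs σ *ᵥ y) 5 := by
  rw [Matrix.mulVec_mulVec]
  simp only [Matrix.mulVec, dotProduct, B_mul_M, sub_mul, Finset.sum_sub_distrib]

theorem sum_Bs_mulVec (σ : Perm (Fin 6)) (y : I4m → F3) : ∑ k, (Bs σ *ᵥ y) k = 0 := by
  simp only [Matrix.mulVec, dotProduct]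
  rw [Finset.sum_comm]
  simp only [← Finset.sum_mul, colsum_Bs, zero_mul, Finset.sum_const_zero]

theorem quad_M (σ : Perm (Fin 6)) (y : I4m → F3) :
    Cfsg.quadFormMinus 1 F3 0 1 (M σ *ᵥ y) = Cfsg.quadFormMinus 1 F3 0 1 y := by
  rw [← quadB, ← quadB, neg_inj]
  have h4 : ∑ k, (Bs σ *ᵥ y) k ^ 2 = ∑ k, (B *ᵥ y) k ^ 2 := by
    rw [← Equiv.sum_comp (σ⁻¹) (fun k => (B *ᵥ y) k ^ 2)]
    rfl
  rw [← h4]
  simp only [mulVec_B_M]
  have h5 : ∀ k, ((Bs σ *ᵥ y) k - (Bs σ *ᵥ y) 5) ^ 2 =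
      (Bs σ *ᵥ y) k ^ 2 - 2 * (Bs σ *ᵥ y) 5 * (Bs σ *ᵥ y) k + (Bs σ *ᵥ y) 5 ^ 2 := by
    intro k; ring
  simp only [h5, Finset.sum_add_distrib, Finset.sum_sub_distrib, ← Finset.mul_sum,
    sum_Bs_mulVec, mul_zero, sub_zero, Finset.sum_const, Finset.card_univ, Fintype.card_fin]
  have h6 : (6 : ℕ) • ((Bs σ *ᵥ y) 5 ^ 2) = 0 := by
    rw [nsmul_eq_mul]
    have : ((6 : ℕ) : F3) = 0 := by decide
    rw [this, zero_mul]
  rw [h6, add_zero]

end Cfsg.Agent.Helper2.A6O4
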