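import Mathlib
import Cfsg.Agent.Helper2.OmegaGen2

/-! The transfer lemma with a general target `P` of a surjection `π : G → P`. -/

set_option autoImplicit false
set_option linter.unusedSectionVars false
set_option linter.unusedVariables false

namespace Cfsg.Agent.Helper2.OmegaGen

open Subgroup

/-- transfer given the range, with target `P`: `π : G → P` surjective with central kernel
containing `ker φ`, and `P` centreless. -/
theorem nonempty_mulEquiv_of_range_eq' {G E P : Type*} [Group G] [Group E] [Group P]
    (φ : G →* E) (hrange : commutator E = φ.range) (π : G →* P)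
    (hπs : Function.Surjective π) (hπc : π.ker ≤ center G) (hφπ : φ.ker ≤ π.ker)
    (hP : center P = ⊥) :
    Nonempty (commutator E ⧸ center (commutator E) ≃* P) := by
  let ψ : G →* commutator E := φ.codRestrict _ (fun g => hrange ▸ ⟨g, rfl⟩)
  have hψ : ∀ g, ((ψ g : commutator E) : E) = φ g := fun g => rfl
  have hψs : Function.Surjective ψ := by
    rintro ⟨x, hx⟩
    have hx' : x ∈ φ.range := hrange ▸ hx
    obtain ⟨g, rfl⟩ := hx'
    exact ⟨g, Subtype.ext rfl⟩
  let Ψ : G →* commutator E ⧸ center (commutator E) := (QuotientGroup.mk' _).comp ψ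
  have hΨs : Function.Surjective Ψ := (QuotientGroup.mk'_surjective _).comp hψs
  have hΨk : Ψ.ker = π.ker := by
    ext x
    rw [MonoidHom.mem_ker, MonoidHom.mem_ker]
    change (QuotientGroup.mk (ψ x) : commutator E ⧸ center (commutator E)) = 1 ↔ _
    rw [QuotientGroup.eq_one_iff]
    constructor
    · intro hx
      have h1 : π x ∈ center P := by
        rw [Subgroup.mem_center_iff]
        intro y'
        obtain ⟨y, rfl⟩ := hπs y'
        have h2 := Subgroup.mem_center_iff.mp hx (ψ y)
        have h3 : φ y * φ x = φ x * φ y := by
          have := congrArg (fun z : commutator E => (z : E)) h2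
          simpa [hψ] using this
        have h4 : (y * x)⁻¹ * (x * y) ∈ π.ker := by
          apply hφπ
          rw [MonoidHom.mem_ker, map_mul, map_inv, map_mul, map_mul, h3, inv_mul_cancel]
        rw [MonoidHom.mem_ker, map_mul, map_inv, inv_mul_eq_one] at h4
        rw [← map_mul, ← map_mul, h4]
      rw [hP, Subgroup.mem_bot] at h1
      exact h1
    · intro hx
      have hx' : x ∈ center G := hπc (MonoidHom.mem_ker.mpr hx)
      rw [Subgroup.mem_center_iff]
      intro z
      obtain ⟨g, rfl⟩ := hψs z
      rw [← map_mul, ← map_mul, Subgroup.mem_center_iff.mp hx' g]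
  exact ⟨((QuotientGroup.quotientKerEquivOfSurjective Ψ hΨs).symm.trans
    ((QuotientGroup.quotientMulEquivOfEq hΨk).trans
      (QuotientGroup.quotientKerEquivOfSurjective π hπs)))⟩

end Cfsg.Agent.Helper2.OmegaGen
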