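import Mathlib
import Cfsg.Agent.Helper2.A6O4
import Cfsg.Agent.Helper2.OmegaGen3
import Cfsg.Agent.Helper2.Sp4Omega
import Cfsg.Agent.Helper2.QuadMinus
import Cfsg.Agent.Helper2.Herm2Omega

/-! `PΩ₄⁻(3) ≃* A₆` and `PSL₂(9) ≃* A₆`. -/

set_option autoImplicit false
set_option linter.unusedSectionVars false
set_option linter.unusedVariables false
set_option linter.unusedSimpArgs false

namespace Cfsg.Agent.Helper2.A6O4

open Matrix Subgroup Equiv

/-- the hom `S₆ → GL₄(3)` -/
def rhoGL : Perm (Fin 6) →* GL I4m F3 :=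
  MonoidHom.toHomUnits
    { toFun := M
      map_one' := M_one
      map_mul' := M_mul }

theorem rhoGL_mem (σ : Perm (Fin 6)) :
    rhoGL σ ∈ Cfsg.isometryGroup F3 (Cfsg.quadFormMinus 1 F3 0 1) := by
  intro u v
  change Cfsg.quadFormMinus 1 F3 0 1 (M σ *ᵥ u) = Cfsg.quadFormMinus 1 F3 0 1 u
  exact quad_M σ u

/-- the hom `S₆ → GO₄⁻(3)` -/
def rho : Perm (Fin 6) →* Cfsg.isometryGroup F3 (Cfsg.quadFormMinus 1 F3 0 1) :=
  rhoGL.codRestrict _ rhoGL_mem

/-- the restriction to `A₆` -/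
def phi : alternatingGroup (Fin 6) →* Cfsg.isometryGroup F3 (Cfsg.quadFormMinus 1 F3 0 1) :=
  rho.comp (alternatingGroup (Fin 6)).subtype

/-- a three-cycle -/
def c3 : alternatingGroup (Fin 6) :=
  ⟨swap 0 1 * swap 1 2, by rw [Equiv.Perm.mem_alternatingGroup]; decide⟩

theorem M_c3_ne_one : M (swap 0 1 * swap 1 2 : Perm (Fin 6)) ≠ 1 := by decide

theorem phi_c3_ne_one : phi c3 ≠ 1 := by
  intro h
  apply M_c3_ne_one
  have := congrArg (fun x : Cfsg.isometryGroup F3 (Cfsg.quadFormMinus 1 F3 0 1) =>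
    ((x : GL I4m F3) : Matrix I4m I4m F3)) h
  exact this

theorem aniso : Quad.Aniso (0 : F3) 1 := by
  intro z₁ z₂
  revert z₁ z₂
  decide

theorem card_F3 : Fintype.card F3 = 3 := ZMod.card 3

theorem card_GO : Nat.card (Cfsg.isometryGroup F3 (Cfsg.quadFormMinus 1 F3 0 1)) = 1440 := by
  have h1 := Quad.card_GO_minus card_F3 2 (by norm_num) 0 1 aniso
  have h1' : Nat.card (Cfsg.isometryGroup F3 (Cfsg.quadFormMinus 1 F3 0 1)) =
      2 * 3 ^ (2 * (2 - 1)) * (3 ^ 2 + 1) * ∏ i ∈ Finset.range (2 - 1), (3 ^ (2 * (i + 1)) - 1) :=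
    h1
  rw [h1']
  simp [Finset.prod_range_one]

theorem card_A6 : Nat.card (alternatingGroup (Fin 6)) = 360 := by
  have := two_mul_nat_card_alternatingGroup (α := Fin 6)
  rw [Nat.card_perm, Nat.card_fin] at this
  have h6 : Nat.factorial 6 = 720 := by decide
  omega

theorem A6_perfect : commutator (alternatingGroup (Fin 6)) = ⊤ :=
  commutator_alternatingGroup_eq_top (by simp)

theorem A6_simple : IsSimpleGroup (alternatingGroup (Fin 6)) :=
  alternatingGroup.isSimpleGroup (by simp)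

theorem phi_injective : Function.Injective phi := by
  rw [← MonoidHom.ker_eq_bot_iff]
  have := A6_simple
  rcases Subgroup.Normal.eq_bot_or_eq_top (inferInstance : phi.ker.Normal) with h | h
  · exact h
  · exfalso
    apply phi_c3_ne_one
    rw [← MonoidHom.mem_ker, h]
    trivial

theorem nonempty_mulEquiv_A6 :
    Nonempty (Cfsg.POmega F3 (Cfsg.quadFormMinus 1 F3 0 1) ≃* alternatingGroup (Fin 6)) := by
  have hker : phi.ker = ⊥ := (MonoidHom.ker_eq_bot_iff phi).mpr phi_injective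
  have hidx : phi.range.index = 4 := by
    apply OmegaGen.index_dvd_of_card phi 4
    rw [hker, card_GO, card_A6]
    simp
  have hperfR : commutator phi.range = ⊤ :=
    OmegaGen.commutator_eq_top_of_surjective phi.rangeRestrict phi.rangeRestrict_surjective
      A6_perfect
  have hrange := OmegaGen.commutator_eq_of_perfect_of_index_dvd_four phi.range hperfR
    (by rw [hidx])
  refine OmegaGen.nonempty_mulEquiv_of_range_eq' phi hrange (MonoidHom.id _)
    Function.surjective_id ?_ ?_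
    (Sp4O5.center_eq_bot_of_simple_of_perfect A6_simple A6_perfect)
  · intro x hx
    rw [MonoidHom.mem_ker, MonoidHom.id_apply] at hx
    rw [hx]; exact one_mem _
  · rw [hker]; exact bot_le

theorem nonempty_mulEquiv_PSL {F : Type*} [Field F] [Fintype F] (hF : Fintype.card F = 9) :
    Nonempty (Matrix.ProjectiveSpecialLinearGroup (Fin 2) F ≃* alternatingGroup (Fin 6)) := by
  obtain ⟨e1⟩ := Herm2.nonempty_mulEquiv (F := F3) (K := F) (q := 3) card_F3
    (by rw [hF]; norm_num) 0 1 aniso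
  obtain ⟨e2⟩ := nonempty_mulEquiv_A6
  exact ⟨e1.symm.trans e2⟩

end Cfsg.Agent.Helper2.A6O4
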