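import Mathlib
import Cfsg.Agent.Helper2.SL2Quaternion
import Cfsg.Agent.S0243
import Cfsg.Agent.S0268

/-! Sylow 2-subgroups of `PSL₂(q)` for `q ≡ 3, 5 (mod 8)` are Klein four groups. -/

set_option autoImplicit false
set_option linter.unusedSectionVars false
set_option linter.unusedVariables false

namespace Cfsg.Agent.Helper2.PSL2K

open Matrix

variable {F : Type*} [Field F] [Fintype F]

theorem arith {q : ℕ} (hq : q % 8 = 3 ∨ q % 8 = 5) : ∃ o, Odd o ∧ q * (q ^ 2 - 1) = 8 * o := by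
  rcases hq with h | h
  · obtain ⟨j, rfl⟩ : ∃ j, q = 8 * j + 3 := ⟨q / 8, by omega⟩
    refine ⟨(8 * j + 3) * (8 * j ^ 2 + 6 * j + 1), ?_, ?_⟩
    · apply Odd.mul
      · exact ⟨4 * j + 1, by ring⟩
      · exact ⟨4 * j ^ 2 + 3 * j, by ring⟩
    · have : (8 * j + 3) ^ 2 - 1 = 8 * (8 * j ^ 2 + 6 * j + 1) := by
        apply Nat.sub_eq_of_eq_add; ring
      rw [this]; ring
  · obtain ⟨j, rfl⟩ : ∃ j, q = 8 * j + 5 := ⟨q / 8, by omega⟩
    refine ⟨(8 * j + 5) * (8 * j ^ 2 + 10 * j + 3), ?_, ?_⟩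
    · apply Odd.mul
      · exact ⟨4 * j + 2, by ring⟩
      · exact ⟨4 * j ^ 2 + 5 * j + 1, by ring⟩
    · have : (8 * j + 5) ^ 2 - 1 = 8 * (8 * j ^ 2 + 10 * j + 3) := by
        apply Nat.sub_eq_of_eq_add; ring
      rw [this]; ring

theorem odd_of_mod {q : ℕ} (hq : q % 8 = 3 ∨ q % 8 = 5) : Odd q := by
  rw [Nat.odd_iff]; omega

/-- a `2`-element of `SL₂(q)`, `q ≡ 3, 5 (mod 8)`, has fourth power one -/
theorem pow_four_eq_one {q : ℕ} (hF : Fintype.card F = q) (hq : q % 8 = 3 ∨ q % 8 = 5)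
    (x : SpecialLinearGroup (Fin 2) F) (hx : x ^ 8 = 1) : x ^ 4 = 1 := by
  have hodd : Odd (Fintype.card F) := by rw [hF]; exact odd_of_mod hq
  have hp : IsPGroup 2 (Subgroup.zpowers x) := by
    obtain ⟨j, -, hj⟩ := (Nat.dvd_prime_pow Nat.prime_two).mp
      (show orderOf x ∣ 2 ^ 3 from orderOf_dvd_of_pow_eq_one hx)
    apply IsPGroup.of_card (n := j)
    rw [Nat.card_zpowers]
    exact hj
  obtain ⟨S, hS⟩ := hp.exists_le_sylow
  obtain ⟨k, hk, ⟨e⟩⟩ := SL2Q.sylow_quaternion hodd S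
  have hne : NeZero (2 ^ k) := ⟨by positivity⟩
  have hcardS : Nat.card S = 4 * 2 ^ k := by
    rw [Nat.card_congr e.toEquiv, Nat.card_eq_fintype_card, QuaternionGroup.card]
  obtain ⟨o, ho, hcard⟩ := arith hq
  have hdvd : Nat.card S ∣ 8 * o := by
    rw [← hcard, ← hF, ← SL2.card_SL2]
    exact Subgroup.card_subgroup_dvd_card _
  have hcop : Nat.Coprime (Nat.card S) o := by
    rw [hcardS, show 4 * 2 ^ k = 2 ^ (k + 2) by rw [pow_add]; ring]
    apply Nat.Coprime.pow_left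
    rw [Nat.coprime_two_left]; exact ho
  have h8 : 4 * 2 ^ k ∣ 8 := by
    rw [← hcardS]; exact hcop.dvd_of_dvd_mul_right hdvd
  have hk1 : k = 1 := by
    have h1 : 4 * 2 ^ k ≤ 8 := Nat.le_of_dvd (by norm_num) h8
    have h2 : 2 ^ k ≤ 2 ^ 1 := by omega
    have := (Nat.pow_le_pow_iff_right (a := 2) (by norm_num)).mp h2
    omega
  subst hk1
  have hxS : x ∈ S := hS (Subgroup.mem_zpowers x)
  have h4 : (e ⟨x, hxS⟩) ^ 4 = 1 := by
    have hexp : Monoid.exponent (QuaternionGroup (2 ^ 1)) = 4 := by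
      rw [QuaternionGroup.exponent]; norm_num
    rw [← hexp]; exact Monoid.pow_exponent_eq_one _
  rw [← map_pow, map_eq_one_iff e e.injective] at h4
  have := congrArg Subtype.val h4
  simpa using this

theorem neg_one_mem_center : (-1 : SpecialLinearGroup (Fin 2) F) ∈
    Subgroup.center (SpecialLinearGroup (Fin 2) F) := by
  rw [Subgroup.mem_center_iff]
  intro g
  simp

/-- a `2`-element of `SL₂(q)`, `q ≡ 3, 5 (mod 8)`, has central square -/
theorem sq_mem_center {q : ℕ} (hF : Fintype.card F = q) (hq : q % 8 = 3 ∨ q % 8 = 5)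
    (x : SpecialLinearGroup (Fin 2) F) (hx : x ^ 8 = 1) :
    x ^ 2 ∈ Subgroup.center (SpecialLinearGroup (Fin 2) F) := by
  have hodd : Odd (Fintype.card F) := by rw [hF]; exact odd_of_mod hq
  have h4 := pow_four_eq_one hF hq x hx
  by_cases h1 : x ^ 2 = 1
  · rw [h1]; exact Subgroup.one_mem _
  · have h2 : x ^ 2 * x ^ 2 = 1 := by rw [← pow_add]; exact h4
    have h3 := Cfsg.Agent.S0268.result hodd (x ^ 2) h1 h2
    have h5 : x ^ 2 = -1 := by
      apply Subtype.ext
      rw [h3]; simp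
    rw [h5]; exact neg_one_mem_center

theorem card_PSL2 {q : ℕ} (hF : Fintype.card F = q) (hq : q % 8 = 3 ∨ q % 8 = 5) :
    ∃ o, Odd o ∧ Nat.card (ProjectiveSpecialLinearGroup (Fin 2) F) = 4 * o := by
  obtain ⟨o, ho, hcard⟩ := arith hq
  refine ⟨o, ho, ?_⟩
  have h := Cfsg.Agent.S0243.result hF 2 le_rfl
  have hq1 : q % 2 = 1 := by omega
  have hg : Nat.gcd 2 (q - 1) = 2 := by
    apply Nat.gcd_eq_left
    omega
  rw [hg] at h
  simp only [Fin.prod_univ_two, Fin.val_zero, Fin.val_one, pow_zero, pow_one] at h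
  have hq2 : 2 ≤ q := by omega
  have h2 : q ^ 2 - q = q * (q - 1) := by
    rw [Nat.mul_sub, mul_one, sq]
  rw [h2] at h
  have h3 : (q - 1) * (2 * Nat.card (ProjectiveSpecialLinearGroup (Fin 2) F)) = (q - 1) * (8 * o) := by
    rw [← hcard]
    linarith
  have h4 := Nat.eq_of_mul_eq_mul_left (by omega) h3
  omega

theorem isKleinFour {q : ℕ} (hF : Fintype.card F = q) (hq : q % 8 = 3 ∨ q % 8 = 5)
    (P : Sylow 2 (ProjectiveSpecialLinearGroup (Fin 2) F)) :
    IsKleinFour (P : Subgroup (ProjectiveSpecialLinearGroup (Fin 2) F)) := by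
  obtain ⟨o, ho, hcard⟩ := card_PSL2 hF hq
  have hcardP : Nat.card P = 4 := by
    rw [Sylow.card_eq_multiplicity, hcard, show (4 : ℕ) = 2 ^ 2 by norm_num,
      Nat.factorization_mul (by norm_num) (by rintro rfl; simp at ho),
      Nat.Prime.factorization_pow Nat.prime_two]
    simp [Nat.factorization_eq_zero_of_not_dvd (Nat.two_dvd_ne_zero.mpr (Nat.odd_iff.mp ho))]
  have hcen : Nat.card (Subgroup.center (SpecialLinearGroup (Fin 2) F)) = 2 := by
    rw [card_center_SL (F := F) 2 (by norm_num), card_units_field, hF]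
    apply Nat.gcd_eq_left
    omega
  have hsq : ∀ g : P, g ^ 2 = 1 := by
    rintro ⟨g, hg⟩
    apply Subtype.ext
    change g ^ 2 = 1
    have hg4 : g ^ 4 = 1 := by
      have := pow_card_eq_one' (G := P) (x := ⟨g, hg⟩)
      rw [hcardP] at this
      exact congrArg Subtype.val this
    obtain ⟨x, rfl⟩ := QuotientGroup.mk_surjective g
    have hx4 : x ^ 4 ∈ Subgroup.center (SpecialLinearGroup (Fin 2) F) := by
      rw [← QuotientGroup.eq_one_iff]
      exact hg4
    have hx8 : x ^ 8 = 1 := by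
      have := pow_card_eq_one' (G := Subgroup.center (SpecialLinearGroup (Fin 2) F)) (x := ⟨x ^ 4, hx4⟩)
      rw [hcen] at this
      have := congrArg Subtype.val this
      simp only [SubmonoidClass.mk_pow, OneMemClass.coe_one] at this
      rw [← this, ← pow_mul]
    have := sq_mem_center hF hq x hx8
    rw [← QuotientGroup.eq_one_iff] at this
    exact this
  refine ⟨hcardP, ?_⟩
  have hdvd : Monoid.exponent P ∣ 2 := Monoid.exponent_dvd_of_forall_pow_eq_one hsq
  rcases (Nat.dvd_prime Nat.prime_two).mp hdvd with h | h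
  · rw [Monoid.exp_eq_one_iff] at h
    have : Nat.card P ≤ 1 := Finite.card_le_one_iff_subsingleton.mpr h
    omega
  · exact h

end Cfsg.Agent.Helper2.PSL2K
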