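import Mathlib
import Cfsg.Agent.Helper2.Klein
import Cfsg.Agent.Helper2.OmegaGen
import Cfsg.Agent.Helper2.PSLSimple
import Cfsg.Agent.Helper2.SLCard
import Cfsg.Agent.Helper2.QuadPlus

/-! `PΩ₆⁺(q) ≃* PSL₄(q)` -/

set_option autoImplicit false
set_option linter.unusedSectionVars false
set_option linter.unusedVariables false
set_option linter.unusedSimpArgs false

namespace Cfsg.Agent.Helper2.KleinOmega

open Matrix Subgroup Cfsg.Agent.Helper2.Klein

variable {F : Type*} [Field F]

theorem comp2_smul (c : F) (A : Matrix (Fin 4) (Fin 4) F) : comp2 (c • A) = c ^ 2 • comp2 A := by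
  ext i j
  simp only [comp2, minor2, Matrix.smul_apply, smul_eq_mul]
  ring

/-- a transvection not in the kernel -/
theorem klein_transvection_ne_one :
    klein (⟨Matrix.transvection 0 1 1, Matrix.det_transvection_of_ne 0 1 (by decide) 1⟩ :
      SpecialLinearGroup (Fin 4) F) ≠ 1 := by
  intro h3
  have h4 : (comp2 (Matrix.transvection (0 : Fin 4) 1 (1 : F)) :
      Matrix (Fin 3 ⊕ Fin 3) (Fin 3 ⊕ Fin 3) F) = 1 := by
    have := congrArg (fun g : Cfsg.isometryGroup F (Cfsg.quadFormPlus 3 F) =>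
      ((g : GL (Fin 3 ⊕ Fin 3) F) : Matrix (Fin 3 ⊕ Fin 3) (Fin 3 ⊕ Fin 3) F)) h3
    exact this
  have h5 := congrFun (congrFun h4 (Sum.inl 1)) (Sum.inr 2)
  rw [Matrix.one_apply_ne (by simp)] at h5
  simp [comp2, minor2, pa, pb, sg, Matrix.transvection, Matrix.add_apply] at h5

theorem PSL_perfect {n : ℕ} (h3 : 3 ≤ n) :
    commutator (Matrix.ProjectiveSpecialLinearGroup (Fin n) F) = ⊤ :=
  OmegaGen.commutator_eq_top_of_surjective (QuotientGroup.mk' _) (QuotientGroup.mk'_surjective _)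
    (SL_commutator_eq_top (by simpa using h3))

theorem center_PSL_eq_bot {n : ℕ} (h3 : 3 ≤ n) :
    center (Matrix.ProjectiveSpecialLinearGroup (Fin n) F) = ⊥ := by
  have hs : IsSimpleGroup (Matrix.ProjectiveSpecialLinearGroup (Fin n) F) :=
    PSL_isSimpleGroup (by simpa using h3)
  rcases Subgroup.Normal.eq_bot_or_eq_top
    (inferInstance : (center (Matrix.ProjectiveSpecialLinearGroup (Fin n) F)).Normal) with h | h
  · exact h
  · exfalso
    have hcomm : ∀ a b : Matrix.ProjectiveSpecialLinearGroup (Fin n) F, a * b = b * a := by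
      intro a b
      have hb : b ∈ center (Matrix.ProjectiveSpecialLinearGroup (Fin n) F) := h ▸ mem_top b
      exact Subgroup.mem_center_iff.mp hb a
    have := OmegaGen.subsingleton_of_perfect_of_comm (PSL_perfect h3) hcomm
    exact not_subsingleton _ this

theorem ker_klein_le_center : (klein : SpecialLinearGroup (Fin 4) F →* _).ker ≤
    center (SpecialLinearGroup (Fin 4) F) := by
  have hs : IsSimpleGroup (Matrix.ProjectiveSpecialLinearGroup (Fin 4) F) :=
    PSL_isSimpleGroup (by simp)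
  set N := (klein : SpecialLinearGroup (Fin 4) F →* _).ker with hN
  have hmapn : (N.map (QuotientGroup.mk' (center (SpecialLinearGroup (Fin 4) F)))).Normal :=
    Subgroup.Normal.map inferInstance _ (QuotientGroup.mk'_surjective _)
  rcases hmapn.eq_bot_or_eq_top with h | h
  · rw [Subgroup.map_eq_bot_iff, QuotientGroup.ker_mk'] at h
    exact h
  · exfalso
    have h1 : N ⊔ center (SpecialLinearGroup (Fin 4) F) = ⊤ := by
      have := Subgroup.comap_map_eq (QuotientGroup.mk' (center (SpecialLinearGroup (Fin 4) F))) N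
      rw [h, Subgroup.comap_top, QuotientGroup.ker_mk'] at this
      exact this.symm
    have h2 : commutator (SpecialLinearGroup (Fin 4) F) ≤ N :=
      Subgroup.Normal.commutator_le_of_self_sup_commutative_eq_top h1 inferInstance
    rw [SL_commutator_eq_top (by simp)] at h2
    apply klein_transvection_ne_one (F := F)
    exact MonoidHom.mem_ker.mp (h2 (mem_top _))

theorem ker_klein_scalar (A : SpecialLinearGroup (Fin 4) F)
    (hA : A ∈ (klein : SpecialLinearGroup (Fin 4) F →* _).ker) :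
    ∃ r : F, r ^ 2 = 1 ∧ (A : Matrix (Fin 4) (Fin 4) F) = r • (1 : Matrix (Fin 4) (Fin 4) F) := by
  have hc := ker_klein_le_center hA
  rw [Matrix.SpecialLinearGroup.mem_center_iff] at hc
  obtain ⟨r, hr4, hr⟩ := hc
  have hr' : (A : Matrix (Fin 4) (Fin 4) F) = r • (1 : Matrix (Fin 4) (Fin 4) F) := by
    rw [← hr, Matrix.smul_one_eq_diagonal]; rfl
  refine ⟨r, ?_, hr'⟩
  have h1 : (comp2 (A : Matrix (Fin 4) (Fin 4) F) :
      Matrix (Fin 3 ⊕ Fin 3) (Fin 3 ⊕ Fin 3) F) = 1 := by
    have := congrArg (fun g : Cfsg.isometryGroup F (Cfsg.quadFormPlus 3 F) =>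
      ((g : GL (Fin 3 ⊕ Fin 3) F) : Matrix (Fin 3 ⊕ Fin 3) (Fin 3 ⊕ Fin 3) F))
      (MonoidHom.mem_ker.mp hA)
    exact this
  rw [hr', comp2_smul, comp2_one] at h1
  have := congrFun (congrFun h1 (Sum.inl 0)) (Sum.inl 0)
  simpa using this

theorem card_ker_klein_dvd_two [Finite F] :
    Nat.card (klein : SpecialLinearGroup (Fin 4) F →* _).ker ∣ 2 := by
  classical
  let f : (klein : SpecialLinearGroup (Fin 4) F →* _).ker → Bool :=
    fun A => decide ((A.1 : Matrix (Fin 4) (Fin 4) F) 0 0 = 1)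
  have hinj : Function.Injective f := by
    intro A B hAB
    obtain ⟨r, hr, hA⟩ := ker_klein_scalar A.1 A.2
    obtain ⟨s, hs, hB⟩ := ker_klein_scalar B.1 B.2
    have hA0 : (A.1 : Matrix (Fin 4) (Fin 4) F) 0 0 = r := by rw [hA]; simp
    have hB0 : (B.1 : Matrix (Fin 4) (Fin 4) F) 0 0 = s := by rw [hB]; simp
    have hrs : r = s := by
      simp only [f, hA0, hB0, decide_eq_decide] at hAB
      rcases sq_eq_one_iff.mp hr with h1 | h1 <;> rcases sq_eq_one_iff.mp hs with h2 | h2
      · rw [h1, h2]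
      · exact (hAB.mp h1).symm ▸ h1 |>.trans (by rw [hAB.mp h1])
      · exact (hAB.mpr h2).trans h2.symm ▸ rfl
      · rw [h1, h2]
    apply Subtype.ext
    apply Subtype.ext
    rw [hA, hB, hrs]
  have hle : Nat.card (klein : SpecialLinearGroup (Fin 4) F →* _).ker ≤ 2 := by
    have := Nat.card_le_card_of_injective f hinj
    simpa using this
  have hpos : 0 < Nat.card (klein : SpecialLinearGroup (Fin 4) F →* _).ker := Nat.card_pos
  interval_cases Nat.card (klein : SpecialLinearGroup (Fin 4) F →* _).ker <;> norm_num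

theorem card_GO6_eq [Fintype F] :
    Nat.card (Cfsg.isometryGroup F (Cfsg.quadFormPlus 3 F)) =
      2 * Nat.card (SpecialLinearGroup (Fin 4) F) := by
  set q := Fintype.card F with hq
  have hq2 : 2 ≤ q := Fintype.one_lt_card
  have h1 := Quad.card_GO_plus (F := F) (q := q) rfl 3 (by norm_num)
  have h2 := card_SL_mul_card_units (ι := Fin 4) (F := F)
  rw [Matrix.card_GL_field, card_units_field, ← hq, Fin.prod_univ_four] at h2
  rw [h1]
  have hpos : 0 < q - 1 := by omega
  apply Nat.eq_of_mul_eq_mul_right hpos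
  rw [mul_assoc 2 (Nat.card _) (q - 1), h2]
  simp only [Finset.prod_range_succ, Finset.prod_range_zero, one_mul]
  have e1 : q ^ 4 - q ^ (1 : ℕ) = q * (q ^ 3 - 1) := by
    rw [Nat.mul_sub]; ring_nf
  have e2 : q ^ 4 - q ^ (2 : ℕ) = q ^ 2 * (q ^ 2 - 1) := by
    rw [Nat.mul_sub]; ring_nf
  have e3 : q ^ 4 - q ^ (3 : ℕ) = q ^ 3 * (q - 1) := by
    rw [Nat.mul_sub]; ring_nf
  have e0 : q ^ 4 - q ^ (0 : ℕ) = q ^ 4 - 1 := by rw [pow_zero]
  simp only [Fin.val_zero, Fin.val_one, Fin.val_two]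
  have e4 : ((3 : Fin 4) : ℕ) = 3 := rfl
  rw [e4, e0, e1, e2, e3]
  ring

theorem nonempty_mulEquiv [Fintype F] :
    Nonempty (Cfsg.POmega F (Cfsg.quadFormPlus 3 F) ≃*
      Matrix.ProjectiveSpecialLinearGroup (Fin 4) F) :=
  OmegaGen.nonempty_mulEquiv (klein : SpecialLinearGroup (Fin 4) F →* _)
    (SL_commutator_eq_top (by simp)) ker_klein_le_center (center_PSL_eq_bot (by norm_num))
    (OmegaGen.index_dvd_four_of_card _ card_GO6_eq card_ker_klein_dvd_two)

end Cfsg.Agent.Helper2.KleinOmega
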