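import Mathlib

set_option autoImplicit false

/-! Piece NOOB of the S2768/S2769 board: the abstract counting behind 5.5 (no over-offender). -/

namespace Cfsg.Agent.S2768P

open Subgroup
open scoped commutatorElement

/-- Counting core: `A` acts on the finite abelian group `W`, `χ` is a character of `W`, `C` is a
subgroup of fixed points, and `K ≤ A` contains the stabiliser of `χ`.  Then `|A| ≤ |W/C|·|K|`. -/
theorem NOOB_aux_core {W : Type*} [CommGroup W] [Finite W] {A : Type*} [Group A] [Finite A]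
    (act : A →* MulAut W) (χ : W →* ℂˣ) (C : Subgroup W)
    (hC : ∀ a : A, ∀ w ∈ C, act a w = w)
    (K : Subgroup A) (hK : ∀ a : A, (∀ w, χ (act a w) = χ w) → a ∈ K) :
    Nat.card A ≤ Nat.card (W ⧸ C) * Nat.card K := by
  classical
  have := Fintype.ofFinite A
  -- the twisted characters
  let ψ : A → (W →* ℂˣ) := fun a => (χ.comp (act a).toMonoidHom) / χ
  have hψ : ∀ a w, ψ a w = χ (act a w) / χ w := fun a w => rfl
  have hψC : ∀ a, C ≤ (ψ a).ker := by
    intro a w hw
    rw [MonoidHom.mem_ker, hψ, hC a w hw, div_self']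
  let f : A → (W ⧸ C →* ℂˣ) := fun a => QuotientGroup.lift C (ψ a) (hψC a)
  have hf : ∀ a b, f a = f b → a * b⁻¹ ∈ K := by
    intro a b hab
    apply hK
    intro w
    have h1 : ∀ w', χ (act a w') = χ (act b w') := by
      intro w'
      have := DFunLike.congr_fun hab (QuotientGroup.mk w')
      simp only [f, QuotientGroup.lift_mk, hψ] at this
      exact div_left_injective this
    have := h1 ((act b⁻¹) w)
    rw [map_mul, MulAut.mul_apply, this, ← MulAut.mul_apply, ← map_mul, mul_inv_cancel, map_one,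
      MulAut.one_apply]
  have := Fintype.ofFinite (W ⧸ C →* ℂˣ)
  have hcard : Nat.card (W ⧸ C →* ℂˣ) = Nat.card (W ⧸ C) :=
    CommGroup.card_monoidHom_of_hasEnoughRootsOfUnity (W ⧸ C) ℂ
  have h1 := Finset.card_le_mul_card_image (f := f) (Finset.univ : Finset A) (Nat.card K) (by
    intro φ hφ
    obtain ⟨a, _, rfl⟩ := Finset.mem_image.mp hφ
    -- the fibre embeds in K via x ↦ x * a⁻¹
    have hinj : Function.Injective
        (fun x : {x // x ∈ (Finset.univ.filter fun x => f x = f a)} =>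
          (⟨x.1 * a⁻¹, hf x.1 a (Finset.mem_filter.mp x.2).2⟩ : K)) := by
      intro x y hxy
      have := congrArg Subtype.val hxy
      simp only [mul_left_inj] at this
      exact Subtype.ext this
    have := Nat.card_le_card_of_injective _ hinj
    rwa [Nat.card_eq_fintype_card, Fintype.card_coe] at this)
  calc Nat.card A = (Finset.univ : Finset A).card := by
        rw [Finset.card_univ, Nat.card_eq_fintype_card]
    _ ≤ Nat.card K * (Finset.univ.image f).card := h1
    _ ≤ Nat.card K * Nat.card (W ⧸ C →* ℂˣ) := by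
        refine Nat.mul_le_mul_left _ ?_
        rw [Nat.card_eq_fintype_card]
        exact Finset.card_le_univ _
    _ = Nat.card (W ⧸ C) * Nat.card K := by rw [hcard, mul_comm]

open scoped IsMulCommutative in
theorem NOOB_aux_main {G : Type*} [Group G] [Finite G] (V : Subgroup G) [V.Normal]
    [IsMulCommutative ↥V] (T A A₀ : Subgroup G)
    (hlt : ⁅V, T⁆ < ⁅V, (⊤ : Subgroup G)⁆)
    (hstab : ∀ I : Subgroup G, T ≤ I → I ≠ ⊤ → I ⊓ A ≤ A₀) :
    Nat.card ↥A * Nat.card ↥(V ⊓ centralizer (A : Set G)) ≤ Nat.card ↥V * Nat.card ↥A₀ := by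
  classical
  have hVT : ⁅V, T⁆ ≤ V := Subgroup.commutator_le_left V T
  have hVG : ⁅V, (⊤ : Subgroup G)⁆ ≤ V := Subgroup.commutator_le_left V ⊤
  obtain ⟨m, hmG, hmT⟩ := SetLike.exists_of_lt hlt
  have hmV : m ∈ V := hVG hmG
  -- the character
  set N : Subgroup ↥V := (⁅V, T⁆).subgroupOf V with hN
  have hm1 : (QuotientGroup.mk (⟨m, hmV⟩ : ↥V) : ↥V ⧸ N) ≠ 1 := by
    intro h
    rw [QuotientGroup.eq_one_iff, hN, mem_subgroupOf] at h
    exact hmT h
  obtain ⟨χ₀, hχ₀⟩ := CommGroup.exists_apply_ne_one_of_hasEnoughRootsOfUnity (↥V ⧸ N) ℂ hm1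
  set χ : ↥V →* ℂˣ := χ₀.comp (QuotientGroup.mk' N) with hχ
  have hχN : ∀ v : ↥V, (v : G) ∈ ⁅V, T⁆ → χ v = 1 := by
    intro v hv
    have : (QuotientGroup.mk v : ↥V ⧸ N) = 1 := by
      rw [QuotientGroup.eq_one_iff, hN, mem_subgroupOf]; exact hv
    rw [hχ, MonoidHom.comp_apply, QuotientGroup.mk'_apply, this, map_one]
  have hχm : χ ⟨m, hmV⟩ ≠ 1 := hχ₀
  -- the stabiliser
  let I : Subgroup G :=
    { carrier := {x | ∀ v : ↥V, χ (MulAut.conjNormal x v) = χ v}
      one_mem' := by intro v; simp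
      mul_mem' := by
        intro x y hx hy v
        rw [map_mul, MulAut.mul_apply, hx, hy]
      inv_mem' := by
        intro x hx v
        have := hx (MulAut.conjNormal x⁻¹ v)
        rw [← MulAut.mul_apply, ← map_mul, mul_inv_cancel, map_one, MulAut.one_apply] at this
        exact this.symm }
  have hI : ∀ x, x ∈ I ↔ ∀ v : ↥V, χ (MulAut.conjNormal x v) = χ v := fun x => Iff.rfl
  -- conjugation = multiplication by a commutator
  have hconj : ∀ (x : G) (v : ↥V), ∃ c : ↥V, (c : G) = ⁅(v : G)⁻¹, x⁆ ∧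
      MulAut.conjNormal x v = v * c := by
    intro x v
    have hc : ⁅(v : G)⁻¹, x⁆ ∈ V := by
      rw [commutatorElement_def]
      have h1 : x * (v : G) * x⁻¹ ∈ V := ‹V.Normal›.conj_mem _ v.2 x
      have : (v : G)⁻¹ * x * (v : G)⁻¹⁻¹ * x⁻¹ = (v : G)⁻¹ * (x * (v : G) * x⁻¹) := by
        simp [mul_assoc]
      rw [this]
      exact V.mul_mem (V.inv_mem v.2) h1
    refine ⟨⟨_, hc⟩, rfl, ?_⟩
    apply Subtype.ext
    rw [MulAut.conjNormal_apply, Subgroup.coe_mul]
    change x * (v : G) * x⁻¹ = (v : G) * ⁅(v : G)⁻¹, x⁆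
    rw [commutatorElement_def]
    simp [mul_assoc]
  have hTI : T ≤ I := by
    intro t ht
    rw [hI]
    intro v
    obtain ⟨c, hc, hcv⟩ := hconj t v
    rw [hcv, map_mul, hχN c, mul_one]
    rw [hc]
    exact Subgroup.commutator_mem_commutator (V.inv_mem v.2) ht
  have hItop : I ≠ ⊤ := by
    intro htop
    have hle : ⁅V, (⊤ : Subgroup G)⁆ ≤ (χ.ker).map V.subtype := by
      rw [Subgroup.commutator_le]
      intro g₁ hg₁ g₂ _
      have hg₂ : g₂ ∈ I := by rw [htop]; exact mem_top _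
      rw [hI] at hg₂
      obtain ⟨c, hc, hcv⟩ := hconj g₂ ⟨g₁⁻¹, V.inv_mem hg₁⟩
      have h2 := hg₂ ⟨g₁⁻¹, V.inv_mem hg₁⟩
      rw [hcv, map_mul] at h2
      have h3 : χ c = 1 := by
        have := mul_left_cancel (a := χ ⟨g₁⁻¹, V.inv_mem hg₁⟩) (b := χ c) (c := 1)
          (by rw [mul_one]; exact h2)
        exact this
      refine ⟨c, h3, ?_⟩
      rw [Subgroup.coe_subtype, hc]
      simp
    obtain ⟨c, hc, hcm⟩ := hle hmG
    apply hχm
    have : c = ⟨m, hmV⟩ := Subtype.ext hcm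
    rw [← this]
    exact hc
  have hIA : I ⊓ A ≤ A₀ := hstab I hTI hItop
  -- apply the counting core
  let act : ↥A →* MulAut ↥V := (MulAut.conjNormal).comp A.subtype
  set C : Subgroup ↥V := (V ⊓ centralizer (A : Set G)).subgroupOf V with hCdef
  have hcore := NOOB_aux_core act χ C
    (by
      intro a w hw
      rw [hCdef, mem_subgroupOf] at hw
      apply Subtype.ext
      change ((MulAut.conjNormal (a : G)) w : G) = w
      rw [MulAut.conjNormal_apply]
      have := hw.2 (a : G) a.2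
      rw [this, mul_inv_cancel_right])
    (A₀.subgroupOf A)
    (by
      intro a ha
      rw [mem_subgroupOf]
      exact hIA ⟨(hI _).mpr ha, a.2⟩)
  have hcardC : Nat.card C = Nat.card ↥(V ⊓ centralizer (A : Set G)) :=
    Nat.card_congr (Subgroup.subgroupOfEquivOfLe inf_le_left).toEquiv
  have hcardK : Nat.card (A₀.subgroupOf A) ≤ Nat.card ↥A₀ :=
    Nat.card_le_card_of_injective (fun x : A₀.subgroupOf A => (⟨(x : G), mem_subgroupOf.mp x.2⟩ : A₀))
      (by
        intro x y hxy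
        have := congrArg Subtype.val hxy
        exact Subtype.ext (Subtype.ext this))
  have hcardV : Nat.card ↥V = Nat.card (↥V ⧸ C) * Nat.card C :=
    Subgroup.card_eq_card_quotient_mul_card_subgroup C
  calc Nat.card ↥A * Nat.card ↥(V ⊓ centralizer (A : Set G))
      ≤ (Nat.card (↥V ⧸ C) * Nat.card (A₀.subgroupOf A)) * Nat.card C := by
        rw [hcardC]; exact Nat.mul_le_mul_right _ hcore
    _ = Nat.card ↥V * Nat.card (A₀.subgroupOf A) := by rw [hcardV]; ring
    _ ≤ Nat.card ↥V * Nat.card ↥A₀ := Nat.mul_le_mul_left _ hcardK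

theorem NOOB {G : Type*} [Group G] [Finite G] (V : Subgroup G) [V.Normal]
    (hVc : ∀ a ∈ V, ∀ b ∈ V, a * b = b * a) (T A A₀ : Subgroup G)
    (hlt : ⁅V, T⁆ < ⁅V, (⊤ : Subgroup G)⁆)
    (hstab : ∀ I : Subgroup G, T ≤ I → I ≠ ⊤ → I ⊓ A ≤ A₀) :
    Nat.card ↥A * Nat.card ↥(V ⊓ centralizer (A : Set G)) ≤ Nat.card ↥V * Nat.card ↥A₀ := by
  have : IsMulCommutative ↥V := ⟨⟨fun a b => Subtype.ext (hVc a a.2 b b.2)⟩⟩
  exact NOOB_aux_main V T A A₀ hlt hstab

end Cfsg.Agent.S2768P
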