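import Mathlib
import Cfsg.Prelude.Def_GeometricClasses
import Cfsg.Agent.Helper2.S5886.Defs
import Cfsg.Agent.Helper2.S5664.Defs

/-! S5664 chapter C3', piece TFROB (helper2): the coordinatewise Frobenius of a symplectic basis. -/

set_option autoImplicit false

namespace Cfsg.Agent.S5664P

open Cfsg.Agent.S5886P

variable {F K V : Type*} [Field F] [Field K] [Algebra F K]
  [AddCommGroup V] [Module F V] [Module K V] [IsScalarTower F K V]

namespace TFROB

theorem skew (B : V →ₗ[K] V →ₗ[K] K) (hB : IsAltND B) (x y : V) : B x y = - B y x := by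
  have h := hB.alt (x + y)
  simp only [map_add, LinearMap.add_apply, hB.alt x, hB.alt y, zero_add, add_zero] at h
  linear_combination h

/-- `x ↦ σ (B x y) • z` as an `F`-linear map -/
noncomputable def term (B : V →ₗ[K] V →ₗ[K] K) (σ : K ≃ₐ[F] K) (y z : V) : V →ₗ[F] V where
  toFun x := σ (B x y) • z
  map_add' x x' := by
    simp only [map_add, LinearMap.add_apply, add_smul]
  map_smul' c x := by
    simp only [RingHom.id_apply]
    have h1 : B (c • x) y = c • B x y := by
      rw [← algebraMap_smul K c x, map_smul, LinearMap.smul_apply, algebraMap_smul]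
    rw [h1, map_smul, smul_assoc]

theorem term_apply (B : V →ₗ[K] V →ₗ[K] K) (σ : K ≃ₐ[F] K) (y z x : V) :
    term B σ y z x = σ (B x y) • z := rfl

end TFROB

open TFROB in
theorem TFROB [Finite F] [Finite K] [Finite V] (B : V →ₗ[K] V →ₗ[K] K) (hB : IsAltND B) {m : ℕ}
    (b b' : Fin m → V) (hbb : ∀ i j, B (b i) (b j) = 0) (hb'b' : ∀ i j, B (b' i) (b' j) = 0)
    (hbb' : ∀ i j, B (b i) (b' j) = if i = j then 1 else 0)
    (hexp : ∀ x, x = ∑ i, (B x (b' i) • b i - B x (b i) • b' i)) (σ : K ≃ₐ[F] K) :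
    ∃ φ : V ≃ₗ[F] V, (∀ (c : K) (x : V), φ (c • x) = σ c • φ x) ∧
      (∀ x y, B (φ x) (φ y) = σ (B x y)) ∧ (∀ i, φ (b i) = b i) ∧ (∀ i, φ (b' i) = b' i) := by
  classical
  have hb'b : ∀ i j, B (b' i) (b j) = if i = j then -1 else 0 := by
    intro i j
    rw [skew B hB, hbb']
    by_cases h : i = j
    · subst h; simp
    · have h' : ¬ j = i := fun h' => h h'.symm
      simp [h, h']
  let φ₀ : V →ₗ[F] V := ∑ i, (term B σ (b' i) (b i) - term B σ (b i) (b' i))
  have hφ₀ : ∀ x, φ₀ x = ∑ i, (σ (B x (b' i)) • b i - σ (B x (b i)) • b' i) := by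
    intro x
    simp only [φ₀, LinearMap.sum_apply, LinearMap.sub_apply, term_apply]
  have hc1 : ∀ x j, B (φ₀ x) (b' j) = σ (B x (b' j)) := by
    intro x j
    rw [hφ₀]
    simp only [map_sum, map_sub, map_smul, LinearMap.sum_apply, LinearMap.sub_apply,
      LinearMap.smul_apply, smul_eq_mul, hbb', hb'b']
    simp
  have hc2 : ∀ x j, B (φ₀ x) (b j) = σ (B x (b j)) := by
    intro x j
    rw [hφ₀]
    simp only [map_sum, map_sub, map_smul, LinearMap.sum_apply, LinearMap.sub_apply,
      LinearMap.smul_apply, smul_eq_mul, hbb, hb'b]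
    simp
  have hsemi : ∀ (c : K) (x : V), φ₀ (c • x) = σ c • φ₀ x := by
    intro c x
    rw [hφ₀, hφ₀, Finset.smul_sum]
    apply Finset.sum_congr rfl
    intro i _
    simp only [map_smul, LinearMap.smul_apply, smul_eq_mul, map_mul, smul_sub, smul_smul]
  have hinj : Function.Injective φ₀ := by
    rw [← LinearMap.ker_eq_bot, LinearMap.ker_eq_bot']
    intro x hx
    have h1 : ∀ j, B x (b' j) = 0 := by
      intro j
      have := hc1 x j
      rw [hx, map_zero, LinearMap.zero_apply] at this
      exact (map_eq_zero_iff σ σ.injective).mp this.symm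
    have h2 : ∀ j, B x (b j) = 0 := by
      intro j
      have := hc2 x j
      rw [hx, map_zero, LinearMap.zero_apply] at this
      exact (map_eq_zero_iff σ σ.injective).mp this.symm
    rw [hexp x]
    apply Finset.sum_eq_zero
    intro i _
    rw [h1, h2, zero_smul, zero_smul, sub_zero]
  have hbij : Function.Bijective φ₀ := ⟨hinj, Finite.injective_iff_surjective.mp hinj⟩
  refine ⟨LinearEquiv.ofBijective φ₀ hbij, ?_, ?_, ?_, ?_⟩
  · intro c x
    exact hsemi c x
  · intro x y
    show B (φ₀ x) (φ₀ y) = σ (B x y)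
    conv_lhs => rw [hφ₀ y]
    conv_rhs => rw [hexp y]
    simp only [map_sum, map_sub, map_smul, smul_eq_mul, hc1, hc2, map_mul]
  · intro i
    show φ₀ (b i) = b i
    rw [hφ₀]
    simp only [hbb', hbb, map_zero, zero_smul, sub_zero]
    simp
  · intro i
    show φ₀ (b' i) = b' i
    rw [hφ₀]
    simp only [hb'b', hb'b, map_zero, zero_smul, zero_sub]
    simp only [apply_ite σ, map_neg, map_one, map_zero, ite_smul, neg_smul, one_smul, zero_smul]
    rw [Finset.sum_eq_single i]
    · simp
    · intro j _ hj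
      have : ¬ i = j := fun h => hj h.symm
      simp [this]
    · intro h
      exact (h (Finset.mem_univ _)).elim

end Cfsg.Agent.S5664P
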