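import Mathlib
import Cfsg.Prelude.Def_GeometricClasses
import Cfsg.Agent.Helper2.S5886.Defs
import Cfsg.Agent.Helper2.S5664.Defs
import Cfsg.Agent.Helper28.CD2

/-! S5664 chapter C3', piece TSYMPB (helper2): a symplectic `K`-basis through a hyperbolic pair,
with its expansion formula. -/

set_option autoImplicit false

namespace Cfsg.Agent.S5664P

open Cfsg.Agent.S5886P

variable {F K V : Type*} [Field F] [Field K] [Algebra F K]
  [AddCommGroup V] [Module F V] [Module K V] [IsScalarTower F K V]

namespace TSYMPB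

theorem skew (B : V →ₗ[K] V →ₗ[K] K) (hB : IsAltND B) (x y : V) : B x y = - B y x := by
  have h := hB.alt (x + y)
  simp only [map_add, LinearMap.add_apply, hB.alt x, hB.alt y, zero_add, add_zero] at h
  linear_combination h

end TSYMPB

theorem TSYMPB [Finite K] [Finite V] (hd : 4 ≤ Module.finrank K V)
    (B : V →ₗ[K] V →ₗ[K] K) (hB : IsAltND B) (v w' : V) (hvw : B v w' = 1) :
    ∃ (n : ℕ) (b b' : Fin (n + 2) → V), b 0 = v ∧ b' 0 = w' ∧
      (∀ i j, B (b i) (b j) = 0) ∧ (∀ i j, B (b' i) (b' j) = 0) ∧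
      (∀ i j, B (b i) (b' j) = if i = j then 1 else 0) ∧
      ∀ x, x = ∑ i, (B x (b' i) • b i - B x (b i) • b' i) := by
  classical
  have hwv : B w' v = -1 := by rw [TSYMPB.skew B hB, hvw]
  -- the subspace `U = ⟨v, w'⟩^⊥`
  let Ψ : V →ₗ[K] K × K := LinearMap.prod (B.flip v) (B.flip w')
  have hΨ : ∀ x, Ψ x = (B x v, B x w') := fun x => rfl
  set U : Submodule K V := LinearMap.ker Ψ with hU
  have hmemU : ∀ x, x ∈ U ↔ B x v = 0 ∧ B x w' = 0 := by
    intro x
    rw [hU, LinearMap.mem_ker, hΨ, Prod.mk_eq_zero]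
  have hΨsurj : Function.Surjective Ψ := by
    rintro ⟨a, c⟩
    refine ⟨-a • w' + c • v, ?_⟩
    rw [hΨ]
    simp only [map_add, map_smul, LinearMap.add_apply, LinearMap.smul_apply, smul_eq_mul, hwv,
      hvw, hB.alt v, hB.alt w', mul_zero, add_zero, zero_add]
    refine Prod.ext ?_ ?_ <;> simp
  have hdimU : Module.finrank K U + 2 = Module.finrank K V := by
    have h1 : Module.finrank K (LinearMap.range Ψ) + Module.finrank K U = Module.finrank K V :=
      LinearMap.finrank_range_add_finrank_ker Ψ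
    rw [LinearMap.range_eq_top.mpr hΨsurj, finrank_top, Module.finrank_prod,
      Module.finrank_self] at h1
    omega
  have hndU : ∀ u ∈ U, (∀ y ∈ U, B u y = 0) → u = 0 := by
    intro u hu h
    apply hB.nd
    intro x
    obtain ⟨hu1, hu2⟩ := (hmemU u).mp hu
    set x' : V := x - B x w' • v + B x v • w' with hx'
    have hx'U : x' ∈ U := by
      rw [hmemU]
      constructor
      · simp only [hx', map_add, map_sub, map_smul, LinearMap.add_apply, LinearMap.sub_apply,
          LinearMap.smul_apply, smul_eq_mul, hB.alt v, hwv]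
        ring
      · simp only [hx', map_add, map_sub, map_smul, LinearMap.add_apply, LinearMap.sub_apply,
          LinearMap.smul_apply, smul_eq_mul, hB.alt w', hvw]
        ring
    have h0 := h x' hx'U
    have huv : B u v = 0 := hu1
    have huw : B u w' = 0 := hu2
    simp only [hx', map_add, map_sub, map_smul, smul_eq_mul, huv, huw, mul_zero, sub_zero,
      add_zero] at h0
    exact h0
  have hA : LinearMap.BilinForm.IsAlt (B : LinearMap.BilinForm K V) := hB.alt
  obtain ⟨j, e, f, hj, heU, hfU, hee, hff, hef⟩ :=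
    Cfsg.Agent.Helper28.CD2.exists_alt_frame' (B : LinearMap.BilinForm K V) hA
      (Module.finrank K U) U rfl hndU
  obtain ⟨n, rfl⟩ : ∃ n, j = n + 1 := ⟨j - 1, by omega⟩
  have hfe : ∀ i i', B (f i) (e i') = if i = i' then -1 else 0 := by
    intro i i'
    rw [TSYMPB.skew B hB, hef]
    by_cases h : i = i'
    · subst h; simp
    · have h' : ¬ i' = i := fun h' => h h'.symm
      simp [h, h']
  have hev : ∀ i, B (e i) v = 0 := fun i => ((hmemU _).mp (heU i)).1
  have hew : ∀ i, B (e i) w' = 0 := fun i => ((hmemU _).mp (heU i)).2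
  have hfv : ∀ i, B (f i) v = 0 := fun i => ((hmemU _).mp (hfU i)).1
  have hfw : ∀ i, B (f i) w' = 0 := fun i => ((hmemU _).mp (hfU i)).2
  have hve : ∀ i, B v (e i) = 0 := fun i => by rw [TSYMPB.skew B hB, hev, neg_zero]
  have hwe : ∀ i, B w' (e i) = 0 := fun i => by rw [TSYMPB.skew B hB, hew, neg_zero]
  have hvf : ∀ i, B v (f i) = 0 := fun i => by rw [TSYMPB.skew B hB, hfv, neg_zero]
  have hwf : ∀ i, B w' (f i) = 0 := fun i => by rw [TSYMPB.skew B hB, hfw, neg_zero]
  let b : Fin (n + 2) → V := Fin.cons v e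
  let b' : Fin (n + 2) → V := Fin.cons w' f
  have hb0 : b 0 = v := rfl
  have hb'0 : b' 0 = w' := rfl
  have hbs : ∀ i : Fin (n + 1), b i.succ = e i := fun i => rfl
  have hb's : ∀ i : Fin (n + 1), b' i.succ = f i := fun i => rfl
  have hbb : ∀ i j, B (b i) (b j) = 0 := by
    intro i j
    refine Fin.cases ?_ (fun i => ?_) i <;> refine Fin.cases ?_ (fun j => ?_) j
    · rw [hb0]; exact hB.alt v
    · rw [hb0, hbs]; exact hve j
    · rw [hb0, hbs]; exact hev i
    · rw [hbs, hbs]; exact hee i j
  have hb'b' : ∀ i j, B (b' i) (b' j) = 0 := by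
    intro i j
    refine Fin.cases ?_ (fun i => ?_) i <;> refine Fin.cases ?_ (fun j => ?_) j
    · rw [hb'0]; exact hB.alt w'
    · rw [hb'0, hb's]; exact hwf j
    · rw [hb'0, hb's]; exact hfw i
    · rw [hb's, hb's]; exact hff i j
  have hbb' : ∀ i j, B (b i) (b' j) = if i = j then 1 else 0 := by
    intro i j
    refine Fin.cases ?_ (fun i => ?_) i <;> refine Fin.cases ?_ (fun j => ?_) j
    · rw [hb0, hb'0, hvw]; simp
    · rw [hb0, hb's, hvf]
      simp [(Fin.succ_ne_zero j).symm]
    · rw [hbs, hb'0, hew]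
      simp [Fin.succ_ne_zero]
    · rw [hbs, hb's, hef]
      simp [Fin.succ_inj]
  have hb'b : ∀ i j, B (b' i) (b j) = if i = j then -1 else 0 := by
    intro i j
    rw [TSYMPB.skew B hB, hbb']
    by_cases h : i = j
    · subst h; simp
    · have h' : ¬ j = i := fun h' => h h'.symm
      simp [h, h']
  -- the coordinate map
  let Φ : V →ₗ[K] (Fin (n + 2) → K) × (Fin (n + 2) → K) :=
    LinearMap.prod (LinearMap.pi fun i => B.flip (b' i)) (LinearMap.pi fun i => B.flip (b i))
  have hΦ : ∀ x, Φ x = (fun i => B x (b' i), fun i => B x (b i)) := fun x => rfl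
  have hcomb : ∀ (x y : Fin (n + 2) → K), Φ (∑ i, (x i • b i - y i • b' i)) = (x, y) := by
    intro x y
    rw [hΦ]
    refine Prod.ext ?_ ?_
    · funext l
      simp only [map_sum, map_sub, map_smul, LinearMap.sum_apply, LinearMap.sub_apply,
        LinearMap.smul_apply, smul_eq_mul, hbb', hb'b']
      simp
    · funext l
      simp only [map_sum, map_sub, map_smul, LinearMap.sum_apply, LinearMap.sub_apply,
        LinearMap.smul_apply, smul_eq_mul, hbb, hb'b]
      simp
  have hsurj : Function.Surjective Φ := fun p => ⟨_, hcomb p.1 p.2⟩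
  have hdim : Module.finrank K V =
      Module.finrank K ((Fin (n + 2) → K) × (Fin (n + 2) → K)) := by
    rw [Module.finrank_prod, Module.finrank_fin_fun]
    omega
  have hinj : Function.Injective Φ :=
    (LinearMap.injective_iff_surjective_of_finrank_eq_finrank hdim).mpr hsurj
  refine ⟨n, b, b', hb0, hb'0, hbb, hb'b', hbb', fun x => ?_⟩
  apply hinj
  rw [hcomb, hΦ]

end Cfsg.Agent.S5664P
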