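import Mathlib
import Cfsg.Prelude.Def_GeometricClasses
import Cfsg.Agent.Helper2.S5886.Defs
import Cfsg.Agent.Helper2.S5664.Defs
import Cfsg.Agent.Helper2.S5664TSYMPB
import Cfsg.Agent.Helper2.S5664TFROB
import Cfsg.Agent.Helper23.S5664KSPTV
import Cfsg.Agent.Helper23.S5664SPKLE
import Cfsg.Agent.Helper23.S5886GALFIX
import Cfsg.Agent.Helper25.S5664TCHAR2
import Cfsg.Agent.Helper25.S5664TGAL2
import Cfsg.Agent.Helper25.S5664TKSPAN

/-! # S5664 chapter T (r = p = 2), piece TNZ — helper2 (design helper12) -/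

set_option autoImplicit false

namespace Cfsg.Agent.S5664P

open Cfsg.Agent.S5886P

variable {F K V : Type*} [Field F] [Field K] [Algebra F K]
  [AddCommGroup V] [Module F V] [Module K V] [IsScalarTower F K V]

namespace TNZ

/-- an `F`-linear map fixing `v` and `k • v` (`k ∉ F`, `[K : F] = 2`) fixes `K v` pointwise. -/
theorem fix_line [Finite F] [Finite K] (hr2 : Module.finrank F K = 2) (k : K)
    (hk : k ∉ Set.range (algebraMap F K)) (v : V) (g : V ≃ₗ[F] V) (h1 : g v = v)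
    (h2 : g (k • v) = k • v) : ∀ x ∈ Kline (F := F) (K := K) v, g x = x := by
  intro x hx
  have hx' : x ∈ Submodule.span K {v} := hx
  obtain ⟨c, rfl⟩ := Submodule.mem_span_singleton.mp hx'
  obtain ⟨a, b, rfl⟩ := TKSPAN hr2 k hk c
  rw [add_smul, algebraMap_smul, smul_assoc, map_add, map_smul, map_smul, h1, h2]

theorem inv_apply_eq (g : V ≃ₗ[F] V) (x y : V) (h : g x = y) : g⁻¹ y = x := by
  rw [← h]
  show g.symm (g x) = x
  exact g.symm_apply_apply x

theorem apply_inv (g : V ≃ₗ[F] V) (x : V) : g (g⁻¹ x) = x := by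
  show g (g.symm x) = x
  exact g.apply_symm_apply x

end TNZ

theorem TNZ [Finite F] [Finite K] [Finite V] [CharP F 2] (hr2 : Module.finrank F K = 2)
    (hd : 4 ≤ Module.finrank K V) (B : V →ₗ[K] V →ₗ[K] K) (hB : IsAltND B)
    (M : Subgroup (V ≃ₗ[F] V)) (hN : Nrm F K V ⊓ SpF F B ≤ M) (hM : M ≤ SpF F B)
    (v : V) (k : K) (h : V ≃ₗ[F] V) (hv : v ≠ 0)
    (hh : h ∈ M) (hhv : h v = v) (hhk : h (k • v) ∉ Kline (F := F) (K := K) v)
    (hS2 : ∀ g ∈ StabPt M (Kline (F := F) (K := K) v), ∀ (c : K) (x : V), g (c • x) = c • g x)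
    (hβ : B (h (k • v)) v ≠ 0) (hβF : B (h (k • v)) v ∈ Set.range (algebraMap F K)) : False := by
  classical
  obtain ⟨hc2K, hc2V, hsym⟩ := TCHAR2 (F := F) B hB
  obtain ⟨β₀, hβ₀⟩ := hβF
  have hβ₀ne : β₀ ≠ 0 := by
    rintro rfl
    rw [map_zero] at hβ₀
    exact hβ hβ₀.symm
  have hr : (Module.finrank F K).Prime := by rw [hr2]; exact Nat.prime_two
  -- `k ∉ F`
  have hk : k ∉ Set.range (algebraMap F K) := by
    rintro ⟨a, rfl⟩
    apply hhk
    rw [algebraMap_smul, map_smul, hhv, ← algebraMap_smul K a v]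
    exact Submodule.mem_span_singleton.mpr ⟨_, rfl⟩
  -- `w`, `w'`
  set w : V := h (k • v) with hw
  set w' : V := β₀⁻¹ • w with hw'
  have hww' : w = β₀ • w' := by rw [hw', smul_smul, mul_inv_cancel₀ hβ₀ne, one_smul]
  have hBF : ∀ (a : F) (x y : V), B (a • x) y = algebraMap F K a * B x y := by
    intro a x y
    rw [← algebraMap_smul K a x, map_smul, LinearMap.smul_apply, smul_eq_mul]
  have hvw' : B v w' = 1 := by
    rw [hsym, hw', hBF, ← hβ₀, ← map_mul, inv_mul_cancel₀ hβ₀ne, map_one]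
  obtain ⟨n, b, b', hb0, hb'0, hbb, hb'b', hbb', hexp⟩ := TSYMPB hd B hB v w' hvw'
  obtain ⟨σ, hσ⟩ := TGAL2 (F := F) (K := K) hr2
  obtain ⟨φ, hφs, hφB, hφb, hφb'⟩ := TFROB B hB b b' hbb hb'b' hbb' hexp σ
  -- `e`, `y`
  set e : V := b 1 with he
  set y : V := b' 1 with hy
  have hye : B y e = 1 := by
    rw [hsym, he, hy, hbb', if_pos rfl]
  have hve : B v e = 0 := by rw [← hb0, he, hbb]
  have hw'e : B w' e = 0 := by
    rw [hsym, ← hb'0, he, hbb', if_neg]
    exact Fin.zero_ne_one.symm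
  have hwe : B w e = 0 := by rw [hww', hBF, hw'e, mul_zero]
  have hene : e ≠ 0 := by
    intro h0
    rw [h0, map_zero] at hye
    exact zero_ne_one hye
  have hφv : φ v = v := by rw [← hb0, hφb]
  have hφw' : φ w' = w' := by rw [← hb'0, hφb']
  have hφw : φ w = w := by rw [hww', map_smul, hφw']
  have hφe : φ e = e := hφb 1
  have hφy : φ y = y := hφb' 1
  -- `φ ∈ M`
  have hφM : φ ∈ M := by
    apply hN
    refine ⟨⟨σ, fun c x => ?_⟩, fun x y => ?_⟩
    · simp only [LinearEquiv.coe_coe]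
      exact hφs c x
    · unfold trf
      rw [hφB]
      exact Algebra.trace_eq_of_algEquiv σ (B x y)
  -- the transvection `T`
  obtain ⟨T, hTK, hT⟩ := KSPTV (F := F) B hB e k
  have hTM : T ∈ M := hN (SPKLE B hTK)
  have hTfix : ∀ x, B x e = 0 → T x = x := by
    intro x hx
    rw [hT, hx, mul_zero, zero_smul, add_zero]
  have hTifix : ∀ x, B x e = 0 → T⁻¹ x = x := fun x hx => TNZ.inv_apply_eq T x x (hTfix x hx)
  -- `g₂`
  set g₂ : V ≃ₗ[F] V := T * φ * T⁻¹ with hg₂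
  have hg₂M : g₂ ∈ M := M.mul_mem (M.mul_mem hTM hφM) (M.inv_mem hTM)
  have hg₂fix : ∀ x, B x e = 0 → φ x = x → g₂ x = x := by
    intro x hx hx2
    rw [hg₂, LinearEquiv.mul_apply, LinearEquiv.mul_apply, hTifix x hx, hx2, hTfix x hx]
  -- `x₁`, `x₂`
  have hhiv : h⁻¹ v = v := TNZ.inv_apply_eq h v v hhv
  have hhiw : h⁻¹ w = k • v := TNZ.inv_apply_eq h (k • v) w rfl
  have hx_stab : ∀ g : V ≃ₗ[F] V, g ∈ M → g v = v → g w = w →
      h⁻¹ * g * h ∈ StabPt M (Kline (F := F) (K := K) v) := by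
    intro g hgM hgv hgw
    refine ⟨M.mul_mem (M.mul_mem (M.inv_mem hh) hgM) hh, ?_⟩
    apply TNZ.fix_line hr2 k hk v
    · rw [LinearEquiv.mul_apply, LinearEquiv.mul_apply, hhv, hgv, hhiv]
    · rw [LinearEquiv.mul_apply, LinearEquiv.mul_apply]
      show h⁻¹ (g w) = k • v
      rw [hgw, hhiw]
  have hx₁ := hx_stab φ hφM hφv hφw
  have hx₂ := hx_stab g₂ hg₂M (hg₂fix v hve hφv) (hg₂fix w hwe hφw)
  have hx₁lin := hS2 _ hx₁
  have hx₂lin := hS2 _ hx₂
  -- `z`
  set z : V := h⁻¹ y with hz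
  have hhz : h z = y := TNZ.apply_inv h y
  have hx₁z : (h⁻¹ * φ * h) z = z := by
    rw [LinearEquiv.mul_apply, LinearEquiv.mul_apply, hhz, hφy]
  -- `y₂`
  set y₂ : V := h (k • z) with hy₂
  have hφy₂ : φ y₂ = y₂ := by
    have h1 := hx₁lin k z
    rw [hx₁z, LinearEquiv.mul_apply, LinearEquiv.mul_apply] at h1
    have h2 := congrArg h h1
    rw [TNZ.apply_inv] at h2
    exact h2
  -- `a`
  have hσa : σ (B y₂ e) = B y₂ e := by
    rw [← hφB, hφy₂, hφe]
  have haF : B y₂ e ∈ Set.range (algebraMap F K) := by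
    by_contra hne
    exact hσ (GALFIX hr σ _ hne hσa)
  obtain ⟨a₀, ha₀⟩ := haF
  -- `y₃`
  set y₃ : V := a₀ • y + y₂ with hy₃
  have hy₃e : B y₃ e = 0 := by
    rw [hy₃, map_add, LinearMap.add_apply, hBF, hye, mul_one, ha₀, hc2K]
  have hφy₃ : φ y₃ = y₃ := by
    rw [hy₃, map_add, map_smul, hφy, hφy₂]
  have hg₂y₃ : g₂ y₃ = y₃ := hg₂fix y₃ hy₃e hφy₃
  have hhiy₃ : h⁻¹ y₃ = (algebraMap F K a₀ + k) • z := by
    rw [hy₃, map_add, map_smul, ← hz, add_smul, algebraMap_smul]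
    congr 1
    exact TNZ.inv_apply_eq h (k • z) y₂ rfl
  have hak : algebraMap F K a₀ + k ≠ 0 := by
    intro h0
    apply hk
    refine ⟨-a₀, ?_⟩
    rw [map_neg]
    linear_combination (-1 : K) * h0
  have hx₂z : (h⁻¹ * g₂ * h) z = z := by
    have h1 := hx₂lin (algebraMap F K a₀ + k) z
    have h2 : (h⁻¹ * g₂ * h) ((algebraMap F K a₀ + k) • z) = (algebraMap F K a₀ + k) • z := by
      rw [← hhiy₃, LinearEquiv.mul_apply, LinearEquiv.mul_apply, TNZ.apply_inv, hg₂y₃]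
    rw [h2] at h1
    exact (smul_right_injective V hak h1).symm
  have hg₂y : g₂ y = y := by
    rw [LinearEquiv.mul_apply, LinearEquiv.mul_apply, hhz] at hx₂z
    have h2 := congrArg h hx₂z
    rw [TNZ.apply_inv, hhz] at h2
    exact h2
  -- `T⁻¹ y = y + k • e`
  have hTiy : T⁻¹ y = y + k • e := by
    apply TNZ.inv_apply_eq
    rw [hT, map_add, LinearMap.add_apply, map_smul, LinearMap.smul_apply, hB.alt e, smul_zero,
      add_zero, hye, mul_one, add_assoc, hc2V, add_zero]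
  have hφTiy : φ (T⁻¹ y) = T⁻¹ y := by
    rw [hg₂, LinearEquiv.mul_apply, LinearEquiv.mul_apply] at hg₂y
    have h2 := congrArg (T⁻¹ : V ≃ₗ[F] V) hg₂y
    rw [TNZ.inv_apply_eq T _ _ rfl] at h2
    exact h2
  rw [hTiy, map_add, hφs, hφy, hφe] at hφTiy
  have h3 : σ k • e = k • e := add_left_cancel hφTiy
  have h4 : σ k = k := by
    have h5 : (σ k - k) • e = 0 := by rw [sub_smul, h3, sub_self]
    rcases smul_eq_zero.mp h5 with h6 | h6
    · exact sub_eq_zero.mp h6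
    · exact absurd h6 hene
  exact hσ (GALFIX hr σ k hk h4)

end Cfsg.Agent.S5664P
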