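import Mathlib
import Cfsg.Agent.Helper2.UnitaryCenter
import Cfsg.Agent.Helper2.SL2Sylow

/-! `SU₂(q) ≃* SL₂(q)`. -/

set_option autoImplicit false
set_option linter.unusedSectionVars false
set_option linter.unusedVariables false

namespace Cfsg.Agent.Helper2.SU2

open Matrix Cfsg.Agent.Helper2.Herm

variable {F : Type*} [Field F] [Fintype F] {q : ℕ}

theorem exists_embedding {L : Type*} [Field L] [Fintype L] (hF : Fintype.card F = q ^ 2)
    (hL : Fintype.card L = q) : ∃ ι : L →+* F, ∀ k, cj hF (ι k) = ι k := by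
  classical
  let F₀ : Subfield F := (cj hF).eqLocusField (RingHom.id F)
  haveI : Fintype F₀ := Fintype.ofFinite _
  have hcard : Fintype.card F₀ = q := by
    rw [← Nat.card_eq_fintype_card]
    have h1 : Nat.card (K hF) = q := by
      rw [Nat.card_eq_fintype_card]; convert card_K hF
    rw [← h1]
    exact Nat.card_congr (Equiv.subtypeEquivRight (fun x => Iff.rfl))
  let e : L ≃+* F₀ := FiniteField.ringEquivOfCardEq (by rw [hL, hcard])
  refine ⟨F₀.subtype.comp e.toRingHom, fun k => ?_⟩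
  exact (e k).2

theorem exists_not_mem_K (hF : Fintype.card F = q ^ 2) : ∃ t : F, cj hF t ≠ t := by
  classical
  have hq := two_le_q hF
  by_contra h
  push_neg at h
  have h1 : Nat.card (K hF) = q := by
    rw [Nat.card_eq_fintype_card]; convert card_K hF
  have h2 : Nat.card (K hF) = Nat.card F :=
    Nat.card_congr (Equiv.subtypeUnivEquiv (fun x => h x))
  rw [h1, Nat.card_eq_fintype_card, hF] at h2
  nlinarith

theorem exists_pair (hF : Fintype.card F = q ^ 2) :
    ∃ (u v : Fin 2 → F) (ε : F), ε ≠ 0 ∧ cj hF ε = -ε ∧ Cfsg.hermForm 2 F q u u = 0 ∧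
      Cfsg.hermForm 2 F q v v = 0 ∧ Cfsg.hermForm 2 F q u v = ε := by
  classical
  have hq := two_le_q hF
  obtain ⟨t, ht⟩ := exists_not_mem_K hF
  have hm1 : (-1 : F) ∈ K hF := by
    rw [mem_K, ← cj_apply hF, map_neg, map_one]
  have hcard := card_fiber_ne_zero hF hm1 (by simp)
  obtain ⟨l, hl, l', hl', hne⟩ := Finset.one_lt_card.mp (by rw [hcard]; omega)
  simp only [Finset.mem_filter, Finset.mem_univ, true_and] at hl hl'
  have hl1 : l * cj hF l = -1 := by rw [cj_apply, ← pow_succ']; exact hl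
  have hl1' : l' * cj hF l' = -1 := by rw [cj_apply, ← pow_succ']; exact hl'
  have hcl' : cj hF l' ≠ 0 := by
    intro h0; rw [h0, mul_zero] at hl1'; simp at hl1'
  obtain ⟨κ, hκ⟩ : ∃ κ, κ = 1 + l * cj hF l' := ⟨_, rfl⟩
  have hκ0 : κ ≠ 0 := by
    intro h0
    apply hne
    have : (l - l') * cj hF l' = 0 := by
      rw [sub_mul, hl1']
      rw [h0] at hκ
      linear_combination -hκ
    rcases mul_eq_zero.mp this with h | h
    · exact sub_eq_zero.mp h
    · exact absurd h hcl'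
  obtain ⟨ε, hε⟩ : ∃ ε, ε = t - cj hF t := ⟨_, rfl⟩
  have hε0 : ε ≠ 0 := by
    rw [hε]; intro h; exact ht (sub_eq_zero.mp h).symm
  have hεc : cj hF ε = -ε := by
    rw [hε, map_sub, cj_cj]; ring
  refine ⟨![1, l], cj hF (ε / κ) • ![1, l'], ε, hε0, hεc, ?_, ?_, ?_⟩
  · rw [hf_eq hF, Fin.sum_univ_two]
    simp only [Matrix.cons_val_zero, Matrix.cons_val_one, Matrix.head_cons, map_one, mul_one]
    rw [hl1]; ring
  · rw [hf_smul_left, hf_smul_right hF, hf_eq hF, Fin.sum_univ_two]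
    simp only [Matrix.cons_val_zero, Matrix.cons_val_one, Matrix.head_cons, map_one, mul_one]
    rw [hl1']; ring
  · rw [hf_smul_right hF, hf_eq hF, Fin.sum_univ_two, cj_cj]
    simp only [Matrix.cons_val_zero, Matrix.cons_val_one, Matrix.head_cons, map_one, mul_one]
    rw [← hκ]
    field_simp

/-- the matrix with columns `u`, `v` -/
def Qm (u v : Fin 2 → F) : Matrix (Fin 2) (Fin 2) F := Matrix.of (fun i j => ![u, v] j i)

theorem cols_Qm (u v : Fin 2 → F) : cols (Qm u v) = ![u, v] := by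
  funext j i
  rfl

section pair

variable (hF : Fintype.card F = q ^ 2) {u v : Fin 2 → F} {ε : F} (hε0 : ε ≠ 0)
  (hεc : cj hF ε = -ε) (huu : Cfsg.hermForm 2 F q u u = 0) (hvv : Cfsg.hermForm 2 F q v v = 0)
  (huv : Cfsg.hermForm 2 F q u v = ε)

include hF hεc huu hvv huv

theorem hf_Qm (x y : Fin 2 → F) :
    Cfsg.hermForm 2 F q (Qm u v *ᵥ x) (Qm u v *ᵥ y) =
      ε * (x 0 * cj hF (y 1) - x 1 * cj hF (y 0)) := by
  have hvu : Cfsg.hermForm 2 F q v u = -ε := by rw [← hf_symm hF, huv, hεc]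
  rw [mulVec_eq_sum_cols, mulVec_eq_sum_cols, cols_Qm, Fin.sum_univ_two, Fin.sum_univ_two]
  simp only [Matrix.cons_val_zero, Matrix.cons_val_one]
  rw [hf_add_left, hf_add_right hF, hf_add_right hF, hf_smul_left, hf_smul_left,
    hf_smul_left, hf_smul_left, hf_smul_right hF, hf_smul_right hF, hf_smul_right hF,
    hf_smul_right hF, huu, hvv, huv, hvu]
  ring

include hε0

theorem det_Qm_ne_zero : (Qm u v).det ≠ 0 := by
  intro hdet
  obtain ⟨x, hx0, hx⟩ := Matrix.exists_mulVec_eq_zero_iff.mpr hdet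
  have h1 := fun y => hf_Qm hF hεc huu hvv huv x y
  simp only [hx, hf_zero_left] at h1
  apply hx0
  have h2 := h1 ![0, 1]
  have h3 := h1 ![1, 0]
  simp only [Matrix.cons_val_zero, Matrix.cons_val_one, map_one, map_zero, mul_zero, mul_one,
    sub_zero, zero_sub] at h2 h3
  have hx0' : x 0 = 0 := by
    rcases mul_eq_zero.mp h2.symm with h | h
    · exact absurd h hε0
    · exact h
  have hx1' : x 1 = 0 := by
    rcases mul_eq_zero.mp h3.symm with h | h
    · exact absurd h hε0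
    · exact neg_eq_zero.mp h
  funext i
  fin_cases i
  · exact hx0'
  · exact hx1'

end pair

/-- the alternating form is preserved by real matrices of determinant one -/
theorem alt_preserved (hF : Fintype.card F = q ^ 2) (A : Matrix (Fin 2) (Fin 2) F)
    (hA : ∀ i j, cj hF (A i j) = A i j) (hdet : A.det = 1) (x y : Fin 2 → F) :
    (A *ᵥ x) 0 * cj hF ((A *ᵥ y) 1) - (A *ᵥ x) 1 * cj hF ((A *ᵥ y) 0) =
      x 0 * cj hF (y 1) - x 1 * cj hF (y 0) := by
  rw [Matrix.det_fin_two] at hdet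
  simp only [Matrix.mulVec, dotProduct, Fin.sum_univ_two, map_add, map_mul, hA]
  linear_combination (x 0 * cj hF (y 1) - x 1 * cj hF (y 0)) * hdet

/-- conjugating a real matrix of determinant one into `SU₂` -/
theorem conj_mem (hF : Fintype.card F = q ^ 2) {u v : Fin 2 → F} {ε : F}
    (hεc : cj hF ε = -ε) (huu : Cfsg.hermForm 2 F q u u = 0) (hvv : Cfsg.hermForm 2 F q v v = 0)
    (huv : Cfsg.hermForm 2 F q u v = ε) (Qu : GL (Fin 2) F)
    (hQ : (Qu : Matrix (Fin 2) (Fin 2) F) = Qm u v)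
    (A : Matrix (Fin 2) (Fin 2) F)
    (hA : ∀ i j, cj hF (A i j) = A i j) (hdet : A.det = 1) (x y : Fin 2 → F) :
    Cfsg.hermForm 2 F q (((Qu : Matrix (Fin 2) (Fin 2) F) * A *
      ((Qu⁻¹ : GL (Fin 2) F) : Matrix (Fin 2) (Fin 2) F)) *ᵥ x)
      (((Qu : Matrix (Fin 2) (Fin 2) F) * A *
      ((Qu⁻¹ : GL (Fin 2) F) : Matrix (Fin 2) (Fin 2) F)) *ᵥ y) = Cfsg.hermForm 2 F q x y := by
  have hx : ∀ x : Fin 2 → F, Qm u v *ᵥ (((Qu⁻¹ : GL (Fin 2) F) : Matrix (Fin 2) (Fin 2) F) *ᵥ x)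
      = x := by
    intro x
    rw [Matrix.mulVec_mulVec, ← hQ, ← Units.val_mul, mul_inv_cancel, Units.val_one,
      Matrix.one_mulVec]
  rw [← Matrix.mulVec_mulVec, ← Matrix.mulVec_mulVec, ← Matrix.mulVec_mulVec,
    ← Matrix.mulVec_mulVec, hQ, hf_Qm hF hεc huu hvv huv, alt_preserved hF A hA hdet,
    ← hf_Qm hF hεc huu hvv huv, hx, hx]

theorem map_real {L : Type*} [Field L] (hF : Fintype.card F = q ^ 2) (ι : L →+* F)
    (hι : ∀ k, cj hF (ι k) = ι k) (g : SpecialLinearGroup (Fin 2) L) (i j : Fin 2) :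
    cj hF ((g.1.map ι) i j) = (g.1.map ι) i j := by
  rw [Matrix.map_apply]; exact hι _

theorem det_map {L : Type*} [Field L] (ι : L →+* F) (g : SpecialLinearGroup (Fin 2) L) :
    (g.1.map ι).det = 1 := by
  have := (RingHom.map_det ι g.1).symm
  rw [g.2, map_one] at this
  exact this

/-- the embedding `SL₂(L) → SL₂(F)`, conjugated by `Qu` -/
def phi {L : Type*} [Field L] (ι : L →+* F) (Qu : GL (Fin 2) F) :
    SpecialLinearGroup (Fin 2) L →* SpecialLinearGroup (Fin 2) F where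
  toFun g := ⟨(Qu : Matrix (Fin 2) (Fin 2) F) * (g.1.map ι) *
      ((Qu⁻¹ : GL (Fin 2) F) : Matrix (Fin 2) (Fin 2) F), by
    rw [Matrix.det_units_conj]; exact det_map ι g⟩
  map_one' := by
    apply Subtype.ext
    change (Qu : Matrix (Fin 2) (Fin 2) F) * ((1 : Matrix (Fin 2) (Fin 2) L).map ι) *
      ((Qu⁻¹ : GL (Fin 2) F) : Matrix (Fin 2) (Fin 2) F) = 1
    rw [Matrix.map_one _ (map_zero ι) (map_one ι), mul_one, ← Units.val_mul, mul_inv_cancel,
      Units.val_one]
  map_mul' g h := by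
    apply Subtype.ext
    change (Qu : Matrix (Fin 2) (Fin 2) F) * ((g.1 * h.1).map ι) *
      ((Qu⁻¹ : GL (Fin 2) F) : Matrix (Fin 2) (Fin 2) F) =
      ((Qu : Matrix (Fin 2) (Fin 2) F) * (g.1.map ι) *
      ((Qu⁻¹ : GL (Fin 2) F) : Matrix (Fin 2) (Fin 2) F)) *
      ((Qu : Matrix (Fin 2) (Fin 2) F) * (h.1.map ι) *
      ((Qu⁻¹ : GL (Fin 2) F) : Matrix (Fin 2) (Fin 2) F))
    rw [Matrix.map_mul]
    simp only [mul_assoc, Units.inv_mul_cancel_left]

theorem phi_injective {L : Type*} [Field L] (ι : L →+* F) (Qu : GL (Fin 2) F) :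
    Function.Injective (phi ι Qu) := by
  intro g h hgh
  have h1 : (Qu : Matrix (Fin 2) (Fin 2) F) * (g.1.map ι) *
      ((Qu⁻¹ : GL (Fin 2) F) : Matrix (Fin 2) (Fin 2) F) =
      (Qu : Matrix (Fin 2) (Fin 2) F) * (h.1.map ι) *
      ((Qu⁻¹ : GL (Fin 2) F) : Matrix (Fin 2) (Fin 2) F) := congrArg Subtype.val hgh
  have h2 : g.1.map ι = h.1.map ι := by
    have := congrArg (fun M => ((Qu⁻¹ : GL (Fin 2) F) : Matrix (Fin 2) (Fin 2) F) * M *
      (Qu : Matrix (Fin 2) (Fin 2) F)) h1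
    simpa [mul_assoc] using this
  apply Subtype.ext
  ext i j
  have := congrFun (congrFun h2 i) j
  rw [Matrix.map_apply, Matrix.map_apply] at this
  exact ι.injective this

theorem card_SU2 (hF : Fintype.card F = q ^ 2) :
    Nat.card (Cfsg.SU 2 F q) = q * (q ^ 2 - 1) := by
  have hq := two_le_q hF
  have h := card_SU_closed hF 2 (by norm_num)
  simp only [Finset.prod_range_succ, Finset.prod_range_zero] at h
  norm_num at h
  have e : q ^ 2 - 1 = (q + 1) * (q - 1) := factor hq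
  rw [e]
  have h3 : (q + 1) * Nat.card (Cfsg.SU 2 F q) = (q + 1) * (q * ((q + 1) * (q - 1))) := by
    rw [h, e]; ring
  exact Nat.eq_of_mul_eq_mul_left (by omega) h3

theorem nonempty_mulEquiv {L : Type*} [Field L] [Fintype L] (hF : Fintype.card F = q ^ 2)
    (hL : Fintype.card L = q) :
    Nonempty (Cfsg.SU 2 F q ≃* SpecialLinearGroup (Fin 2) L) := by
  classical
  obtain ⟨ι, hι⟩ := exists_embedding hF hL
  obtain ⟨u, v, ε, hε0, hεc, huu, hvv, huv⟩ := exists_pair hF
  have hdet := det_Qm_ne_zero hF hε0 hεc huu hvv huv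
  let Qu : GL (Fin 2) F := Matrix.GeneralLinearGroup.mkOfDetNeZero (Qm u v) hdet
  have hQ : (Qu : Matrix (Fin 2) (Fin 2) F) = Qm u v := rfl
  have hmem : ∀ g, phi ι Qu g ∈ Cfsg.SU 2 F q := by
    intro g x y
    exact conj_mem hF hεc huu hvv huv Qu hQ (g.1.map ι) (map_real hF ι hι g) (det_map ι g) x y
  let ψ : SpecialLinearGroup (Fin 2) L →* Cfsg.SU 2 F q := (phi ι Qu).codRestrict _ hmem
  have hinj : Function.Injective ψ := by
    intro g h hgh
    exact phi_injective ι Qu (congrArg Subtype.val hgh)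
  have hcard : Nat.card (SpecialLinearGroup (Fin 2) L) = Nat.card (Cfsg.SU 2 F q) := by
    rw [card_SU2 hF, Cfsg.Agent.Helper2.SL2.card_SL2, hL]
  have hbij : Function.Bijective ψ :=
    (Nat.bijective_iff_injective_and_card ψ).mpr ⟨hinj, hcard⟩
  exact ⟨(MulEquiv.ofBijective ψ hbij).symm⟩

end Cfsg.Agent.Helper2.SU2
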