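import Cfsg.Agent.Helper2.PermEmbed

/-! A simple group of order 60 is isomorphic to `A₅`. -/

namespace Cfsg.Agent.Helper2

open Subgroup

theorem injective_toPermHom_of_simple {G : Type*} [Group G] [IsSimpleGroup G] (H : Subgroup G)
    (hH : H ≠ ⊤) : Function.Injective (MulAction.toPermHom G (G ⧸ H)) := by
  rw [← MonoidHom.ker_eq_bot_iff, ← Subgroup.normalCore_eq_ker]
  rcases (H.normalCore_normal).eq_bot_or_eq_top with h | h
  · exact h
  · exfalso
    apply hH
    rw [eq_top_iff, ← h]
    exact H.normalCore_le

theorem card_le_factorial_index_of_simple {G : Type*} [Group G] [Finite G] [IsSimpleGroup G]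
    (H : Subgroup G) (hH : H ≠ ⊤) : Nat.card G ≤ Nat.factorial H.index := by
  classical
  have hinj := injective_toPermHom_of_simple H hH
  have := Fintype.ofFinite (G ⧸ H)
  have h1 := Nat.card_le_card_of_injective _ hinj
  rwa [Nat.card_eq_fintype_card (α := Equiv.Perm (G ⧸ H)), Fintype.card_perm,
    ← Nat.card_eq_fintype_card, ← Subgroup.index_eq_card] at h1

theorem nonempty_mulEquiv_alternatingGroup_five_of_card {G : Type*} [Group G] [Finite G]
    [IsSimpleGroup G] (h : Nat.card G = 60) : Nonempty (G ≃* alternatingGroup (Fin 5)) := by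
  classical
  have : Fact (Nat.Prime 2) := ⟨Nat.prime_two⟩
  obtain ⟨P⟩ : Nonempty (Sylow 2 G) := inferInstance
  have hfac : (60 : ℕ).factorization 2 = 2 := by
    have e : (60 : ℕ) = 2 ^ 2 * 15 := by norm_num
    rw [e, Nat.factorization_mul (by norm_num) (by norm_num), Nat.Prime.factorization_pow Nat.prime_two]
    simp [Nat.factorization_eq_zero_of_not_dvd (show ¬ 2 ∣ 15 by norm_num)]
  have hP : Nat.card P = 4 := by
    rw [Sylow.card_eq_multiplicity, h, hfac]; norm_num
  -- the normalizer
  have hle : (P : Subgroup G) ≤ normalizer ((P : Subgroup G) : Set G) := le_normalizer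
  have h4 : 4 ∣ Nat.card (normalizer ((P : Subgroup G) : Set G)) := by
    rw [← hP]; exact Subgroup.card_dvd_of_le hle
  have hmul := Subgroup.index_mul_card (normalizer ((P : Subgroup G) : Set G))
  rw [h] at hmul
  obtain ⟨c, hc⟩ := h4
  have hidx : (normalizer ((P : Subgroup G) : Set G)).index ∣ 15 := by
    rw [hc] at hmul
    exact ⟨c, by lia⟩
  have hdiv : (normalizer ((P : Subgroup G) : Set G)).index ∈ Nat.divisors 15 := by
    rw [Nat.mem_divisors]; exact ⟨hidx, by norm_num⟩
  have hdivs : Nat.divisors 15 = {1, 3, 5, 15} := by decide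
  rw [hdivs] at hdiv
  simp only [Finset.mem_insert, Finset.mem_singleton] at hdiv
  rcases hdiv with h1 | h3 | h5 | h15
  · -- P normal
    exfalso
    rw [Subgroup.index_eq_one, Subgroup.normalizer_eq_top_iff] at h1
    rcases h1.eq_bot_or_eq_top with hb | ht
    · rw [hb, Subgroup.card_bot] at hP; omega
    · rw [ht, Subgroup.card_top, h] at hP; omega
  · exfalso
    have hne : normalizer ((P : Subgroup G) : Set G) ≠ ⊤ := by
      intro ht; rw [ht, Subgroup.index_top] at h3; omega
    have := card_le_factorial_index_of_simple _ hne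
    rw [h, h3] at this
    norm_num [Nat.factorial] at this
  · have hne : normalizer ((P : Subgroup G) : Set G) ≠ ⊤ := by
      intro ht; rw [ht, Subgroup.index_top] at h5; omega
    refine nonempty_mulEquiv_alternatingGroup_of_injective 5 _
      (injective_toPermHom_of_simple _ hne) ?_ ?_
    · rw [← Subgroup.index_eq_card, h5]
    · rw [h]; rfl
  · exfalso
    rw [h15] at hmul
    have hcN : Nat.card (normalizer ((P : Subgroup G) : Set G)) = 4 := by omega
    have hNP : normalizer ((P : Subgroup G) : Set G) = P :=
      (Subgroup.eq_of_le_of_card_ge hle (by rw [hcN, hP])).symm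
    have hcomm : IsMulCommutative (P : Subgroup G) :=
      IsPGroup.isMulCommutative_of_card_eq_prime_sq (p := 2) (by rw [hP]; norm_num)
    have hPc : normalizer ((P : Subgroup G) : Set G) ≤ centralizer ((P : Subgroup G) : Set G) := by
      rw [hNP]
      intro a ha b hb
      have := hcomm.is_comm.comm ⟨b, hb⟩ ⟨a, ha⟩
      exact congrArg Subtype.val this
    have hcompl := MonoidHom.ker_transferSylow_isComplement' P hPc
    have hcard := hcompl.card_mul_card
    rw [hP, h] at hcard
    rcases ((MonoidHom.transferSylow P hPc).normal_ker).eq_bot_or_eq_top with hb | ht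
    · rw [hb, Subgroup.card_bot] at hcard; omega
    · rw [ht, Subgroup.card_top, h] at hcard; omega

end Cfsg.Agent.Helper2
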