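import Mathlib
import Cfsg.Prelude.Def_RootSubgroups
import Cfsg.Agent.Helper25.SL2RankOne

set_option autoImplicit false

/-! Embedding `SL₂(k)` into `SL_ι(k)` along a pair of vectors and a dual pair of covectors:
`g ↦ 1 + E (g - 1) R` where `R E = 1`. -/

namespace Cfsg.Agent.Helper2.SL2Emb

open Cfsg Cfsg.Agent.Helper25 Matrix

variable {ι : Type*} [Fintype ι] [DecidableEq ι] {k : Type*} [Field k]

/-- The matrix `1 + E (g - 1) R`. -/
def emb (E : Matrix ι (Fin 2) k) (R : Matrix (Fin 2) ι k) (g : Matrix (Fin 2) (Fin 2) k) :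
    Matrix ι ι k := 1 + E * (g - 1) * R

theorem emb_one (E : Matrix ι (Fin 2) k) (R : Matrix (Fin 2) ι k) : emb E R 1 = 1 := by
  simp [emb]

theorem emb_mul {E : Matrix ι (Fin 2) k} {R : Matrix (Fin 2) ι k} (h : R * E = 1)
    (g g' : Matrix (Fin 2) (Fin 2) k) : emb E R (g * g') = emb E R g * emb E R g' := by
  have key : ∀ A B : Matrix (Fin 2) (Fin 2) k, (E * A * R) * (E * B * R) = E * (A * B) * R := by
    intro A B
    calc (E * A * R) * (E * B * R) = E * A * (R * E) * B * R := by
          simp only [Matrix.mul_assoc]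
      _ = E * (A * B) * R := by rw [h, Matrix.mul_one]; simp only [Matrix.mul_assoc]
  simp only [emb, Matrix.mul_add, Matrix.add_mul, Matrix.mul_one, Matrix.one_mul, key]
  have : g * g' - 1 = (g - 1) + (g' - 1) + (g - 1) * (g' - 1) := by noncomm_ring
  rw [this, Matrix.mul_add, Matrix.mul_add, Matrix.add_mul, Matrix.add_mul]
  abel

theorem det_emb {E : Matrix ι (Fin 2) k} {R : Matrix (Fin 2) ι k} (h : R * E = 1)
    (g : Matrix (Fin 2) (Fin 2) k) : (emb E R g).det = g.det := by
  rw [emb, Matrix.mul_assoc, det_one_add_mul_comm, Matrix.mul_assoc, h, Matrix.mul_one,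
    add_sub_cancel]

/-- The embedding as a group homomorphism. -/
def embHom (E : Matrix ι (Fin 2) k) (R : Matrix (Fin 2) ι k) (h : R * E = 1) :
    Matrix.SpecialLinearGroup (Fin 2) k →* Matrix.SpecialLinearGroup ι k where
  toFun g := ⟨emb E R (g : Matrix (Fin 2) (Fin 2) k), by rw [det_emb h]; exact g.2⟩
  map_one' := by
    apply Subtype.ext
    simp [emb_one]
  map_mul' g g' := by
    apply Subtype.ext
    simp only [Matrix.SpecialLinearGroup.coe_mul]
    exact emb_mul h _ _

@[simp] theorem coe_embHom (E : Matrix ι (Fin 2) k) (R : Matrix (Fin 2) ι k) (h : R * E = 1)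
    (g : Matrix.SpecialLinearGroup (Fin 2) k) :
    ((embHom E R h g : Matrix.SpecialLinearGroup ι k) : Matrix ι ι k)
      = emb E R (g : Matrix (Fin 2) (Fin 2) k) := rfl

theorem emb_injective {E : Matrix ι (Fin 2) k} {R : Matrix (Fin 2) ι k} (h : R * E = 1)
    {g g' : Matrix (Fin 2) (Fin 2) k} (hgg : emb E R g = emb E R g') : g = g' := by
  have h1 : E * (g - 1) * R = E * (g' - 1) * R := add_left_cancel hgg
  have h2 : R * (E * (g - 1) * R) * E = R * (E * (g' - 1) * R) * E := by rw [h1]
  have h3 : ∀ A : Matrix (Fin 2) (Fin 2) k, R * (E * A * R) * E = A := by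
    intro A
    calc R * (E * A * R) * E = (R * E) * A * (R * E) := by simp only [Matrix.mul_assoc]
      _ = A := by rw [h, Matrix.one_mul, Matrix.mul_one]
  rw [h3, h3] at h2
  exact sub_left_injective h2

theorem embHom_injective (E : Matrix ι (Fin 2) k) (R : Matrix (Fin 2) ι k) (h : R * E = 1) :
    Function.Injective (embHom E R h) := by
  intro g g' hgg
  apply Subtype.ext
  apply emb_injective h
  exact congrArg Subtype.val hgg

theorem mul_single_mul (E : Matrix ι (Fin 2) k) (R : Matrix (Fin 2) ι k) (a b : Fin 2) (c : k) :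
    E * Matrix.single a b c * R = c • vecMulVec (fun i => E i a) (fun j => R b j) := by
  ext i j
  simp only [Matrix.mul_apply, Matrix.single_apply, Matrix.smul_apply, vecMulVec_apply,
    smul_eq_mul]
  simp only [Fin.sum_univ_two]
  fin_cases a <;> fin_cases b <;> simp <;> ring

theorem emb_upper (E : Matrix ι (Fin 2) k) (R : Matrix (Fin 2) ι k) (c : k) :
    emb E R ((sl2Upper c : Matrix.SpecialLinearGroup (Fin 2) k) : Matrix (Fin 2) (Fin 2) k)
      = 1 + c • vecMulVec (fun i => E i 0) (fun j => R 1 j) := by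
  have : ((sl2Upper c : Matrix.SpecialLinearGroup (Fin 2) k) : Matrix (Fin 2) (Fin 2) k) - 1
      = Matrix.single 0 1 c := by
    ext a b
    fin_cases a <;> fin_cases b <;> simp [sl2Upper]
  rw [emb, this, mul_single_mul]

theorem emb_lower (E : Matrix ι (Fin 2) k) (R : Matrix (Fin 2) ι k) (c : k) :
    emb E R ((sl2Lower c : Matrix.SpecialLinearGroup (Fin 2) k) : Matrix (Fin 2) (Fin 2) k)
      = 1 + c • vecMulVec (fun i => E i 1) (fun j => R 0 j) := by
  have : ((sl2Lower c : Matrix.SpecialLinearGroup (Fin 2) k) : Matrix (Fin 2) (Fin 2) k) - 1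
      = Matrix.single 1 0 c := by
    ext a b
    fin_cases a <;> fin_cases b <;> simp [sl2Lower]
  rw [emb, this, mul_single_mul]

/-- Induction over products of unitriangular matrices in `SL₂(k)`. -/
theorem sl2_induction (P : Matrix.SpecialLinearGroup (Fin 2) k → Prop)
    (hu : ∀ c : k, P (sl2Upper c)) (hl : ∀ c : k, P (sl2Lower c))
    (hmul : ∀ a b, P a → P b → P (a * b)) (g : Matrix.SpecialLinearGroup (Fin 2) k) : P g := by
  have hg : g ∈ lowerUnipotentSL2 k ⊔ upperUnipotentSL2 k := by rw [sl2_generation]; trivial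
  rw [Subgroup.sup_eq_closure, ← Subgroup.mem_toSubmonoid, Subgroup.closure_toSubmonoid] at hg
  have hS : ∀ x : Matrix.SpecialLinearGroup (Fin 2) k,
      x ∈ ((lowerUnipotentSL2 k : Set _) ∪ (upperUnipotentSL2 k : Set _)) → P x := by
    rintro x (hx | hx)
    · rw [eq_sl2Lower_of_mem hx]; exact hl _
    · rw [eq_sl2Upper_of_mem hx]; exact hu _
  induction hg using Submonoid.closure_induction with
  | mem x hx =>
    rcases hx with hx | hx
    · exact hS x hx
    · rcases hx with hx | hx
      · have : x ∈ lowerUnipotentSL2 k := by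
          have := (lowerUnipotentSL2 k).inv_mem hx; simpa using this
        exact hS x (Or.inl this)
      · have : x ∈ upperUnipotentSL2 k := by
          have := (upperUnipotentSL2 k).inv_mem hx; simpa using this
        exact hS x (Or.inr this)
  | one =>
    have : (1 : Matrix.SpecialLinearGroup (Fin 2) k) = sl2Upper 0 := (sl2Upper_eq_one_iff.mpr rfl).symm
    rw [this]; exact hu 0
  | mul x y _ _ hx hy => exact hmul x y hx hy

end Cfsg.Agent.Helper2.SL2Emb
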