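import Mathlib
import Cfsg.Prelude.Def_RootSubgroups
import Cfsg.Agent.Helper2.RootGeneric
import Cfsg.Agent.Helper2.Transvec
import Cfsg.Agent.Helper2.SL2Emb

set_option autoImplicit false

/-! Point–hyperplane transvection subgroups of `SL_n(k)`. -/

namespace Cfsg.Agent.Helper2.RootSLn

open Cfsg Cfsg.Agent.Helper25 Cfsg.Agent.Helper2.RootGeneric Cfsg.Agent.Helper2.SL2Emb Matrix

open scoped commutatorElement

variable {ι : Type*} [Fintype ι] [DecidableEq ι] {k : Type*} [Field k]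

/-- The matrix `1 + c • v φᵀ`. -/
def tm (v φ : ι → k) (c : k) : Matrix ι ι k := 1 + c • vecMulVec v φ

theorem tm_zero (v φ : ι → k) : tm v φ 0 = 1 := by simp [tm]

theorem tm_mul_tm (v φ w ψ : ι → k) (c d : k) :
    tm v φ c * tm w ψ d = 1 + c • vecMulVec v φ + d • vecMulVec w ψ
      + (c * d * (φ ⬝ᵥ w)) • vecMulVec v ψ := by
  simp only [tm, Matrix.add_mul, Matrix.mul_add, Matrix.one_mul, Matrix.mul_one,
    Matrix.smul_mul, Matrix.mul_smul, vecMulVec_mul_vecMulVec]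
  rw [show vecMulVec v ((φ ⬝ᵥ w) • ψ) = (φ ⬝ᵥ w) • vecMulVec v ψ by
    ext i j; simp [vecMulVec_apply]; ring]
  module

theorem tm_mul_same {v φ : ι → k} (h : φ ⬝ᵥ v = 0) (c d : k) :
    tm v φ c * tm v φ d = tm v φ (c + d) := by
  rw [tm_mul_tm, h, mul_zero, zero_smul, add_zero, tm, add_smul, add_assoc]

theorem det_tm {v φ : ι → k} (h : φ ⬝ᵥ v = 0) (c : k) : (tm v φ c).det = 1 := by
  have : tm v φ c = 1 + replicateCol Unit (c • v) * replicateRow Unit φ := by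
    rw [tm, ← vecMulVec_eq Unit]
    congr 1
    ext i j; simp [vecMulVec_apply, mul_assoc]
  rw [this, det_one_add_replicateCol_mul_replicateRow, dotProduct_smul, h, smul_zero, add_zero]

/-- `1 + c • v φᵀ` as an element of `SL`. -/
def ts (v φ : ι → k) (h : φ ⬝ᵥ v = 0) (c : k) : Matrix.SpecialLinearGroup ι k := ⟨tm v φ c, det_tm h c⟩

@[simp] theorem coe_ts (v φ : ι → k) (h : φ ⬝ᵥ v = 0) (c : k) :
    ((ts v φ h c : Matrix.SpecialLinearGroup ι k) : Matrix ι ι k) = tm v φ c := rfl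

theorem ts_mul (v φ : ι → k) (h : φ ⬝ᵥ v = 0) (c d : k) : ts v φ h c * ts v φ h d = ts v φ h (c + d) := by
  apply Subtype.ext
  rw [Matrix.SpecialLinearGroup.coe_mul]
  exact tm_mul_same h c d

theorem ts_zero (v φ : ι → k) (h : φ ⬝ᵥ v = 0) : ts v φ h 0 = 1 := by
  apply Subtype.ext
  exact tm_zero v φ

theorem ts_inv (v φ : ι → k) (h : φ ⬝ᵥ v = 0) (c : k) : (ts v φ h c)⁻¹ = ts v φ h (-c) := by
  rw [inv_eq_iff_mul_eq_one, ts_mul, add_neg_cancel, ts_zero]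

/-- The root group: all `1 + c • v φᵀ`. -/
def X (v φ : ι → k) : Subgroup (Matrix.SpecialLinearGroup ι k) :=
  Subgroup.closure {g | ∃ c : k, (g : Matrix ι ι k) = tm v φ c}

theorem mem_X {v φ : ι → k} (h : φ ⬝ᵥ v = 0) {g : Matrix.SpecialLinearGroup ι k} :
    g ∈ X v φ ↔ ∃ c : k, g = ts v φ h c := by
  constructor
  · intro hg
    induction hg using Subgroup.closure_induction with
    | mem x hx => obtain ⟨c, hc⟩ := hx; exact ⟨c, Subtype.ext hc⟩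
    | one => exact ⟨0, (ts_zero v φ h).symm⟩
    | mul x y _ _ hx hy =>
      obtain ⟨c, rfl⟩ := hx; obtain ⟨d, rfl⟩ := hy
      exact ⟨c + d, ts_mul v φ h c d⟩
    | inv x _ hx => obtain ⟨c, rfl⟩ := hx; exact ⟨-c, ts_inv v φ h c⟩
  · rintro ⟨c, rfl⟩
    exact Subgroup.subset_closure ⟨c, rfl⟩

theorem ts_mem_X {v φ : ι → k} (h : φ ⬝ᵥ v = 0) (c : k) : ts v φ h c ∈ X v φ :=
  (mem_X h).mpr ⟨c, rfl⟩

theorem X_smul_left {a : k} (ha : a ≠ 0) (v φ : ι → k) : X (a • v) φ = X v φ := by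
  unfold X
  congr 1
  ext g
  have key : ∀ c : k, tm (a • v) φ c = tm v φ (c * a) := by
    intro c
    simp only [tm]
    congr 1
    ext i j; simp [vecMulVec_apply]; ring
  constructor
  · rintro ⟨c, hc⟩; exact ⟨c * a, by rw [hc, key]⟩
  · rintro ⟨c, hc⟩; exact ⟨c * a⁻¹, by rw [hc, key, mul_assoc, inv_mul_cancel₀ ha, mul_one]⟩

theorem X_smul_right {a : k} (ha : a ≠ 0) (v φ : ι → k) : X v (a • φ) = X v φ := by
  unfold X
  congr 1
  ext g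
  have key : ∀ c : k, tm v (a • φ) c = tm v φ (c * a) := by
    intro c
    simp only [tm]
    congr 1
    ext i j; simp [vecMulVec_apply]; ring
  constructor
  · rintro ⟨c, hc⟩; exact ⟨c * a, by rw [hc, key]⟩
  · rintro ⟨c, hc⟩; exact ⟨c * a⁻¹, by rw [hc, key, mul_assoc, inv_mul_cancel₀ ha, mul_one]⟩

theorem conj_tm (g : Matrix.SpecialLinearGroup ι k) (v φ : ι → k) (c : k) :
    (g : Matrix ι ι k) * tm v φ c * ((g⁻¹ : Matrix.SpecialLinearGroup ι k) : Matrix ι ι k)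
      = tm ((g : Matrix ι ι k) *ᵥ v) (φ ᵥ* ((g⁻¹ : Matrix.SpecialLinearGroup ι k) : Matrix ι ι k)) c := by
  have hg : (g : Matrix ι ι k) * ((g⁻¹ : Matrix.SpecialLinearGroup ι k) : Matrix ι ι k) = 1 := by
    rw [← Matrix.SpecialLinearGroup.coe_mul, mul_inv_cancel, Matrix.SpecialLinearGroup.coe_one]
  simp only [tm, Matrix.mul_add, Matrix.add_mul, Matrix.mul_one, hg, Matrix.mul_smul,
    Matrix.smul_mul, mul_vecMulVec, vecMulVec_mul]

theorem conjBy_X (g : Matrix.SpecialLinearGroup ι k) (v φ : ι → k) :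
    conjBy (X v φ) g
      = X ((g : Matrix ι ι k) *ᵥ v) (φ ᵥ* ((g⁻¹ : Matrix.SpecialLinearGroup ι k) : Matrix ι ι k)) := by
  unfold X conjBy
  rw [MonoidHom.map_closure]
  congr 1
  ext t
  simp only [Set.mem_image, Set.mem_setOf_eq, MulEquiv.coe_toMonoidHom, MulAut.conj_apply]
  constructor
  · rintro ⟨x, ⟨c, hc⟩, rfl⟩
    refine ⟨c, ?_⟩
    rw [Matrix.SpecialLinearGroup.coe_mul, Matrix.SpecialLinearGroup.coe_mul, hc, conj_tm]
  · rintro ⟨c, hc⟩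
    refine ⟨g⁻¹ * t * g, ⟨c, ?_⟩, by group⟩
    have h1 : (g : Matrix ι ι k) * ((g⁻¹ : Matrix.SpecialLinearGroup ι k) : Matrix ι ι k) = 1 := by
      rw [← Matrix.SpecialLinearGroup.coe_mul, mul_inv_cancel, Matrix.SpecialLinearGroup.coe_one]
    have h2 : ((g⁻¹ : Matrix.SpecialLinearGroup ι k) : Matrix ι ι k) * (g : Matrix ι ι k) = 1 := by
      rw [← Matrix.SpecialLinearGroup.coe_mul, inv_mul_cancel, Matrix.SpecialLinearGroup.coe_one]
    rw [Matrix.SpecialLinearGroup.coe_mul, Matrix.SpecialLinearGroup.coe_mul, hc, ← conj_tm,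
      ← Matrix.mul_assoc, ← Matrix.mul_assoc, h2, Matrix.one_mul, Matrix.mul_assoc, h2,
      Matrix.mul_one]

/-! ### Linear algebra in coordinates -/

theorem exists_dot_zero_one (u v : ι → k) (h : ∀ a : k, v ≠ a • u) :
    ∃ χ : ι → k, χ ⬝ᵥ u = 0 ∧ χ ⬝ᵥ v = 1 := by
  by_cases hu : u = 0
  · have hv : v ≠ 0 := by
      intro hv; exact h 0 (by rw [hv, zero_smul])
    obtain ⟨i, hi⟩ := Function.ne_iff.mp hv
    refine ⟨Pi.single i (v i)⁻¹, by rw [hu, dotProduct_zero], ?_⟩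
    rw [single_dotProduct]
    exact inv_mul_cancel₀ hi
  · obtain ⟨i, hi⟩ := Function.ne_iff.mp hu
    have hi' : u i ≠ 0 := hi
    have hv' : v - (v i / u i) • u ≠ 0 := by
      intro h0
      exact h (v i / u i) (sub_eq_zero.mp h0)
    obtain ⟨j, hj⟩ := Function.ne_iff.mp hv'
    have hj' : v j - v i / u i * u j ≠ 0 := by simpa using hj
    refine ⟨(v j - v i / u i * u j)⁻¹ • (Pi.single j 1 - (u j / u i) • Pi.single i 1), ?_, ?_⟩
    · rw [smul_dotProduct, sub_dotProduct, smul_dotProduct, single_dotProduct, single_dotProduct]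
      simp only [one_mul, smul_eq_mul]
      rw [div_mul_cancel₀ _ hi', sub_self, mul_zero]
    · rw [smul_dotProduct, sub_dotProduct, smul_dotProduct, single_dotProduct, single_dotProduct]
      simp only [one_mul, smul_eq_mul]
      rw [inv_mul_eq_one₀ hj']
      field_simp

theorem exists_dot_one_one {v w : ι → k} (hv : v ≠ 0) (h : ∀ a : k, w ≠ a • v) :
    ∃ χ : ι → k, χ ⬝ᵥ v = 1 ∧ χ ⬝ᵥ w = 1 := by
  have h' : ∀ a : k, v ≠ a • w := by
    intro a hva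
    by_cases ha : a = 0
    · rw [ha, zero_smul] at hva; exact hv hva
    · apply h a⁻¹
      rw [hva, smul_smul, inv_mul_cancel₀ ha, one_smul]
  obtain ⟨χ₁, h1, h2⟩ := exists_dot_zero_one v w h
  obtain ⟨χ₂, h3, h4⟩ := exists_dot_zero_one w v h'
  exact ⟨χ₁ + χ₂, by rw [add_dotProduct, h1, h4, zero_add], by rw [add_dotProduct, h2, h3, add_zero]⟩

theorem exists_orth (h3 : 3 ≤ Fintype.card ι) (φ ψ : ι → k) :
    ∃ u : ι → k, u ≠ 0 ∧ φ ⬝ᵥ u = 0 ∧ ψ ⬝ᵥ u = 0 := by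
  let f : (ι → k) →ₗ[k] (Fin 2 → k) :=
    { toFun := fun u => ![φ ⬝ᵥ u, ψ ⬝ᵥ u]
      map_add' := by
        intro x y
        ext i; fin_cases i <;> simp [dotProduct_add]
      map_smul' := by
        intro c x
        ext i; fin_cases i <;> simp [dotProduct_smul] }
  have hker : LinearMap.ker f ≠ ⊥ := by
    apply LinearMap.ker_ne_bot_of_finrank_lt
    rw [Module.finrank_fin_fun, Module.finrank_pi]
    omega
  obtain ⟨u, hu, hu0⟩ := (Submodule.ne_bot_iff _).mp hker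
  refine ⟨u, hu0, ?_, ?_⟩
  · have := congrFun (LinearMap.mem_ker.mp hu) 0
    simpa [f] using this
  · have := congrFun (LinearMap.mem_ker.mp hu) 1
    simpa [f] using this

/-! ### Transitivity on incident point–hyperplane pairs -/

theorem tm_mulVec (v φ : ι → k) (c : k) (x : ι → k) :
    tm v φ c *ᵥ x = x + (c * (φ ⬝ᵥ x)) • v := by
  rw [tm, Matrix.add_mulVec, Matrix.one_mulVec, Matrix.smul_mulVec, vecMulVec_mulVec]
  simp [smul_smul]

theorem vecMul_tm (v φ : ι → k) (c : k) (ψ : ι → k) :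
    ψ ᵥ* tm v φ c = ψ + (c * (ψ ⬝ᵥ v)) • φ := by
  rw [tm, Matrix.vecMul_add, Matrix.vecMul_one, Matrix.vecMul_smul, vecMul_vecMulVec]
  simp [smul_smul]

theorem move_point {v w φ : ι → k} (hv : φ ⬝ᵥ v = 0) (hw : φ ⬝ᵥ w = 0) (hv0 : v ≠ 0)
    (hw0 : w ≠ 0) : ∃ g : Matrix.SpecialLinearGroup ι k, conjBy (X v φ) g = X w φ := by
  by_cases h : ∃ a : k, w = a • v
  · obtain ⟨a, rfl⟩ := h
    have ha : a ≠ 0 := by
      intro ha; apply hw0; rw [ha, zero_smul]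
    exact ⟨1, by rw [conjBy_one, X_smul_left ha]⟩
  · push Not at h
    obtain ⟨χ, h1, h2⟩ := exists_dot_one_one hv0 h
    have hχ : χ ⬝ᵥ (w - v) = 0 := by rw [dotProduct_sub, h1, h2, sub_self]
    refine ⟨ts (w - v) χ hχ 1, ?_⟩
    rw [conjBy_X, ts_inv, coe_ts, coe_ts, tm_mulVec, vecMul_tm, h1, dotProduct_sub, hw, hv]
    simp

theorem move_hyp {v φ ψ : ι → k} (hφ : φ ⬝ᵥ v = 0) (hψ : ψ ⬝ᵥ v = 0) (hφ0 : φ ≠ 0)
    (hψ0 : ψ ≠ 0) : ∃ g : Matrix.SpecialLinearGroup ι k, conjBy (X v φ) g = X v ψ := by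
  by_cases h : ∃ a : k, ψ = a • φ
  · obtain ⟨a, rfl⟩ := h
    have ha : a ≠ 0 := by
      intro ha; apply hψ0; rw [ha, zero_smul]
    exact ⟨1, by rw [conjBy_one, X_smul_right ha]⟩
  · push Not at h
    obtain ⟨u, h1, h2⟩ := exists_dot_one_one hφ0 h
    rw [dotProduct_comm] at h1 h2
    have hu : (φ - ψ) ⬝ᵥ u = 0 := by rw [sub_dotProduct, h1, h2, sub_self]
    refine ⟨ts u (φ - ψ) hu 1, ?_⟩
    rw [conjBy_X, ts_inv, coe_ts, coe_ts, tm_mulVec, vecMul_tm, h1, sub_dotProduct, hφ, hψ]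
    simp

theorem move_pair (h3 : 3 ≤ Fintype.card ι) {v φ w ψ : ι → k} (hv0 : v ≠ 0) (hφ0 : φ ≠ 0)
    (hvφ : φ ⬝ᵥ v = 0) (hw0 : w ≠ 0) (hψ0 : ψ ≠ 0) (hwψ : ψ ⬝ᵥ w = 0) :
    ∃ g : Matrix.SpecialLinearGroup ι k, conjBy (X v φ) g = X w ψ := by
  obtain ⟨u, hu0, hu1, hu2⟩ := exists_orth h3 φ ψ
  obtain ⟨g₁, hg₁⟩ := move_point hvφ hu1 hv0 hu0
  obtain ⟨g₂, hg₂⟩ := move_hyp hu1 hu2 hφ0 hψ0
  obtain ⟨g₃, hg₃⟩ := move_point hu2 hwψ hu0 hw0
  refine ⟨g₃ * (g₂ * g₁), ?_⟩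
  rw [← conjBy_conjBy, ← conjBy_conjBy, hg₁, hg₂, hg₃]

theorem transvection_eq_tm (i j : ι) (c : k) :
    Matrix.transvection i j c = tm (Pi.single i 1) (Pi.single j 1) c := by
  rw [Matrix.transvection, tm]
  congr 1
  ext a b
  simp [Matrix.single_apply, vecMulVec_apply, Pi.single_apply]
  by_cases ha : i = a <;> by_cases hb : j = b <;> simp [ha, hb, eq_comm]

/-- The class of all conjugates of the root group `1 + c E_{i₀ i₁}`. -/
def S (i₀ i₁ : ι) : Set (Subgroup (Matrix.SpecialLinearGroup ι k)) :=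
  {A | ∃ g : Matrix.SpecialLinearGroup ι k, A = conjBy (X (Pi.single i₀ 1) (Pi.single i₁ 1)) g}

theorem mem_S_iff (h3 : 3 ≤ Fintype.card ι) {i₀ i₁ : ι} (h01 : i₀ ≠ i₁)
    {A : Subgroup (Matrix.SpecialLinearGroup ι k)} :
    A ∈ S i₀ i₁ ↔ ∃ v φ : ι → k, v ≠ 0 ∧ φ ≠ 0 ∧ φ ⬝ᵥ v = 0 ∧ A = X v φ := by
  have he0 : (Pi.single i₀ 1 : ι → k) ≠ 0 := by
    intro h; have := congrFun h i₀; simp at this
  have he1 : (Pi.single i₁ 1 : ι → k) ≠ 0 := by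
    intro h; have := congrFun h i₁; simp at this
  have he01 : (Pi.single i₁ 1 : ι → k) ⬝ᵥ (Pi.single i₀ 1 : ι → k) = 0 := by
    rw [single_dotProduct, one_mul, Pi.single_apply, if_neg h01.symm]
  constructor
  · rintro ⟨g, rfl⟩
    have h1 : (g : Matrix ι ι k) * ((g⁻¹ : Matrix.SpecialLinearGroup ι k) : Matrix ι ι k) = 1 := by
      rw [← Matrix.SpecialLinearGroup.coe_mul, mul_inv_cancel, Matrix.SpecialLinearGroup.coe_one]
    have h2 : ((g⁻¹ : Matrix.SpecialLinearGroup ι k) : Matrix ι ι k) * (g : Matrix ι ι k) = 1 := by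
      rw [← Matrix.SpecialLinearGroup.coe_mul, inv_mul_cancel, Matrix.SpecialLinearGroup.coe_one]
    refine ⟨_, _, ?_, ?_, ?_, conjBy_X g _ _⟩
    · intro h
      apply he0
      rw [← Matrix.one_mulVec (Pi.single i₀ 1 : ι → k), ← h2, ← Matrix.mulVec_mulVec, h,
        Matrix.mulVec_zero]
    · intro h
      apply he1
      rw [← Matrix.vecMul_one (Pi.single i₁ 1 : ι → k), ← h2, ← Matrix.vecMul_vecMul, h,
        Matrix.zero_vecMul]
    · rw [← Matrix.dotProduct_mulVec, Matrix.mulVec_mulVec, h2, Matrix.one_mulVec, he01]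
  · rintro ⟨v, φ, hv, hφ, hvφ, rfl⟩
    obtain ⟨g, hg⟩ := move_pair h3 he0 he1 he01 hv hφ hvφ
    exact ⟨g, hg.symm⟩

/-! ### The three cases for a pair of root groups -/

theorem rankOne_of_ne {v φ w ψ : ι → k} (hvφ : φ ⬝ᵥ v = 0) (hwψ : ψ ⬝ᵥ w = 0)
    (hr : φ ⬝ᵥ w ≠ 0) (hs : ψ ⬝ᵥ v ≠ 0) :
    IsRankOnePair (X v φ) (X w ψ) ∧ IsPSL2PairOver k (X v φ) (X w ψ) := by
  set r := φ ⬝ᵥ w with hr_def
  set s := ψ ⬝ᵥ v with hs_def
  set φ' : ι → k := r⁻¹ • φ with hφ'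
  set ψ' : ι → k := s⁻¹ • ψ with hψ'
  have h1 : φ' ⬝ᵥ v = 0 := by rw [hφ', smul_dotProduct, hvφ, smul_zero]
  have h2 : ψ' ⬝ᵥ w = 0 := by rw [hψ', smul_dotProduct, hwψ, smul_zero]
  have h3 : φ' ⬝ᵥ w = 1 := by
    rw [hφ', smul_dotProduct, ← hr_def, smul_eq_mul, inv_mul_cancel₀ hr]
  have h4 : ψ' ⬝ᵥ v = 1 := by
    rw [hψ', smul_dotProduct, ← hs_def, smul_eq_mul, inv_mul_cancel₀ hs]
  let E : Matrix ι (Fin 2) k := Matrix.of fun i j => ![v i, w i] j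
  let R : Matrix (Fin 2) ι k := Matrix.of fun j i => ![ψ' i, φ' i] j
  have hRE : R * E = 1 := by
    ext a b
    fin_cases a <;> fin_cases b
    · show (R * E) 0 0 = 1
      rw [Matrix.mul_apply]; exact h4
    · show (R * E) 0 1 = 0
      rw [Matrix.mul_apply]; exact h2
    · show (R * E) 1 0 = 0
      rw [Matrix.mul_apply]; exact h1
    · show (R * E) 1 1 = 1
      rw [Matrix.mul_apply]; exact h3
  have hXv : X v φ = X v φ' := (X_smul_right (inv_ne_zero hr) v φ).symm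
  have hXw : X w ψ = X w ψ' := (X_smul_right (inv_ne_zero hs) w ψ).symm
  rw [hXv, hXw]
  have hu : ∀ c : k, embHom E R hRE (sl2Upper c) = ts v φ' h1 c := by
    intro c
    apply Subtype.ext
    rw [coe_embHom, emb_upper, coe_ts, tm]
    rfl
  have hl : ∀ c : k, embHom E R hRE (sl2Lower c) = ts w ψ' h2 c := by
    intro c
    apply Subtype.ext
    rw [coe_embHom, emb_lower, coe_ts, tm]
    rfl
  apply pair_of_sl2_hom (embHom E R hRE) (embHom_injective E R hRE)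
  · ext g
    rw [Subgroup.mem_map, mem_X h1]
    constructor
    · rintro ⟨x, hx, rfl⟩
      rw [eq_sl2Upper_of_mem hx, hu]
      exact ⟨_, rfl⟩
    · rintro ⟨c, rfl⟩
      exact ⟨sl2Upper c, sl2Upper_mem c, hu c⟩
  · ext g
    rw [Subgroup.mem_map, mem_X h2]
    constructor
    · rintro ⟨x, hx, rfl⟩
      rw [eq_sl2Lower_of_mem hx, hl]
      exact ⟨_, rfl⟩
    · rintro ⟨c, rfl⟩
      exact ⟨sl2Lower c, sl2Lower_mem c, hl c⟩

theorem commute_of_orth {v φ w ψ : ι → k} (hvφ : φ ⬝ᵥ v = 0) (hwψ : ψ ⬝ᵥ w = 0)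
    (hr : φ ⬝ᵥ w = 0) (hs : ψ ⬝ᵥ v = 0) :
    ∀ a ∈ X v φ, ∀ b ∈ X w ψ, a * b = b * a := by
  intro a ha b hb
  obtain ⟨c, rfl⟩ := (mem_X hvφ).mp ha
  obtain ⟨d, rfl⟩ := (mem_X hwψ).mp hb
  apply Subtype.ext
  rw [Matrix.SpecialLinearGroup.coe_mul, Matrix.SpecialLinearGroup.coe_mul, coe_ts, coe_ts,
    tm_mul_tm, tm_mul_tm, hr, hs]
  simp only [mul_zero, zero_smul, add_zero]
  abel

theorem commutator_ts {v φ w ψ : ι → k} (hvφ : φ ⬝ᵥ v = 0) (hwψ : ψ ⬝ᵥ w = 0)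
    (hr : φ ⬝ᵥ w = 0) (c d : k) :
    ⁅ts v φ hvφ c, ts w ψ hwψ d⁆ = ts w φ hr (-(c * d * (ψ ⬝ᵥ v))) := by
  have key : ts v φ hvφ c * ts w ψ hwψ d
      = ts w φ hr (-(c * d * (ψ ⬝ᵥ v))) * (ts w ψ hwψ d * ts v φ hvφ c) := by
    apply Subtype.ext
    simp only [Matrix.SpecialLinearGroup.coe_mul, coe_ts]
    have h0 : φ ᵥ* tm w ψ d = φ := by
      rw [vecMul_tm, hr, mul_zero, zero_smul, add_zero]
    have h1 : φ ᵥ* (tm w ψ d * tm v φ c) = φ := by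
      rw [← Matrix.vecMul_vecMul, h0, vecMul_tm, hvφ, mul_zero, zero_smul, add_zero]
    have h2 : tm w φ (-(c * d * (ψ ⬝ᵥ v))) * (tm w ψ d * tm v φ c)
        = tm w ψ d * tm v φ c + (-(c * d * (ψ ⬝ᵥ v))) • vecMulVec w φ := by
      conv_lhs => rw [tm, Matrix.add_mul, Matrix.one_mul, Matrix.smul_mul, vecMulVec_mul, h1]
    rw [h2, tm_mul_tm, tm_mul_tm, hr]
    simp only [mul_zero, zero_smul, add_zero]
    module
  rw [commutatorElement_def, key]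
  group

theorem commutator_X {v φ w ψ : ι → k} (hvφ : φ ⬝ᵥ v = 0) (hwψ : ψ ⬝ᵥ w = 0)
    (hr : φ ⬝ᵥ w = 0) (hs : ψ ⬝ᵥ v ≠ 0) : ⁅X v φ, X w ψ⁆ = X w φ := by
  apply le_antisymm
  · rw [Subgroup.commutator_le]
    intro a ha b hb
    obtain ⟨c, rfl⟩ := (mem_X hvφ).mp ha
    obtain ⟨d, rfl⟩ := (mem_X hwψ).mp hb
    rw [commutator_ts hvφ hwψ hr]
    exact ts_mem_X hr _
  · intro g hg
    obtain ⟨e, rfl⟩ := (mem_X hr).mp hg
    have := Subgroup.commutator_mem_commutator (ts_mem_X hvφ 1) (ts_mem_X hwψ (-e / (ψ ⬝ᵥ v)))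
    rw [commutator_ts hvφ hwψ hr] at this
    convert this using 2
    field_simp

theorem ts_eq_one_iff {v φ : ι → k} (hv0 : v ≠ 0) (hφ0 : φ ≠ 0) (h : φ ⬝ᵥ v = 0) {c : k} :
    ts v φ h c = 1 ↔ c = 0 := by
  constructor
  · intro h1
    have h2 : tm v φ c = 1 := congrArg Subtype.val h1
    obtain ⟨i, hi⟩ := Function.ne_iff.mp hv0
    obtain ⟨j, hj⟩ := Function.ne_iff.mp hφ0
    have h3 : c • vecMulVec v φ = 0 := by
      have : (1 : Matrix ι ι k) + c • vecMulVec v φ = 1 + 0 := by rw [add_zero]; exact h2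
      exact add_left_cancel this
    have h4 := congrFun (congrFun h3 i) j
    simp only [Matrix.smul_apply, vecMulVec_apply, smul_eq_mul, Matrix.zero_apply] at h4
    rcases mul_eq_zero.mp h4 with h5 | h5
    · exact h5
    · rcases mul_eq_zero.mp h5 with h6 | h6
      · exact absurd h6 hi
      · exact absurd h6 hj
  · rintro rfl; exact ts_zero v φ h

theorem axis_of_X_eq {v φ v' φ' : ι → k} (h : φ ⬝ᵥ v = 0) (h' : φ' ⬝ᵥ v' = 0) (hv' : v' ≠ 0)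
    (heq : X v φ = X v' φ') : ∃ a : k, φ' = a • φ := by
  have h1 : ts v' φ' h' 1 ∈ X v φ := by rw [heq]; exact ts_mem_X h' 1
  obtain ⟨c, hc⟩ := (mem_X h).mp h1
  have h2 : tm v' φ' 1 = tm v φ c := congrArg Subtype.val hc
  have h3 : vecMulVec v' φ' = c • vecMulVec v φ := by
    have : (1 : Matrix ι ι k) + (1 : k) • vecMulVec v' φ' = 1 + c • vecMulVec v φ := h2
    rw [one_smul] at this
    exact add_left_cancel this
  obtain ⟨i, hi⟩ := Function.ne_iff.mp hv'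
  have hi' : v' i ≠ 0 := hi
  refine ⟨c * v i / v' i, ?_⟩
  ext j
  have h4 := congrFun (congrFun h3 i) j
  simp only [Matrix.smul_apply, vecMulVec_apply, smul_eq_mul] at h4
  simp only [Pi.smul_apply, smul_eq_mul]
  field_simp
  linear_combination h4

theorem commCase (h3 : 3 ≤ Fintype.card ι) {i₀ i₁ : ι} (h01 : i₀ ≠ i₁) {v φ w ψ : ι → k}
    (hφ0 : φ ≠ 0) (hw0 : w ≠ 0) (hvφ : φ ⬝ᵥ v = 0) (hwψ : ψ ⬝ᵥ w = 0)
    (hr : φ ⬝ᵥ w = 0) (hs : ψ ⬝ᵥ v ≠ 0) :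
    RootCommutatorCase (S i₀ i₁ : Set (Subgroup (Matrix.SpecialLinearGroup ι k))) (X v φ) (X w ψ) := by
  have hv0 : v ≠ 0 := by
    intro h; apply hs; rw [h, dotProduct_zero]
  have hψ0 : ψ ≠ 0 := by
    intro h; apply hs; rw [h, zero_dotProduct]
  have hcomm := commutator_X hvφ hwψ hr hs
  refine ⟨?_, ?_, ?_, ?_⟩
  · rw [hcomm]
    exact (mem_S_iff h3 h01).mpr ⟨w, φ, hw0, hφ0, hr, rfl⟩
  · intro c hc x hx
    rw [hcomm] at hc
    have hle : X v φ ⊔ X w ψ ≤ Subgroup.centralizer ((X w φ : Subgroup _) : Set _) := by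
      apply sup_le
      · intro a ha
        rw [Subgroup.mem_centralizer_iff]
        intro y hy
        exact commute_of_orth hr hvφ hvφ hr y hy a ha
      · intro b hb
        rw [Subgroup.mem_centralizer_iff]
        intro y hy
        exact commute_of_orth hr hwψ hr hwψ y hy b hb
    exact (Subgroup.mem_centralizer_iff.mp (hle hx)) c hc
  · intro a ha ha1
    obtain ⟨c, rfl⟩ := (mem_X hvφ).mp ha
    have hc : c ≠ 0 := fun h => ha1 ((ts_eq_one_iff hv0 hφ0 hvφ).mpr h)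
    rw [hcomm]
    have himg : (fun b => ts v φ hvφ c * b * (ts v φ hvφ c)⁻¹ * b⁻¹) '' (X w ψ : Set _)
        = (X w φ : Set _) := by
      ext g
      constructor
      · rintro ⟨b, hb, rfl⟩
        obtain ⟨d, rfl⟩ := (mem_X hwψ).mp hb
        show ts v φ hvφ c * ts w ψ hwψ d * (ts v φ hvφ c)⁻¹ * (ts w ψ hwψ d)⁻¹ ∈ X w φ
        rw [← commutatorElement_def, commutator_ts hvφ hwψ hr]
        exact ts_mem_X hr _
      · intro hg
        obtain ⟨e, rfl⟩ := (mem_X hr).mp hg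
        refine ⟨ts w ψ hwψ (-e / (c * (ψ ⬝ᵥ v))), ts_mem_X hwψ _, ?_⟩
        show ts v φ hvφ c * ts w ψ hwψ _ * (ts v φ hvφ c)⁻¹ * (ts w ψ hwψ _)⁻¹ = _
        rw [← commutatorElement_def, commutator_ts hvφ hwψ hr]
        congr 1
        field_simp
    rw [himg, Subgroup.closure_eq]
  · intro b hb hb1
    obtain ⟨d, rfl⟩ := (mem_X hwψ).mp hb
    have hd : d ≠ 0 := fun h => hb1 ((ts_eq_one_iff hw0 hψ0 hwψ).mpr h)
    rw [hcomm]
    have himg : (fun a => a * ts w ψ hwψ d * a⁻¹ * (ts w ψ hwψ d)⁻¹) '' (X v φ : Set _)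
        = (X w φ : Set _) := by
      ext g
      constructor
      · rintro ⟨a, ha, rfl⟩
        obtain ⟨c, rfl⟩ := (mem_X hvφ).mp ha
        show ts v φ hvφ c * ts w ψ hwψ d * (ts v φ hvφ c)⁻¹ * (ts w ψ hwψ d)⁻¹ ∈ X w φ
        rw [← commutatorElement_def, commutator_ts hvφ hwψ hr]
        exact ts_mem_X hr _
      · intro hg
        obtain ⟨e, rfl⟩ := (mem_X hr).mp hg
        refine ⟨ts v φ hvφ (-e / (d * (ψ ⬝ᵥ v))), ts_mem_X hvφ _, ?_⟩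
        show ts v φ hvφ _ * ts w ψ hwψ d * (ts v φ hvφ _)⁻¹ * (ts w ψ hwψ d)⁻¹ = _
        rw [← commutatorElement_def, commutator_ts hvφ hwψ hr]
        congr 1
        field_simp
    rw [himg, Subgroup.closure_eq]

theorem not_rankOne_of_zero {v φ w ψ : ι → k} (hv0 : v ≠ 0) (hφ0 : φ ≠ 0) (hw0 : w ≠ 0)
    (hvφ : φ ⬝ᵥ v = 0) (hwψ : ψ ⬝ᵥ w = 0) (hr : φ ⬝ᵥ w = 0) (hs : ψ ⬝ᵥ v ≠ 0) :
    ¬ IsRankOnePair (X v φ) (X w ψ) := by
  intro h
  have ha1 : ts v φ hvφ 1 ≠ 1 := fun h1 => one_ne_zero ((ts_eq_one_iff hv0 hφ0 hvφ).mp h1)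
  obtain ⟨b, hb, -, hcj⟩ := h.cond_left _ (ts_mem_X hvφ 1) ha1
  obtain ⟨d, rfl⟩ := (mem_X hwψ).mp hb
  rw [conjBy_X, conjBy_X, inv_inv, inv_inv, ts_inv, ts_inv, coe_ts, coe_ts, coe_ts, coe_ts,
    tm_mulVec, tm_mulVec, vecMul_tm, vecMul_tm, hr] at hcj
  simp only [mul_zero, zero_smul, add_zero, one_mul] at hcj
  have hinc1 : φ ⬝ᵥ (v + (-d * (ψ ⬝ᵥ v)) • w) = 0 := by
    rw [dotProduct_add, dotProduct_smul, hvφ, hr, smul_zero, add_zero]
  have hinc2 : (ψ + (ψ ⬝ᵥ v) • φ) ⬝ᵥ w = 0 := by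
    rw [add_dotProduct, smul_dotProduct, hwψ, hr, smul_zero, add_zero]
  obtain ⟨a, ha⟩ := axis_of_X_eq hinc1 hinc2 hw0 hcj
  apply hs
  have : ψ = (a - ψ ⬝ᵥ v) • φ := by
    rw [sub_smul, ← ha]; simp
  rw [this, smul_dotProduct, hvφ, smul_zero]

/-! ### Assembly -/

theorem single_ne_zero (i : ι) : (Pi.single i 1 : ι → k) ≠ 0 := by
  intro h; have := congrFun h i; simp at this

theorem single_dot_single (i j : ι) :
    (Pi.single i 1 : ι → k) ⬝ᵥ (Pi.single j 1 : ι → k) = if i = j then 1 else 0 := by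
  rw [single_dotProduct, one_mul, Pi.single_apply]

theorem commutator_eq_bot_of_commute {G : Type*} [Group G] {A B : Subgroup G}
    (h : ∀ a ∈ A, ∀ b ∈ B, a * b = b * a) : ⁅A, B⁆ = ⊥ := by
  rw [eq_bot_iff, Subgroup.commutator_le]
  intro a ha b hb
  rw [Subgroup.mem_bot, commutatorElement_eq_one_iff_mul_comm]
  exact h a ha b hb

theorem pair_cases (h3 : 3 ≤ Fintype.card ι) {i₀ i₁ : ι} (h01 : i₀ ≠ i₁)
    {A B : Subgroup (Matrix.SpecialLinearGroup ι k)} (hA : A ∈ S i₀ i₁) (hB : B ∈ S i₀ i₁) :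
    ⁅A, B⁆ = ⊥ ∨ IsRankOnePair A B ∨ RootCommutatorCase (S i₀ i₁) A B := by
  obtain ⟨v, φ, hv0, hφ0, hvφ, rfl⟩ := (mem_S_iff h3 h01).mp hA
  obtain ⟨w, ψ, hw0, hψ0, hwψ, rfl⟩ := (mem_S_iff h3 h01).mp hB
  by_cases hr : φ ⬝ᵥ w = 0
  · by_cases hs : ψ ⬝ᵥ v = 0
    · exact Or.inl (commutator_eq_bot_of_commute (commute_of_orth hvφ hwψ hr hs))
    · exact Or.inr (Or.inr (commCase h3 h01 hφ0 hw0 hvφ hwψ hr hs))
  · by_cases hs : ψ ⬝ᵥ v = 0
    · exact Or.inr (Or.inr (rootCommutatorCase_symm (commCase h3 h01 hψ0 hv0 hwψ hvφ hs hr)))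
    · exact Or.inr (Or.inl (rankOne_of_ne hvφ hwψ hr hs).1)

theorem isRootSubgroupSet (h3 : 3 ≤ Fintype.card ι) {i₀ i₁ : ι} (h01 : i₀ ≠ i₁) :
    IsRootSubgroupSet (S i₀ i₁ : Set (Subgroup (Matrix.SpecialLinearGroup ι k))) := by
  refine ⟨?_, ?_, ?_, ?_, fun A hA B hB => pair_cases h3 h01 hA hB⟩
  · intro A hA
    obtain ⟨v, φ, hv0, hφ0, hvφ, rfl⟩ := (mem_S_iff h3 h01).mp hA
    exact ⟨⟨fun x y => Subtype.ext (commute_of_orth hvφ hvφ hvφ hvφ x.1 x.2 y.1 y.2)⟩⟩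
  · intro A hA
    obtain ⟨v, φ, hv0, hφ0, hvφ, rfl⟩ := (mem_S_iff h3 h01).mp hA
    intro hbot
    have h1 : ts v φ hvφ 1 ∈ X v φ := ts_mem_X hvφ 1
    rw [hbot, Subgroup.mem_bot] at h1
    exact one_ne_zero ((ts_eq_one_iff hv0 hφ0 hvφ).mp h1)
  · rw [eq_top_iff]
    have : Nontrivial ι := by
      rw [← Fintype.one_lt_card_iff_nontrivial]; omega
    intro g _
    refine Cfsg.Agent.Helper2.SL_transvection_induction
      (fun g => g ∈ ⨆ A ∈ (S i₀ i₁ : Set (Subgroup (Matrix.SpecialLinearGroup ι k))), A) ?_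
      (fun _ _ hx hy => Subgroup.mul_mem _ hx hy) g
    intro i j hij c
    have hinc : (Pi.single j 1 : ι → k) ⬝ᵥ (Pi.single i 1 : ι → k) = 0 := by
      rw [single_dot_single, if_neg hij.symm]
    have hmem : X (Pi.single i 1 : ι → k) (Pi.single j 1) ∈ S i₀ i₁ :=
      (mem_S_iff h3 h01).mpr ⟨_, _, single_ne_zero i, single_ne_zero j, hinc, rfl⟩
    have hle : X (Pi.single i 1 : ι → k) (Pi.single j 1)
        ≤ ⨆ A ∈ (S i₀ i₁ : Set (Subgroup (Matrix.SpecialLinearGroup ι k))), A :=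
      le_iSup₂ (f := fun A (_ : A ∈ (S i₀ i₁ : Set (Subgroup (Matrix.SpecialLinearGroup ι k)))) => A)
        _ hmem
    apply hle
    apply Subgroup.subset_closure
    exact ⟨c, by rw [← transvection_eq_tm]; rfl⟩
  · rintro A ⟨h, rfl⟩ g
    exact ⟨g * h, conjBy_conjBy _ _ _⟩

theorem isConjClass (i₀ i₁ : ι) :
    IsConjClassOfSubgroups (S i₀ i₁ : Set (Subgroup (Matrix.SpecialLinearGroup ι k))) := by
  refine ⟨⟨_, 1, (conjBy_one _).symm⟩, ?_⟩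
  rintro A ⟨g, rfl⟩ B ⟨h, rfl⟩
  refine ⟨h * g⁻¹, ?_⟩
  rw [conjBy_conjBy, mul_assoc, inv_mul_cancel, mul_one]

theorem isKRoot (h3 : 3 ≤ Fintype.card ι) {i₀ i₁ : ι} (h01 : i₀ ≠ i₁) :
    IsKRootSubgroupSet k (S i₀ i₁ : Set (Subgroup (Matrix.SpecialLinearGroup ι k))) := by
  refine ⟨isRootSubgroupSet h3 h01, ?_⟩
  intro A hA B hB hAB
  obtain ⟨v, φ, hv0, hφ0, hvφ, rfl⟩ := (mem_S_iff h3 h01).mp hA
  obtain ⟨w, ψ, hw0, hψ0, hwψ, rfl⟩ := (mem_S_iff h3 h01).mp hB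
  by_cases hr : φ ⬝ᵥ w = 0
  · by_cases hs : ψ ⬝ᵥ v = 0
    · exact absurd hAB (not_isRankOnePair_of_commute (commute_of_orth hvφ hwψ hr hs))
    · exact absurd hAB (not_rankOne_of_zero hv0 hφ0 hw0 hvφ hwψ hr hs)
  · by_cases hs : ψ ⬝ᵥ v = 0
    · exact absurd (RankOnePair_symm hAB) (not_rankOne_of_zero hw0 hψ0 hv0 hwψ hvφ hs hr)
    · exact (rankOne_of_ne hvφ hwψ hr hs).2

theorem exists_not_orth {φ ψ : ι → k} (hφ0 : φ ≠ 0) (hψ0 : ψ ≠ 0) :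
    ∃ u : ι → k, φ ⬝ᵥ u ≠ 0 ∧ ψ ⬝ᵥ u ≠ 0 := by
  obtain ⟨i, hi⟩ := Function.ne_iff.mp hφ0
  obtain ⟨j, hj⟩ := Function.ne_iff.mp hψ0
  have hx : φ ⬝ᵥ (Pi.single i 1 : ι → k) ≠ 0 := by
    rw [dotProduct_single, mul_one]; exact hi
  have hy : ψ ⬝ᵥ (Pi.single j 1 : ι → k) ≠ 0 := by
    rw [dotProduct_single, mul_one]; exact hj
  by_cases h1 : ψ ⬝ᵥ (Pi.single i 1 : ι → k) = 0
  · by_cases h2 : φ ⬝ᵥ (Pi.single j 1 : ι → k) = 0
    · refine ⟨Pi.single i 1 + Pi.single j 1, ?_, ?_⟩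
      · rw [dotProduct_add, h2, add_zero]; exact hx
      · rw [dotProduct_add, h1, zero_add]; exact hy
    · exact ⟨_, h2, hy⟩
  · exact ⟨_, hx, h1⟩

theorem isConnected (h3 : 3 ≤ Fintype.card ι) {i₀ i₁ : ι} (h01 : i₀ ≠ i₁) :
    IsConnectedFamily (FAdj (S i₀ i₁ : Set (Subgroup (Matrix.SpecialLinearGroup ι k))))
      (S i₀ i₁) := by
  intro A hA B hB
  obtain ⟨v, φ, hv0, hφ0, hvφ, rfl⟩ := (mem_S_iff h3 h01).mp hA
  obtain ⟨w, ψ, hw0, hψ0, hwψ, rfl⟩ := (mem_S_iff h3 h01).mp hB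
  obtain ⟨u, hu1, hu2⟩ := exists_not_orth hφ0 hψ0
  -- functionals vanishing on `u`, nonzero on `v` resp. `w`
  have hvu : ∀ a : k, v ≠ a • u := by
    intro a hva
    by_cases ha : a = 0
    · rw [ha, zero_smul] at hva; exact hv0 hva
    · apply hu1
      have : u = a⁻¹ • v := by rw [hva, smul_smul, inv_mul_cancel₀ ha, one_smul]
      rw [this, dotProduct_smul, hvφ, smul_zero]
  have hwu : ∀ a : k, w ≠ a • u := by
    intro a hwa
    by_cases ha : a = 0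
    · rw [ha, zero_smul] at hwa; exact hw0 hwa
    · apply hu2
      have : u = a⁻¹ • w := by rw [hwa, smul_smul, inv_mul_cancel₀ ha, one_smul]
      rw [this, dotProduct_smul, hwψ, smul_zero]
  obtain ⟨χ₁, h11, h12⟩ := exists_dot_zero_one u v hvu
  obtain ⟨χ₂, h21, h22⟩ := exists_dot_zero_one u w hwu
  have hχ : ∃ χ : ι → k, χ ⬝ᵥ u = 0 ∧ χ ⬝ᵥ v ≠ 0 ∧ χ ⬝ᵥ w ≠ 0 := by
    by_cases h1 : χ₁ ⬝ᵥ w = 0
    · by_cases h2 : χ₂ ⬝ᵥ v = 0
      · refine ⟨χ₁ + χ₂, ?_, ?_, ?_⟩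
        · rw [add_dotProduct, h11, h21, add_zero]
        · rw [add_dotProduct, h12, h2, add_zero]; exact one_ne_zero
        · rw [add_dotProduct, h1, h22, zero_add]; exact one_ne_zero
      · exact ⟨χ₂, h21, h2, by rw [h22]; exact one_ne_zero⟩
    · exact ⟨χ₁, h11, by rw [h12]; exact one_ne_zero, h1⟩
  obtain ⟨χ, hχu, hχv, hχw⟩ := hχ
  have hu0 : u ≠ 0 := by
    intro h; apply hu1; rw [h, dotProduct_zero]
  have hχ0 : χ ≠ 0 := by
    intro h; apply hχv; rw [h, zero_dotProduct]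
  have hC : X u χ ∈ S i₀ i₁ := (mem_S_iff h3 h01).mpr ⟨u, χ, hu0, hχ0, hχu, rfl⟩
  have e1 : FAdj (S i₀ i₁) (X v φ) (X u χ) := ⟨hA, hC, (rankOne_of_ne hvφ hχu hu1 hχv).1⟩
  have e2 : FAdj (S i₀ i₁) (X u χ) (X w ψ) := ⟨hC, hB, (rankOne_of_ne hχu hwψ hχw hu2).1⟩
  exact Relation.ReflTransGen.trans (Relation.ReflTransGen.single e1)
    (Relation.ReflTransGen.single e2)

theorem single_mem_S (h3 : 3 ≤ Fintype.card ι) {i₀ i₁ : ι} (h01 : i₀ ≠ i₁) {i j : ι}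
    (hij : i ≠ j) :
    X (Pi.single i 1 : ι → k) (Pi.single j 1) ∈ S i₀ i₁ :=
  (mem_S_iff h3 h01).mpr ⟨_, _, single_ne_zero i, single_ne_zero j,
    by rw [single_dot_single, if_neg hij.symm], rfl⟩

theorem isNondegenerate (h3 : 3 ≤ Fintype.card ι) {i₀ i₁ i₂ : ι} (h01 : i₀ ≠ i₁) (h02 : i₀ ≠ i₂)
    (h12 : i₁ ≠ i₂) :
    IsNondegenerateRootSet (S i₀ i₁ : Set (Subgroup (Matrix.SpecialLinearGroup ι k))) := by
  have d : ∀ {i j : ι}, i ≠ j → (Pi.single i 1 : ι → k) ⬝ᵥ (Pi.single j 1 : ι → k) = 0 := by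
    intro i j hij; rw [single_dot_single, if_neg hij]
  have d1 : ∀ i : ι, (Pi.single i 1 : ι → k) ⬝ᵥ (Pi.single i 1 : ι → k) ≠ 0 := by
    intro i; rw [single_dot_single, if_pos rfl]; exact one_ne_zero
  refine ⟨?_, ?_, ?_⟩
  · refine ⟨_, single_mem_S h3 h01 h01, _, single_mem_S h3 h01 h02, ?_, ?_⟩
    · intro heq
      obtain ⟨a, ha⟩ := axis_of_X_eq (d h01.symm) (d h02.symm) (single_ne_zero i₀) heq
      have := congrFun ha i₂
      simp [Pi.single_apply, h12.symm] at this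
    · exact commutator_eq_bot_of_commute
        (commute_of_orth (d h01.symm) (d h02.symm) (d h01.symm) (d h02.symm))
  · exact ⟨_, single_mem_S h3 h01 h01, _, single_mem_S h3 h01 h01.symm,
      (rankOne_of_ne (d h01.symm) (d h01) (d1 i₁) (d1 i₀)).1⟩
  · exact ⟨_, single_mem_S h3 h01 h12, _, single_mem_S h3 h01 h01,
      commCase h3 h01 (single_ne_zero i₂) (single_ne_zero i₀) (d h12.symm) (d h01.symm)
        (d h02.symm) (d1 i₁)⟩

end Cfsg.Agent.Helper2.RootSLn
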