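import Mathlib
import Cfsg.Prelude.Def_RootSubgroups
import Cfsg.Agent.Helper2.RootSLn
import Cfsg.Agent.Helper2.SL2Char2

set_option autoImplicit false

/-! Transvections of `SL_n` over a field of characteristic 2 as root involutions. -/

namespace Cfsg.Agent.Helper2.RootSLn

open Cfsg Cfsg.Agent.Helper25 Cfsg.Agent.Helper2.RootGeneric Cfsg.Agent.Helper2.SL2Emb Matrix

open scoped commutatorElement

variable {ι : Type*} [Fintype ι] [DecidableEq ι] {k : Type*} [Field k]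

/-- `g` moves the pair `(v, φ)` to `(w, ψ)` exactly. -/
def Moves (g : Matrix.SpecialLinearGroup ι k) (v φ w ψ : ι → k) : Prop :=
  (g : Matrix ι ι k) *ᵥ v = w ∧ φ ᵥ* ((g⁻¹ : Matrix.SpecialLinearGroup ι k) : Matrix ι ι k) = ψ

theorem Moves.trans {g g' : Matrix.SpecialLinearGroup ι k} {v φ w ψ x θ : ι → k}
    (h : Moves g v φ w ψ) (h' : Moves g' w ψ x θ) : Moves (g' * g) v φ x θ := by
  constructor
  · rw [Matrix.SpecialLinearGroup.coe_mul, ← Matrix.mulVec_mulVec, h.1, h'.1]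
  · rw [_root_.mul_inv_rev, Matrix.SpecialLinearGroup.coe_mul, ← Matrix.vecMul_vecMul, h.2, h'.2]

theorem moves_point_indep {v w φ : ι → k} (hv : φ ⬝ᵥ v = 0) (hw : φ ⬝ᵥ w = 0) (hv0 : v ≠ 0)
    (h : ∀ a : k, w ≠ a • v) : ∃ g : Matrix.SpecialLinearGroup ι k, Moves g v φ w φ := by
  obtain ⟨χ, h1, h2⟩ := exists_dot_one_one hv0 h
  have hχ : χ ⬝ᵥ (w - v) = 0 := by rw [dotProduct_sub, h1, h2, sub_self]
  refine ⟨ts (w - v) χ hχ 1, ?_, ?_⟩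
  · rw [coe_ts, tm_mulVec, h1]; simp
  · rw [ts_inv, coe_ts, vecMul_tm, dotProduct_sub, hw, hv]; simp

theorem moves_hyp_indep {v φ ψ : ι → k} (hφ : φ ⬝ᵥ v = 0) (hψ : ψ ⬝ᵥ v = 0) (hφ0 : φ ≠ 0)
    (h : ∀ a : k, ψ ≠ a • φ) : ∃ g : Matrix.SpecialLinearGroup ι k, Moves g v φ v ψ := by
  obtain ⟨u, h1, h2⟩ := exists_dot_one_one hφ0 h
  rw [dotProduct_comm] at h1 h2
  have hu : (φ - ψ) ⬝ᵥ u = 0 := by rw [sub_dotProduct, h1, h2, sub_self]
  refine ⟨ts u (φ - ψ) hu 1, ?_, ?_⟩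
  · rw [coe_ts, tm_mulVec, sub_dotProduct, hφ, hψ]; simp
  · rw [ts_inv, coe_ts, vecMul_tm, h1]; simp

theorem exists_indep_orth (h3 : 3 ≤ Fintype.card ι) {v : ι → k} (hv0 : v ≠ 0) (φ : ι → k) :
    ∃ u : ι → k, u ≠ 0 ∧ φ ⬝ᵥ u = 0 ∧ (∀ a : k, u ≠ a • v) ∧ (∀ a : k, v ≠ a • u) := by
  obtain ⟨χ, -, hχ⟩ := exists_dot_zero_one 0 v (by intro a; rw [smul_zero]; exact hv0)
  obtain ⟨u, hu0, hu1, hu2⟩ := exists_orth h3 φ χ
  have h1 : ∀ a : k, u ≠ a • v := by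
    intro a hua
    have : a = 0 := by
      have := hu2
      rw [hua, dotProduct_smul, hχ, smul_eq_mul, mul_one] at this
      exact this
    apply hu0
    rw [hua, this, zero_smul]
  refine ⟨u, hu0, hu1, h1, ?_⟩
  intro a hva
  by_cases ha : a = 0
  · apply hv0; rw [hva, ha, zero_smul]
  · apply h1 a⁻¹
    rw [hva, smul_smul, inv_mul_cancel₀ ha, one_smul]

theorem moves_point (h3 : 3 ≤ Fintype.card ι) {v w φ : ι → k} (hv : φ ⬝ᵥ v = 0)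
    (hw : φ ⬝ᵥ w = 0) (hv0 : v ≠ 0) (hw0 : w ≠ 0) :
    ∃ g : Matrix.SpecialLinearGroup ι k, Moves g v φ w φ := by
  by_cases h : ∃ a : k, w = a • v
  · obtain ⟨a, rfl⟩ := h
    have ha : a ≠ 0 := by
      intro ha; apply hw0; rw [ha, zero_smul]
    obtain ⟨u, hu0, hu1, hu2, hu3⟩ := exists_indep_orth h3 hv0 φ
    obtain ⟨g₁, hg₁⟩ := moves_point_indep hv hu1 hv0 hu2
    have hind : ∀ b : k, a • v ≠ b • u := by
      intro b hb
      apply hu3 (a⁻¹ * b)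
      rw [← smul_smul, ← hb, smul_smul, inv_mul_cancel₀ ha, one_smul]
    obtain ⟨g₂, hg₂⟩ := moves_point_indep hu1 hw hu0 hind
    exact ⟨g₂ * g₁, hg₁.trans hg₂⟩
  · push Not at h
    exact moves_point_indep hv hw hv0 h

theorem moves_hyp (h3 : 3 ≤ Fintype.card ι) {v φ ψ : ι → k} (hφ : φ ⬝ᵥ v = 0)
    (hψ : ψ ⬝ᵥ v = 0) (hφ0 : φ ≠ 0) (hψ0 : ψ ≠ 0) :
    ∃ g : Matrix.SpecialLinearGroup ι k, Moves g v φ v ψ := by
  by_cases h : ∃ a : k, ψ = a • φ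
  · obtain ⟨a, rfl⟩ := h
    have ha : a ≠ 0 := by
      intro ha; apply hψ0; rw [ha, zero_smul]
    obtain ⟨θ, hθ0, hθ1, hθ2, hθ3⟩ := exists_indep_orth h3 hφ0 v
    rw [dotProduct_comm] at hθ1
    obtain ⟨g₁, hg₁⟩ := moves_hyp_indep hφ hθ1 hφ0 hθ2
    have hind : ∀ b : k, a • φ ≠ b • θ := by
      intro b hb
      apply hθ3 (a⁻¹ * b)
      rw [← smul_smul, ← hb, smul_smul, inv_mul_cancel₀ ha, one_smul]
    obtain ⟨g₂, hg₂⟩ := moves_hyp_indep hθ1 hψ hθ0 hind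
    exact ⟨g₂ * g₁, hg₁.trans hg₂⟩
  · push Not at h
    exact moves_hyp_indep hφ hψ hφ0 h

theorem moves_pair (h3 : 3 ≤ Fintype.card ι) {v φ w ψ : ι → k} (hv0 : v ≠ 0) (hφ0 : φ ≠ 0)
    (hvφ : φ ⬝ᵥ v = 0) (hw0 : w ≠ 0) (hψ0 : ψ ≠ 0) (hwψ : ψ ⬝ᵥ w = 0) :
    ∃ g : Matrix.SpecialLinearGroup ι k, Moves g v φ w ψ := by
  obtain ⟨u, hu0, hu1, hu2⟩ := exists_orth h3 φ ψ
  obtain ⟨g₁, hg₁⟩ := moves_point h3 hvφ hu1 hv0 hu0
  obtain ⟨g₂, hg₂⟩ := moves_hyp h3 hu1 hu2 hφ0 hψ0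
  obtain ⟨g₃, hg₃⟩ := moves_point h3 hu2 hwψ hu0 hw0
  exact ⟨g₃ * (g₂ * g₁), (hg₁.trans hg₂).trans hg₃⟩

theorem conj_ts_of_moves {g : Matrix.SpecialLinearGroup ι k} {v φ w ψ : ι → k}
    (hm : Moves g v φ w ψ) (hvφ : φ ⬝ᵥ v = 0) (hwψ : ψ ⬝ᵥ w = 0) (c : k) :
    g * ts v φ hvφ c * g⁻¹ = ts w ψ hwψ c := by
  apply Subtype.ext
  rw [Matrix.SpecialLinearGroup.coe_mul, Matrix.SpecialLinearGroup.coe_mul, coe_ts, coe_ts,
    conj_tm, hm.1, hm.2]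

theorem moves_self (g : Matrix.SpecialLinearGroup ι k) (v φ : ι → k) :
    Moves g v φ ((g : Matrix ι ι k) *ᵥ v)
      (φ ᵥ* ((g⁻¹ : Matrix.SpecialLinearGroup ι k) : Matrix ι ι k)) := ⟨rfl, rfl⟩

theorem Moves.dot {g : Matrix.SpecialLinearGroup ι k} {v φ w ψ : ι → k} (h : Moves g v φ w ψ) :
    ψ ⬝ᵥ w = φ ⬝ᵥ v := by
  have h2 : ((g⁻¹ : Matrix.SpecialLinearGroup ι k) : Matrix ι ι k) * (g : Matrix ι ι k) = 1 := by
    rw [← Matrix.SpecialLinearGroup.coe_mul, inv_mul_cancel, Matrix.SpecialLinearGroup.coe_one]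
  rw [← h.1, ← h.2, ← Matrix.dotProduct_mulVec, Matrix.mulVec_mulVec, h2, Matrix.one_mulVec]

theorem Moves.ne_zero_left {g : Matrix.SpecialLinearGroup ι k} {v φ w ψ : ι → k}
    (h : Moves g v φ w ψ) (hv : v ≠ 0) : w ≠ 0 := by
  have h2 : ((g⁻¹ : Matrix.SpecialLinearGroup ι k) : Matrix ι ι k) * (g : Matrix ι ι k) = 1 := by
    rw [← Matrix.SpecialLinearGroup.coe_mul, inv_mul_cancel, Matrix.SpecialLinearGroup.coe_one]
  intro hw
  apply hv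
  rw [← Matrix.one_mulVec v, ← h2, ← Matrix.mulVec_mulVec, h.1, hw, Matrix.mulVec_zero]

theorem Moves.ne_zero_right {g : Matrix.SpecialLinearGroup ι k} {v φ w ψ : ι → k}
    (h : Moves g v φ w ψ) (hφ : φ ≠ 0) : ψ ≠ 0 := by
  have h2 : ((g⁻¹ : Matrix.SpecialLinearGroup ι k) : Matrix ι ι k) * (g : Matrix ι ι k) = 1 := by
    rw [← Matrix.SpecialLinearGroup.coe_mul, inv_mul_cancel, Matrix.SpecialLinearGroup.coe_one]
  intro hψ
  apply hφ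
  rw [← Matrix.vecMul_one φ, ← h2, ← Matrix.vecMul_vecMul, h.2, hψ, Matrix.zero_vecMul]

theorem ts_smul_left (a : k) (v φ : ι → k) (h : φ ⬝ᵥ v = 0) (c : k) :
    ts (a • v) φ (by rw [dotProduct_smul, h, smul_zero]) c = ts v φ h (c * a) := by
  apply Subtype.ext
  simp only [coe_ts, tm]
  congr 1
  ext i j; simp [vecMulVec_apply]; ring

theorem ts_smul_right (a : k) (v φ : ι → k) (h : φ ⬝ᵥ v = 0) (c : k) :
    ts v (a • φ) (by rw [smul_dotProduct, h, smul_zero]) c = ts v φ h (c * a) := by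
  apply Subtype.ext
  simp only [coe_ts, tm]
  congr 1
  ext i j; simp [vecMulVec_apply]; ring

/-- The `SL₂` attached to two opposite root groups. -/
theorem exists_sl2_hom {v φ w ψ : ι → k} (hvφ : φ ⬝ᵥ v = 0) (hwψ : ψ ⬝ᵥ w = 0)
    (hr : φ ⬝ᵥ w ≠ 0) (hs : ψ ⬝ᵥ v ≠ 0) :
    ∃ ρ : Matrix.SpecialLinearGroup (Fin 2) k →* Matrix.SpecialLinearGroup ι k,
      Function.Injective ρ ∧ (∀ c : k, ρ (sl2Upper c) = ts v φ hvφ (c * (φ ⬝ᵥ w)⁻¹)) ∧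
        (∀ c : k, ρ (sl2Lower c) = ts w ψ hwψ (c * (ψ ⬝ᵥ v)⁻¹)) := by
  set r := φ ⬝ᵥ w with hr_def
  set s := ψ ⬝ᵥ v with hs_def
  set φ' : ι → k := r⁻¹ • φ with hφ'
  set ψ' : ι → k := s⁻¹ • ψ with hψ'
  have h1 : φ' ⬝ᵥ v = 0 := by rw [hφ', smul_dotProduct, hvφ, smul_zero]
  have h2 : ψ' ⬝ᵥ w = 0 := by rw [hψ', smul_dotProduct, hwψ, smul_zero]
  have h3 : φ' ⬝ᵥ w = 1 := by
    rw [hφ', smul_dotProduct, ← hr_def, smul_eq_mul, inv_mul_cancel₀ hr]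
  have h4 : ψ' ⬝ᵥ v = 1 := by
    rw [hψ', smul_dotProduct, ← hs_def, smul_eq_mul, inv_mul_cancel₀ hs]
  let E : Matrix ι (Fin 2) k := Matrix.of fun i j => ![v i, w i] j
  let R : Matrix (Fin 2) ι k := Matrix.of fun j i => ![ψ' i, φ' i] j
  have hRE : R * E = 1 := by
    ext a b
    fin_cases a <;> fin_cases b
    · show (R * E) 0 0 = 1
      rw [Matrix.mul_apply]; exact h4
    · show (R * E) 0 1 = 0
      rw [Matrix.mul_apply]; exact h2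
    · show (R * E) 1 0 = 0
      rw [Matrix.mul_apply]; exact h1
    · show (R * E) 1 1 = 1
      rw [Matrix.mul_apply]; exact h3
  refine ⟨embHom E R hRE, embHom_injective E R hRE, ?_, ?_⟩
  · intro c
    rw [← ts_smul_right r⁻¹ v φ hvφ c]
    apply Subtype.ext
    rw [coe_embHom, emb_upper, coe_ts, tm]
    rfl
  · intro c
    rw [← ts_smul_right s⁻¹ w ψ hwψ c]
    apply Subtype.ext
    rw [coe_embHom, emb_lower, coe_ts, tm]
    rfl

/-! ### Transvections as a class of elements -/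

/-- The set of transvections, in the form of the statement. -/
def D (i₀ i₁ : ι) : Set (Matrix.SpecialLinearGroup ι k) :=
  {t | ∃ c : k, c ≠ 0 ∧ ∃ g : Matrix.SpecialLinearGroup ι k,
    ((g⁻¹ * t * g : Matrix.SpecialLinearGroup ι k) : Matrix ι ι k) = Matrix.transvection i₀ i₁ c}

theorem mem_D_iff (h3 : 3 ≤ Fintype.card ι) {i₀ i₁ : ι} (h01 : i₀ ≠ i₁)
    {t : Matrix.SpecialLinearGroup ι k} :
    t ∈ D i₀ i₁ ↔ ∃ (v φ : ι → k) (h : φ ⬝ᵥ v = 0), v ≠ 0 ∧ φ ≠ 0 ∧ t = ts v φ h 1 := by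
  have he01 : (Pi.single i₁ 1 : ι → k) ⬝ᵥ (Pi.single i₀ 1 : ι → k) = 0 := by
    rw [single_dot_single, if_neg h01.symm]
  constructor
  · rintro ⟨c, hc, g, hg⟩
    have hg' : g⁻¹ * t * g = ts (Pi.single i₀ 1) (Pi.single i₁ 1) he01 c := by
      apply Subtype.ext
      rw [hg, coe_ts, transvection_eq_tm]
    have ht : t = g * ts (Pi.single i₀ 1) (Pi.single i₁ 1) he01 c * g⁻¹ := by
      rw [← hg']; group
    have hinc : (Pi.single i₁ 1 : ι → k) ⬝ᵥ (c • (Pi.single i₀ 1 : ι → k)) = 0 := by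
      rw [dotProduct_smul, he01, smul_zero]
    have hts : ts (Pi.single i₀ 1) (Pi.single i₁ 1) he01 c
        = ts (c • (Pi.single i₀ 1 : ι → k)) (Pi.single i₁ 1) hinc 1 := by
      rw [ts_smul_left c _ _ he01 1, one_mul]
    have hm := moves_self g (c • (Pi.single i₀ 1 : ι → k)) (Pi.single i₁ 1)
    have hv0 : c • (Pi.single i₀ 1 : ι → k) ≠ 0 := smul_ne_zero hc (single_ne_zero i₀)
    refine ⟨_, _, hm.dot.trans hinc, hm.ne_zero_left hv0, hm.ne_zero_right (single_ne_zero i₁), ?_⟩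
    rw [ht, hts]
    exact conj_ts_of_moves hm hinc _ 1
  · rintro ⟨v, φ, h, hv0, hφ0, rfl⟩
    obtain ⟨g, hg⟩ := moves_pair h3 (single_ne_zero i₀) (single_ne_zero i₁) he01 hv0 hφ0 h
    refine ⟨1, one_ne_zero, g, ?_⟩
    have := conj_ts_of_moves hg he01 h 1
    rw [← this, transvection_eq_tm]
    have h2 : g⁻¹ * (g * ts (Pi.single i₀ 1) (Pi.single i₁ 1) he01 1 * g⁻¹) * g
        = ts (Pi.single i₀ 1) (Pi.single i₁ 1) he01 1 := by group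
    rw [h2]; rfl

theorem ts_mem_D (h3 : 3 ≤ Fintype.card ι) {i₀ i₁ : ι} (h01 : i₀ ≠ i₁) {v φ : ι → k}
    (h : φ ⬝ᵥ v = 0) (hv0 : v ≠ 0) (hφ0 : φ ≠ 0) {c : k} (hc : c ≠ 0) :
    ts v φ h c ∈ D i₀ i₁ := by
  rw [mem_D_iff h3 h01]
  have hinc : φ ⬝ᵥ (c • v) = 0 := by rw [dotProduct_smul, h, smul_zero]
  refine ⟨c • v, φ, hinc, smul_ne_zero hc hv0, hφ0, ?_⟩
  rw [ts_smul_left c v φ h 1, one_mul]

section char2

variable [CharP k 2]

theorem ts_sq (v φ : ι → k) (h : φ ⬝ᵥ v = 0) (c : k) : ts v φ h c ^ 2 = 1 := by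
  rw [pow_two, ts_mul, CharTwo.add_self_eq_zero, ts_zero]

theorem ts_inv_self (v φ : ι → k) (h : φ ⬝ᵥ v = 0) (c : k) : (ts v φ h c)⁻¹ = ts v φ h c := by
  rw [ts_inv, CharTwo.neg_eq]

/-- the order 4 case -/
theorem order_four {v φ w ψ : ι → k} (hvφ : φ ⬝ᵥ v = 0) (hwψ : ψ ⬝ᵥ w = 0) (hr : φ ⬝ᵥ w = 0)
    (hs : ψ ⬝ᵥ v ≠ 0) (hw0 : w ≠ 0) (hφ0 : φ ≠ 0) :
    orderOf (ts v φ hvφ 1 * ts w ψ hwψ 1) = 4 ∧
      (ts v φ hvφ 1 * ts w ψ hwψ 1) ^ 2 = ts w φ hr (ψ ⬝ᵥ v) := by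
  have hsq : (ts v φ hvφ 1 * ts w ψ hwψ 1) ^ 2 = ts w φ hr (ψ ⬝ᵥ v) := by
    have h1 : (ts v φ hvφ 1 * ts w ψ hwψ 1) ^ 2 = ⁅ts v φ hvφ 1, ts w ψ hwψ 1⁆ := by
      rw [commutatorElement_def, ts_inv_self, ts_inv_self, pow_two]; group
    rw [h1, commutator_ts hvφ hwψ hr, one_mul, one_mul, CharTwo.neg_eq]
  refine ⟨?_, hsq⟩
  have : orderOf (ts v φ hvφ 1 * ts w ψ hwψ 1) = 2 ^ (1 + 1) := by
    apply orderOf_eq_prime_pow
    · rw [pow_one, hsq]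
      intro h1
      exact hs ((ts_eq_one_iff hw0 hφ0 hr).mp h1)
    · rw [pow_succ, pow_mul, pow_one, hsq, ts_sq]
  rw [this]; norm_num

theorem orderOf_mul_swap {G : Type*} [Group G] (a b : G) : orderOf (a * b) = orderOf (b * a) := by
  have := orderOf_injective (MulAut.conj a).toMonoidHom (MulEquiv.injective _) (b * a)
  rw [← this]
  congr 1
  simp [mul_assoc]

/-- the odd order case -/
theorem odd_order [Finite k] {v φ w ψ : ι → k} (hvφ : φ ⬝ᵥ v = 0) (hwψ : ψ ⬝ᵥ w = 0)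
    (hr : φ ⬝ᵥ w ≠ 0) (hs : ψ ⬝ᵥ v ≠ 0) :
    Odd (orderOf (ts v φ hvφ 1 * ts w ψ hwψ 1)) ∧
      (Nat.card k = 2 → orderOf (ts v φ hvφ 1 * ts w ψ hwψ 1) = 1 ∨
        orderOf (ts v φ hvφ 1 * ts w ψ hwψ 1) = 3) := by
  obtain ⟨ρ, hρ, hu, hl⟩ := exists_sl2_hom hvφ hwψ hr hs
  have h1 : ts v φ hvφ 1 * ts w ψ hwψ 1 = ρ (sl2Upper (φ ⬝ᵥ w) * sl2Lower (ψ ⬝ᵥ v)) := by
    rw [map_mul, hu, hl, mul_inv_cancel₀ hr, mul_inv_cancel₀ hs]
  rw [h1, orderOf_injective ρ hρ]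
  set r := φ ⬝ᵥ w
  set s := ψ ⬝ᵥ v
  constructor
  · apply Cfsg.Agent.Helper2.SL2Char2.odd_orderOf_of_trace_ne_zero
    simp only [sl2_mul_apply, sl2Lower_00, sl2Lower_01, sl2Lower_10, sl2Lower_11, sl2Upper_00,
      sl2Upper_01, sl2Upper_10, sl2Upper_11]
    have : (1 : k) * 1 + r * s + (0 * 0 + 1 * 1) = r * s := by
      have h2 : (2 : k) = 0 := CharTwo.two_eq_zero
      linear_combination h2
    rw [this]
    exact mul_ne_zero hr hs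
  · intro hcard
    have hone : ∀ x : k, x ≠ 0 → x = 1 := by
      intro x hx
      have : Fintype k := Fintype.ofFinite k
      have := FiniteField.pow_card_sub_one_eq_one x hx
      rw [← Nat.card_eq_fintype_card, hcard] at this
      simpa using this
    have hr1 : r = 1 := hone r hr
    have hs1 : s = 1 := hone s hs
    have hcube : (sl2Upper r * sl2Lower s : Matrix.SpecialLinearGroup (Fin 2) k) ^ 3 = 1 := by
      have h2 : (2 : k) = 0 := CharTwo.two_eq_zero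
      rw [hr1, hs1, pow_succ, pow_two]
      apply sl2_ext <;>
        simp only [sl2_mul_apply, sl2Lower_00, sl2Lower_01, sl2Lower_10, sl2Lower_11, sl2Upper_00,
          sl2Upper_01, sl2Upper_10, sl2Upper_11, Matrix.SpecialLinearGroup.coe_one,
          Matrix.one_apply_eq]
      · linear_combination 6 * h2
      · simp; linear_combination 4 * h2
      · simp; linear_combination 4 * h2
      · linear_combination 2 * h2
    have hdvd := orderOf_dvd_of_pow_eq_one hcube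
    rcases (Nat.dvd_prime Nat.prime_three).mp hdvd with h | h
    · exact Or.inl h
    · exact Or.inr h

theorem conj_mem_D (h3 : 3 ≤ Fintype.card ι) {i₀ i₁ : ι} (h01 : i₀ ≠ i₁)
    {d : Matrix.SpecialLinearGroup ι k} (hd : d ∈ D i₀ i₁) (g : Matrix.SpecialLinearGroup ι k) :
    g * d * g⁻¹ ∈ D i₀ i₁ := by
  obtain ⟨v, φ, h, hv0, hφ0, rfl⟩ := (mem_D_iff h3 h01).mp hd
  have hm := moves_self g v φ
  rw [mem_D_iff h3 h01]
  exact ⟨_, _, hm.dot.trans h, hm.ne_zero_left hv0, hm.ne_zero_right hφ0,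
    conj_ts_of_moves hm h _ 1⟩

theorem pair_class (h3 : 3 ≤ Fintype.card ι) {i₀ i₁ : ι} (h01 : i₀ ≠ i₁) [Finite k]
    {a b : Matrix.SpecialLinearGroup ι k} (ha : a ∈ D i₀ i₁) (hb : b ∈ D i₀ i₁) :
    (a * b = b * a ∧ (a * b) ^ 2 = 1) ∨
      (Odd (orderOf (a * b)) ∧
        (Nat.card k = 2 → orderOf (a * b) = 1 ∨ orderOf (a * b) = 3)) ∨
      (orderOf (a * b) = 4 ∧ (a * b) ^ 2 ∈ D i₀ i₁) := by
  obtain ⟨v, φ, hvφ, hv0, hφ0, rfl⟩ := (mem_D_iff h3 h01).mp ha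
  obtain ⟨w, ψ, hwψ, hw0, hψ0, rfl⟩ := (mem_D_iff h3 h01).mp hb
  by_cases hr : φ ⬝ᵥ w = 0
  · by_cases hs : ψ ⬝ᵥ v = 0
    · left
      have hc := commute_of_orth hvφ hwψ hr hs _ (ts_mem_X hvφ 1) _ (ts_mem_X hwψ 1)
      refine ⟨hc, ?_⟩
      have h1 : (ts v φ hvφ 1 * ts w ψ hwψ 1) ^ 2
          = ts v φ hvφ 1 ^ 2 * ts w ψ hwψ 1 ^ 2 := by
        rw [pow_two, pow_two, pow_two, mul_assoc, ← mul_assoc (ts w ψ hwψ 1), ← hc]
        group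
      rw [h1, ts_sq, ts_sq, one_mul]
    · right; right
      obtain ⟨h1, h2⟩ := order_four hvφ hwψ hr hs hw0 hφ0
      exact ⟨h1, by rw [h2]; exact ts_mem_D h3 h01 hr hw0 hφ0 hs⟩
  · by_cases hs : ψ ⬝ᵥ v = 0
    · right; right
      obtain ⟨h1, h2⟩ := order_four hwψ hvφ hs hr hv0 hψ0
      refine ⟨by rw [orderOf_mul_swap, h1], ?_⟩
      have h3' : (ts v φ hvφ 1 * ts w ψ hwψ 1) ^ 2
          = ts v φ hvφ 1 * (ts w ψ hwψ 1 * ts v φ hvφ 1) ^ 2 * (ts v φ hvφ 1)⁻¹ := by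
        rw [pow_two, pow_two]; group
      rw [h3', h2]
      exact conj_mem_D h3 h01 (ts_mem_D h3 h01 hs hv0 hψ0 hr) _
    · right; left
      exact odd_order hvφ hwψ hr hs

theorem isRootInvolutionSet (h3 : 3 ≤ Fintype.card ι) {i₀ i₁ : ι} (h01 : i₀ ≠ i₁) [Finite k] :
    IsRootInvolutionSet (D i₀ i₁ : Set (Matrix.SpecialLinearGroup ι k)) := by
  refine ⟨?_, ?_, fun d hd g => conj_mem_D h3 h01 hd g, ?_⟩
  · intro d hd
    obtain ⟨v, φ, h, hv0, hφ0, rfl⟩ := (mem_D_iff h3 h01).mp hd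
    exact orderOf_eq_prime (ts_sq v φ h 1)
      (fun h1 => one_ne_zero ((ts_eq_one_iff hv0 hφ0 h).mp h1))
  · rw [eq_top_iff]
    have : Nontrivial ι := by
      rw [← Fintype.one_lt_card_iff_nontrivial]; omega
    intro g _
    refine Cfsg.Agent.Helper2.SL_transvection_induction
      (fun g => g ∈ Subgroup.closure (D i₀ i₁ : Set (Matrix.SpecialLinearGroup ι k))) ?_
      (fun _ _ hx hy => Subgroup.mul_mem _ hx hy) g
    intro i j hij c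
    have hinc : (Pi.single j 1 : ι → k) ⬝ᵥ (Pi.single i 1 : ι → k) = 0 := by
      rw [single_dot_single, if_neg hij.symm]
    have heq : Matrix.SpecialLinearGroup.transvection hij c
        = ts (Pi.single i 1) (Pi.single j 1) hinc c := by
      apply Subtype.ext
      rw [coe_ts, ← transvection_eq_tm]; rfl
    show Matrix.SpecialLinearGroup.transvection hij c ∈ _
    rw [heq]
    by_cases hc : c = 0
    · rw [hc, ts_zero]; exact Subgroup.one_mem _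
    · exact Subgroup.subset_closure
        (ts_mem_D h3 h01 hinc (single_ne_zero i) (single_ne_zero j) hc)
  · intro a ha b hb
    rcases pair_class h3 h01 ha hb with h | h | h
    · exact Or.inl h.1
    · exact Or.inr (Or.inl h.1)
    · exact Or.inr (Or.inr h)

theorem isRootInvolutionClass (h3 : 3 ≤ Fintype.card ι) {i₀ i₁ : ι} (h01 : i₀ ≠ i₁) [Finite k] :
    IsRootInvolutionClass (D i₀ i₁ : Set (Matrix.SpecialLinearGroup ι k)) := by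
  have he01 : (Pi.single i₁ 1 : ι → k) ⬝ᵥ (Pi.single i₀ 1 : ι → k) = 0 := by
    rw [single_dot_single, if_neg h01.symm]
  refine ⟨isRootInvolutionSet h3 h01, ⟨_, ts_mem_D h3 h01 he01 (single_ne_zero i₀)
    (single_ne_zero i₁) one_ne_zero⟩, ?_⟩
  intro a ha b hb
  obtain ⟨v, φ, hvφ, hv0, hφ0, rfl⟩ := (mem_D_iff h3 h01).mp ha
  obtain ⟨w, ψ, hwψ, hw0, hψ0, rfl⟩ := (mem_D_iff h3 h01).mp hb
  obtain ⟨g, hg⟩ := moves_pair h3 hv0 hφ0 hvφ hw0 hψ0 hwψ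
  exact ⟨g, (conj_ts_of_moves hg hvφ hwψ 1).symm⟩

theorem isThreeFourPlus (h3 : 3 ≤ Fintype.card ι) {i₀ i₁ : ι} (h01 : i₀ ≠ i₁) [Finite k]
    (hcard : Nat.card k = 2) :
    IsThreeFourPlusTranspositionSet (D i₀ i₁ : Set (Matrix.SpecialLinearGroup ι k)) := by
  refine ⟨isRootInvolutionSet h3 h01, ?_⟩
  intro a ha b hb hodd
  rcases pair_class h3 h01 ha hb with h | h | h
  · left
    have hdvd := orderOf_dvd_of_pow_eq_one h.2
    rcases (Nat.dvd_prime Nat.prime_two).mp hdvd with h1 | h1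
    · exact h1
    · rw [h1] at hodd; exact absurd hodd (by decide)
  · exact h.2 hcard
  · rw [h.1] at hodd; exact absurd hodd (by decide)

end char2

end Cfsg.Agent.Helper2.RootSLn
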