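import Mathlib
import Cfsg.Agent.Helper2.SpCard
import Cfsg.Agent.Helper28.SympFrame

/-! Pairs of complementary Lagrangian subspaces of the standard symplectic space (for S5963). -/

set_option autoImplicit false
set_option linter.unusedSectionVars false
set_option linter.unusedVariables false

namespace Cfsg.Agent.Helper2.SpPairs

open Matrix Module Submodule Cfsg.Agent.Helper28

variable {F : Type*} [Field F] {d : ℕ}

abbrev Vd (d : ℕ) (F : Type*) := Fin d ⊕ Fin d → F
abbrev Spd (d : ℕ) (F : Type*) [Field F] := Matrix.symplecticGroup (Fin d) F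
abbrev Md (d : ℕ) (F : Type*) := Matrix (Fin d ⊕ Fin d) (Fin d ⊕ Fin d) F

theorem finrank_Vd : finrank F (Vd d F) = 2 * d := by
  rw [Module.finrank_fintype_fun_eq_card, Fintype.card_sum, Fintype.card_fin]
  ring

theorem finrank_le_of_TI (U : Submodule F (Vd d F))
    (hU : ∀ u ∈ U, ∀ v ∈ U, Cfsg.sympForm d F u v = 0) : finrank F U ≤ d := by
  have hN := SympFrame.sB_nondeg d F
  have hle : U ≤ (SympFrame.sB d F).orthogonal U := by
    intro u hu
    rw [LinearMap.BilinForm.mem_orthogonal_iff]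
    intro n hn
    exact hU n hn u hu
  have h1 : finrank F U ≤ finrank F ((SympFrame.sB d F).orthogonal U) :=
    Submodule.finrank_mono hle
  have h2 : finrank F ((SympFrame.sB d F).orthogonal U) = finrank F (Vd d F) - finrank F U :=
    LinearMap.BilinForm.finrank_orthogonal hN U
  rw [finrank_Vd] at h2
  omega

/-- a pair of complementary totally isotropic subspaces -/
def IsLP (U W : Submodule F (Vd d F)) : Prop :=
  IsCompl U W ∧ (∀ u ∈ U, ∀ v ∈ U, Cfsg.sympForm d F u v = 0) ∧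
    (∀ u ∈ W, ∀ v ∈ W, Cfsg.sympForm d F u v = 0)

theorem IsLP.finrank_eq {U W : Submodule F (Vd d F)} (h : IsLP U W) :
    finrank F U = d ∧ finrank F W = d := by
  have h1 := Submodule.finrank_add_eq_of_isCompl h.1
  rw [finrank_Vd] at h1
  have h2 := finrank_le_of_TI U h.2.1
  have h3 := finrank_le_of_TI W h.2.2
  omega

theorem IsLP.symm {U W : Submodule F (Vd d F)} (h : IsLP U W) : IsLP W U :=
  ⟨h.1.symm, h.2.2, h.2.1⟩

theorem sympForm_single (s t : Fin d ⊕ Fin d) :
    Cfsg.sympForm d F (Pi.single s 1) (Pi.single t 1) = J (Fin d) F s t := by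
  rw [sympForm_def, Matrix.mulVec_single_one, single_one_dotProduct]
  rfl

/-- the matrix with prescribed columns -/
def ofCols (c : Fin d ⊕ Fin d → Vd d F) : Md d F := Matrix.of (fun a b => c b a)

theorem ofCols_mulVec (c : Fin d ⊕ Fin d → Vd d F) (v : Vd d F) :
    ofCols c *ᵥ v = ∑ s, v s • c s := by
  funext a
  simp only [ofCols, Matrix.mulVec, dotProduct, Matrix.of_apply, Finset.sum_apply, Pi.smul_apply,
    smul_eq_mul]
  exact Finset.sum_congr rfl (fun s _ => mul_comm _ _)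

theorem ofCols_mulVec_single (c : Fin d ⊕ Fin d → Vd d F) (s : Fin d ⊕ Fin d) :
    ofCols c *ᵥ Pi.single s 1 = c s := by
  rw [ofCols_mulVec, Finset.sum_eq_single s]
  · rw [Pi.single_eq_same, one_smul]
  · intro t _ hts
    rw [Pi.single_eq_of_ne hts, zero_smul]
  · intro h
    exact absurd (Finset.mem_univ s) h

theorem ofCols_mem (c : Fin d ⊕ Fin d → Vd d F)
    (hc : ∀ s t, Cfsg.sympForm d F (c s) (c t) = J (Fin d) F s t) :
    ofCols c ∈ Matrix.symplecticGroup (Fin d) F := by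
  rw [mem_symplecticGroup_iff_preserves]
  have hB : (SympFrame.sB d F).comp (Matrix.toLin' (ofCols c)) (Matrix.toLin' (ofCols c)) =
      SympFrame.sB d F := by
    apply LinearMap.BilinForm.ext_basis (Pi.basisFun F (Fin d ⊕ Fin d))
    intro s t
    rw [LinearMap.BilinForm.comp_apply, Pi.basisFun_apply, Pi.basisFun_apply,
      Matrix.toLin'_apply, Matrix.toLin'_apply, ofCols_mulVec_single, ofCols_mulVec_single,
      SympFrame.sB_apply, SympFrame.sB_apply, hc, sympForm_single]
  intro u v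
  have := congrArg (fun B : LinearMap.BilinForm F (Vd d F) => B u v) hB
  simp only [LinearMap.BilinForm.comp_apply, SympFrame.sB_apply, Matrix.toLin'_apply] at this
  exact this

/-! ### the standard pair -/

def U0 (d : ℕ) (F : Type*) [Field F] : Submodule F (Vd d F) :=
  LinearMap.ker (LinearMap.funLeft F F (Sum.inr : Fin d → Fin d ⊕ Fin d))

def W0 (d : ℕ) (F : Type*) [Field F] : Submodule F (Vd d F) :=
  LinearMap.ker (LinearMap.funLeft F F (Sum.inl : Fin d → Fin d ⊕ Fin d))

theorem mem_U0 {v : Vd d F} : v ∈ U0 d F ↔ ∀ i, v (Sum.inr i) = 0 := by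
  rw [U0, LinearMap.mem_ker]
  constructor
  · intro h i
    exact congrFun h i
  · intro h
    funext i
    exact h i

theorem mem_W0 {v : Vd d F} : v ∈ W0 d F ↔ ∀ i, v (Sum.inl i) = 0 := by
  rw [W0, LinearMap.mem_ker]
  constructor
  · intro h i
    exact congrFun h i
  · intro h
    funext i
    exact h i

theorem isLP_std : IsLP (U0 d F) (W0 d F) := by
  refine ⟨IsCompl.of_eq ?_ ?_, ?_, ?_⟩
  · rw [eq_bot_iff]
    rintro v ⟨hU, hW⟩
    rw [Submodule.mem_bot]
    funext s
    rcases s with i | i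
    · exact mem_W0.mp hW i
    · exact mem_U0.mp hU i
  · rw [eq_top_iff]
    intro v _
    rw [Submodule.mem_sup]
    refine ⟨Sum.elim (fun i => v (Sum.inl i)) 0, mem_U0.mpr (fun i => rfl),
      Sum.elim 0 (fun i => v (Sum.inr i)), mem_W0.mpr (fun i => rfl), ?_⟩
    funext s
    rcases s with i | i
    · simp
    · simp
  · intro u hu v hv
    rw [sympForm_explicit]
    apply Finset.sum_eq_zero
    intro i _
    rw [mem_U0.mp hu i, mem_U0.mp hv i]
    ring
  · intro u hu v hv
    rw [sympForm_explicit]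
    apply Finset.sum_eq_zero
    intro i _
    rw [mem_W0.mp hu i, mem_W0.mp hv i]
    ring

/-! ### symplectic matrices act invertibly -/

theorem inv_mul_coe (g : Spd d F) : (g⁻¹ : Spd d F).1 * g.1 = 1 := by
  have : ((g⁻¹ * g : Spd d F) : Md d F) = 1 := by rw [inv_mul_cancel]; rfl
  exact this

theorem mul_inv_coe (g : Spd d F) : g.1 * (g⁻¹ : Spd d F).1 = 1 := by
  have : ((g * g⁻¹ : Spd d F) : Md d F) = 1 := by rw [mul_inv_cancel]; rfl
  exact this

theorem inv_mulVec (g : Spd d F) (v : Vd d F) : (g⁻¹ : Spd d F).1 *ᵥ (g.1 *ᵥ v) = v := by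
  rw [Matrix.mulVec_mulVec, inv_mul_coe, Matrix.one_mulVec]

theorem mulVec_inv (g : Spd d F) (v : Vd d F) : g.1 *ᵥ ((g⁻¹ : Spd d F).1 *ᵥ v) = v := by
  rw [Matrix.mulVec_mulVec, mul_inv_coe, Matrix.one_mulVec]

theorem toLin_injective (g : Spd d F) : Function.Injective (Matrix.toLin' g.1) := by
  intro v w h
  rw [Matrix.toLin'_apply, Matrix.toLin'_apply] at h
  have := congrArg (fun z => (g⁻¹ : Spd d F).1 *ᵥ z) h
  simp only [inv_mulVec] at this
  exact this

theorem preserves (g : Spd d F) (u v : Vd d F) :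
    Cfsg.sympForm d F (g.1 *ᵥ u) (g.1 *ᵥ v) = Cfsg.sympForm d F u v :=
  (mem_symplecticGroup_iff_preserves g.1).mp g.2 u v

theorem finrank_map (g : Spd d F) (U : Submodule F (Vd d F)) :
    finrank F (U.map (Matrix.toLin' g.1)) = finrank F U :=
  (Submodule.equivMapOfInjective _ (toLin_injective g) U).finrank_eq.symm

theorem map_eq_of_le (g : Spd d F) (U U' : Submodule F (Vd d F))
    (h : U.map (Matrix.toLin' g.1) ≤ U') (hfin : finrank F U = finrank F U') :
    U.map (Matrix.toLin' g.1) = U' := by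
  apply Submodule.eq_of_le_of_finrank_eq h
  rw [finrank_map, hfin]

theorem isLP_map (g : Spd d F) {U W : Submodule F (Vd d F)} (h : IsLP U W) :
    IsLP (U.map (Matrix.toLin' g.1)) (W.map (Matrix.toLin' g.1)) := by
  refine ⟨IsCompl.of_eq ?_ ?_, ?_, ?_⟩
  · rw [eq_bot_iff]
    rintro v ⟨⟨u, hu, hu'⟩, ⟨w, hw, hw'⟩⟩
    rw [Submodule.mem_bot]
    have huw : u = w := toLin_injective g (hu'.trans hw'.symm)
    have hu0 : u ∈ U ⊓ W := ⟨hu, huw ▸ hw⟩
    rw [h.1.inf_eq_bot, Submodule.mem_bot] at hu0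
    rw [← hu', hu0, map_zero]
  · rw [eq_top_iff]
    intro v _
    have hv : (g⁻¹ : Spd d F).1 *ᵥ v ∈ U ⊔ W := by rw [h.1.sup_eq_top]; trivial
    obtain ⟨u, hu, w, hw, huw⟩ := Submodule.mem_sup.mp hv
    rw [Submodule.mem_sup]
    refine ⟨g.1 *ᵥ u, ⟨u, hu, Matrix.toLin'_apply _ _⟩, g.1 *ᵥ w, ⟨w, hw, Matrix.toLin'_apply _ _⟩, ?_⟩
    rw [← Matrix.mulVec_add, huw, mulVec_inv]
  · rintro _ ⟨u, hu, rfl⟩ _ ⟨v, hv, rfl⟩
    rw [Matrix.toLin'_apply, Matrix.toLin'_apply, preserves]
    exact h.2.1 u hu v hv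
  · rintro _ ⟨u, hu, rfl⟩ _ ⟨v, hv, rfl⟩
    rw [Matrix.toLin'_apply, Matrix.toLin'_apply, preserves]
    exact h.2.2 u hu v hv

/-! ### transitivity -/

theorem exists_symplectic_map {U W : Submodule F (Vd d F)} (h : IsLP U W) :
    ∃ g : Spd d F, (U0 d F).map (Matrix.toLin' g.1) = U ∧
      (W0 d F).map (Matrix.toLin' g.1) = W := by
  classical
  obtain ⟨hUd, hWd⟩ := h.finrank_eq
  obtain ⟨bx, hbx⟩ : ∃ b : Basis (Fin d) F U, b = Module.finBasisOfFinrankEq F U hUd := ⟨_, rfl⟩
  -- the pairing of `W` with the basis of `U`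
  let φ : W →ₗ[F] (Fin d → F) :=
    LinearMap.pi (fun i => ((SympFrame.sB d F).flip (bx i : Vd d F)).comp W.subtype)
  have hφ : ∀ (w : W) (i : Fin d), φ w i = Cfsg.sympForm d F (w : Vd d F) (bx i : Vd d F) :=
    fun w i => rfl
  have hinj : Function.Injective φ := by
    rw [← LinearMap.ker_eq_bot, eq_bot_iff]
    intro w hw
    rw [LinearMap.mem_ker] at hw
    rw [Submodule.mem_bot]
    -- `w` is orthogonal to `U`
    have h1 : ∀ u ∈ U, Cfsg.sympForm d F (w : Vd d F) u = 0 := by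
      intro u hu
      have hlin : ((SympFrame.sB d F) (w : Vd d F)).comp U.subtype = 0 := by
        apply bx.ext
        intro i
        rw [LinearMap.comp_apply, LinearMap.zero_apply]
        have := congrFun hw i
        rw [hφ] at this
        exact this
      have := LinearMap.congr_fun hlin ⟨u, hu⟩
      exact this
    by_contra hne
    have hne' : (w : Vd d F) ≠ 0 := fun h0 => hne (Subtype.ext h0)
    obtain ⟨z, hz⟩ := sympForm_exists_ne_zero hne'
    apply hz
    have hzmem : z ∈ U ⊔ W := by rw [h.1.sup_eq_top]; trivial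
    obtain ⟨u, hu, w', hw', rfl⟩ := Submodule.mem_sup.mp hzmem
    rw [sympForm_add_right, h1 u hu, h.2.2 _ w.2 _ hw', add_zero]
  have hsurj : Function.Surjective φ := by
    have hfr : finrank F W = finrank F (Fin d → F) := by rw [hWd, Module.finrank_fin_fun]
    exact (LinearMap.injective_iff_surjective_of_finrank_eq_finrank hfr).mp hinj
  choose y hy using fun j : Fin d => hsurj (Pi.single j 1)
  have hyx : ∀ j i, Cfsg.sympForm d F (y j : Vd d F) (bx i : Vd d F) =
      if i = j then 1 else 0 := by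
    intro j i
    rw [← hφ, hy j, Pi.single_apply]
  obtain ⟨c, hcdef⟩ : ∃ c : Fin d ⊕ Fin d → Vd d F,
    c = Sum.elim (fun i => (bx i : Vd d F)) (fun j => (y j : Vd d F)) := ⟨_, rfl⟩
  have hc : ∀ s t, Cfsg.sympForm d F (c s) (c t) = J (Fin d) F s t := by
    intro s t
    rw [hcdef]
    rcases s with i | j <;> rcases t with i' | j'
    · simp only [Sum.elim_inl, Matrix.J, Matrix.fromBlocks_apply₁₁, Matrix.zero_apply]
      exact h.2.1 _ (bx i).2 _ (bx i').2
    · simp only [Sum.elim_inl, Sum.elim_inr, Matrix.J, Matrix.fromBlocks_apply₁₂,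
        Matrix.neg_apply, Matrix.one_apply]
      rw [sympForm_swap, hyx]
    · simp only [Sum.elim_inl, Sum.elim_inr, Matrix.J, Matrix.fromBlocks_apply₂₁,
        Matrix.one_apply]
      rw [hyx]
      simp only [eq_comm]
    · simp only [Sum.elim_inr, Matrix.J, Matrix.fromBlocks_apply₂₂, Matrix.zero_apply]
      exact h.2.2 _ (y j).2 _ (y j').2
  refine ⟨⟨ofCols c, ofCols_mem c hc⟩, ?_, ?_⟩
  · apply map_eq_of_le
    · rintro _ ⟨v, hv, rfl⟩
      rw [Matrix.toLin'_apply, ofCols_mulVec, Fintype.sum_sum_type]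
      have hv' := mem_U0.mp hv
      apply U.add_mem
      · apply U.sum_mem
        intro i _
        rw [hcdef]
        exact U.smul_mem _ (bx i).2
      · have : ∑ j, v (Sum.inr j) • c (Sum.inr j) = 0 := by
          apply Finset.sum_eq_zero
          intro j _
          rw [hv' j, zero_smul]
        rw [this]
        exact U.zero_mem
    · rw [isLP_std.finrank_eq.1, hUd]
  · apply map_eq_of_le
    · rintro _ ⟨v, hv, rfl⟩
      rw [Matrix.toLin'_apply, ofCols_mulVec, Fintype.sum_sum_type]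
      have hv' := mem_W0.mp hv
      apply W.add_mem
      · have : ∑ i, v (Sum.inl i) • c (Sum.inl i) = 0 := by
          apply Finset.sum_eq_zero
          intro i _
          rw [hv' i, zero_smul]
        rw [this]
        exact W.zero_mem
      · apply W.sum_mem
        intro j _
        rw [hcdef]
        exact W.smul_mem _ (y j).2
    · rw [isLP_std.finrank_eq.2, hWd]

/-! ### the action on pairs -/

/-- the set of pairs, exactly as in S5963 -/
abbrev LP (d : ℕ) (F : Type*) [Field F] :=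
  {P : Submodule F (Fin d ⊕ Fin d → F) × Submodule F (Fin d ⊕ Fin d → F) //
    IsCompl P.1 P.2 ∧ (∀ u ∈ P.1, ∀ v ∈ P.1, Cfsg.sympForm d F u v = 0) ∧
      (∀ u ∈ P.2, ∀ v ∈ P.2, Cfsg.sympForm d F u v = 0)}

instance : MulAction (Spd d F) (LP d F) where
  smul g P := ⟨(P.1.1.map (Matrix.toLin' g.1), P.1.2.map (Matrix.toLin' g.1)), isLP_map g P.2⟩
  one_smul P := by
    apply Subtype.ext
    show ((P.1.1.map (Matrix.toLin' (1 : Spd d F).1), P.1.2.map (Matrix.toLin' (1 : Spd d F).1)) :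
      Submodule F (Vd d F) × Submodule F (Vd d F)) = P.1
    have h1 : Matrix.toLin' ((1 : Spd d F).1) = LinearMap.id := by
      rw [show ((1 : Spd d F).1 : Md d F) = 1 from rfl, Matrix.toLin'_one]
    rw [h1, Submodule.map_id, Submodule.map_id]
  mul_smul g h P := by
    apply Subtype.ext
    show ((P.1.1.map (Matrix.toLin' (g * h : Spd d F).1),
      P.1.2.map (Matrix.toLin' (g * h : Spd d F).1)) :
        Submodule F (Vd d F) × Submodule F (Vd d F)) =
      ((P.1.1.map (Matrix.toLin' h.1)).map (Matrix.toLin' g.1),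
        (P.1.2.map (Matrix.toLin' h.1)).map (Matrix.toLin' g.1))
    have h1 : Matrix.toLin' ((g * h : Spd d F).1) =
        (Matrix.toLin' g.1).comp (Matrix.toLin' h.1) := by
      rw [show ((g * h : Spd d F).1 : Md d F) = g.1 * h.1 from rfl, Matrix.toLin'_mul]
    rw [h1, Submodule.map_comp, Submodule.map_comp]

theorem smul_fst (g : Spd d F) (P : LP d F) :
    (g • P).1.1 = P.1.1.map (Matrix.toLin' g.1) := rfl

theorem smul_snd (g : Spd d F) (P : LP d F) :
    (g • P).1.2 = P.1.2.map (Matrix.toLin' g.1) := rfl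

/-- the standard pair -/
def P0 (d : ℕ) (F : Type*) [Field F] : LP d F := ⟨(U0 d F, W0 d F), isLP_std⟩

theorem exists_smul_eq (P : LP d F) : ∃ g : Spd d F, g • P0 d F = P := by
  obtain ⟨g, hg1, hg2⟩ := exists_symplectic_map (U := P.1.1) (W := P.1.2) P.2
  refine ⟨g, ?_⟩
  apply Subtype.ext
  exact Prod.ext hg1 hg2

theorem card_Sp_eq : Nat.card (Spd d F) =
    Nat.card (LP d F) * Nat.card (MulAction.stabilizer (Spd d F) (P0 d F)) := by
  rw [← Nat.card_congr (MulAction.orbitProdStabilizerEquivGroup (Spd d F) (P0 d F)), Nat.card_prod]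
  congr 1
  have : MulAction.orbit (Spd d F) (P0 d F) = Set.univ := by
    ext P
    simp only [Set.mem_univ, iff_true]
    obtain ⟨g, hg⟩ := exists_smul_eq P
    exact ⟨g, hg⟩
  rw [this]
  exact Nat.card_congr (Equiv.Set.univ _)

/-! ### the Levi subgroup `GL_d` -/

theorem levi_mem (a b : Matrix (Fin d) (Fin d) F) (hab : a * b = 1) :
    Matrix.fromBlocks a 0 0 bᵀ ∈ Matrix.symplecticGroup (Fin d) F := by
  have h2 : bᵀ * aᵀ = 1 := by rw [← Matrix.transpose_mul, hab, Matrix.transpose_one]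
  rw [SymplecticGroup.mem_iff, Matrix.J, Matrix.fromBlocks_transpose, Matrix.fromBlocks_multiply,
    Matrix.fromBlocks_multiply]
  simp only [Matrix.transpose_transpose, Matrix.transpose_zero, mul_zero, zero_mul, add_zero,
    zero_add, mul_one, mul_neg, neg_mul, hab, h2, neg_zero]

/-- the embedding of `GL_d` as the Levi subgroup -/
def leviHom : GL (Fin d) F →* Spd d F where
  toFun A := ⟨Matrix.fromBlocks (A : Matrix (Fin d) (Fin d) F) 0 0
    ((A⁻¹ : GL (Fin d) F) : Matrix (Fin d) (Fin d) F)ᵀ, levi_mem _ _ (by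
      rw [← Units.val_mul, mul_inv_cancel, Units.val_one])⟩
  map_one' := by
    apply Subtype.ext
    show Matrix.fromBlocks ((1 : GL (Fin d) F) : Matrix (Fin d) (Fin d) F) 0 0
      (((1 : GL (Fin d) F)⁻¹ : GL (Fin d) F) : Matrix (Fin d) (Fin d) F)ᵀ = 1
    rw [inv_one, Units.val_one, Matrix.transpose_one, Matrix.fromBlocks_one]
  map_mul' A B := by
    apply Subtype.ext
    show Matrix.fromBlocks ((A * B : GL (Fin d) F) : Matrix (Fin d) (Fin d) F) 0 0
      (((A * B)⁻¹ : GL (Fin d) F) : Matrix (Fin d) (Fin d) F)ᵀ =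
      Matrix.fromBlocks (A : Matrix (Fin d) (Fin d) F) 0 0
        ((A⁻¹ : GL (Fin d) F) : Matrix (Fin d) (Fin d) F)ᵀ *
      Matrix.fromBlocks (B : Matrix (Fin d) (Fin d) F) 0 0
        ((B⁻¹ : GL (Fin d) F) : Matrix (Fin d) (Fin d) F)ᵀ
    rw [Matrix.fromBlocks_multiply, _root_.mul_inv_rev, Units.val_mul, Units.val_mul,
      Matrix.transpose_mul]
    simp only [mul_zero, zero_mul, add_zero, zero_add]

theorem leviHom_injective : Function.Injective (leviHom (d := d) (F := F)) := by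
  intro A B h
  have h1 := congrArg (fun g : Spd d F => (g.1 : Md d F).toBlocks₁₁) h
  apply Units.ext
  simpa [leviHom] using h1

theorem leviHom_range_le :
    (leviHom (d := d) (F := F)).range ≤ MulAction.stabilizer (Spd d F) (P0 d F) := by
  rintro _ ⟨A, rfl⟩
  rw [MulAction.mem_stabilizer_iff]
  apply Subtype.ext
  apply Prod.ext
  · show (U0 d F).map (Matrix.toLin' (leviHom A).1) = U0 d F
    apply map_eq_of_le _ _ _ _ rfl
    rintro _ ⟨v, hv, rfl⟩
    rw [Matrix.toLin'_apply, mem_U0]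
    intro i
    show (Matrix.fromBlocks (A : Matrix (Fin d) (Fin d) F) 0 0
      ((A⁻¹ : GL (Fin d) F) : Matrix (Fin d) (Fin d) F)ᵀ *ᵥ v) (Sum.inr i) = 0
    rw [Matrix.fromBlocks_mulVec, Sum.elim_inr]
    have hv0 : v ∘ Sum.inr = 0 := funext (mem_U0.mp hv)
    rw [hv0, Matrix.mulVec_zero, Matrix.zero_mulVec, add_zero]
    rfl
  · show (W0 d F).map (Matrix.toLin' (leviHom A).1) = W0 d F
    apply map_eq_of_le _ _ _ _ rfl
    rintro _ ⟨v, hv, rfl⟩
    rw [Matrix.toLin'_apply, mem_W0]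
    intro i
    show (Matrix.fromBlocks (A : Matrix (Fin d) (Fin d) F) 0 0
      ((A⁻¹ : GL (Fin d) F) : Matrix (Fin d) (Fin d) F)ᵀ *ᵥ v) (Sum.inl i) = 0
    rw [Matrix.fromBlocks_mulVec, Sum.elim_inl]
    have hv0 : v ∘ Sum.inl = 0 := funext (mem_W0.mp hv)
    rw [hv0, Matrix.mulVec_zero, Matrix.zero_mulVec, add_zero]
    rfl

/-! ### arithmetic -/

theorem card_arith (q : ℕ) (hq : 1 ≤ q) : ∀ d : ℕ,
    (∏ i ∈ Finset.range d, (q ^ d - q ^ i)) *
      (q ^ (d * (d + 1) / 2) * ∏ i ∈ Finset.range d, (q ^ (i + 1) + 1)) =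
    q ^ (d ^ 2) * ∏ i ∈ Finset.range d, (q ^ (2 * (i + 1)) - 1) := by
  intro d
  induction d with
  | zero => simp
  | succ d ih =>
    have hG : ∏ i ∈ Finset.range (d + 1), (q ^ (d + 1) - q ^ i) =
        (q ^ (d + 1) - 1) * (q ^ d * ∏ i ∈ Finset.range d, (q ^ d - q ^ i)) := by
      rw [Finset.prod_range_succ', pow_zero, mul_comm]
      congr 1
      have e : ∀ i, q ^ (d + 1) - q ^ (i + 1) = q * (q ^ d - q ^ i) := by
        intro i
        rw [Nat.mul_sub, ← pow_succ', ← pow_succ']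
      simp only [e]
      rw [Finset.prod_mul_distrib, Finset.prod_const, Finset.card_range]
    have htri : (d + 1) * (d + 1 + 1) / 2 = d * (d + 1) / 2 + (d + 1) := by
      have := Nat.triangle_succ (d + 1)
      simp only [Nat.add_sub_cancel] at this
      rw [mul_comm (d + 1) (d + 1 + 1), this, mul_comm (d + 1) d]
    obtain ⟨k, hk⟩ : ∃ k, q ^ (d + 1) = k + 1 :=
      ⟨q ^ (d + 1) - 1, by have := Nat.one_le_pow (d + 1) q hq; omega⟩
    have hsq : (q ^ (d + 1) - 1) * (q ^ (d + 1) + 1) = q ^ (2 * (d + 1)) - 1 := by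
      rw [pow_mul', hk, Nat.add_sub_cancel]
      have : (k + 1) ^ 2 = k * (k + 1 + 1) + 1 := by ring
      omega
    rw [hG, htri, Finset.prod_range_succ (fun i => q ^ (i + 1) + 1),
      Finset.prod_range_succ (fun i => q ^ (2 * (i + 1)) - 1), ← hsq]
    calc _ = ((∏ i ∈ Finset.range d, (q ^ d - q ^ i)) *
          (q ^ (d * (d + 1) / 2) * ∏ i ∈ Finset.range d, (q ^ (i + 1) + 1))) *
          (q ^ (2 * d + 1) * ((q ^ (d + 1) - 1) * (q ^ (d + 1) + 1))) := by ring
      _ = _ := by rw [ih]; ring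

variable [Fintype F]

theorem card_LP_dvd {q : ℕ} (hq : Fintype.card F = q) :
    Nat.card (LP d F) ∣ q ^ (d * (d + 1) / 2) * ∏ i ∈ Finset.range d, (q ^ (i + 1) + 1) := by
  have hq1 : 1 ≤ q := by rw [← hq]; exact Fintype.card_pos
  have h1 := card_Sp_eq (d := d) (F := F)
  have h2 : Nat.card (GL (Fin d) F) ∣
      Nat.card (MulAction.stabilizer (Spd d F) (P0 d F)) := by
    rw [Nat.card_congr (MonoidHom.ofInjective (leviHom_injective (d := d) (F := F))).toEquiv]
    exact Subgroup.card_dvd_of_le leviHom_range_le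
  obtain ⟨c, hc⟩ := h2
  have h3 : Nat.card (GL (Fin d) F) = ∏ i ∈ Finset.range d, (q ^ d - q ^ i) := by
    rw [Matrix.card_GL_field, hq]
    exact Fin.prod_univ_eq_prod_range (fun i => q ^ d - q ^ i) d
  have h4 := Cfsg.Agent.Helper2.Sp.card_symplectic_fin (F := F) d
  rw [hq] at h4
  have h5 := card_arith q hq1 d
  have hpos : 0 < Nat.card (GL (Fin d) F) := Nat.card_pos
  refine ⟨c, ?_⟩
  apply Nat.eq_of_mul_eq_mul_left hpos
  rw [h3, h5, ← h4, h1, hc, h3]
  ring

theorem two_dvd_card_LP (hd : 1 ≤ d) : 2 ∣ Nat.card (LP d F) := by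
  classical
  haveI : Fintype (LP d F) := Fintype.ofFinite _
  haveI : Nonempty (Fin d ⊕ Fin d) := ⟨Sum.inl ⟨0, hd⟩⟩
  let f : Function.End (LP d F) := fun P => ⟨(P.1.2, P.1.1), P.2.1.symm, P.2.2.2, P.2.2.1⟩
  have hf : f ^ 2 ^ 1 = 1 := by
    rw [pow_one, sq]
    rfl
  have h := Equiv.Perm.card_fixedPoints_modEq (p := 2) (n := 1) hf
  have hempty : Fintype.card (Function.fixedPoints f) = 0 := by
    rw [Fintype.card_eq_zero_iff]
    constructor
    rintro ⟨P, hP⟩
    have hP' : f P = P := hP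
    have h1 : P.1.2 = P.1.1 := congrArg (fun Q : LP d F => Q.1.1) hP'
    have hc := P.2.1
    rw [h1] at hc
    have hb : P.1.1 = ⊥ := by
      have := hc.inf_eq_bot
      rwa [inf_idem] at this
    have ht : P.1.1 = ⊤ := by
      have := hc.sup_eq_top
      rwa [sup_idem] at this
    exact bot_ne_top (hb.symm.trans ht)
  rw [hempty, Nat.card_eq_fintype_card.symm] at h
  exact (Nat.modEq_zero_iff_dvd.mp h)

end Cfsg.Agent.Helper2.SpPairs
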