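import Cfsg.Agent.Helper2.Invol

set_option autoImplicit false

namespace Cfsg.Agent.Helper2

section
variable {G : Type*} [Group G]

/-- if `x = u v` with `u, v` involutions then `u` inverts `x`. -/
theorem invol_pair_inverts {u v x : G} (hu : orderOf u = 2) (hv : orderOf v = 2)
    (h : u * v = x) : u * x * u⁻¹ = x⁻¹ := by
  subst h
  exact invol_conj_mul (mul_self_of_orderOf_two hu) (mul_self_of_orderOf_two hv)

/-- if `t` is an involution inverting `x` then `(t x)^2 = 1`. -/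
theorem invol_inverts_mul_self {t x : G} (ht : orderOf t = 2) (h : t * x * t⁻¹ = x⁻¹) :
    (t * x) * (t * x) = 1 := by
  have htinv := inv_eq_self_of_orderOf_two ht
  rw [htinv] at h
  calc t * x * (t * x) = (t * x * t) * x := by simp only [mul_assoc]
    _ = 1 := by rw [h, inv_mul_cancel]

theorem invol_pair_fst_ne {u v x : G} (hv : orderOf v = 2) (h : u * v = x) : u ≠ x := by
  intro hux
  rw [← hux] at h
  have : v = 1 := by simpa using h
  rw [this] at hv
  simp at hv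

theorem invol_inverts_snd {t x : G} (ht : orderOf t = 2) (h : t * x * t⁻¹ = x⁻¹) (hne : t ≠ x) :
    orderOf (t * x) = 2 := by
  refine orderOf_two_iff.mpr ⟨invol_inverts_mul_self ht h, ?_⟩
  intro h1
  apply hne
  have h2 := inv_eq_self_of_orderOf_two ht
  rw [← h2]
  exact inv_eq_of_mul_eq_one_right h1

/-- pairs of involutions with product `x` versus involutions inverting `x` (with `t ≠ x`) -/
def involPairEquiv (x : G) :
    {p : G × G // orderOf p.1 = 2 ∧ orderOf p.2 = 2 ∧ p.1 * p.2 = x} ≃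
      {t : G // orderOf t = 2 ∧ t * x * t⁻¹ = x⁻¹ ∧ t ≠ x} where
  toFun := fun ⟨⟨u, v⟩, hu, hv, h⟩ => ⟨u, hu, invol_pair_inverts hu hv h, invol_pair_fst_ne hv h⟩
  invFun := fun ⟨t, ht, h, hne⟩ => ⟨(t, t * x), ht, invol_inverts_snd ht h hne, by
    show t * (t * x) = x
    rw [← mul_assoc, mul_self_of_orderOf_two ht, one_mul]⟩
  left_inv := by
    rintro ⟨⟨u, v⟩, hu, hv, h⟩
    apply Subtype.ext
    apply Prod.ext
    · rfl
    · show u * x = v
      have h' : u * v = x := h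
      rw [← h', ← mul_assoc, mul_self_of_orderOf_two hu, one_mul]
  right_inv := by
    rintro ⟨t, ht, h, hne⟩
    rfl

theorem card_invol_pairs (x : G) :
    Nat.card {p : G × G // orderOf p.1 = 2 ∧ orderOf p.2 = 2 ∧ p.1 * p.2 = x} =
      Nat.card {t : G // orderOf t = 2 ∧ t * x * t⁻¹ = x⁻¹ ∧ t ≠ x} :=
  Nat.card_congr (involPairEquiv x)

/-- S0235 -/
theorem card_invol_pairs_of_sq_ne_one (x : G) (hx : x ^ 2 ≠ 1) :
    Nat.card {p : G × G // orderOf p.1 = 2 ∧ orderOf p.2 = 2 ∧ p.1 * p.2 = x} =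
      Nat.card {t : G // orderOf t = 2 ∧ t * x * t⁻¹ = x⁻¹} := by
  rw [card_invol_pairs]
  apply Nat.card_congr
  apply Equiv.subtypeEquivRight
  intro t
  constructor
  · rintro ⟨h1, h2, _⟩; exact ⟨h1, h2⟩
  · rintro ⟨h1, h2⟩
    refine ⟨h1, h2, ?_⟩
    rintro rfl
    apply hx
    rw [pow_two]; exact mul_self_of_orderOf_two h1

theorem invol_inverts_iff_commute {t x : G} (hx : orderOf x = 2) :
    t * x * t⁻¹ = x⁻¹ ↔ Commute t x := by
  rw [inv_eq_self_of_orderOf_two hx, mul_inv_eq_iff_eq_mul]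
  rfl

/-- S0236 -/
theorem card_invol_pairs_of_invol [Finite G] (x : G) (hx : orderOf x = 2) :
    Nat.card {p : G × G // orderOf p.1 = 2 ∧ orderOf p.2 = 2 ∧ p.1 * p.2 = x} + 1 =
      Nat.card {t : G // orderOf t = 2 ∧ Commute t x} := by
  classical
  rw [card_invol_pairs]
  let x' : {t : G // orderOf t = 2 ∧ Commute t x} := ⟨x, hx, Commute.refl x⟩
  rw [← Nat.card_congr (Equiv.optionSubtypeNe x'), Finite.card_option]
  congr 1
  apply Nat.card_congr
  refine ⟨fun t => ⟨⟨t.1, t.2.1, (invol_inverts_iff_commute hx).mp t.2.2.1⟩, ?_⟩,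
    fun t => ⟨t.1.1, t.1.2.1, (invol_inverts_iff_commute hx).mpr t.1.2.2, ?_⟩, ?_, ?_⟩
  · intro h
    apply t.2.2.2
    exact congrArg Subtype.val h
  · intro h
    apply t.2
    apply Subtype.ext
    exact h
  · intro t; rfl
  · intro t; rfl

/-- S0237 -/
theorem card_inverting (x : G) (hreal : IsConj x x⁻¹) :
    Nat.card {g : G // g * x * g⁻¹ = x⁻¹} = Nat.card (Subgroup.centralizer ({x} : Set G)) := by
  obtain ⟨g0, hg0⟩ := isConj_iff.mp hreal
  apply Nat.card_congr
  refine ⟨fun g => ⟨g0⁻¹ * g.1, ?_⟩, fun c => ⟨g0 * c.1, ?_⟩, ?_, ?_⟩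
  · rw [Subgroup.mem_centralizer_singleton_iff]
    have h1 : g0⁻¹ * x⁻¹ * g0 = x := by rw [← hg0]; group
    have h2 := g.2
    calc g0⁻¹ * g.1 * x = g0⁻¹ * (g.1 * x * g.1⁻¹) * g.1 := by group
      _ = g0⁻¹ * x⁻¹ * g0 * (g0⁻¹ * g.1) := by rw [h2]; group
      _ = x * (g0⁻¹ * g.1) := by rw [h1]
  · have hc := Subgroup.mem_centralizer_singleton_iff.mp c.2
    calc g0 * c.1 * x * (g0 * c.1)⁻¹ = g0 * (c.1 * x) * c.1⁻¹ * g0⁻¹ := by group
      _ = g0 * (x * c.1) * c.1⁻¹ * g0⁻¹ := by rw [hc]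
      _ = g0 * x * g0⁻¹ := by group
      _ = x⁻¹ := hg0
  · intro g; apply Subtype.ext; simp
  · intro c; apply Subtype.ext; simp


theorem card_invol_pairs_eq_zero (x : G) (hnr : ¬ IsConj x x⁻¹) :
    Nat.card {p : G × G // orderOf p.1 = 2 ∧ orderOf p.2 = 2 ∧ p.1 * p.2 = x} = 0 := by
  have : IsEmpty {p : G × G // orderOf p.1 = 2 ∧ orderOf p.2 = 2 ∧ p.1 * p.2 = x} := by
    constructor
    rintro ⟨⟨u, v⟩, hu, hv, h⟩
    exact hnr (isConj_iff.mpr ⟨u, invol_pair_inverts hu hv h⟩)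
  exact Nat.card_of_isEmpty

theorem card_invol_pairs_le [Finite G] (x : G) :
    Nat.card {p : G × G // orderOf p.1 = 2 ∧ orderOf p.2 = 2 ∧ p.1 * p.2 = x} ≤
      Nat.card (Subgroup.centralizer ({x} : Set G)) := by
  by_cases hreal : IsConj x x⁻¹
  · rw [card_invol_pairs, ← card_inverting x hreal]
    apply Nat.card_le_card_of_injective
      (fun t : {t : G // orderOf t = 2 ∧ t * x * t⁻¹ = x⁻¹ ∧ t ≠ x} =>
        (⟨t.1, t.2.2.1⟩ : {g : G // g * x * g⁻¹ = x⁻¹}))
    intro a b h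
    apply Subtype.ext
    exact congrArg (fun c : {g : G // g * x * g⁻¹ = x⁻¹} => c.1) h
  · rw [card_invol_pairs_eq_zero x hreal]
    exact Nat.zero_le _

theorem card_invol_pairs_add_two_le [Finite G] (x : G) (hx : orderOf x = 2) :
    Nat.card {p : G × G // orderOf p.1 = 2 ∧ orderOf p.2 = 2 ∧ p.1 * p.2 = x} + 2 ≤
      Nat.card (Subgroup.centralizer ({x} : Set G)) := by
  have h1 := card_invol_pairs_of_invol x hx
  have h2 : Nat.card {t : G // orderOf t = 2 ∧ Commute t x} ≤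
      Nat.card {c : Subgroup.centralizer ({x} : Set G) // orderOf c.1 = 2} := by
    apply Nat.card_le_card_of_injective
      (fun t : {t : G // orderOf t = 2 ∧ Commute t x} =>
        (⟨⟨t.1, Subgroup.mem_centralizer_singleton_iff.mpr t.2.2.eq⟩, t.2.1⟩ :
          {c : Subgroup.centralizer ({x} : Set G) // orderOf c.1 = 2}))
    intro a b h
    apply Subtype.ext
    exact congrArg
      (fun c : {c : Subgroup.centralizer ({x} : Set G) // orderOf c.1 = 2} => c.1.1) h
  have h3 : Nat.card {c : Subgroup.centralizer ({x} : Set G) // orderOf c.1 = 2} <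
      Nat.card (Subgroup.centralizer ({x} : Set G)) := by
    apply Finite.card_subtype_lt (x := (1 : Subgroup.centralizer ({x} : Set G)))
    simp
  omega

end

end Cfsg.Agent.Helper2
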