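import Cfsg.Agent.Helper16.FHBNDefs

set_option autoImplicit false
set_option linter.unusedSectionVars false
set_option linter.unusedVariables false

/-!
# Feit–Higman (S1142), piece E1: the quadratic relation of the chamber adjacency matrices
-/

namespace Cfsg.Agent.Helper16.FH

open Cfsg Cfsg.Agent.Helper12.BNSt Cfsg.Agent.Helper14.ExchCox Matrix
open Cfsg.Agent.Helper2

/-- a `0/1` matrix which is "same fibre of `f`, but different" with all fibres of size `q + 1` -/
theorem quad_of_fibers {X C : Type*} [Fintype X] [DecidableEq X] [DecidableEq C] (f : X → C)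
    (q : ℕ) (hf : ∀ x, (Finset.univ.filter (fun y => f y = f x)).card = q + 1)
    (A : Matrix X X ℝ) (hA : ∀ x y, A x y = if f x = f y ∧ x ≠ y then 1 else 0) :
    A * A = (q : ℝ) • (1 : Matrix X X ℝ) + ((q : ℝ) - 1) • A ∧ ∀ x, ∑ y, A x y = q := by
  obtain ⟨J, hJ⟩ : ∃ J : Matrix X X ℝ, ∀ x y, J x y = if f x = f y then 1 else 0 :=
    ⟨fun x y => if f x = f y then 1 else 0, fun _ _ => rfl⟩
  have hAJ : A = J - 1 := by
    ext x y
    rw [hA, Matrix.sub_apply, hJ, Matrix.one_apply]
    by_cases hxy : x = y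
    · subst hxy; simp
    · by_cases hf' : f x = f y <;> simp [hxy, hf']
  have hsum : ∀ x, ∑ y, J x y = (q : ℝ) + 1 := by
    intro x
    have : ∑ y, J x y = ∑ y, if f y = f x then (1 : ℝ) else 0 := by
      apply Finset.sum_congr rfl
      intro y _
      rw [hJ]
      by_cases h : f x = f y
      · rw [if_pos h, if_pos h.symm]
      · rw [if_neg h, if_neg (fun h' => h h'.symm)]
    rw [this, Finset.sum_ite, Finset.sum_const_zero, add_zero, Finset.sum_const, hf]
    simp
  have hJJ : J * J = ((q : ℝ) + 1) • J := by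
    ext x z
    rw [Matrix.mul_apply, Matrix.smul_apply, smul_eq_mul]
    by_cases hxz : f x = f z
    · have : ∑ y, J x y * J y z = ∑ y, J x y := by
        apply Finset.sum_congr rfl
        intro y _
        rw [hJ x y, hJ y z]
        by_cases h : f x = f y
        · rw [if_pos h, if_pos (h.symm.trans hxz)]; ring
        · rw [if_neg h]; ring
      rw [this, hsum, hJ, if_pos hxz, mul_one]
    · have : ∑ y, J x y * J y z = 0 := by
        apply Finset.sum_eq_zero
        intro y _
        rw [hJ x y, hJ y z]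
        by_cases h : f x = f y
        · rw [if_pos h, if_neg (fun h' => hxz (h.trans h'))]; ring
        · rw [if_neg h]; ring
      rw [this, hJ, if_neg hxz, mul_zero]
  constructor
  · rw [hAJ]
    have e : (J - 1) * (J - 1) = J * J - J - J + 1 := by noncomm_ring
    rw [e, hJJ]
    ext x z
    simp only [Matrix.add_apply, Matrix.sub_apply, Matrix.smul_apply, smul_eq_mul]
    ring
  · intro x
    rw [hAJ]
    simp only [Matrix.sub_apply, Finset.sum_sub_distrib, hsum, Matrix.one_apply]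
    simp

variable {G : Type*} [Group G] (P : Cfsg.BNPair G) [hN : ((P.B ⊓ P.N).subgroupOf P.N).Normal]

omit hN in
theorem C_simple_disjoint_B {s : G} (hs : s ∈ P.S) {g : G} (hg : g ∈ BN.C P s) : g ∉ P.B := by
  intro hb
  have h1 : BN.C P g = BN.C P s := BN.C_eq_of_mem P hg
  rw [BN.C_of_mem_B P hb] at h1
  have : s ∈ (P.B : Set G) := by rw [h1]; exact BN.mem_C_self P s
  exact BN.not_mem_B_of_mem_S hs this

omit hN in
/-- some `b ∈ B` has `s⁻¹ b s ∉ B` -/
theorem exists_conj_not_mem [Finite G] {s : G} (hs : s ∈ P.S) : ∃ b ∈ P.B, s⁻¹ * b * s ∉ P.B := by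
  by_contra hcon
  simp only [not_exists, not_and, not_not] at hcon
  have hss : s * s ∈ P.B := P.sq_mem s hs
  -- `s⁻¹ B s = B` by finiteness
  have hinj : Function.Injective (fun b : P.B => (⟨s⁻¹ * b * s, hcon b b.2⟩ : P.B)) := by
    intro b b' h
    have h' : s⁻¹ * (b : G) * s = s⁻¹ * (b' : G) * s := congrArg Subtype.val h
    apply Subtype.ext
    exact mul_left_cancel (mul_right_cancel h')
  have hsurj := Finite.surjective_of_injective hinj
  apply P.conj_ne s hs
  ext x
  constructor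
  · rintro ⟨b, hb, rfl⟩
    obtain ⟨⟨c, hc⟩, hc'⟩ := hsurj ⟨b, hb⟩
    have e : s⁻¹ * c * s = b := congrArg Subtype.val hc'
    have e2 : s * b * s = c * (s * s) := by rw [← e]; group
    show s * b * s ∈ P.B
    rw [e2]
    exact P.B.mul_mem hc hss
  · intro hx
    have hx' : x ∈ P.B := hx
    refine ⟨s⁻¹ * (x * (s * s)⁻¹) * s, hcon _ (P.B.mul_mem hx' (P.B.inv_mem hss)), ?_⟩
    show s * (s⁻¹ * (x * (s * s)⁻¹) * s) * s = x
    group

theorem adj_quad [Finite G] [Fintype (G ⧸ P.B)] [DecidableEq (G ⧸ P.B)] (σ : Fin 2 → P.S)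
    (i : Fin 2) :
    ∃ q : ℕ, 2 ≤ q ∧
      adj P σ i * adj P σ i =
        (q : ℝ) • (1 : Matrix (G ⧸ P.B) (G ⧸ P.B) ℝ) + ((q : ℝ) - 1) • adj P σ i ∧
      ∀ x, ∑ y, adj P σ i x y = q := by
  classical
  obtain ⟨s, hs⟩ : ∃ s : G, s = (σ i : G) := ⟨_, rfl⟩
  have hsS : s ∈ P.S := by rw [hs]; exact (σ i).2
  obtain ⟨M, hM⟩ : ∃ M : Subgroup G, M = P.parabolic {s} := ⟨_, rfl⟩
  have hMc : (M : Set G) = (P.B : Set G) ∪ BN.C P s := by
    rw [hM]; exact BN.parabolic_singleton_coe hsS
  have hBM : P.B ≤ M := by rw [hM]; exact BN.B_le_parabolic _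
  have memM : ∀ g : G, g ∈ M ↔ g ∈ P.B ∨ g ∈ BN.C P s := by
    intro g
    rw [← SetLike.mem_coe, hMc]
    rfl
  haveI : Fintype (G ⧸ M) := Fintype.ofFinite _
  haveI : Fintype (M ⧸ P.B.subgroupOf M) := Fintype.ofFinite _
  obtain ⟨e, he⟩ : ∃ e : G ⧸ P.B ≃ (G ⧸ M) × M ⧸ P.B.subgroupOf M,
      e = Subgroup.quotientEquivProdOfLE hBM := ⟨_, rfl⟩
  have he1 : ∀ x : G ⧸ P.B, (e x).1 = QuotientGroup.mk x.out := by
    intro x
    rw [he]
    conv_lhs => rw [← QuotientGroup.out_eq' x]
    rfl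
  -- characterisation of the entries
  have hentry : ∀ x y : G ⧸ P.B,
      typ P (x.out⁻¹ * y.out) = sgen P (σ i) ↔ ((e x).1 = (e y).1 ∧ x ≠ y) := by
    intro x y
    have h1 : sgen P (σ i) = QuotientGroup.mk ⟨s, P.subset hsS⟩ := by
      rw [sgen_eq]; congr 1; exact Subtype.ext hs.symm
    rw [h1, typ_eq_iff, he1, he1, QuotientGroup.eq, memM]
    have hxy : x = y ↔ x.out⁻¹ * y.out ∈ P.B := by
      rw [← QuotientGroup.eq, QuotientGroup.out_eq', QuotientGroup.out_eq']
    constructor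
    · intro h
      refine ⟨Or.inr h, fun hne => ?_⟩
      exact C_simple_disjoint_B P hsS h (hxy.1 hne)
    · rintro ⟨h | h, hne⟩
      · exact absurd (hxy.2 h) hne
      · exact h
  -- the size of the fibres
  have hQ3 : 3 ≤ Fintype.card (M ⧸ P.B.subgroupOf M) := by
    obtain ⟨b, hb, hbs⟩ := exists_conj_not_mem P hsS
    have hsM : s ∈ M := (memM s).2 (Or.inr (BN.mem_C_self P s))
    have hbsM : b * s ∈ M := M.mul_mem (hBM hb) hsM
    let c0 : M ⧸ P.B.subgroupOf M := QuotientGroup.mk (1 : M)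
    let c1 : M ⧸ P.B.subgroupOf M := QuotientGroup.mk (⟨s, hsM⟩ : M)
    let c2 : M ⧸ P.B.subgroupOf M := QuotientGroup.mk (⟨b * s, hbsM⟩ : M)
    have h01 : c0 ≠ c1 := by
      intro h
      rw [QuotientGroup.eq, Subgroup.mem_subgroupOf] at h
      have h' : (1 : G)⁻¹ * s ∈ P.B := h
      rw [inv_one, one_mul] at h'
      exact BN.not_mem_B_of_mem_S hsS h'
    have h02 : c0 ≠ c2 := by
      intro h
      rw [QuotientGroup.eq, Subgroup.mem_subgroupOf] at h
      have h' : (1 : G)⁻¹ * (b * s) ∈ P.B := h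
      rw [inv_one, one_mul] at h'
      have : s ∈ P.B := by
        have := P.B.mul_mem (P.B.inv_mem hb) h'
        rwa [inv_mul_cancel_left] at this
      exact BN.not_mem_B_of_mem_S hsS this
    have h12 : c1 ≠ c2 := by
      intro h
      rw [QuotientGroup.eq, Subgroup.mem_subgroupOf] at h
      have h' : s⁻¹ * (b * s) ∈ P.B := h
      rw [← mul_assoc] at h'
      exact hbs h'
    have hcard : ({c0, c1, c2} : Finset (M ⧸ P.B.subgroupOf M)).card = 3 := by
      rw [Finset.card_insert_of_notMem, Finset.card_insert_of_notMem, Finset.card_singleton]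
      · simpa using h12
      · simp only [Finset.mem_insert, Finset.mem_singleton, not_or]
        exact ⟨h01, h02⟩
    calc 3 = ({c0, c1, c2} : Finset (M ⧸ P.B.subgroupOf M)).card := hcard.symm
      _ ≤ Fintype.card _ := Finset.card_le_univ _
  obtain ⟨q, hq⟩ : ∃ q : ℕ, Fintype.card (M ⧸ P.B.subgroupOf M) = q + 1 :=
    ⟨Fintype.card (M ⧸ P.B.subgroupOf M) - 1, by omega⟩
  have hfib : ∀ x : G ⧸ P.B,
      (Finset.univ.filter (fun y => (e y).1 = (e x).1)).card = q + 1 := by
    intro x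
    rw [← hq, ← Finset.card_univ]
    apply Finset.card_bij (fun y _ => (e y).2)
    · intro y _; exact Finset.mem_univ _
    · intro y hy y' hy' h
      rw [Finset.mem_filter] at hy hy'
      apply e.injective
      exact Prod.ext (hy.2.trans hy'.2.symm) h
    · intro u _
      refine ⟨e.symm ((e x).1, u), ?_, ?_⟩
      · rw [Finset.mem_filter]
        refine ⟨Finset.mem_univ _, ?_⟩
        rw [Equiv.apply_symm_apply]
      · rw [Equiv.apply_symm_apply]
  have hA : ∀ x y, adj P σ i x y = if (e x).1 = (e y).1 ∧ x ≠ y then 1 else 0 := by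
    intro x y
    rw [adj_apply]
    by_cases h : typ P (x.out⁻¹ * y.out) = sgen P (σ i)
    · rw [if_pos h, if_pos ((hentry x y).1 h)]
    · rw [if_neg h, if_neg (fun h' => h ((hentry x y).2 h'))]
  obtain ⟨h1, h2⟩ := quad_of_fibers (fun x => (e x).1) q hfib (adj P σ i) hA
  exact ⟨q, by omega, h1, h2⟩

end Cfsg.Agent.Helper16.FH
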