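import Mathlib
import Cfsg.Prelude.Def_Transfer
import Cfsg.Agent.Helper8.S1904Defs
import Cfsg.Agent.Helper3.ES2Iso
import Cfsg.Agent.Helper12.ExtraspecialChar
import Cfsg.Agent.S4416

/-! Board `s1904pieces`, row E1: in an extraspecial `2`-group, if `Z ≤ R ≤ C` and `|C : R| ≥ 8` then `C ∖ R` contains an
involution.  (Pick `a ∈ C ∖ R`; `C_C(a)` has index at most `2` in `C`, so it is not covered by `R ∪ a⁻¹R`; for `y ∈ C_C(a)` outside,
one of `a, y, ay` is an involution outside `R`.) -/

set_option autoImplicit false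

namespace Cfsg.Agent.S1904P

open scoped commutatorElement

variable {X : Type*} [Group X] [Finite X] {A : Subgroup (MulAut X)} {B : Subgroup X}

/-- the centraliser of `a` in `C` has index at most two. -/
theorem E1_aux_half (hes : Cfsg.IsExtraspecial 2 X) (C : Subgroup X) (a : X) :
    ∃ K : Subgroup X, K ≤ C ∧ (∀ y ∈ K, a * y = y * a) ∧ Nat.card C ≤ 2 * Nat.card K := by
  haveI : Fact (Nat.Prime 2) := ⟨Nat.prime_two⟩
  have hc := Cfsg.Agent.Helper12.extraspecial_comm_mem_center 2 hes
  set f : ↥C →* X := (Cfsg.Agent.Helper12.commHomOf hc a).comp C.subtype with hf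
  refine ⟨f.ker.map C.subtype, ?_, ?_, ?_⟩
  · rintro _ ⟨y, _, rfl⟩
    exact y.2
  · rintro _ ⟨y, hy, rfl⟩
    have : (y : X) ∈ (Cfsg.Agent.Helper12.commHomOf hc a).ker := hy
    rw [Cfsg.Agent.Helper12.mem_ker_commHomOf] at this
    exact this
  · have h1 := Subgroup.card_mul_index f.ker
    rw [Subgroup.index_ker] at h1
    have hr : f.range ≤ Subgroup.center X := by
      rintro _ ⟨y, rfl⟩
      exact hc _ _
    have h2 : Nat.card f.range ≤ 2 := by
      rw [← hes.2]
      exact Subgroup.card_le_of_le hr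
    have h3 : Nat.card (f.ker.map C.subtype) = Nat.card f.ker :=
      Subgroup.card_map_of_injective C.subtype_injective
    rw [h3, ← h1]
    calc Nat.card f.ker * Nat.card f.range ≤ Nat.card f.ker * 2 := Nat.mul_le_mul_left _ h2
      _ = 2 * Nat.card f.ker := by ring

/-- E1: an involution of `C` outside `R` when `Z ≤ R ≤ C` and `|C : R| ≥ 8`. -/
theorem E1 (hes : Cfsg.IsExtraspecial 2 X) (C R : Subgroup X) (hRC : R ≤ C)
    (hZR : Subgroup.center X ≤ R) (hidx : 8 * Nat.card R ≤ Nat.card C) :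
    ∃ s ∈ C, s ∉ R ∧ s * s = 1 := by
  classical
  obtain ⟨z, h⟩ := Cfsg.Agent.S4416.exists_es2 X hes
  have hRpos : 0 < Nat.card R := Nat.card_pos
  -- an element of `C ∖ R`
  have hex : ∃ a ∈ C, a ∉ R := by
    by_contra hcon
    push Not at hcon
    have hCR : C ≤ R := fun x hx => hcon x hx
    have := Subgroup.card_le_of_le hCR
    omega
  obtain ⟨a, haC, haR⟩ := hex
  obtain ⟨K, hKC, hKa, hKcard⟩ := E1_aux_half hes C a
  -- an element of `K` outside `R ∪ a⁻¹ R`
  have hex2 : ∃ y ∈ K, y ∉ R ∧ a * y ∉ R := by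
    by_contra hcon
    push Not at hcon
    have hle : Nat.card K ≤ Nat.card (Bool × ↥R) := by
      apply Nat.card_le_card_of_injective
        (fun y : ↥K => if hy : (y : X) ∈ R then ((false, ⟨(y : X), hy⟩) : Bool × ↥R)
          else (true, ⟨a * (y : X), hcon y.1 y.2 hy⟩))
      intro y1 y2 h12
      by_cases h1 : (y1 : X) ∈ R <;> by_cases h2 : (y2 : X) ∈ R
      · simp only [h1, h2, dif_pos, Prod.mk.injEq, Subtype.mk.injEq, true_and] at h12
        exact Subtype.ext h12
      · simp only [h1, h2, dif_pos, dif_neg, not_false_eq_true, Prod.mk.injEq, Bool.false_eq_true,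
          false_and] at h12
      · simp only [h1, h2, dif_pos, dif_neg, not_false_eq_true, Prod.mk.injEq, Bool.true_eq_false,
          false_and] at h12
      · simp only [h1, h2, dif_neg, not_false_eq_true, Prod.mk.injEq, Subtype.mk.injEq, true_and] at h12
        exact Subtype.ext (mul_left_cancel h12)
    rw [Nat.card_prod, Nat.card_eq_fintype_card (α := Bool), Fintype.card_bool] at hle
    omega
  obtain ⟨y, hyK, hyR, hayR⟩ := hex2
  have hyC : y ∈ C := hKC hyK
  have hcomm : a * y = y * a := hKa y hyK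
  rcases h.sq a with ha2 | ha2
  · exact ⟨a, haC, haR, by rw [← pow_two]; exact ha2⟩
  rcases h.sq y with hy2 | hy2
  · exact ⟨y, hyC, hyR, by rw [← pow_two]; exact hy2⟩
  refine ⟨a * y, C.mul_mem haC hyC, hayR, ?_⟩
  rw [pow_two] at ha2 hy2
  calc a * y * (a * y) = a * (y * a) * y := by group
    _ = a * (a * y) * y := by rw [hcomm]
    _ = (a * a) * (y * y) := by group
    _ = 1 := by rw [ha2, hy2, h.zz]

end Cfsg.Agent.S1904P
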