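import Mathlib
import Cfsg.Agent.Helper2.SpPairs

/-! Elements of odd prime order of `Sp_{2d}(q)` fixing no pair of complementary Lagrangians
(for S5963). -/

set_option autoImplicit false
set_option linter.unusedSectionVars false
set_option linter.unusedVariables false

namespace Cfsg.Agent.Helper2.SpDerange

open Matrix Module Submodule Cfsg.Agent.Helper28 Cfsg.Agent.Helper2.SpPairs

/-! ### number theory -/

theorem exists_min_j (q r d : ℕ) (hr : r.Prime) (hr2 : r ≠ 2) (hq : 1 ≤ q)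
    (h : ∃ i ∈ Finset.range d, r ∣ q ^ (i + 1) + 1) :
    ∃ j, 1 ≤ j ∧ j ≤ d ∧ r ∣ q ^ j + 1 ∧ ∀ t, 0 < t → t < 2 * j → ¬ r ∣ q ^ t - 1 := by
  classical
  have hex : ∃ j, 1 ≤ j ∧ r ∣ q ^ j + 1 := by
    obtain ⟨i, hi, hdvd⟩ := h
    exact ⟨i + 1, by omega, hdvd⟩
  obtain ⟨j, ⟨hj1, hjdvd⟩, hmin⟩ : ∃ j, (1 ≤ j ∧ r ∣ q ^ j + 1) ∧
      ∀ j', (1 ≤ j' ∧ r ∣ q ^ j' + 1) → j ≤ j' :=
    ⟨Nat.find hex, Nat.find_spec hex, fun j' hj' => Nat.find_min' hex hj'⟩
  have hjd : j ≤ d := by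
    obtain ⟨i, hi, hdvd⟩ := h
    have := hmin (i + 1) ⟨by omega, hdvd⟩
    rw [Finset.mem_range] at hi
    omega
  refine ⟨j, hj1, hjd, hjdvd, ?_⟩
  intro t ht0 ht2 hdvd
  haveI := Fact.mk hr
  obtain ⟨a, ha⟩ : ∃ a : ZMod r, a = (q : ZMod r) := ⟨_, rfl⟩
  have haj : a ^ j = -1 := by
    have := (ZMod.natCast_eq_zero_iff (q ^ j + 1) r).mpr hjdvd
    rw [Nat.cast_add, Nat.cast_pow, Nat.cast_one, ← ha] at this
    exact eq_neg_of_add_eq_zero_left this
  have hat : a ^ t = 1 := by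
    have h1 : 1 ≤ q ^ t := Nat.one_le_pow _ _ hq
    have := (ZMod.natCast_eq_zero_iff (q ^ t - 1) r).mpr hdvd
    rw [Nat.cast_sub h1, Nat.cast_pow, Nat.cast_one, ← ha] at this
    exact sub_eq_zero.mp this
  have h2ne : (2 : ZMod r) ≠ 0 := by
    intro h2
    have h2' : ((2 : ℕ) : ZMod r) = 0 := by exact_mod_cast h2
    rw [ZMod.natCast_eq_zero_iff] at h2'
    exact hr2 ((Nat.prime_dvd_prime_iff_eq hr Nat.prime_two).mp h2')
  have hne : (1 : ZMod r) ≠ -1 := by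
    intro h1
    apply h2ne
    have : (1 : ZMod r) + 1 = 0 := by
      nth_rewrite 1 [h1]
      ring
    rw [← one_add_one_eq_two]
    exact this
  obtain ⟨e, he⟩ : ∃ e, e = orderOf a := ⟨_, rfl⟩
  have he_t : e ∣ t := by rw [he]; exact orderOf_dvd_of_pow_eq_one hat
  have he_2j : e ∣ 2 * j := by
    rw [he]
    apply orderOf_dvd_of_pow_eq_one
    rw [mul_comm, pow_mul, haj]
    norm_num
  have hepos : 0 < e := Nat.pos_of_dvd_of_pos he_t ht0
  have hele : e ≤ t := Nat.le_of_dvd ht0 he_t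
  by_cases hej : e ∣ j
  · obtain ⟨k, hk⟩ := hej
    have : a ^ j = 1 := by rw [hk, pow_mul, he, pow_orderOf_eq_one, one_pow]
    rw [haj] at this
    exact hne this.symm
  · have heven : 2 ∣ e := by
      by_contra hodd
      have hcop : Nat.Coprime 2 e := (Nat.Prime.coprime_iff_not_dvd Nat.prime_two).mpr hodd
      exact hej (Nat.Coprime.dvd_of_dvd_mul_left hcop.symm he_2j)
    obtain ⟨e', he'⟩ := heven
    have he'j : e' ∣ j := by
      rw [he'] at he_2j
      exact Nat.dvd_of_mul_dvd_mul_left (by norm_num) he_2j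
    have he'pos : 0 < e' := by omega
    have he'lt : e' < j := by omega
    have hsq : (a ^ e') ^ 2 = 1 := by
      rw [← pow_mul, mul_comm, ← he', he, pow_orderOf_eq_one]
    rcases sq_eq_one_iff.mp hsq with h1 | h1
    · have : e ∣ e' := by rw [he]; exact orderOf_dvd_of_pow_eq_one h1
      have := Nat.le_of_dvd he'pos this
      omega
    · have hdvd' : r ∣ q ^ e' + 1 := by
        rw [← ZMod.natCast_eq_zero_iff, Nat.cast_add, Nat.cast_pow, Nat.cast_one, ← ha, h1]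
        ring
      have := hmin e' ⟨he'pos, hdvd'⟩
      omega

variable {F : Type*} [Field F] {d : ℕ}

/-! ### fixed spaces -/

/-- the fixed space of a matrix -/
def Fix (x : Md d F) : Submodule F (Vd d F) := LinearMap.eqLocus (Matrix.toLin' x) LinearMap.id

theorem mem_Fix {x : Md d F} {v : Vd d F} : v ∈ Fix x ↔ x *ᵥ v = v := by
  rw [Fix, LinearMap.mem_eqLocus, Matrix.toLin'_apply, LinearMap.id_apply]

section count

variable [Fintype F]

theorem card_modEq (x : Md d F) {r : ℕ} [Fact r.Prime] (hxr : x ^ r = 1)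
    (U : Submodule F (Vd d F)) (hU : ∀ u ∈ U, x *ᵥ u ∈ U) :
    Nat.card U ≡ Nat.card ↥(U ⊓ Fix x) [MOD r] := by
  classical
  haveI : Fintype U := Fintype.ofFinite _
  let f : Function.End U := fun u => ⟨x *ᵥ u.1, hU u.1 u.2⟩
  have hpow : ∀ (k : ℕ) (u : U), ((f ^ k) u : Vd d F) = (x ^ k) *ᵥ (u : Vd d F) := by
    intro k
    induction k with
    | zero =>
      intro u
      rw [pow_zero, pow_zero, Matrix.one_mulVec]
      rfl
    | succ k ih =>
      intro u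
      rw [pow_succ, pow_succ]
      show ((f ^ k) (f u) : Vd d F) = _
      rw [ih (f u)]
      show x ^ k *ᵥ (x *ᵥ (u : Vd d F)) = _
      rw [Matrix.mulVec_mulVec]
  have hf : f ^ r ^ 1 = 1 := by
    rw [pow_one]
    funext u
    apply Subtype.ext
    rw [hpow, hxr, Matrix.one_mulVec]
    rfl
  have h := Equiv.Perm.card_fixedPoints_modEq (p := r) (n := 1) hf
  have e : Function.fixedPoints f ≃ ↥(U ⊓ Fix x) :=
    { toFun := fun u => ⟨u.1.1, u.1.2, mem_Fix.mpr (congrArg Subtype.val u.2)⟩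
      invFun := fun v => ⟨⟨v.1, v.2.1⟩, Subtype.ext (mem_Fix.mp v.2.2)⟩
      left_inv := fun u => rfl
      right_inv := fun v => rfl }
  rw [← Nat.card_eq_fintype_card, ← Nat.card_eq_fintype_card, Nat.card_congr e] at h
  exact h

theorem dvd_of_invariant {q : ℕ} (hq : Fintype.card F = q) (x : Md d F) {r : ℕ} [Fact r.Prime]
    (hrq : ¬ r ∣ q) (hxr : x ^ r = 1) (U : Submodule F (Vd d F))
    (hU : ∀ u ∈ U, x *ᵥ u ∈ U) :
    r ∣ q ^ (finrank F U - finrank F ↥(U ⊓ Fix x)) - 1 := by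
  have hr : r.Prime := Fact.out
  have hq1 : 1 ≤ q := by rw [← hq]; exact Fintype.card_pos
  have h := card_modEq x hxr U hU
  have c1 : Nat.card U = q ^ finrank F U := by
    rw [Module.natCard_eq_pow_finrank (K := F), Nat.card_eq_fintype_card, hq]
  have c2 : Nat.card ↥(U ⊓ Fix x) = q ^ finrank F ↥(U ⊓ Fix x) := by
    rw [Module.natCard_eq_pow_finrank (K := F), Nat.card_eq_fintype_card, hq]
  rw [c1, c2] at h
  have hle : finrank F ↥(U ⊓ Fix x) ≤ finrank F U := Submodule.finrank_mono inf_le_left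
  obtain ⟨a, ha⟩ : ∃ a, a = finrank F U := ⟨_, rfl⟩
  obtain ⟨b, hb⟩ : ∃ b, b = finrank F ↥(U ⊓ Fix x) := ⟨_, rfl⟩
  rw [← ha, ← hb] at h hle ⊢
  have hpw : q ^ b ≤ q ^ a := Nat.pow_le_pow_right hq1 hle
  have h1 := (Nat.modEq_iff_dvd' hpw).mp h.symm
  have h2 : q ^ a - q ^ b = q ^ b * (q ^ (a - b) - 1) := by
    rw [Nat.mul_sub, mul_one, ← pow_add, Nat.add_sub_cancel' hle]
  rw [h2] at h1
  rcases (Nat.Prime.dvd_mul hr).mp h1 with h3 | h3
  · exact absurd (hr.dvd_of_dvd_pow h3) hrq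
  · exact h3

end count

theorem fix_of_le (x : Spd d F) {U W : Submodule F (Vd d F)} (h : IsLP U W)
    (hxW : ∀ w ∈ W, x.1 *ᵥ w ∈ W) (hUfix : U ≤ Fix x.1) : W ≤ Fix x.1 := by
  intro w hw
  rw [mem_Fix]
  by_contra hne
  have hz : x.1 *ᵥ w - w ≠ 0 := sub_ne_zero.mpr hne
  obtain ⟨v, hv⟩ := sympForm_exists_ne_zero hz
  apply hv
  have hvmem : v ∈ U ⊔ W := by rw [h.1.sup_eq_top]; trivial
  obtain ⟨u, hu, w', hw', rfl⟩ := Submodule.mem_sup.mp hvmem
  rw [sympForm_add_right]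
  have h1 : Cfsg.sympForm d F (x.1 *ᵥ w - w) w' = 0 :=
    h.2.2 _ (W.sub_mem (hxW w hw) hw) _ hw'
  have h2 : Cfsg.sympForm d F (x.1 *ᵥ w - w) u = 0 := by
    rw [sympForm_sub_left]
    have hxu : x.1 *ᵥ u = u := mem_Fix.mp (hUfix hu)
    have h3 : Cfsg.sympForm d F (x.1 *ᵥ w) u = Cfsg.sympForm d F w u := by
      have := preserves x w u
      rw [hxu] at this
      exact this
    rw [h3, sub_self]
  rw [h1, h2, add_zero]

theorem eq_one_of_fix_top (x : Md d F) (h : Fix x = ⊤) : x = 1 := by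
  apply Matrix.toLin'.injective
  apply LinearMap.ext
  intro v
  rw [Matrix.toLin'_apply, Matrix.toLin'_one, LinearMap.id_apply]
  have : v ∈ Fix x := by rw [h]; trivial
  exact mem_Fix.mp this

section main

variable [Fintype F]

theorem no_invariant_pair {q : ℕ} (hq : Fintype.card F = q) (x : Spd d F) {r : ℕ} [Fact r.Prime]
    (hrq : ¬ r ∣ q) (hxr : x.1 ^ r = 1) (hx1 : x.1 ≠ 1) (j : ℕ) (hj : 1 ≤ j)
    (hord : ∀ t, 0 < t → t < 2 * j → ¬ r ∣ q ^ t - 1)
    (hfix : 2 * d - 2 * j ≤ finrank F (Fix x.1))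
    (U W : Submodule F (Vd d F)) (h : IsLP U W)
    (hU : U.map (Matrix.toLin' x.1) = U) (hW : W.map (Matrix.toLin' x.1) = W) : False := by
  have hxU : ∀ u ∈ U, x.1 *ᵥ u ∈ U := by
    intro u hu
    have : x.1 *ᵥ u ∈ U.map (Matrix.toLin' x.1) := ⟨u, hu, Matrix.toLin'_apply _ _⟩
    rw [hU] at this
    exact this
  have hxW : ∀ w ∈ W, x.1 *ᵥ w ∈ W := by
    intro w hw
    have : x.1 *ᵥ w ∈ W.map (Matrix.toLin' x.1) := ⟨w, hw, Matrix.toLin'_apply _ _⟩
    rw [hW] at this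
    exact this
  have hdU := dvd_of_invariant hq x.1 hrq hxr U hxU
  have hdW := dvd_of_invariant hq x.1 hrq hxr W hxW
  have hsum : finrank F U + finrank F W = 2 * d := by
    have := Submodule.finrank_add_eq_of_isCompl h.1
    rw [finrank_Vd] at this
    exact this
  have hle : Fix x.1 ≤ (U ⊓ Fix x.1) ⊔ (W ⊓ Fix x.1) := by
    intro v hv
    have hvmem : v ∈ U ⊔ W := by rw [h.1.sup_eq_top]; trivial
    obtain ⟨u, hu, w, hw, rfl⟩ := Submodule.mem_sup.mp hvmem
    have hxv := mem_Fix.mp hv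
    rw [Matrix.mulVec_add] at hxv
    have hdiff : x.1 *ᵥ u - u = w - x.1 *ᵥ w := by
      rw [sub_eq_sub_iff_add_eq_add, hxv, add_comm]
    have hmemU : x.1 *ᵥ u - u ∈ U := U.sub_mem (hxU u hu) hu
    have hmemW : x.1 *ᵥ u - u ∈ W := by
      rw [hdiff]
      exact W.sub_mem hw (hxW w hw)
    have h0 : x.1 *ᵥ u - u ∈ U ⊓ W := ⟨hmemU, hmemW⟩
    rw [h.1.inf_eq_bot, Submodule.mem_bot] at h0
    have h0' : x.1 *ᵥ w = w := by
      rw [h0] at hdiff
      exact (sub_eq_zero.mp hdiff.symm).symm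
    exact Submodule.add_mem_sup ⟨hu, mem_Fix.mpr (sub_eq_zero.mp h0)⟩ ⟨hw, mem_Fix.mpr h0'⟩
  have hfr : finrank F (Fix x.1) ≤
      finrank F ↥(U ⊓ Fix x.1) + finrank F ↥(W ⊓ Fix x.1) :=
    (Submodule.finrank_mono hle).trans (Submodule.finrank_add_le_finrank_add_finrank _ _)
  have hleU : finrank F ↥(U ⊓ Fix x.1) ≤ finrank F U := Submodule.finrank_mono inf_le_left
  have hleW : finrank F ↥(W ⊓ Fix x.1) ≤ finrank F W := Submodule.finrank_mono inf_le_left
  obtain ⟨aU, haU⟩ : ∃ a, a = finrank F U - finrank F ↥(U ⊓ Fix x.1) := ⟨_, rfl⟩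
  obtain ⟨aW, haW⟩ : ∃ a, a = finrank F W - finrank F ↥(W ⊓ Fix x.1) := ⟨_, rfl⟩
  rw [← haU] at hdU
  rw [← haW] at hdW
  have hcU : aU = 0 ∨ 2 * j ≤ aU := by
    by_contra hcon
    push Not at hcon
    exact hord aU (by omega) (by omega) hdU
  have hcW : aW = 0 ∨ 2 * j ≤ aW := by
    by_contra hcon
    push Not at hcon
    exact hord aW (by omega) (by omega) hdW
  have hsumle : aU + aW ≤ 2 * j := by omega
  have hzero : aU = 0 ∨ aW = 0 := by
    rcases hcU with h1 | h1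
    · exact Or.inl h1
    · rcases hcW with h2 | h2
      · exact Or.inr h2
      · omega
  have hfinal : Fix x.1 = ⊤ := by
    rcases hzero with h0 | h0
    · have hUle : U ≤ Fix x.1 := by
        have hEq : U ⊓ Fix x.1 = U :=
          Submodule.eq_of_le_of_finrank_eq inf_le_left (by omega)
        rw [← hEq]
        exact inf_le_right
      have hWle := fix_of_le x h hxW hUle
      rw [eq_top_iff, ← h.1.sup_eq_top]
      exact sup_le hUle hWle
    · have hWle : W ≤ Fix x.1 := by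
        have hEq : W ⊓ Fix x.1 = W :=
          Submodule.eq_of_le_of_finrank_eq inf_le_left (by omega)
        rw [← hEq]
        exact inf_le_right
      have hUle := fix_of_le x h.symm hxU hWle
      rw [eq_top_iff, ← h.1.sup_eq_top]
      exact sup_le hUle hWle
  exact hx1 (eq_one_of_fix_top x.1 hfinal)

theorem no_fixed_pair {q : ℕ} (hq : Fintype.card F = q) (x : Spd d F) {r : ℕ} [Fact r.Prime]
    (hr2 : r ≠ 2) (hrq : ¬ r ∣ q) (hxr : x.1 ^ r = 1) (hx1 : x.1 ≠ 1) (j : ℕ) (hj : 1 ≤ j)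
    (hord : ∀ t, 0 < t → t < 2 * j → ¬ r ∣ q ^ t - 1)
    (hfix : 2 * d - 2 * j ≤ finrank F (Fix x.1)) :
    ¬ (∃ U W : Submodule F (Fin d ⊕ Fin d → F), IsCompl U W ∧
      (∀ u ∈ U, ∀ v ∈ U, Cfsg.sympForm d F u v = 0) ∧
      (∀ u ∈ W, ∀ v ∈ W, Cfsg.sympForm d F u v = 0) ∧
      ((U.map (Matrix.toLin' (x : Matrix (Fin d ⊕ Fin d) (Fin d ⊕ Fin d) F)) = U ∧
        W.map (Matrix.toLin' (x : Matrix (Fin d ⊕ Fin d) (Fin d ⊕ Fin d) F)) = W) ∨
       (U.map (Matrix.toLin' (x : Matrix (Fin d ⊕ Fin d) (Fin d ⊕ Fin d) F)) = W ∧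
        W.map (Matrix.toLin' (x : Matrix (Fin d ⊕ Fin d) (Fin d ⊕ Fin d) F)) = U))) := by
  rintro ⟨U, W, hc, hUt, hWt, hcase⟩
  have hLP : IsLP U W := ⟨hc, hUt, hWt⟩
  have hr : r.Prime := Fact.out
  rcases hcase with ⟨hU, hW⟩ | ⟨hU, hW⟩
  · exact no_invariant_pair hq x hrq hxr hx1 j hj hord hfix U W hLP hU hW
  · -- pass to `x * x`
    have hmul : ((x * x : Spd d F) : Md d F) = x.1 * x.1 := rfl
    have hlin : Matrix.toLin' ((x * x : Spd d F) : Md d F) =
        (Matrix.toLin' x.1).comp (Matrix.toLin' x.1) := by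
      rw [hmul, Matrix.toLin'_mul]
    have hU2 : U.map (Matrix.toLin' ((x * x : Spd d F) : Md d F)) = U := by
      rw [hlin, Submodule.map_comp, hU, hW]
    have hW2 : W.map (Matrix.toLin' ((x * x : Spd d F) : Md d F)) = W := by
      rw [hlin, Submodule.map_comp, hW, hU]
    have hxr2 : ((x * x : Spd d F) : Md d F) ^ r = 1 := by
      rw [hmul, ← pow_two, ← pow_mul, mul_comm, pow_mul, hxr, one_pow]
    obtain ⟨k, hk⟩ := hr.odd_of_ne_two hr2
    have hx12 : ((x * x : Spd d F) : Md d F) ≠ 1 := by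
      intro h1
      rw [hmul] at h1
      apply hx1
      have h2 := hxr
      rw [hk, pow_succ, pow_mul, pow_two, h1, one_pow, one_mul] at h2
      exact h2
    have hfix2 : 2 * d - 2 * j ≤ finrank F (Fix ((x * x : Spd d F) : Md d F)) := by
      refine hfix.trans (Submodule.finrank_mono ?_)
      intro v hv
      rw [mem_Fix] at hv ⊢
      rw [hmul, ← Matrix.mulVec_mulVec, hv, hv]
    exact no_invariant_pair hq (x * x) hrq hxr2 hx12 j hj hord hfix2 U W hLP hU2 hW2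

end main

/-! ### the block embedding -/

section emb

variable {j k : ℕ}

def tau (e : Fin j ⊕ Fin k ≃ Fin d) : (Fin j ⊕ Fin j) ⊕ (Fin k ⊕ Fin k) ≃ Fin d ⊕ Fin d :=
  (Equiv.sumSumSumComm _ _ _ _).trans (Equiv.sumCongr e e)

theorem tau_J (e : Fin j ⊕ Fin k ≃ Fin d) :
    Matrix.reindex (tau e) (tau e) (fromBlocks (J (Fin j) F) 0 0 (J (Fin k) F)) =
      J (Fin d) F := by
  ext s t
  obtain ⟨s', rfl⟩ := (tau e).surjective s
  obtain ⟨t', rfl⟩ := (tau e).surjective t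
  rw [Matrix.reindex_apply, Matrix.submatrix_apply, Equiv.symm_apply_apply,
    Equiv.symm_apply_apply]
  rcases s' with (a | a) | (a | a) <;> rcases t' with (b | b) | (b | b) <;>
    simp [tau, Matrix.J, Matrix.one_apply]

def embM (e : Fin j ⊕ Fin k ≃ Fin d) (A : Md j F) : Md d F :=
  Matrix.reindex (tau e) (tau e) (Matrix.fromBlocks A 0 0 1)

theorem embM_mul (e : Fin j ⊕ Fin k ≃ Fin d) (A B : Md j F) :
    embM e (A * B) = embM e A * embM e B := by
  unfold embM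
  rw [Matrix.reindex_apply, Matrix.reindex_apply, Matrix.reindex_apply,
    Matrix.submatrix_mul_equiv, Matrix.fromBlocks_multiply]
  simp

theorem embM_one (e : Fin j ⊕ Fin k ≃ Fin d) : embM e (1 : Md j F) = 1 := by
  unfold embM
  rw [Matrix.fromBlocks_one, Matrix.reindex_apply, Matrix.submatrix_one_equiv]

theorem embM_pow (e : Fin j ⊕ Fin k ≃ Fin d) (A : Md j F) (n : ℕ) :
    embM e (A ^ n) = embM e A ^ n := by
  induction n with
  | zero => rw [pow_zero, pow_zero, embM_one]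
  | succ n ih => rw [pow_succ, pow_succ, embM_mul, ih]

theorem embM_transpose (e : Fin j ⊕ Fin k ≃ Fin d) (A : Md j F) :
    (embM e A)ᵀ = embM e Aᵀ := by
  unfold embM
  rw [Matrix.reindex_apply, Matrix.reindex_apply, Matrix.transpose_submatrix,
    Matrix.fromBlocks_transpose]
  simp

theorem embM_mem (e : Fin j ⊕ Fin k ≃ Fin d) {A : Md j F}
    (hA : A ∈ Matrix.symplecticGroup (Fin j) F) :
    embM e A ∈ Matrix.symplecticGroup (Fin d) F := by
  rw [SymplecticGroup.mem_iff] at hA ⊢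
  rw [embM_transpose, ← tau_J (F := F) e]
  unfold embM
  rw [Matrix.reindex_apply, Matrix.reindex_apply, Matrix.reindex_apply,
    Matrix.submatrix_mul_equiv, Matrix.submatrix_mul_equiv, Matrix.fromBlocks_multiply,
    Matrix.fromBlocks_multiply]
  simp [hA]

def extw (j : ℕ) (w : Fin k ⊕ Fin k → F) : (Fin j ⊕ Fin j) ⊕ (Fin k ⊕ Fin k) → F :=
  Sum.elim (fun _ => 0) w

theorem embM_fix (e : Fin j ⊕ Fin k ≃ Fin d) (A : Md j F) (w : Fin k ⊕ Fin k → F) :
    embM e A *ᵥ ((extw j w) ∘ (tau e).symm) = (extw j w) ∘ (tau e).symm := by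
  unfold embM
  rw [Matrix.reindex_apply, Matrix.submatrix_mulVec_equiv, Equiv.symm_symm]
  congr 1
  have : ((extw j w) ∘ (tau e).symm) ∘ (tau e) = extw j w := by
    funext s; simp
  rw [this, Matrix.fromBlocks_mulVec]
  funext s
  rcases s with s | s
  · simp only [Sum.elim_inl, extw]
    have h0 : (Sum.elim (fun _ => (0 : F)) w :
        (Fin j ⊕ Fin j) ⊕ (Fin k ⊕ Fin k) → F) ∘ Sum.inl = 0 := by
      funext t; rfl
    rw [h0, Matrix.mulVec_zero, Matrix.zero_mulVec, add_zero]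
    rfl
  · simp only [Sum.elim_inr, extw]
    have h1 : (Sum.elim (fun _ => (0 : F)) w :
        (Fin j ⊕ Fin j) ⊕ (Fin k ⊕ Fin k) → F) ∘ Sum.inr = w := by
      funext t; rfl
    rw [h1, Matrix.zero_mulVec, Matrix.one_mulVec, zero_add]

theorem embM_sub (e : Fin j ⊕ Fin k ≃ Fin d) (A : Md j F) :
    (embM e A).submatrix ((tau e) ∘ Sum.inl) ((tau e) ∘ Sum.inl) = A := by
  ext s t
  simp [embM]

/-- the extension-by-zero map into the fixed space -/
def extL (e : Fin j ⊕ Fin k ≃ Fin d) : (Fin k ⊕ Fin k → F) →ₗ[F] Vd d F where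
  toFun w := (extw j w) ∘ (tau e).symm
  map_add' w w' := by
    funext s
    simp only [Function.comp, Pi.add_apply, extw]
    rcases (tau e).symm s with t | t <;> simp
  map_smul' c w := by
    funext s
    simp only [Function.comp, Pi.smul_apply, extw, RingHom.id_apply]
    rcases (tau e).symm s with t | t <;> simp

theorem extL_injective (e : Fin j ⊕ Fin k ≃ Fin d) :
    Function.Injective (extL (F := F) e) := by
  intro w w' h
  funext t
  have := congrFun h (tau e (Sum.inr t))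
  simpa [extL, extw] using this

theorem finrank_fix_embM (e : Fin j ⊕ Fin k ≃ Fin d) (A : Md j F) :
    2 * k ≤ finrank F (Fix (embM e A)) := by
  have hle : LinearMap.range (extL (F := F) e) ≤ Fix (embM e A) := by
    rintro _ ⟨w, rfl⟩
    rw [mem_Fix]
    exact embM_fix e A w
  have h1 := Submodule.finrank_mono hle
  rw [LinearMap.finrank_range_of_inj (extL_injective e), Module.finrank_fintype_fun_eq_card,
    Fintype.card_sum, Fintype.card_fin] at h1
  omega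

end emb

section elt

variable [Fintype F]

theorem exists_elt {q : ℕ} (hq : Fintype.card F = q) (r : ℕ) [Fact r.Prime] (j : ℕ)
    (hj1 : 1 ≤ j) (hjd : j ≤ d) (hdvd : r ∣ q ^ j + 1) :
    ∃ x : Spd d F, x.1 ^ r = 1 ∧ x.1 ≠ 1 ∧ 2 * d - 2 * j ≤ finrank F (Fix x.1) := by
  have hr : r.Prime := Fact.out
  have hq1 : 1 ≤ q := by rw [← hq]; exact Fintype.card_pos
  -- `r` divides the order of `Sp_{2j}(q)`
  have hcard : r ∣ Nat.card (Spd j F) := by
    rw [Cfsg.Agent.Helper2.Sp.card_symplectic_fin, hq]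
    apply dvd_mul_of_dvd_right
    obtain ⟨j', rfl⟩ : ∃ j', j = j' + 1 := ⟨j - 1, by omega⟩
    have hmem : j' ∈ Finset.range (j' + 1) := Finset.self_mem_range_succ j'
    refine dvd_trans ?_ (Finset.dvd_prod_of_mem (fun i => q ^ (2 * (i + 1)) - 1) hmem)
    refine dvd_trans hdvd ?_
    obtain ⟨k, hk⟩ : ∃ k, q ^ (j' + 1) = k + 1 :=
      ⟨q ^ (j' + 1) - 1, by have := Nat.one_le_pow (j' + 1) q hq1; omega⟩
    refine ⟨k, ?_⟩
    show q ^ (2 * (j' + 1)) - 1 = (q ^ (j' + 1) + 1) * k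
    rw [pow_mul', hk]
    have : (k + 1) ^ 2 = (k + 1 + 1) * k + 1 := by ring
    omega
  obtain ⟨x₀, hx₀⟩ := exists_prime_orderOf_dvd_card' r hcard
  obtain ⟨e, he⟩ : ∃ e : Fin j ⊕ Fin (d - j) ≃ Fin d, e =
    finSumFinEquiv.trans (finCongr (by omega : j + (d - j) = d)) := ⟨_, rfl⟩
  refine ⟨⟨embM e x₀.1, embM_mem e x₀.2⟩, ?_, ?_, ?_⟩
  · show embM e x₀.1 ^ r = 1
    rw [← embM_pow]
    have : x₀.1 ^ r = 1 := by
      have h1 : x₀ ^ r = 1 := by rw [← hx₀]; exact pow_orderOf_eq_one x₀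
      have h2 := congrArg (fun g : Spd j F => (g : Md j F)) h1
      exact h2
    rw [this, embM_one]
  · show embM e x₀.1 ≠ 1
    intro h1
    have h2 : x₀.1 = 1 := by
      rw [← embM_sub e x₀.1, h1, ← embM_one (F := F) e, embM_sub]
    have h3 : x₀ = 1 := Subtype.ext h2
    rw [h3, orderOf_one] at hx₀
    exact hr.one_lt.ne hx₀
  · have := finrank_fix_embM e x₀.1
    show 2 * d - 2 * j ≤ finrank F (Fix (embM e x₀.1))
    omega

end elt

/-! ### the theorem -/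

theorem result_gen {F : Type*} [Field F] [Fintype F] {p : ℕ} [Fact p.Prime] [CharP F p] {q : ℕ}
    (hq : Fintype.card F = q) (d : ℕ) (hd : 2 ≤ d) (hodd : Odd q)
    (r : ℕ) [Fact r.Prime] (hr2 : r ≠ 2) (hrp : r ≠ p)
    (hΩ : r ∣ Nat.card {P : Submodule F (Fin d ⊕ Fin d → F) × Submodule F (Fin d ⊕ Fin d → F) //
      IsCompl P.1 P.2 ∧ (∀ u ∈ P.1, ∀ v ∈ P.1, Cfsg.sympForm d F u v = 0) ∧
        (∀ u ∈ P.2, ∀ v ∈ P.2, Cfsg.sympForm d F u v = 0)} / 2) :
    ∃ x : ↥(Matrix.symplecticGroup (Fin d) F),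
      (∃ z : F, ((x ^ r : ↥(Matrix.symplecticGroup (Fin d) F)) :
        Matrix (Fin d ⊕ Fin d) (Fin d ⊕ Fin d) F) =
          z • (1 : Matrix (Fin d ⊕ Fin d) (Fin d ⊕ Fin d) F)) ∧
      (∀ z : F, (x : Matrix (Fin d ⊕ Fin d) (Fin d ⊕ Fin d) F) ≠
        z • (1 : Matrix (Fin d ⊕ Fin d) (Fin d ⊕ Fin d) F)) ∧
      ¬ (∃ U W : Submodule F (Fin d ⊕ Fin d → F), IsCompl U W ∧
        (∀ u ∈ U, ∀ v ∈ U, Cfsg.sympForm d F u v = 0) ∧
        (∀ u ∈ W, ∀ v ∈ W, Cfsg.sympForm d F u v = 0) ∧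
        ((U.map (Matrix.toLin' (x : Matrix (Fin d ⊕ Fin d) (Fin d ⊕ Fin d) F)) = U ∧
          W.map (Matrix.toLin' (x : Matrix (Fin d ⊕ Fin d) (Fin d ⊕ Fin d) F)) = W) ∨
         (U.map (Matrix.toLin' (x : Matrix (Fin d ⊕ Fin d) (Fin d ⊕ Fin d) F)) = W ∧
          W.map (Matrix.toLin' (x : Matrix (Fin d ⊕ Fin d) (Fin d ⊕ Fin d) F)) = U))) := by
  have hr : r.Prime := Fact.out
  have hp : p.Prime := Fact.out
  have hq1 : 1 ≤ q := by rw [← hq]; exact Fintype.card_pos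
  have hrq : ¬ r ∣ q := by
    obtain ⟨n, _, hn⟩ := FiniteField.card F p
    rw [hq] at hn
    intro hdvd
    rw [hn] at hdvd
    have := hr.dvd_of_dvd_pow hdvd
    exact hrp ((Nat.prime_dvd_prime_iff_eq hr hp).mp this)
  -- `r` divides the number of pairs
  have h2N := two_dvd_card_LP (d := d) (F := F) (by omega)
  have hrN : r ∣ Nat.card (LP d F) := by
    have h1 : Nat.card (LP d F) = 2 * (Nat.card (LP d F) / 2) := (Nat.mul_div_cancel' h2N).symm
    rw [h1]
    exact dvd_mul_of_dvd_right hΩ 2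
  have hrK := dvd_trans hrN (card_LP_dvd (d := d) hq)
  have hex : ∃ i ∈ Finset.range d, r ∣ q ^ (i + 1) + 1 := by
    rcases (Nat.Prime.dvd_mul hr).mp hrK with h1 | h1
    · exact absurd (hr.dvd_of_dvd_pow h1) hrq
    · exact (Prime.dvd_finsetProd_iff hr.prime _).mp h1
  obtain ⟨j, hj1, hjd, hjdvd, hord⟩ := exists_min_j q r d hr hr2 hq1 hex
  obtain ⟨x, hxr, hx1, hfix⟩ := exists_elt (d := d) hq r j hj1 hjd hjdvd
  refine ⟨x, ⟨1, ?_⟩, ?_, no_fixed_pair hq x hr2 hrq hxr hx1 j hj1 hord hfix⟩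
  · rw [one_smul]
    exact hxr
  · intro z hz
    -- `z ^ 2 = 1`
    have hd0 : 0 < d := by omega
    have hz2 : z * (z * 1) = 1 := by
      have h1 := preserves x (Pi.single (Sum.inr ⟨0, hd0⟩) 1) (Pi.single (Sum.inl ⟨0, hd0⟩) 1)
      rw [hz, Matrix.smul_mulVec, Matrix.smul_mulVec, Matrix.one_mulVec, Matrix.one_mulVec,
        sympForm_smul_left, sympForm_smul_right, sympForm_single] at h1
      have hJ : J (Fin d) F (Sum.inr ⟨0, hd0⟩) (Sum.inl ⟨0, hd0⟩) = 1 := by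
        simp [Matrix.J]
      rw [hJ] at h1
      exact h1
    have hzr : z ^ r = 1 := by
      have h1 := hxr
      rw [hz, smul_pow, one_pow] at h1
      have h2 := congrFun (congrFun h1 (Sum.inl ⟨0, hd0⟩)) (Sum.inl ⟨0, hd0⟩)
      simpa using h2
    obtain ⟨k, hk⟩ := hr.odd_of_ne_two hr2
    have hz1 : z = 1 := by
      have hsq : z ^ 2 = 1 := by rw [pow_two]; rw [mul_one] at hz2; exact hz2
      rw [hk, pow_succ, pow_mul, hsq, one_pow, one_mul] at hzr
      exact hzr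
    apply hx1
    rw [hz, hz1, one_smul]

end Cfsg.Agent.Helper2.SpDerange
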