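import Mathlib
import Cfsg.Prelude.Def_GeometricClasses
import Cfsg.Agent.Helper2.SLCard
import Cfsg.Agent.Helper7.SubF1
import Cfsg.Agent.Helper7.SubF4

/-!
# The subfield subgroup of odd degree has odd index in `SL_n(q)`, `q` odd (for S5964)
-/

set_option autoImplicit false

namespace Cfsg.Agent.Helper2.SubfInv

open Matrix Cfsg.Geo

/-- `q^n - q^i` over the big field is an odd multiple of the same number over the subfield -/
theorem factor_odd (q0 k' n i : ℕ) (hq0 : q0 % 2 = 1) (hk : (k' + 1) % 2 = 1) (hi : i < n) :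
    ∃ O : ℕ, O % 2 = 1 ∧
      (q0 ^ (k' + 1)) ^ n - (q0 ^ (k' + 1)) ^ i = O * (q0 ^ n - q0 ^ i) := by
  obtain ⟨m, rfl⟩ : ∃ m, n = i + m := ⟨n - i, by omega⟩
  have hq0pos : 0 < q0 := by omega
  have ho : Odd q0 := Nat.odd_iff.mpr hq0
  refine ⟨q0 ^ (i * k') * ∑ l ∈ Finset.range (k' + 1), (q0 ^ m) ^ l, ?_, ?_⟩
  · have h1 : Odd (q0 ^ (i * k')) := ho.pow
    have h2 : Odd (∑ l ∈ Finset.range (k' + 1), (q0 ^ m) ^ l) := by
      rw [Nat.odd_iff, Cfsg.Agent.Helper7.SubF.geom_sum_mod_two _ _ (Nat.odd_iff.mp ho.pow), hk]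
    exact Nat.odd_iff.mp (h1.mul h2)
  · have h1 : (q0 ^ (k' + 1)) ^ i ≤ (q0 ^ (k' + 1)) ^ (i + m) :=
      Nat.pow_le_pow_right (pow_pos hq0pos _) (by omega)
    have h2 : q0 ^ i ≤ q0 ^ (i + m) := Nat.pow_le_pow_right hq0pos (by omega)
    have hgs := geom_sum_mul ((q0 : ℤ) ^ m) (k' + 1)
    zify [h1, h2]
    linear_combination (-((q0 : ℤ) ^ (i * k') * (q0 : ℤ) ^ i)) * hgs

theorem prod_factor_odd (q0 k' n : ℕ) (hq0 : q0 % 2 = 1) (hk : (k' + 1) % 2 = 1) :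
    ∃ O : ℕ, O % 2 = 1 ∧
      ∏ i : Fin n, ((q0 ^ (k' + 1)) ^ n - (q0 ^ (k' + 1)) ^ (i : ℕ)) =
        O * ∏ i : Fin n, (q0 ^ n - q0 ^ (i : ℕ)) := by
  choose O hO1 hO2 using fun i : Fin n => factor_odd q0 k' n i hq0 hk i.2
  refine ⟨∏ i, O i, ?_, ?_⟩
  · have h : Odd (∏ i, O i) := by
      apply Finset.prod_induction _ Odd (fun a b ha hb => ha.mul hb) odd_one
      intro i _
      exact Nat.odd_iff.mpr (hO1 i)
    exact Nat.odd_iff.mp h
  · rw [← Finset.prod_mul_distrib]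
    exact Finset.prod_congr rfl (fun i _ => hO2 i)

theorem card_SL_mul (n : ℕ) (hn : 1 ≤ n) (E : Type*) [Field E] [Fintype E] :
    Nat.card (Matrix.SpecialLinearGroup (Fin n) E) * (Fintype.card E - 1) =
      ∏ i : Fin n, (Fintype.card E ^ n - Fintype.card E ^ (i : ℕ)) := by
  haveI : Nonempty (Fin n) := ⟨⟨0, by omega⟩⟩
  rw [← Cfsg.Agent.Helper2.card_units_field, Cfsg.Agent.Helper2.card_SL_mul_card_units,
    Matrix.card_GL_field]

variable {F : Type*} [Field F] [Fintype F]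

theorem index_odd (n : ℕ) (hn : 1 ≤ n) (F₀ : Subfield F) (k : ℕ) (hk : Odd k)
    (hqk : Fintype.card F = Nat.card F₀ ^ k) (hodd : Odd (Fintype.card F)) :
    ¬ 2 ∣ ((subfieldSubgroup F₀ (1 : GL (Fin n) F)).comap
      (Matrix.SpecialLinearGroup.toGL :
        Matrix.SpecialLinearGroup (Fin n) F →* GL (Fin n) F)).index := by
  classical
  haveI : Fintype F₀ := Fintype.ofFinite F₀
  have hq0odd : Nat.card F₀ % 2 = 1 :=
    Cfsg.Agent.Helper7.SubF.card_subfield_odd F₀ k hqk (Nat.odd_iff.mp hodd)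
  obtain ⟨q0, hq0⟩ : ∃ q0, q0 = Nat.card F₀ := ⟨_, rfl⟩
  have hq0c : Fintype.card F₀ = q0 := by rw [hq0, Nat.card_eq_fintype_card]
  rw [← hq0] at hqk hq0odd
  obtain ⟨k', rfl⟩ : ∃ k', k = k' + 1 := ⟨k - 1, by rcases hk with ⟨m, rfl⟩; omega⟩
  obtain ⟨H, hH⟩ : ∃ H : Subgroup (Matrix.SpecialLinearGroup (Fin n) F),
      H = (subfieldSubgroup F₀ (1 : GL (Fin n) F)).comap
        (Matrix.SpecialLinearGroup.toGL :
          Matrix.SpecialLinearGroup (Fin n) F →* GL (Fin n) F) := ⟨_, rfl⟩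
  rw [← hH]
  obtain ⟨j, hj⟩ : ∃ j : Matrix.SpecialLinearGroup (Fin n) F₀ →*
      Matrix.SpecialLinearGroup (Fin n) F, j = Matrix.SpecialLinearGroup.map F₀.subtype :=
    ⟨_, rfl⟩
  have hjinj : Function.Injective j := by
    intro a b hab
    have h1 : ((j a : Matrix.SpecialLinearGroup (Fin n) F) : Matrix (Fin n) (Fin n) F) =
        (j b : Matrix.SpecialLinearGroup (Fin n) F) := by rw [hab]
    rw [hj] at h1
    apply Subtype.ext
    ext r s
    have h2 := congrFun (congrFun h1 r) s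
    exact h2
  have hjH : j.range ≤ H := by
    rintro _ ⟨g₀, rfl⟩
    rw [hH]
    apply Cfsg.Agent.Helper7.SubF.mem_subfieldH_of F₀ _ (g₀ : Matrix (Fin n) (Fin n) F₀) 1
      one_ne_zero
    rw [one_smul, hj]
    rfl
  have hA := card_SL_mul n hn F
  have hB := card_SL_mul n hn F₀
  rw [hq0c] at hB
  rw [hqk] at hA
  obtain ⟨O, hO1, hO2⟩ := prod_factor_odd q0 k' n hq0odd (Nat.odd_iff.mp hk)
  rw [hO2, ← hB] at hA
  have hS : q0 ^ (k' + 1) - 1 = (∑ l ∈ Finset.range (k' + 1), q0 ^ l) * (q0 - 1) := by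
    have h1 : 1 ≤ q0 ^ (k' + 1) := Nat.one_le_pow _ _ (by omega)
    have h2 : 1 ≤ q0 := by omega
    have hgs := geom_sum_mul (q0 : ℤ) (k' + 1)
    zify [h1, h2]
    linear_combination -hgs
  rw [hS] at hA
  obtain ⟨S, hSdef⟩ : ∃ S, S = ∑ l ∈ Finset.range (k' + 1), q0 ^ l := ⟨_, rfl⟩
  rw [← hSdef] at hA
  have hq0pos : 0 < q0 - 1 := by
    have := Fintype.one_lt_card (α := F₀)
    omega
  obtain ⟨A, hAdef⟩ : ∃ A, A = Nat.card (Matrix.SpecialLinearGroup (Fin n) F) := ⟨_, rfl⟩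
  obtain ⟨B, hBdef⟩ : ∃ B, B = Nat.card (Matrix.SpecialLinearGroup (Fin n) F₀) := ⟨_, rfl⟩
  rw [← hAdef, ← hBdef] at hA
  have hAS : A * S = O * B := by
    apply Nat.eq_of_mul_eq_mul_right hq0pos
    rw [mul_assoc, hA, mul_assoc]
  have hcH : Nat.card H * H.index = A := by rw [hAdef]; exact Subgroup.card_mul_index H
  have hBH : B ∣ Nat.card H := by
    have h1 : Nat.card j.range = B := by
      rw [hBdef]
      exact Nat.card_congr (MonoidHom.ofInjective hjinj).toEquiv.symm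
    rw [← h1]
    exact Subgroup.card_dvd_of_le hjH
  obtain ⟨c, hc⟩ := hBH
  intro h2
  haveI : Finite (Matrix.SpecialLinearGroup (Fin n) F₀) :=
    Finite.of_injective (fun g => (g : Matrix (Fin n) (Fin n) F₀)) Subtype.val_injective
  have hBpos : 0 < B := by rw [hBdef]; exact Nat.card_pos
  have h3 : c * H.index * S = O := by
    apply Nat.eq_of_mul_eq_mul_left hBpos
    rw [mul_comm B O, ← hAS, ← hcH, hc]
    ring
  have h4 : 2 ∣ O := by
    rw [← h3]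
    exact Dvd.dvd.mul_right (Dvd.dvd.mul_left h2 c) S
  omega

end Cfsg.Agent.Helper2.SubfInv
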