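import Mathlib
import Cfsg.Agent.Helper2.ONsD
import Cfsg.Agent.Helper2.QuadPlus
import Cfsg.Agent.Helper2.QuadMinus
import Cfsg.Agent.Helper2.SpCard
import Cfsg.Agent.Helper28.SpOMax

set_option autoImplicit false
set_option linter.unusedSectionVars false

/-! Characteristic two: `Sp_{2d}(q)` acting on the cosets of `O^±_{2d}(q)`: generic tools
(frames of isometries, uniqueness of invariant forms, numbers of singular vectors). -/

namespace Cfsg.Agent.Helper2.Elus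

open Matrix Module Cfsg.Agent.Helper28.QWitt Cfsg.Agent.Helper28.IsoTransport Cfsg.Agent.Helper2.Sp
  Cfsg.Agent.Helper28.Spin Cfsg.Agent.Helper2.OInv Cfsg.Agent.Helper2.OCent Cfsg.Agent.Helper2.ONs

section frames

variable {F : Type*} [Field F] {ι₁ ι₂ : Type} [Fintype ι₁] [DecidableEq ι₁] [Fintype ι₂]
  [DecidableEq ι₂] (Q₁ : QuadraticForm F (ι₁ → F)) (Q₂ : QuadraticForm F (ι₂ → F))

/-- a frame: an isometry from `Q₁` onto `Q₂` in matrix form -/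
structure Frame where
  Φ : Matrix ι₂ ι₁ F
  Φ' : Matrix ι₁ ι₂ F
  h1 : Φ * Φ' = 1
  h1' : Φ' * Φ = 1
  hQ : ∀ x, Q₂ (Φ *ᵥ x) = Q₁ x

variable {Q₁ Q₂}

theorem Frame.hQ' (fr : Frame Q₁ Q₂) (w : ι₂ → F) : Q₁ (fr.Φ' *ᵥ w) = Q₂ w := by
  rw [← fr.hQ, Matrix.mulVec_mulVec, fr.h1, Matrix.one_mulVec]

/-- the inverse frame -/
def Frame.symm (fr : Frame Q₁ Q₂) : Frame Q₂ Q₁ where
  Φ := fr.Φ'
  Φ' := fr.Φ
  h1 := fr.h1'
  h1' := fr.h1
  hQ := fr.hQ'

theorem Frame.hP (fr : Frame Q₁ Q₂) (x y : ι₁ → F) :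
    P Q₂ (fr.Φ *ᵥ x) (fr.Φ *ᵥ y) = P Q₁ x y := by
  show QuadraticMap.polar ⇑Q₂ (fr.Φ *ᵥ x) (fr.Φ *ᵥ y) = QuadraticMap.polar ⇑Q₁ x y
  unfold QuadraticMap.polar
  rw [← Matrix.mulVec_add, fr.hQ, fr.hQ, fr.hQ]

theorem Frame.ΦΦ' (fr : Frame Q₁ Q₂) (w : ι₂ → F) : fr.Φ *ᵥ (fr.Φ' *ᵥ w) = w := by
  rw [Matrix.mulVec_mulVec, fr.h1, Matrix.one_mulVec]

theorem Frame.Φ'Φ (fr : Frame Q₁ Q₂) (v : ι₁ → F) : fr.Φ' *ᵥ (fr.Φ *ᵥ v) = v := by
  rw [Matrix.mulVec_mulVec, fr.h1', Matrix.one_mulVec]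

/-- a frame from a linear isometry -/
theorem exists_frame (g : (ι₁ → F) ≃ₗ[F] (ι₂ → F)) (hg : ∀ v, Q₂ (g v) = Q₁ v) :
    Nonempty (Frame Q₁ Q₂) := by
  have h1 : LinearMap.toMatrix' g.toLinearMap * LinearMap.toMatrix' g.symm.toLinearMap = 1 := by
    rw [← LinearMap.toMatrix'_comp]
    simp
  have h2 : LinearMap.toMatrix' g.symm.toLinearMap * LinearMap.toMatrix' g.toLinearMap = 1 := by
    rw [← LinearMap.toMatrix'_comp]
    simp
  refine ⟨⟨LinearMap.toMatrix' g.toLinearMap, LinearMap.toMatrix' g.symm.toLinearMap, h1, h2, ?_⟩⟩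
  intro x
  rw [LinearMap.toMatrix'_mulVec]
  exact hg x

/-- transport of an isometry along a frame -/
theorem Frame.isom (fr : Frame Q₁ Q₂) {T : Matrix ι₁ ι₁ F} (hT : ∀ v, Q₁ (T *ᵥ v) = Q₁ v)
    (w : ι₂ → F) : Q₂ ((fr.Φ * T * fr.Φ') *ᵥ w) = Q₂ w := by
  rw [← Matrix.mulVec_mulVec, ← Matrix.mulVec_mulVec, fr.hQ, hT, fr.hQ']

theorem Frame.back (fr : Frame Q₁ Q₂) (T : Matrix ι₁ ι₁ F) :
    fr.Φ' * (fr.Φ * T * fr.Φ') * fr.Φ = T := by
  rw [← Matrix.mul_assoc, ← Matrix.mul_assoc, fr.h1', Matrix.one_mul, Matrix.mul_assoc, fr.h1',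
    Matrix.mul_one]

/-- the numbers of singular vectors agree -/
theorem Frame.card_sing (fr : Frame Q₁ Q₂) :
    Nat.card {v : ι₁ → F // Q₁ v = 0} = Nat.card {w : ι₂ → F // Q₂ w = 0} := by
  apply Nat.card_congr
  refine
    { toFun := fun v => ⟨fr.Φ *ᵥ v.1, by rw [fr.hQ]; exact v.2⟩
      invFun := fun w => ⟨fr.Φ' *ᵥ w.1, by rw [fr.hQ']; exact w.2⟩
      left_inv := fun v => Subtype.ext (fr.Φ'Φ v.1)
      right_inv := fun w => Subtype.ext (fr.ΦΦ' w.1) }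

/-- the isometry groups have the same order -/
theorem Frame.card_isom_le [Finite F] (fr : Frame Q₁ Q₂) :
    Nat.card ↥(Cfsg.isometryGroup F ⇑Q₁) ≤ Nat.card ↥(Cfsg.isometryGroup F ⇑Q₂) := by
  let f : ↥(Cfsg.isometryGroup F ⇑Q₁) → ↥(Cfsg.isometryGroup F ⇑Q₂) := fun x =>
    ⟨⟨fr.Φ * mt Q₁ x * fr.Φ', fr.Φ * mt Q₁ x⁻¹ * fr.Φ', by
      calc fr.Φ * mt Q₁ x * fr.Φ' * (fr.Φ * mt Q₁ x⁻¹ * fr.Φ')
          = fr.Φ * mt Q₁ x * (fr.Φ' * fr.Φ) * mt Q₁ x⁻¹ * fr.Φ' := by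
            simp only [Matrix.mul_assoc]
        _ = 1 := by
            rw [fr.h1', Matrix.mul_one, Matrix.mul_assoc fr.Φ, mt_mul_inv, Matrix.mul_one, fr.h1], by
      calc fr.Φ * mt Q₁ x⁻¹ * fr.Φ' * (fr.Φ * mt Q₁ x * fr.Φ')
          = fr.Φ * mt Q₁ x⁻¹ * (fr.Φ' * fr.Φ) * mt Q₁ x * fr.Φ' := by
            simp only [Matrix.mul_assoc]
        _ = 1 := by
            rw [fr.h1', Matrix.mul_one, Matrix.mul_assoc fr.Φ, mt_inv_mul, Matrix.mul_one, fr.h1]⟩,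
      (mem_isometryGroup_iff _ _).2 (fr.isom (mt_isom Q₁ x))⟩
  apply Nat.card_le_card_of_injective f
  intro x y hxy
  apply mt_injective Q₁
  have h1 : fr.Φ * mt Q₁ x * fr.Φ' = fr.Φ * mt Q₁ y * fr.Φ' := congrArg (mt Q₂) hxy
  rw [← fr.back (mt Q₁ x), h1, fr.back]

theorem Frame.card_isom [Finite F] (fr : Frame Q₁ Q₂) :
    Nat.card ↥(Cfsg.isometryGroup F ⇑Q₁) = Nat.card ↥(Cfsg.isometryGroup F ⇑Q₂) :=
  le_antisymm fr.card_isom_le fr.symm.card_isom_le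

end frames

section unique

variable {F : Type*} [Field F] [Finite F] {ι : Type} [Fintype ι] [DecidableEq ι]

/-- an isometry without fixed vectors preserves at most one quadratic form with given polar
form -/
theorem form_unique (h2 : (2 : F) = 0) (A C : Matrix ι ι F) (hC : (A - 1) * C = 1)
    (Q₁ Q₂ : QuadraticForm F (ι → F)) (hp : ∀ u v, P Q₁ u v = P Q₂ u v)
    (h1 : ∀ v, Q₁ (A *ᵥ v) = Q₁ v) (h1' : ∀ v, Q₂ (A *ᵥ v) = Q₂ v) (v : ι → F) :
    Q₁ v = Q₂ v := by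
  classical
  have hchar : CharP F 2 := CharTwo.of_one_ne_zero_of_two_eq_zero one_ne_zero h2
  have : Fact (Nat.Prime 2) := ⟨Nat.prime_two⟩
  have hfin : Fintype F := Fintype.ofFinite F
  -- the difference is additive
  let D : (ι → F) →+ F := AddMonoidHom.mk' (fun v => Q₁ v - Q₂ v) (by
    intro u v
    rw [Q_add Q₁, Q_add Q₂, hp]
    ring)
  have hD : ∀ v, D v = Q₁ v - Q₂ v := fun v => rfl
  have hDsm : ∀ (c : F) v, D (c • v) = c ^ 2 * D v := by
    intro c v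
    rw [hD, hD, QuadraticMap.map_smul, QuadraticMap.map_smul, smul_eq_mul, smul_eq_mul]
    ring
  have hsq : ∀ a : F, ∃ r : F, r ^ 2 = a := by
    intro a
    obtain ⟨r, hr⟩ := FiniteField.isSquare_of_char_two (ringChar.eq F 2) a
    exact ⟨r, by rw [hr, sq]⟩
  choose s hs using fun i : ι => hsq (D (Pi.single i 1))
  have hDv : ∀ v : ι → F, D v = (∑ i, v i * s i) ^ 2 := by
    intro v
    have hv : v = ∑ i, v i • (Pi.single i 1 : ι → F) := by
      funext j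
      simp [Finset.sum_apply, Pi.single_apply]
    conv_lhs => rw [hv]
    rw [map_sum, sum_pow_char 2]
    apply Finset.sum_congr rfl
    intro i _
    rw [hDsm, ← hs i]
    ring
  have hinv : ∀ v, (∑ i, (A *ᵥ v) i * s i) = ∑ i, v i * s i := by
    intro v
    have h3 : D (A *ᵥ v) = D v := by rw [hD, hD, h1, h1']
    rw [hDv, hDv] at h3
    have h4 : ((∑ i, (A *ᵥ v) i * s i) - ∑ i, v i * s i) ^ 2 = 0 := by
      linear_combination h3 + ((∑ i, v i * s i) ^ 2 -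
        (∑ i, (A *ᵥ v) i * s i) * (∑ i, v i * s i)) * h2
    exact sub_eq_zero.mp (pow_eq_zero_iff (two_ne_zero) |>.mp h4)
  have hzero : ∀ w : ι → F, (∑ i, w i * s i) = 0 := by
    intro w
    have hw : w = (A - 1) *ᵥ (C *ᵥ w) := by
      rw [Matrix.mulVec_mulVec, hC, Matrix.one_mulVec]
    have h5 := hinv (C *ᵥ w)
    rw [hw]
    have h6 : ∀ i, ((A - 1) *ᵥ (C *ᵥ w)) i = (A *ᵥ (C *ᵥ w)) i - (C *ᵥ w) i := by
      intro i
      rw [Matrix.sub_mulVec, Matrix.one_mulVec]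
      rfl
    simp only [h6, sub_mul, Finset.sum_sub_distrib]
    rw [h5, sub_self]
  have := hDv v
  rw [hzero v, hD] at this
  exact sub_eq_zero.mp (by rw [this]; ring)

end unique

section counts

variable {F : Type*} [Field F] [Fintype F]

theorem plus_minus_false {Z q X Y : ℕ} (hq : 2 ≤ q) (hX : 0 < X)
    (E1 : Z * q + X = Y + q * X) (E2 : Z * q + q * X = Y + X) : False := by
  have h3 : q * X = X := by omega
  have h4 : q * X = 1 * X := by rw [h3, one_mul]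
  have := Nat.eq_of_mul_eq_mul_right hX h4
  omega

/-- the number of singular vectors of a form of plus type -/
def IsP {ι : Type} (d : ℕ) (Q : QuadraticForm F (ι → F)) : Prop :=
  Nat.card {v : ι → F // Q v = 0} * Fintype.card F + Fintype.card F ^ d =
    Fintype.card F ^ (2 * d) + Fintype.card F ^ (d + 1)

/-- the number of singular vectors of a form of minus type -/
def IsM {ι : Type} (d : ℕ) (Q : QuadraticForm F (ι → F)) : Prop :=
  Nat.card {v : ι → F // Q v = 0} * Fintype.card F + Fintype.card F ^ (d + 1) =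
    Fintype.card F ^ (2 * d) + Fintype.card F ^ d

theorem isP_isM_false {ι₁ ι₂ : Type} {d : ℕ} {Q₁ : QuadraticForm F (ι₁ → F)}
    {Q₂ : QuadraticForm F (ι₂ → F)} (h1 : IsP d Q₁) (h2 : IsM d Q₂)
    (hc : Nat.card {v : ι₁ → F // Q₁ v = 0} = Nat.card {v : ι₂ → F // Q₂ v = 0}) : False := by
  unfold IsP at h1
  unfold IsM at h2
  rw [hc] at h1
  have hq : 2 ≤ Fintype.card F := Fintype.one_lt_card
  refine plus_minus_false hq (Nat.pow_pos (by omega) : 0 < Fintype.card F ^ d)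
    (Y := Fintype.card F ^ (2 * d)) (Z := Nat.card {v : ι₂ → F // Q₂ v = 0}) ?_ ?_
  · rw [← pow_succ']
    exact h1
  · rw [← pow_succ']
    exact h2

theorem isP_plus (d : ℕ) : IsP d (QfPlus d F) := card_sing_plus d

theorem isM_minus {d : ℕ} (hd : 1 ≤ d) {a b : F} (hab : Quad.Aniso a b) :
    IsM d (QfMinus (d - 1) F a b) := by
  unfold IsM
  have h := card_sing_minus (F := F) (d - 1) hab
  obtain ⟨k, rfl⟩ : ∃ k, d = k + 1 := ⟨d - 1, by omega⟩
  rw [Nat.add_sub_cancel] at h ⊢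
  have e1 : Fintype.card F ^ (k + 1 + 1) = Fintype.card F ^ (k + 1) * Fintype.card F := pow_succ _ _
  have e2 : Fintype.card F ^ (2 * (k + 1)) = Fintype.card F ^ (2 * k + 1) * Fintype.card F := by
    rw [← pow_succ]
    congr 1
  have e3 : Fintype.card F ^ (k + 1) = Fintype.card F ^ k * Fintype.card F := pow_succ _ _
  rw [e1, e2]
  conv_rhs => rw [e3]
  rw [← add_mul, ← add_mul, h]

end counts

end Cfsg.Agent.Helper2.Elus
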