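import Mathlib
import Cfsg.Agent.Helper3.S3557K1

set_option autoImplicit false

/-! Piece CHAIN of the S4057 board: a chain of normal subgroups of `P` inside a normal subgroup. -/

namespace Cfsg.Agent.S4057P

/-- one step up: a normal `K < N` lies in a normal `K' ≤ N` with `|K'| = p |K|`. -/
theorem CHAIN_aux_up {P : Type*} [Group P] [Finite P] {p : ℕ} [Fact p.Prime] (hP : IsPGroup p P)
    (N K : Subgroup P) [N.Normal] [K.Normal] (hKN : K < N) :
    ∃ K' : Subgroup P, K'.Normal ∧ K ≤ K' ∧ K' ≤ N ∧ Nat.card K' = p * Nat.card K := by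
  classical
  set π : P →* P ⧸ K := QuotientGroup.mk' K with hπ
  have hπs : Function.Surjective π := QuotientGroup.mk'_surjective K
  have hker : π.ker = K := QuotientGroup.ker_mk' K
  have hNn : (N.map π).Normal := Subgroup.Normal.map inferInstance π hπs
  have hne : N.map π ≠ ⊥ := by
    intro h
    rw [Subgroup.map_eq_bot_iff, hker] at h
    exact (not_le_of_gt hKN) h
  have hPq : IsPGroup p (P ⧸ K) := hP.to_quotient K
  obtain ⟨c, hcN, hcZ, hc1⟩ := Cfsg.Agent.S3557P.K1_normal_inf_center p hPq (N.map π) hne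
  obtain ⟨j, hj⟩ := Cfsg.Agent.S3557P.K1_pow_order p hPq c hc1
  set z := c ^ j with hz
  have hzN : z ∈ N.map π := Subgroup.pow_mem _ hcN j
  have hzZ : z ∈ Subgroup.center (P ⧸ K) := Subgroup.pow_mem _ hcZ j
  set Z : Subgroup (P ⧸ K) := Subgroup.zpowers z with hZ
  have hZle : Z ≤ Subgroup.center (P ⧸ K) := by
    rw [hZ, Subgroup.zpowers_le]; exact hzZ
  have hZn : Z.Normal := by
    refine ⟨fun n hn g => ?_⟩
    have hc := hZle hn
    rw [Subgroup.mem_center_iff] at hc
    rw [hc g, mul_inv_cancel_right]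
    exact hn
  have hZcard : Nat.card Z = p := by rw [hZ, Nat.card_zpowers, hj]
  have hZN : Z ≤ N.map π := by rw [hZ, Subgroup.zpowers_le]; exact hzN
  refine ⟨Z.comap π, hZn.comap π, ?_, ?_, ?_⟩
  · exact hker.symm.le.trans (Subgroup.ker_le_comap π Z)
  · calc Z.comap π ≤ (N.map π).comap π := Subgroup.comap_mono hZN
      _ = N := by rw [Subgroup.comap_map_eq, hker, sup_eq_left.mpr hKN.le]
  · have h1 : (Z.comap π).index = Z.index := Subgroup.index_comap_of_surjective Z hπs
    have h2 : Nat.card (Z.comap π) * (Z.comap π).index = Nat.card P := Subgroup.card_mul_index _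
    have h3 : Nat.card Z * Z.index = Nat.card (P ⧸ K) := Subgroup.card_mul_index _
    have h4 : Nat.card P = Nat.card (P ⧸ K) * Nat.card K :=
      Subgroup.card_eq_card_quotient_mul_card_subgroup K
    have h5 : Z.index ≠ 0 := Subgroup.index_ne_zero_of_finite
    rw [h1, h4, ← h3, hZcard] at h2
    have : Nat.card (Z.comap π) * Z.index = (p * Nat.card K) * Z.index := by rw [h2]; ring
    exact Nat.eq_of_mul_eq_mul_right (Nat.pos_of_ne_zero h5) this

theorem CHAIN_aux_ind {P : Type*} [Group P] [Finite P] {p : ℕ} [Fact p.Prime] (hP : IsPGroup p P)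
    (N : Subgroup P) [N.Normal] (n : ℕ) (hcard : Nat.card N = p ^ n) (i : ℕ) (hi : i ≤ n) :
    ∃ M : ℕ → Subgroup P, M 0 = ⊥ ∧ (∀ j, (M j).Normal) ∧ (∀ j, M j ≤ N) ∧
      (∀ j, j ≤ i → Nat.card (M j) = p ^ j) ∧ ∀ j, j < i → M j ≤ M (j + 1) := by
  classical
  have hp : 1 < p := (Fact.out : p.Prime).one_lt
  induction i with
  | zero =>
    refine ⟨fun _ => ⊥, rfl, fun _ => inferInstance, fun _ => bot_le, ?_, ?_⟩
    · intro j hj
      have : j = 0 := by omega
      subst this
      simp
    · intro j hj; omega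
  | succ i ih =>
    obtain ⟨M, hM0, hMn, hMN, hMc, hMch⟩ := ih (by omega)
    have hKc : Nat.card (M i) = p ^ i := hMc i le_rfl
    have hlt : M i < N := by
      refine lt_of_le_of_ne (hMN i) ?_
      intro h
      rw [h, hcard] at hKc
      have := Nat.pow_right_injective hp hKc
      omega
    have := hMn i
    obtain ⟨K', hK'n, hKK', hK'N, hK'c⟩ := CHAIN_aux_up hP N (M i) hlt
    refine ⟨fun j => if j ≤ i then M j else K', ?_, ?_, ?_, ?_, ?_⟩
    · simp [hM0]
    · intro j
      by_cases hj : j ≤ i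
      · simp only [if_pos hj]; exact hMn j
      · simp only [if_neg hj]; exact hK'n
    · intro j
      by_cases hj : j ≤ i
      · simp only [if_pos hj]; exact hMN j
      · simp only [if_neg hj]; exact hK'N
    · intro j hj
      by_cases hj' : j ≤ i
      · simp only [if_pos hj']; exact hMc j hj'
      · simp only [if_neg hj']
        have : j = i + 1 := by omega
        rw [hK'c, hKc, this, pow_succ, mul_comm]
    · intro j hj
      by_cases hj' : j < i
      · have h1 : j ≤ i := by omega
        have h2 : j + 1 ≤ i := by omega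
        simp only [if_pos h1, if_pos h2]
        exact hMch j hj'
      · have : j = i := by omega
        subst this
        have h2 : ¬ (j + 1 ≤ j) := by omega
        simp only [if_pos le_rfl, if_neg h2]
        exact hKK'

theorem CHAIN {P : Type*} [Group P] [Finite P] {p : ℕ} [Fact p.Prime] (hP : IsPGroup p P)
    (N : Subgroup P) [N.Normal] (n : ℕ) (hcard : Nat.card N = p ^ n) :
    ∃ M : ℕ → Subgroup P, M 0 = ⊥ ∧ M n = N ∧ (∀ i, (M i).Normal) ∧
      (∀ i, i ≤ n → Nat.card (M i) = p ^ i) ∧ ∀ i, i < n → M i ≤ M (i + 1) := by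
  obtain ⟨M, hM0, hMn, hMN, hMc, hMch⟩ := CHAIN_aux_ind hP N n hcard n le_rfl
  refine ⟨M, hM0, ?_, hMn, hMc, hMch⟩
  exact Subgroup.eq_of_le_of_card_ge (hMN n) (by rw [hMc n le_rfl, hcard])

end Cfsg.Agent.S4057P
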