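import Mathlib
import Cfsg.Prelude.Def_GeometricClasses
import Cfsg.Agent.Helper2.QuadExt

/-!
# Quadratic field subalgebras of matrix algebras (for S5969)

`K = F[ω]` with `ω² = p + tω`; membership in the normaliser of `K`.
-/

set_option autoImplicit false

namespace Cfsg.Agent.Helper2.FSub

open Module Matrix

variable {F : Type*} [Field F] {n : ℕ}

/-- `K = F[ω]` with `ω² = p + tω`, an irreducible quadratic -/
structure Gen (K : Subalgebra F (Matrix (Fin n) (Fin n) F)) (ω : Matrix (Fin n) (Fin n) F)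
    (p t : F) : Prop where
  mem : ω ∈ K
  nonscalar : ∀ c : F, ω ≠ c • (1 : Matrix (Fin n) (Fin n) F)
  sq : ω * ω = p • (1 : Matrix (Fin n) (Fin n) F) + t • ω
  span : ∀ k ∈ K, ∃ a b : F, k = a • (1 : Matrix (Fin n) (Fin n) F) + b • ω
  irred : ∀ r : F, r * r - t * r - p ≠ 0
  nzd : ∀ x ∈ K, ∀ y ∈ K, x * y = 0 → x = 0 ∨ y = 0
  comm : ∀ x ∈ K, ∀ y ∈ K, x * y = y * x
  inv : ∀ x ∈ K, x ≠ 0 → ∃ y ∈ K, x * y = 1

theorem smul_one_eq_zero (hn : 1 ≤ n) (s : F) (hs : s • (1 : Matrix (Fin n) (Fin n) F) = 0) :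
    s = 0 := by
  have h := congrFun (congrFun hs ⟨0, by omega⟩) ⟨0, by omega⟩
  simpa using h

theorem conj_mul {A B X Y : Matrix (Fin n) (Fin n) F} (h : B * A = 1) :
    (A * X * B) * (A * Y * B) = A * (X * Y) * B := by
  calc (A * X * B) * (A * Y * B) = A * X * (B * A) * Y * B := by simp only [Matrix.mul_assoc]
    _ = A * (X * Y) * B := by rw [h, Matrix.mul_one]; simp only [Matrix.mul_assoc]

theorem exists_gen (hn : 1 ≤ n) (K : Subalgebra F (Matrix (Fin n) (Fin n) F))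
    (hK : Cfsg.Geo.IsFieldSubalgebra 2 K) : ∃ ω p t, Gen K ω p t := by
  classical
  have hone : ∀ s : F, s • (1 : Matrix (Fin n) (Fin n) F) = 0 → s = 0 := smul_one_eq_zero hn
  have h1ne : (1 : Matrix (Fin n) (Fin n) F) ≠ 0 := by
    intro h
    have := hone 1 (by rw [one_smul, h])
    exact one_ne_zero this
  -- a nonscalar element
  have hex : ∃ ω ∈ K, ∀ c : F, ω ≠ c • (1 : Matrix (Fin n) (Fin n) F) := by
    by_contra hcon
    push Not at hcon
    have hle : Subalgebra.toSubmodule K ≤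
        Submodule.span F {(1 : Matrix (Fin n) (Fin n) F)} := by
      intro k hk
      obtain ⟨c, hc⟩ := hcon k hk
      rw [hc]
      exact Submodule.smul_mem _ _ (Submodule.subset_span (Set.mem_singleton _))
    have h1 : finrank F (Subalgebra.toSubmodule K) ≤
        finrank F (Submodule.span F {(1 : Matrix (Fin n) (Fin n) F)}) :=
      Submodule.finrank_mono hle
    rw [finrank_span_singleton h1ne, Subalgebra.finrank_toSubmodule, hK.finrank_eq] at h1
    omega
  obtain ⟨ω, hωK, hω⟩ := hex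
  obtain ⟨φ, hφ⟩ : ∃ φ : F × F →ₗ[F] K, ∀ ab : F × F,
      ((φ ab : K) : Matrix (Fin n) (Fin n) F) =
        ab.1 • (1 : Matrix (Fin n) (Fin n) F) + ab.2 • ω :=
    ⟨{ toFun := fun ab => ⟨ab.1 • 1 + ab.2 • ω,
          K.add_mem (K.smul_mem K.one_mem _) (K.smul_mem hωK _)⟩
       map_add' := fun x y => by
         apply Subtype.ext
         show (x + y).1 • (1 : Matrix (Fin n) (Fin n) F) + (x + y).2 • ω =
           (x.1 • 1 + x.2 • ω) + (y.1 • 1 + y.2 • ω)
         rw [Prod.fst_add, Prod.snd_add, add_smul, add_smul]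
         abel
       map_smul' := fun c x => by
         apply Subtype.ext
         show (c • x).1 • (1 : Matrix (Fin n) (Fin n) F) + (c • x).2 • ω =
           c • (x.1 • 1 + x.2 • ω)
         rw [Prod.smul_fst, Prod.smul_snd, smul_eq_mul, smul_eq_mul, mul_smul, mul_smul,
           smul_add] }, fun _ => rfl⟩
  have hinj : Function.Injective φ := by
    rw [← LinearMap.ker_eq_bot, LinearMap.ker_eq_bot']
    intro ab hab
    have h1 : ab.1 • (1 : Matrix (Fin n) (Fin n) F) + ab.2 • ω = 0 := by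
      rw [← hφ, hab]; rfl
    have h2 : ab.2 = 0 := by
      by_contra hb
      apply hω (-(ab.2)⁻¹ * ab.1)
      have h3 : ab.2 • ω = -(ab.1 • (1 : Matrix (Fin n) (Fin n) F)) :=
        eq_neg_of_add_eq_zero_right h1
      calc ω = (ab.2)⁻¹ • (ab.2 • ω) := by rw [smul_smul, inv_mul_cancel₀ hb, one_smul]
        _ = (-(ab.2)⁻¹ * ab.1) • (1 : Matrix (Fin n) (Fin n) F) := by
            rw [h3, smul_neg, smul_smul, neg_mul, neg_smul]
    have h3 : ab.1 = 0 := by
      rw [h2, zero_smul, add_zero] at h1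
      exact hone _ h1
    exact Prod.ext h3 h2
  have hfr : finrank F (F × F) = finrank F K := by
    rw [hK.finrank_eq, Module.finrank_prod, Module.finrank_self]
  have hsurj : Function.Surjective φ :=
    (LinearMap.injective_iff_surjective_of_finrank_eq_finrank hfr).mp hinj
  have hspan : ∀ k ∈ K, ∃ a b : F, k = a • (1 : Matrix (Fin n) (Fin n) F) + b • ω := by
    intro k hk
    obtain ⟨ab, hab⟩ := hsurj ⟨k, hk⟩
    refine ⟨ab.1, ab.2, ?_⟩
    rw [← hφ, hab]
  obtain ⟨p, t, hpt⟩ := hspan (ω * ω) (K.mul_mem hωK hωK)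
  have hnzd : ∀ x ∈ K, ∀ y ∈ K, x * y = 0 → x = 0 ∨ y = 0 := by
    intro x hx y hy hxy
    by_cases hx0 : x = 0
    · exact Or.inl hx0
    · right
      obtain ⟨x', hx', hxx'⟩ := hK.inv x hx hx0
      have h1 : x' * x = 1 := by rw [hK.comm x' hx' x hx, hxx']
      calc y = (x' * x) * y := by rw [h1, Matrix.one_mul]
        _ = 0 := by rw [Matrix.mul_assoc, hxy, Matrix.mul_zero]
  refine ⟨ω, p, t, hωK, hω, hpt, hspan, ?_, hnzd, hK.comm, hK.inv⟩
  intro r hr
  have hp : p = r * r - t * r := by linear_combination -hr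
  have h1 : (ω - r • (1 : Matrix (Fin n) (Fin n) F)) *
      (ω - (t - r) • (1 : Matrix (Fin n) (Fin n) F)) = 0 := by
    simp only [sub_mul, mul_sub, Matrix.smul_mul, Matrix.mul_smul, Matrix.one_mul,
      Matrix.mul_one]
    rw [hpt, hp]
    module
  rcases hnzd _ (K.sub_mem hωK (K.smul_mem K.one_mem r)) _
    (K.sub_mem hωK (K.smul_mem K.one_mem (t - r))) h1 with h | h
  · exact hω r (sub_eq_zero.mp h)
  · exact hω (t - r) (sub_eq_zero.mp h)

section gen

variable {K : Subalgebra F (Matrix (Fin n) (Fin n) F)} {ω : Matrix (Fin n) (Fin n) F} {p t : F}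

theorem Gen.root_cases (hG : Gen K ω p t) {ω' : Matrix (Fin n) (Fin n) F} (h' : ω' ∈ K)
    (hsq : ω' * ω' = p • (1 : Matrix (Fin n) (Fin n) F) + t • ω') :
    ω' = ω ∨ ω' = t • (1 : Matrix (Fin n) (Fin n) F) - ω := by
  have hcomm : ω' * ω = ω * ω' := hG.comm ω' h' ω hG.mem
  have key : (ω' - ω) * (ω' - (t • (1 : Matrix (Fin n) (Fin n) F) - ω)) = 0 := by
    simp only [sub_mul, mul_sub, Matrix.mul_smul, Matrix.mul_one]
    rw [hsq, hG.sq, hcomm]
    module
  rcases hG.nzd _ (K.sub_mem h' hG.mem) _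
    (K.sub_mem h' (K.sub_mem (K.smul_mem K.one_mem t) hG.mem)) key with h | h
  · left; exact sub_eq_zero.mp h
  · right; exact sub_eq_zero.mp h

theorem Gen.mem_normalizer (hG : Gen K ω p t) (g : GL (Fin n) F)
    (h : (g : Matrix (Fin n) (Fin n) F) * ω = ω * (g : Matrix (Fin n) (Fin n) F) ∨
      (g : Matrix (Fin n) (Fin n) F) * ω =
        (t • (1 : Matrix (Fin n) (Fin n) F) - ω) * (g : Matrix (Fin n) (Fin n) F)) :
    g ∈ Cfsg.Geo.subalgebraNormalizer K := by
  obtain ⟨Gm, hGm⟩ : ∃ Gm : Matrix (Fin n) (Fin n) F, Gm = (g : Matrix (Fin n) (Fin n) F) :=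
    ⟨_, rfl⟩
  obtain ⟨Gi, hGi⟩ : ∃ Gi : Matrix (Fin n) (Fin n) F,
      Gi = ((g⁻¹ : GL (Fin n) F) : Matrix (Fin n) (Fin n) F) := ⟨_, rfl⟩
  have h1 : Gm * Gi = 1 := by rw [hGm, hGi, ← Units.val_mul, mul_inv_cancel, Units.val_one]
  have h2 : Gi * Gm = 1 := by rw [hGm, hGi, ← Units.val_mul, inv_mul_cancel, Units.val_one]
  rw [← hGm] at h
  have hfw : Gm * ω * Gi ∈ K ∧ Gi * ω * Gm ∈ K := by
    rcases h with h | h
    · constructor
      · rw [h, Matrix.mul_assoc, h1, Matrix.mul_one]; exact hG.mem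
      · rw [Matrix.mul_assoc, ← h, ← Matrix.mul_assoc, h2, Matrix.one_mul]; exact hG.mem
    · constructor
      · rw [h, Matrix.mul_assoc, h1, Matrix.mul_one]
        exact K.sub_mem (K.smul_mem K.one_mem t) hG.mem
      · have h3 : ω * Gm = Gm * (t • (1 : Matrix (Fin n) (Fin n) F) - ω) := by
          rw [Matrix.mul_sub, h, Matrix.sub_mul, Matrix.mul_smul, Matrix.smul_mul,
            Matrix.mul_one, Matrix.one_mul]
          abel
        rw [Matrix.mul_assoc, h3, ← Matrix.mul_assoc, h2, Matrix.one_mul]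
        exact K.sub_mem (K.smul_mem K.one_mem t) hG.mem
  change ∀ k : Matrix (Fin n) (Fin n) F, k ∈ K ↔
    (g : Matrix (Fin n) (Fin n) F) * k * ((g⁻¹ : GL (Fin n) F) : Matrix (Fin n) (Fin n) F) ∈ K
  rw [← hGm, ← hGi]
  intro k
  constructor
  · intro hk
    obtain ⟨a, b, rfl⟩ := hG.span k hk
    have h3 : Gm * (a • (1 : Matrix (Fin n) (Fin n) F) + b • ω) * Gi =
        a • (1 : Matrix (Fin n) (Fin n) F) + b • (Gm * ω * Gi) := by
      rw [Matrix.mul_add, Matrix.add_mul, Matrix.mul_smul, Matrix.mul_smul, Matrix.smul_mul,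
        Matrix.smul_mul, Matrix.mul_one, h1]
    rw [h3]
    exact K.add_mem (K.smul_mem K.one_mem a) (K.smul_mem hfw.1 b)
  · intro hk
    obtain ⟨a, b, hab⟩ := hG.span _ hk
    have h4 : k = a • (1 : Matrix (Fin n) (Fin n) F) + b • (Gi * ω * Gm) := by
      have h3 : k = Gi * (Gm * k * Gi) * Gm := by
        rw [Matrix.mul_assoc Gm k Gi, ← Matrix.mul_assoc Gi Gm, h2, Matrix.one_mul,
          Matrix.mul_assoc, h2, Matrix.mul_one]
      rw [h3, hab, Matrix.mul_add, Matrix.add_mul, Matrix.mul_smul, Matrix.mul_smul,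
        Matrix.smul_mul, Matrix.smul_mul, Matrix.mul_one, h2]
    rw [h4]
    exact K.add_mem (K.smul_mem K.one_mem a) (K.smul_mem hfw.2 b)

theorem Gen.sep [Fintype F] (hG : Gen K ω p t) (hn : 1 ≤ n) :
    ω ≠ t • (1 : Matrix (Fin n) (Fin n) F) - ω := by
  intro h
  have e : ω + ω = t • (1 : Matrix (Fin n) (Fin n) F) := by
    calc ω + ω = (t • (1 : Matrix (Fin n) (Fin n) F) - ω) + ω := by rw [← h]
      _ = t • (1 : Matrix (Fin n) (Fin n) F) := by abel
  rw [← two_smul F ω] at e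
  by_cases h2 : (2 : F) = 0
  · rw [h2, zero_smul] at e
    have ht : t = 0 := smul_one_eq_zero hn t e.symm
    have hchar : ringChar F = 2 :=
      CharP.ringChar_of_prime_eq_zero Nat.prime_two (by exact_mod_cast h2)
    obtain ⟨r, hr⟩ := FiniteField.isSquare_of_char_two hchar p
    apply hG.irred r
    rw [ht, hr]; ring
  · apply hG.nonscalar (2⁻¹ * t)
    calc ω = (2 : F)⁻¹ • ((2 : F) • ω) := by rw [smul_smul, inv_mul_cancel₀ h2, one_smul]
      _ = (2⁻¹ * t) • (1 : Matrix (Fin n) (Fin n) F) := by rw [e, smul_smul]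

theorem Gen.norm_surj [Fintype F] (hG : Gen K ω p t) {c : F} (hc : c ≠ 0) :
    ∃ a b : F, a * a + t * a * b - p * b * b = c := by
  have hirr' : ∀ r : F, r ^ 2 - t * r + (-p) ≠ 0 := by
    intro r hr
    apply hG.irred r
    linear_combination hr
  have h := Cfsg.Agent.Helper2.QExt.card_norm_eq' (q := Fintype.card F) rfl hirr' hc
  have hpos : 0 < Nat.card {p' : F × F // p'.1 ^ 2 + t * p'.1 * p'.2 + (-p) * p'.2 ^ 2 = c} := by
    rw [h]; omega
  obtain ⟨⟨ab, hab⟩⟩ := (Nat.card_pos_iff.mp hpos).1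
  exact ⟨ab.1, ab.2, by linear_combination hab⟩

end gen

theorem exists_sl_conj (S : Subgroup (GL (Fin n) F)) (x : Matrix.SpecialLinearGroup (Fin n) F)
    (Pg : GL (Fin n) F) (hdet : (Pg : Matrix (Fin n) (Fin n) F).det = 1)
    (h : Pg⁻¹ * Matrix.SpecialLinearGroup.toGL x * Pg ∈ S) :
    ∃ P : Matrix.SpecialLinearGroup (Fin n) F, P⁻¹ * x * P ∈
      S.comap (Matrix.SpecialLinearGroup.toGL :
        Matrix.SpecialLinearGroup (Fin n) F →* GL (Fin n) F) := by
  obtain ⟨P, hP⟩ : ∃ P : Matrix.SpecialLinearGroup (Fin n) F,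
      P = ⟨(Pg : Matrix (Fin n) (Fin n) F), hdet⟩ := ⟨_, rfl⟩
  refine ⟨P, ?_⟩
  have h1 : Matrix.SpecialLinearGroup.toGL P = Pg := by
    apply Units.ext
    rw [hP]
    rfl
  rw [Subgroup.mem_comap, map_mul, map_mul, map_inv, h1]
  exact h

end Cfsg.Agent.Helper2.FSub
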