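import Mathlib
import Cfsg.Agent.Helper27.Suz2Defs
import Cfsg.Agent.Helper18.Suz2F3
import Cfsg.Agent.Helper20.SUZ2F5
import Cfsg.Agent.Helper27.SUZ2F6
import Cfsg.Agent.Helper8.SUZ2F6INJ

/-!
# SUZ2 board, piece X72 (blueprint 7.2): `X ∩ C = Z`, `XC / C` is a line, and F6 for `X`.
-/

set_option autoImplicit false

namespace Cfsg.Agent.SUZ2P

open Cfsg.Agent.Helper17.Suz2

universe u v

variable {K : Type v} {P : Type u} [Group K] [Group P] [MulDistribMulAction K P]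

/-- the join of two `K`-invariant subgroups is `K`-invariant -/
theorem X72_aux_sup {A B : Subgroup P} (hA : KInv K A) (hB : KInv K B) : KInv K (A ⊔ B) := by
  intro k x hx
  have hmap : (A ⊔ B).map (MulDistribMulAction.toMonoidHom P k) ≤ A ⊔ B := by
    rw [Subgroup.map_sup]
    refine sup_le_sup ?_ ?_
    · rintro _ ⟨a, ha, rfl⟩
      exact hA k a ha
    · rintro _ ⟨b, hb, rfl⟩
      exact hB k b hb
  exact hmap ⟨x, hx, rfl⟩

/-- the meet of two `K`-invariant subgroups is `K`-invariant -/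
theorem X72_aux_inf {A B : Subgroup P} (hA : KInv K A) (hB : KInv K B) : KInv K (A ⊓ B) :=
  fun k x hx => ⟨hA k x hx.1, hB k x hx.2⟩

theorem X72_aux_meet (h : MinCE K P) {X : Subgroup P} (hX : XHyp K X) :
    X ⊓ CT P = Om P := by
  apply le_antisymm
  · rintro x ⟨hxX, hxC⟩
    have hxT : x ∈ Z2 P := F5i h hxC (hX.sq x hxX)
    rw [← hX.meet]
    exact ⟨hxX, hxT⟩
  · exact le_inf hX.kmin.lt.le (Om_le_Z2.trans (Z2_le_CT h))

theorem X72 (h : MinCE K P) {X : Subgroup P} (hX : XHyp K X) :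
    X ⊓ CT P = Om P ∧ KMin K (CT P) (X ⊔ CT P) := by
  have hmeet := X72_aux_meet h hX
  refine ⟨hmeet, ?_⟩
  have hCn : (CT P).Normal := CT_normal
  have hOmC : Om P ≤ CT P := Om_le_Z2.trans (Z2_le_CT h)
  refine ⟨CT_inv, X72_aux_sup hX.kmin.invA CT_inv, ?_, ?_⟩
  · refine lt_of_le_of_ne le_sup_right ?_
    intro heq
    have hXC : X ≤ CT P := by rw [heq]; exact le_sup_left
    have : X ≤ Om P := by rw [← hmeet]; exact le_inf le_rfl hXC
    exact (not_le_of_gt hX.kmin.lt) this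
  · intro D hD hCD hDXC
    have hDX : KInv K (D ⊓ X) := X72_aux_inf hD hX.kmin.invA
    have hOmDX : Om P ≤ D ⊓ X := le_inf (hOmC.trans hCD) hX.kmin.lt.le
    -- Dedekind
    have hded : D = (D ⊓ X) ⊔ CT P := by
      apply le_antisymm
      · intro d hd
        have hd' : d ∈ X ⊔ CT P := hDXC hd
        rw [← SetLike.mem_coe, Subgroup.mul_normal X (CT P)] at hd'
        obtain ⟨x, hx, c, hc, rfl⟩ := hd'
        have hxD : x ∈ D := by
          have := D.mul_mem hd (D.inv_mem (hCD hc))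
          simpa using this
        exact Subgroup.mul_mem _ (Subgroup.mem_sup_left ⟨hxD, hx⟩) (Subgroup.mem_sup_right hc)
      · exact sup_le inf_le_left hCD
    rcases hX.kmin.min (D ⊓ X) hDX hOmDX inf_le_right with h1 | h1
    · left
      rw [hded, h1, sup_eq_right.mpr hOmC]
    · right
      apply le_antisymm hDXC
      have hXD : X ≤ D := by rw [← h1]; exact inf_le_left
      exact sup_le hXD hCD

theorem X72m (h : MinCE K P) {X : Subgroup P} (hX : XHyp K X) {x : P} (hx : x ∈ X)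
    (hxZ : x ∉ Om P) : (∀ t ∈ Z2 P, cm t x = 1 → t ∈ Om P) ∧ ∃ m : P, IsFix x m := by
  have hxC : x ∉ CT P := by
    intro hxC
    apply hxZ
    rw [← X72_aux_meet h hX]
    exact ⟨hx, hxC⟩
  exact F6 h (X72 h hX).2 (Subgroup.mem_sup_left hx) hxC

theorem X72inj (h : MinCE K P) {X : Subgroup P} (hX : XHyp K X) {x x' : P} (hx : x ∈ X)
    (hxZ : x ∉ Om P) (hx' : x' ∈ X) (hx'Z : x' ∉ Om P) {m : P} (hm : IsFix x m)
    (hm' : IsFix x' m) : x⁻¹ * x' ∈ Om P := by
  have hmeet := X72_aux_meet h hX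
  have hxC : x ∉ CT P := fun hxC => hxZ (hmeet ▸ (⟨hx, hxC⟩ : x ∈ X ⊓ CT P))
  have hx'C : x' ∉ CT P := fun hxC => hx'Z (hmeet ▸ (⟨hx', hxC⟩ : x' ∈ X ⊓ CT P))
  have := F6inj h (X72 h hX).2 (Subgroup.mem_sup_left hx) hxC (Subgroup.mem_sup_left hx') hx'C
    hm hm'
  rw [← hmeet]
  exact ⟨X.mul_mem (X.inv_mem hx) hx', this⟩

end Cfsg.Agent.SUZ2P
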