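import Mathlib

set_option autoImplicit false

/-! S0679 chapter (5), piece 5-FAITH (helper2; designer helper19). -/

namespace Cfsg.Agent.S0679F

open Equiv

variable {α : Type*} [Fintype α] [DecidableEq α]

/-- (5-FAITH) an element of `G` with at most 5 moved points is trivial. -/
theorem FAITH (hα : Fintype.card α = 11) (G : Subgroup (Perm α))
    (hsh : ∀ h ∈ G, h ∈ alternatingGroup α → h ≠ 1 → 8 ≤ h.support.card)
    (hsw : ∀ g ∈ G, ¬ g.IsSwap) {g : Perm α} (hg : g ∈ G) (hfix : g.support.card ≤ 5) : g = 1 := by
  by_contra hne
  by_cases hev : g ∈ alternatingGroup α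
  · have := hsh g hg hev hne
    omega
  · -- `g` is odd
    have hsign : Perm.sign g = -1 := by
      rcases Int.units_eq_one_or (Perm.sign g) with h | h
      · exact absurd (Perm.mem_alternatingGroup.mpr h) hev
      · exact h
    -- `g * g = 1`
    have hgg : g * g = 1 := by
      by_contra h2
      have h2ev : g * g ∈ alternatingGroup α := by
        rw [Perm.mem_alternatingGroup, map_mul, hsign]
        norm_num
      have h8 := hsh (g * g) (G.mul_mem hg hg) h2ev h2
      have hsub : (g * g).support ⊆ g.support := by
        have := Perm.support_mul_le g g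
        simpa using this
      have := Finset.card_le_card hsub
      omega
    have hord : orderOf g = 2 := orderOf_eq_prime (by rw [pow_two]; exact hgg) hne
    have hpr : (orderOf g).Prime := by rw [hord]; exact Nat.prime_two
    obtain ⟨n, hn⟩ := Perm.cycleType_prime_order hpr
    rw [hord] at hn
    have hsum : g.cycleType.sum = g.support.card := Perm.sum_cycleType g
    rw [hn, Multiset.sum_replicate, smul_eq_mul] at hsum
    have hn2 : n = 0 ∨ n = 1 := by omega
    rcases hn2 with rfl | rfl
    · -- a swap
      have hc : g.support.card = 2 := by omega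
      exact hsw g hg (Perm.card_support_eq_two.mp hc)
    · -- type 2^2: even
      have hs := Perm.sign_of_cycleType g
      rw [hn, hsign] at hs
      simp at hs
      have h6 : ((-1 : ℤˣ)) ^ 6 = 1 := by decide
      rw [h6] at hs
      exact absurd hs (by decide)

end Cfsg.Agent.S0679F
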