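import Mathlib
import Cfsg.Agent.Helper5.VL.Defs
import Cfsg.Agent.Helper2.VLPTWO

set_option autoImplicit false
set_option linter.style.haveILetI false
set_option linter.unusedSectionVars false
set_option linter.unusedVariables false

namespace Cfsg.Agent.Helper5.VL

open Subgroup
open scoped commutatorElement

universe u
variable {p : ℕ} [Fact p.Prime] {G : Type u} [Group G] [Finite G]

/-- a functional is determined on `ker φ ⊔ ⟨x⟩` ... : if `φ x ≠ 1` then `ker φ ⊔ ⟨x⟩ = ⊤`. -/
theorem Zs_card_aux_sup_top {φ : Fn p G} {x : G} (hx : φ x ≠ 1) : φ.ker ⊔ zpowers x = ⊤ := by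
  rw [eq_top_iff]
  intro g _
  -- φ g is a power of φ x
  have hcard : Nat.card (Multiplicative (ZMod p)) = p := by
    rw [Nat.card_eq_fintype_card, Fintype.card_multiplicative, ZMod.card]
  have hz : zpowers (φ x) = ⊤ := zpowers_eq_top_of_prime_card hcard hx
  have : φ g ∈ zpowers (φ x) := by rw [hz]; exact mem_top _
  obtain ⟨n, hn⟩ := this
  have hk : g * (x ^ n)⁻¹ ∈ φ.ker := by
    rw [MonoidHom.mem_ker, map_mul, map_inv, map_zpow]
    simp only at hn
    rw [hn]; exact mul_inv_cancel _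
  have : g = (g * (x ^ n)⁻¹) * x ^ n := by group
  rw [this]
  exact mul_mem (le_sup_left (a := φ.ker) hk)
    (le_sup_right (a := φ.ker) (zpow_mem (mem_zpowers x) n))

/-- ZCARD (F1) -/
theorem Zs_card {φ : Fn p G} (hφ : φ ≠ 1) :
    Nat.card (commutator G) * Nat.card (Zs φ) = der φ.ker * Nat.card φ.ker := by
  obtain ⟨x, hx⟩ : ∃ x : G, φ x ≠ 1 := by
    by_contra h
    apply hφ
    ext g
    by_contra hg
    exact h ⟨g, fun h1 => hg (by rw [h1]; rfl)⟩
  have hxK : x ∉ φ.ker := fun h => hx (MonoidHom.mem_ker.mp h)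
  have hxp : x ^ p ∈ φ.ker := by
    rw [MonoidHom.mem_ker, map_pow]
    have hcard : Nat.card (Multiplicative (ZMod p)) = p := by
      rw [Nat.card_eq_fintype_card, Fintype.card_multiplicative, ZMod.card]
    have := pow_card_eq_one' (G := Multiplicative (ZMod p)) (x := φ x)
    rwa [hcard] at this
  have h1 := ptwo (p := p) φ.ker x hxK hxp
  have htop : φ.ker ⊔ zpowers x = ⊤ := Zs_card_aux_sup_top hx
  rw [htop, der_top] at h1
  rw [← h1]
  congr 1
  -- the set equals Zs φ
  refine Nat.card_congr (Equiv.subtypeEquivRight fun k => ?_)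
  rw [mem_Zs]
  constructor
  · rintro ⟨hk, hall⟩
    exact ⟨hk, hall x⟩
  · rintro ⟨hk, hkx⟩
    refine ⟨hk, fun g => ?_⟩
    have hN : normalizer ((⁅φ.ker, φ.ker⁆ : Subgroup G) : Set G) = ⊤ := normalizer_eq_top _
    have hle : φ.ker ⊔ zpowers x ≤ ptwo_aux_D (⁅φ.ker, φ.ker⁆ : Subgroup G) k := by
      refine sup_le ?_ ?_
      · intro a ha
        exact ⟨by rw [hN]; exact mem_top _, Subgroup.commutator_mem_commutator hk ha⟩
      · rw [zpowers_le]
        exact ⟨by rw [hN]; exact mem_top _, hkx⟩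
    have : g ∈ φ.ker ⊔ zpowers x := by rw [htop]; exact mem_top _
    exact (hle this).2

end Cfsg.Agent.Helper5.VL
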