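import Mathlib
import Cfsg.Agent.Helper2.BN.Simple
import Cfsg.Agent.Helper6.Chev.TablesBN
import Cfsg.Agent.S1029
import Cfsg.Agent.S1051
import Cfsg.Agent.S1052

set_option autoImplicit false
set_option linter.unusedSectionVars false
set_option linter.unusedSimpArgs false
set_option linter.unusedVariables false

/-! Simplicity of the tabulated Chevalley groups, from the `(B, N)`-pair (helper6), perfectness,
triviality of the core of `B`, solvability of `B`, and Tits' criterion. -/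

namespace Cfsg.Agent.Helper2.ChevSimple

open Cfsg.Lie Cfsg.Agent.Helper6

variable {D : ChevalleyDatum} {F : Type*} [Field F]

/-- adjacency in the Dynkin diagram, read off the reflections -/
def Adj (D : ChevalleyDatum) (i j : ℕ) : Prop :=
  wR D (D.simple i) (D.neg (D.simple j)) ≠ wR D (D.simple j) (wR D (D.simple i) (D.simple j))

instance (D : ChevalleyDatum) (i j : ℕ) : Decidable (Adj D i j) := by unfold Adj; infer_instance

theorem torMat_mulVec_ev (c : ℕ → F) (u : ℕ) :
    (torMat D F c).mulVec (ev D F u) = torChar D c u • ev D F u := by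
  unfold torMat
  exact dMat_mulVec_ev _ _ _

/-- for adjacent fundamental roots the commutator of `n_i` and `n_j` is not in `B` -/
theorem comm_not_mem_borel (Δ : BNData D F) {i j : ℕ} (hi : i < D.rank) (hj : j < D.rank)
    (hadj : Adj D i j) :
    nU Δ.hB (D.simple i) (one_ne_zero (α := F)) * nU Δ.hB (D.simple j) (one_ne_zero (α := F)) *
      (nU Δ.hB (D.simple i) (one_ne_zero (α := F)))⁻¹ *
        (nU Δ.hB (D.simple j) (one_ne_zero (α := F)))⁻¹ ∉ D.borelSubgroup F := by
  intro hmem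
  have hAi := Δ.hAll i hi
  have hAj := Δ.hAll j hj
  have hpi := hAi.hS.1
  have hpj := hAj.hS.1
  obtain ⟨a, ha⟩ : ∃ a, a = nU Δ.hB (D.simple i) (one_ne_zero (α := F)) := ⟨_, rfl⟩
  obtain ⟨b, hb⟩ : ∃ b, b = nU Δ.hB (D.simple j) (one_ne_zero (α := F)) := ⟨_, rfl⟩
  rw [← ha, ← hb] at hmem
  have haN : a ∈ D.monomialSubgroup F := by rw [ha]; exact nU_one_mem_monomial Δ.hB hpi
  have hbN : b ∈ D.monomialSubgroup F := by rw [hb]; exact nU_one_mem_monomial Δ.hB hpj
  obtain ⟨g, hg⟩ : ∃ g, g = a * b * a⁻¹ * b⁻¹ := ⟨_, rfl⟩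
  rw [← hg] at hmem
  have hN : g ∈ D.monomialSubgroup F := by
    rw [hg]
    exact Subgroup.mul_mem _ (Subgroup.mul_mem _ (Subgroup.mul_mem _ haN hbN)
      (Subgroup.inv_mem _ haN)) (Subgroup.inv_mem _ hbN)
  have hH : g ∈ D.diagonalSubgroup F := by rw [← Δ.inf_eq]; exact ⟨hmem, hN⟩
  obtain ⟨c, hc, hv⟩ := exists_torMat_of_mem_diagonal Δ.hB Δ.hH hH
  have hab : a * b = g * (b * a) := by rw [hg]; group
  have e : D.nMat F (D.simple i) 1 * D.nMat F (D.simple j) 1 =
      torMat D F c * (D.nMat F (D.simple j) 1 * D.nMat F (D.simple i) 1) := by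
    have h2 : (a : Matrix D.Idx D.Idx F) * (b : Matrix D.Idx D.Idx F) =
        (g : Matrix D.Idx D.Idx F) * ((b : Matrix D.Idx D.Idx F) * (a : Matrix D.Idx D.Idx F)) := by
      rw [← Units.val_mul, ← Units.val_mul, ← Units.val_mul, hab]
    rw [hv, ha, hb, nU_val, nU_val] at h2
    exact h2
  have hwjj : wR D (D.simple j) (D.simple j) = D.neg (D.simple j) := by
    unfold wR; rw [if_pos rfl]
  have hnj := (Δ.hB.neg _ hpj).1
  have hw1 : wR D (D.simple i) (D.neg (D.simple j)) < D.nroots := wR_lt Δ.hB hpi hAi.hR hnj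
  have hw2 : wR D (D.simple i) (D.simple j) < D.nroots := wR_lt Δ.hB hpi hAi.hR hpj
  have L1 := nMat_one_mulVec_ev_all (F := F) Δ.hB hpj hAj.hR hpj
  rw [hwjj] at L1
  have L2 := nMat_one_mulVec_ev_all (F := F) Δ.hB hpi hAi.hR hnj
  have R1 := nMat_one_mulVec_ev_all (F := F) Δ.hB hpi hAi.hR hpj
  have R2 := nMat_one_mulVec_ev_all (F := F) Δ.hB hpj hAj.hR hw2
  have e1 := congrArg (fun M => M.mulVec (ev D F (D.simple j))) e
  simp only [← Matrix.mulVec_mulVec] at e1
  rw [L1, R1] at e1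
  simp only [Matrix.mulVec_smul] at e1
  rw [L2, R2] at e1
  simp only [Matrix.mulVec_smul] at e1
  rw [torMat_mulVec_ev] at e1
  have e2 := congrFun e1 (Sum.inr ⟨wR D (D.simple i) (D.neg (D.simple j)), hw1⟩)
  simp only [Pi.smul_apply, ev_apply_inr, if_true, smul_eq_mul, mul_one, if_neg hadj,
    mul_zero] at e2
  have h1 := (hAj.hE.2 _ hpj).1
  have h2 := (hAi.hE.2 _ hnj).1
  rcases h1 with h1 | h1 <;> rcases h2 with h2 | h2 <;> rw [h1, h2] at e2 <;> simp at e2

/-- the connectivity check for the Dynkin diagram: `ord` enumerates the fundamental roots, each one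
after the first being adjacent to an earlier one -/
def connChk (D : ChevalleyDatum) (ord : List ℕ) : Bool :=
  (List.range D.rank).all (fun i => (List.range D.rank).any (fun k => ord.getD k 0 == i)) &&
  (List.range D.rank).all (fun k => decide (ord.getD k 0 < D.rank) &&
    (k == 0 || (List.range k).any (fun m => decide (Adj D (ord.getD k 0) (ord.getD m 0)))))

theorem exists_cross {n : ℕ} {ord : ℕ → ℕ} {adj : ℕ → ℕ → Prop}
    (hsurj : ∀ i < n, ∃ k < n, ord k = i) (hlt : ∀ k < n, ord k < n)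
    (hconn : ∀ k < n, 0 < k → ∃ m < k, adj (ord k) (ord m))
    (J : ℕ → Prop) {i₁ i₂ : ℕ} (h1 : i₁ < n) (h2 : i₂ < n) (hJ1 : J i₁) (hJ2 : ¬ J i₂) :
    ∃ i < n, ∃ j < n, adj i j ∧ ¬ (J i ↔ J j) := by
  by_contra hcon
  have hcon' : ∀ i < n, ∀ j < n, adj i j → (J i ↔ J j) := by
    intro i hi j hj ha
    by_contra hne
    exact hcon ⟨i, hi, j, hj, ha, hne⟩
  have key : ∀ k, k < n → (J (ord k) ↔ J (ord 0)) := by
    intro k
    induction k using Nat.strong_induction_on with
    | _ k ih =>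
      intro hk
      rcases Nat.eq_zero_or_pos k with rfl | hpos
      · exact Iff.rfl
      · obtain ⟨m, hm, ha⟩ := hconn k hk hpos
        have h3 := hcon' (ord k) (hlt k hk) (ord m) (hlt m (lt_trans hm hk)) ha
        exact h3.trans (ih m hm (lt_trans hm hk))
  obtain ⟨k1, hk1, e1⟩ := hsurj i₁ h1
  obtain ⟨k2, hk2, e2⟩ := hsurj i₂ h2
  apply hJ2
  rw [← e2, key k2 hk2, ← key k1 hk1, e1]
  exact hJ1

/-- the fundamental reflection `n_i` as an element of the Chevalley group -/
def nG (Δ : BNData D F) (i : ℕ) (hi : i < D.rank) : ↥(D.group F) :=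
  ⟨nU Δ.hB (D.simple i) (one_ne_zero (α := F)),
    Δ.monomial_le_group (nU_one_mem_monomial Δ.hB (Δ.hAll i hi).hS.1)⟩

theorem nG_mem_S (Δ : BNData D F) (i : ℕ) (hi : i < D.rank) : nG Δ i hi ∈ Δ.bnPair.S :=
  ⟨i, hi, rfl⟩

theorem eq_nG_of_mem_S (Δ : BNData D F) {s : ↥(D.group F)} (hs : s ∈ Δ.bnPair.S) :
    ∃ i, ∃ hi : i < D.rank, s = nG Δ i hi := by
  obtain ⟨i, hi, h⟩ := hs
  exact ⟨i, hi, Subtype.ext (Δ.coe_of_mem_Sset h)⟩

theorem irreducible_of_conn (Δ : BNData D F) {ord : List ℕ} (h : connChk D ord = true) :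
    Δ.bnPair.Irreducible := by
  simp only [connChk, Bool.and_eq_true, List.all_eq_true, List.any_eq_true, List.mem_range,
    beq_iff_eq, decide_eq_true_eq, Bool.or_eq_true] at h
  obtain ⟨hsurj, hrest⟩ := h
  intro J hJS hJne hJc
  obtain ⟨s₁, hs₁⟩ := hJne
  obtain ⟨i₁, hi₁, rfl⟩ := eq_nG_of_mem_S Δ (hJS hs₁)
  obtain ⟨s₂, hs₂S, hs₂J⟩ := hJc
  obtain ⟨i₂, hi₂, rfl⟩ := eq_nG_of_mem_S Δ hs₂S
  obtain ⟨i, hi, j, hj, hadj, hne⟩ := exists_cross (n := D.rank) (ord := fun k => ord.getD k 0)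
    (adj := Adj D) hsurj (fun k hk => (hrest k hk).1)
    (fun k hk hpos => by
      rcases (hrest k hk).2 with h0 | h0
      · omega
      · exact h0)
    (fun i => ∃ hi : i < D.rank, nG Δ i hi ∈ J) hi₁ hi₂ ⟨hi₁, hs₁⟩
    (fun ⟨_, h⟩ => hs₂J h)
  have hnot := comm_not_mem_borel Δ hi hj hadj
  by_cases hJi : ∃ hi : i < D.rank, nG Δ i hi ∈ J
  · obtain ⟨_, hJi⟩ := hJi
    have hJj : nG Δ j hj ∉ J := fun hcon => hne ⟨fun _ => ⟨hj, hcon⟩, fun _ => ⟨hi, hJi⟩⟩
    refine ⟨nG Δ i hi, hJi, nG Δ j hj, ⟨nG_mem_S Δ j hj, hJj⟩, ?_⟩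
    intro hcon
    apply hnot
    have := Subgroup.mem_subgroupOf.1 hcon
    simpa [nG] using this
  · have hJj : nG Δ j hj ∈ J := by
      by_contra hcon
      exact hne ⟨fun h => absurd h hJi, fun ⟨_, h⟩ => absurd h hcon⟩
    have hJi' : nG Δ i hi ∉ J := fun hcon => hJi ⟨hi, hcon⟩
    refine ⟨nG Δ j hj, hJj, nG Δ i hi, ⟨nG_mem_S Δ i hi, hJi'⟩, ?_⟩
    intro hcon
    apply hnot
    have h1 := Subgroup.mem_subgroupOf.1 hcon
    have h2 := Subgroup.inv_mem _ h1
    have e : ∀ a b : GL D.Idx F, (b * a * b⁻¹ * a⁻¹)⁻¹ = a * b * a⁻¹ * b⁻¹ := by intros; group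
    simp only [nG, Subgroup.coe_mul, Subgroup.coe_inv] at h2
    rw [e] at h2
    exact h2

/-- `H` is commutative -/
theorem diagonal_comm (Δ : BNData D F) {g h : GL D.Idx F} (hg : g ∈ D.diagonalSubgroup F)
    (hh : h ∈ D.diagonalSubgroup F) : g * h = h * g := by
  obtain ⟨c, _, hc⟩ := exists_torMat_of_mem_diagonal Δ.hB Δ.hH hg
  obtain ⟨d, _, hd⟩ := exists_torMat_of_mem_diagonal Δ.hB Δ.hH hh
  apply Units.ext
  rw [Units.val_mul, Units.val_mul, hc, hd, torMat_mul, torMat_mul]
  congr 1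
  funext k
  exact mul_comm _ _

/-- `B = UH` is solvable -/
theorem borel_solvable (Δ : BNData D F) (hnil : Group.IsNilpotent ↥(D.posUnipotent F)) :
    Group.IsSolvable ↥(D.borelSubgroup F) := by
  have hnorm : D.borelSubgroup F ≤ Subgroup.normalizer (D.posUnipotent F : Set (GL D.Idx F)) :=
    sup_le Subgroup.le_normalizer (diagonal_le_normalizer_posUnipotent Δ.hB Δ.hAll Δ.hAdd Δ.hH)
  have hUB : D.posUnipotent F ≤ D.borelSubgroup F := le_sup_left
  haveI : ((D.posUnipotent F).subgroupOf (D.borelSubgroup F)).Normal :=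
    Subgroup.normal_subgroupOf_of_le_normalizer hnorm
  haveI : Group.IsSolvable (↥(D.borelSubgroup F) ⧸ (D.posUnipotent F).subgroupOf (D.borelSubgroup F)) := by
    apply Group.isSolvable_of_comm
    -- every coset is represented by an element of `H`
    have hrep : ∀ q : ↥(D.borelSubgroup F) ⧸ (D.posUnipotent F).subgroupOf (D.borelSubgroup F),
        ∃ h : ↥(D.borelSubgroup F), (h : GL D.Idx F) ∈ D.diagonalSubgroup F ∧
          (QuotientGroup.mk h : ↥(D.borelSubgroup F) ⧸ (D.posUnipotent F).subgroupOf (D.borelSubgroup F)) = q := by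
      intro q
      obtain ⟨x, rfl⟩ := QuotientGroup.mk_surjective q
      have hx : (x : GL D.Idx F) ∈
          ((D.posUnipotent F ⊔ D.diagonalSubgroup F : Subgroup (GL D.Idx F)) : Set (GL D.Idx F)) := x.2
      rw [Subgroup.coe_mul_of_right_le_normalizer_left _ _
        (diagonal_le_normalizer_posUnipotent Δ.hB Δ.hAll Δ.hAdd Δ.hH), Set.mem_mul] at hx
      obtain ⟨u, hu, h, hh, huh⟩ := hx
      refine ⟨⟨h, Δ.diag_le_borel hh⟩, hh, ?_⟩
      rw [QuotientGroup.eq]
      rw [Subgroup.mem_subgroupOf]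
      simp only [Subgroup.coe_mul, Subgroup.coe_inv]
      rw [← huh]
      have hnm := (Subgroup.mem_normalizer_iff.1
        (diagonal_le_normalizer_posUnipotent Δ.hB Δ.hAll Δ.hAdd Δ.hH (Subgroup.inv_mem _ hh)) u).1 hu
      rwa [inv_inv, mul_assoc] at hnm
    intro q₁ q₂
    obtain ⟨h₁, hh₁, rfl⟩ := hrep q₁
    obtain ⟨h₂, hh₂, rfl⟩ := hrep q₂
    rw [← QuotientGroup.mk_mul, ← QuotientGroup.mk_mul]
    congr 1
    apply Subtype.ext
    simp only [Subgroup.coe_mul]
    exact diagonal_comm Δ hh₁ hh₂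
  haveI : Group.IsSolvable ↥(D.posUnipotent F) := inferInstance
  apply Group.isSolvable_of_ker_le_range (Subgroup.inclusion hUB)
    (QuotientGroup.mk' ((D.posUnipotent F).subgroupOf (D.borelSubgroup F)))
  rw [QuotientGroup.ker_mk', Subgroup.inclusion_range]

/-- `B`, as a subgroup of the Chevalley group, is solvable -/
theorem bnPair_B_solvable (Δ : BNData D F) (hnil : Group.IsNilpotent ↥(D.posUnipotent F)) :
    Group.IsSolvable ↥(Δ.bnPair.B) := by
  haveI := borel_solvable Δ hnil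
  exact Group.isSolvable_of_isSolvable_injective
    (f := (Subgroup.subgroupOfEquivOfLe Δ.borel_le_group).toMonoidHom)
    (Subgroup.subgroupOfEquivOfLe Δ.borel_le_group).injective

/-- the Chevalley group is non-trivial -/
theorem group_nontrivial (Δ : BNData D F) (h0 : 0 < D.nroots) : Nontrivial ↥(D.group F) := by
  refine ⟨⟨⟨xU Δ.hB 0 1, xU_mem_group Δ.hB h0 1⟩, 1, ?_⟩⟩
  intro h
  have h1 : (xU Δ.hB 0 (1 : F) : GL D.Idx F) = 1 := congrArg Subtype.val h
  have h2 : D.x F 0 (1 : F) = torMat D F (fun _ => (1 : F)) := by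
    rw [torMat_one, ← xU_val Δ.hB 0 (1 : F), h1, Units.val_one]
  exact one_ne_zero (eq_zero_of_x_eq_torMat Δ.hB h0 h2)

/-- **Simplicity** of a tabulated Chevalley group with connected Dynkin diagram. -/
theorem simple_of_conn (Δ : BNData D F) {ord : List ℕ} (h : connChk D ord = true)
    (h0 : 0 < D.nroots) (hnil : Group.IsNilpotent ↥(D.posUnipotent F))
    (hperf : commutator ↥(D.group F) = ⊤)
    (hcore : ((D.borelSubgroup F).subgroupOf (D.group F)).normalCore = ⊥) :
    IsSimpleGroup ↥(D.group F) ∧ ¬ IsMulCommutative ↥(D.group F) := by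
  haveI := group_nontrivial Δ h0
  refine ⟨Cfsg.Agent.Helper2.BN.isSimpleGroup_of_irreducible Δ.bnPair (irreducible_of_conn Δ h)
    (bnPair_B_solvable Δ hnil) hperf hcore, ?_⟩
  intro hcomm
  have hbot : commutator ↥(D.group F) = ⊥ := by
    rw [commutator_def, Subgroup.commutator_eq_bot_iff_le_centralizer]
    intro a _
    rw [Subgroup.mem_centralizer_iff]
    intro b _
    exact (hcomm.is_comm.comm b a)
  rw [hperf] at hbot
  exact top_ne_bot hbot

set_option maxRecDepth 100000 in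
theorem connChk_G2 : connChk chevG2 [0, 1] = true := by decide +kernel
set_option maxRecDepth 100000 in
theorem connChk_B2 : connChk chevB2 [0, 1] = true := by decide +kernel
set_option maxRecDepth 100000 in
theorem connChk_D4 : connChk chevD4 [0, 1, 2, 3] = true := by decide +kernel
set_option maxRecDepth 100000 in
theorem connChk_F4 : connChk chevF4 [0, 1, 2, 3] = true := by decide +kernel
set_option maxRecDepth 100000 in
theorem connChk_E6 : connChk chevE6 [0, 2, 3, 1, 4, 5] = true := by decide +kernel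
set_option maxRecDepth 100000 in
theorem connChk_E7 : connChk chevE7 [0, 2, 3, 1, 4, 5, 6] = true := by decide +kernel
set_option maxRecDepth 100000 in
theorem connChk_E8 : connChk chevE8 [0, 2, 3, 1, 4, 5, 6, 7] = true := by decide +kernel

/-- **Simplicity** of the tabulated Chevalley groups (`G₂(2)`, `B₂(2)` excepted). -/
theorem simple_of_tabulated (hD : IsTabulated D)
    (h2 : D = chevG2 ∨ D = chevB2 → ∃ a : F, a ≠ 0 ∧ a ≠ 1) :
    IsSimpleGroup ↥(D.group F) ∧ ¬ IsMulCommutative ↥(D.group F) := by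
  have Δ := bnData_of_tabulated F hD
  have hnil := Cfsg.Agent.S1029.result (F := F) D hD
  have hperf := Cfsg.Agent.S1052.result (F := F) D hD h2
  have hcore := Cfsg.Agent.S1051.result (F := F) D hD
  have hD' := hD
  simp only [IsTabulated, List.mem_cons, List.not_mem_nil, or_false] at hD'
  rcases hD' with rfl | rfl | rfl | rfl | rfl | rfl | rfl
  · exact simple_of_conn Δ connChk_G2 (by decide) hnil hperf hcore
  · exact simple_of_conn Δ connChk_B2 (by decide) hnil hperf hcore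
  · exact simple_of_conn Δ connChk_D4 (by decide) hnil hperf hcore
  · exact simple_of_conn Δ connChk_F4 (by decide) hnil hperf hcore
  · exact simple_of_conn Δ connChk_E6 (by decide) hnil hperf hcore
  · exact simple_of_conn Δ connChk_E7 (by decide) hnil hperf hcore
  · exact simple_of_conn Δ connChk_E8 (by decide) hnil hperf hcore

end Cfsg.Agent.Helper2.ChevSimple
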