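import Mathlib
import Cfsg.Agent.Helper6.Chev.BruhatNF2
import Cfsg.Agent.Helper6.Chev.TablesBN
import Cfsg.Agent.S1027

set_option autoImplicit false
set_option linter.unusedSectionVars false
set_option linter.unusedVariables false

/-! Pairs of conjugates of the highest root subgroup of a Chevalley group. -/

namespace Cfsg.Agent.Helper2.HRoot

open Cfsg.Lie Cfsg.Agent.Helper6

def hrWordsG2 : List (List ℕ) :=
  [[], [1, 0], [0, 1, 0], [0, 1], [0], [1], [], [], [], [], [], []]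

def hrWordsD4 : List (List ℕ) :=
  [[], [0, 1, 2, 3], [0, 1, 2], [0, 1, 3], [0, 1], [0], [2, 1, 3], [2, 1], [3, 1], [1], [2], [3], [],
  [], [], [], [], [], [], [], [], [], [], []]

def hrWordsE6 : List (List ℕ) :=
  [[], [0, 2, 3, 1, 4, 3, 2, 5, 4, 3], [0, 2, 3, 1, 4, 3, 2, 5, 4], [0, 2, 3, 1, 4, 3, 2, 5], [0, 2,
  3, 1, 4, 3, 2], [0, 2, 3, 1, 4, 3, 5, 4], [0, 2, 3, 1, 4, 3, 5], [0, 2, 3, 1, 4, 3], [0, 2, 3, 1, 4,
  5], [0, 2, 3, 1, 4], [0, 2, 3, 1], [5, 4, 3, 2, 0], [4, 3, 2, 0], [3, 2, 0], [2, 0], [0], [2, 3, 1,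
  4, 3, 5, 4], [2, 3, 1, 4, 3, 5], [2, 3, 1, 4, 3], [2, 3, 1, 4, 5], [2, 3, 1, 4], [2, 3, 1], [5, 4,
  3, 1], [4, 3, 1], [3, 1], [1], [5, 4, 3, 2], [4, 3, 2], [3, 2], [2], [5, 4, 3], [4, 3], [3], [5, 4],
  [4], [5], [], [], [], [], [], [], [], [], [], [], [], [], [], [], [], [], [], [], [], [], [], [],
  [], [], [], [], [], [], [], [], [], [], [], [], [], []]

def hrWordsE7 : List (List ℕ) :=
  [[], [1, 3, 2, 0, 4, 3, 2, 5, 4, 3, 1, 6, 5, 4, 3, 2], [1, 3, 2, 0, 4, 3, 2, 5, 4, 3, 1, 6, 5, 4,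
  3], [1, 3, 2, 0, 4, 3, 2, 5, 4, 3, 1, 6, 5, 4], [1, 3, 2, 0, 4, 3, 2, 5, 4, 3, 1, 6, 5], [1, 3, 2,
  0, 4, 3, 2, 5, 4, 3, 1, 6], [1, 3, 2, 0, 4, 3, 2, 5, 4, 3, 1], [1, 3, 2, 0, 4, 3, 2, 5, 4, 3, 6, 5,
  4], [1, 3, 2, 0, 4, 3, 2, 5, 4, 3, 6, 5], [1, 3, 2, 0, 4, 3, 2, 5, 4, 3, 6], [1, 3, 2, 0, 4, 3, 2,
  5, 4, 3], [1, 3, 2, 0, 4, 3, 2, 5, 4, 6, 5], [1, 3, 2, 0, 4, 3, 2, 5, 4, 6], [1, 3, 2, 0, 4, 3, 2,
  5, 4], [1, 3, 2, 0, 4, 3, 2, 5, 6], [1, 3, 2, 0, 4, 3, 2, 5], [1, 3, 2, 0, 4, 3, 2], [1, 3, 2, 0, 4,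
  3, 5, 4, 6, 5], [1, 3, 2, 0, 4, 3, 5, 4, 6], [1, 3, 2, 0, 4, 3, 5, 4], [1, 3, 2, 0, 4, 3, 5, 6], [1,
  3, 2, 0, 4, 3, 5], [1, 3, 2, 0, 4, 3], [1, 3, 2, 0, 4, 5, 6], [1, 3, 2, 0, 4, 5], [1, 3, 2, 0, 4],
  [1, 3, 2, 0], [6, 5, 4, 3, 2, 0], [5, 4, 3, 2, 0], [4, 3, 2, 0], [3, 2, 0], [2, 0], [0], [6, 5, 4,
  3, 1, 2, 3, 4, 5], [6, 5, 4, 3, 1, 2, 3, 4], [5, 4, 3, 1, 2, 3, 4], [6, 5, 4, 3, 1, 2, 3], [5, 4, 3,
  1, 2, 3], [4, 3, 1, 2, 3], [6, 5, 4, 3, 1, 2], [5, 4, 3, 1, 2], [4, 3, 1, 2], [3, 1, 2], [6, 5, 4,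
  3, 1], [5, 4, 3, 1], [4, 3, 1], [3, 1], [1], [6, 5, 4, 3, 2], [5, 4, 3, 2], [4, 3, 2], [3, 2], [2],
  [6, 5, 4, 3], [5, 4, 3], [4, 3], [3], [6, 5, 4], [5, 4], [4], [6, 5], [5], [6], [], [], [], [], [],
  [], [], [], [], [], [], [], [], [], [], [], [], [], [], [], [], [], [], [], [], [], [], [], [], [],
  [], [], [], [], [], [], [], [], [], [], [], [], [], [], [], [], [], [], [], [], [], [], [], [], [],
  [], [], [], [], [], [], [], []]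

def hrWordsE8 : List (List ℕ) :=
  [[], [0, 2, 3, 1, 4, 3, 2, 5, 4, 3, 1, 6, 5, 4, 3, 2, 0, 7, 6, 5, 4, 3, 1, 2, 3, 4, 5, 6], [0, 2, 3,
  1, 4, 3, 2, 5, 4, 3, 1, 6, 5, 4, 3, 2, 0, 7, 6, 5, 4, 3, 1, 2, 3, 4, 5], [0, 2, 3, 1, 4, 3, 2, 5, 4,
  3, 1, 6, 5, 4, 3, 2, 0, 7, 6, 5, 4, 3, 1, 2, 3, 4], [0, 2, 3, 1, 4, 3, 2, 5, 4, 3, 1, 6, 5, 4, 3, 2,
  0, 7, 6, 5, 4, 3, 1, 2, 3], [0, 2, 3, 1, 4, 3, 2, 5, 4, 3, 1, 6, 5, 4, 3, 2, 0, 7, 6, 5, 4, 3, 1,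
  2], [0, 2, 3, 1, 4, 3, 2, 5, 4, 3, 1, 6, 5, 4, 3, 2, 0, 7, 6, 5, 4, 3, 1], [0, 2, 3, 1, 4, 3, 2, 5,
  4, 3, 1, 6, 5, 4, 3, 2, 0, 7, 6, 5, 4, 3, 2], [0, 2, 3, 1, 4, 3, 2, 5, 4, 3, 1, 6, 5, 4, 3, 2, 0, 7,
  6, 5, 4, 3], [0, 2, 3, 1, 4, 3, 2, 5, 4, 3, 1, 6, 5, 4, 3, 2, 0, 7, 6, 5, 4], [0, 2, 3, 1, 4, 3, 2,
  5, 4, 3, 1, 6, 5, 4, 3, 2, 0, 7, 6, 5], [0, 2, 3, 1, 4, 3, 2, 5, 4, 3, 1, 6, 5, 4, 3, 2, 0, 7, 6],
  [0, 2, 3, 1, 4, 3, 2, 5, 4, 3, 1, 6, 5, 4, 3, 2, 0, 7], [6, 5, 4, 3, 1, 2, 0, 3, 2, 4, 3, 1, 5, 4,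
  3, 2, 0], [0, 2, 3, 1, 4, 3, 2, 5, 4, 3, 1, 6, 5, 4, 3, 2, 7, 6, 5, 4, 3, 1], [0, 2, 3, 1, 4, 3, 2,
  5, 4, 3, 1, 6, 5, 4, 3, 2, 7, 6, 5, 4, 3], [0, 2, 3, 1, 4, 3, 2, 5, 4, 3, 1, 6, 5, 4, 3, 2, 7, 6, 5,
  4], [0, 2, 3, 1, 4, 3, 2, 5, 4, 3, 1, 6, 5, 4, 3, 2, 7, 6, 5], [0, 2, 3, 1, 4, 3, 2, 5, 4, 3, 1, 6,
  5, 4, 3, 2, 7, 6], [0, 2, 3, 1, 4, 3, 2, 5, 4, 3, 1, 6, 5, 4, 3, 2, 7], [6, 5, 4, 3, 1, 2, 0, 3, 2,
  4, 3, 1, 5, 4, 3, 2], [0, 2, 3, 1, 4, 3, 2, 5, 4, 3, 1, 6, 5, 4, 3, 7, 6, 5, 4], [0, 2, 3, 1, 4, 3,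
  2, 5, 4, 3, 1, 6, 5, 4, 3, 7, 6, 5], [0, 2, 3, 1, 4, 3, 2, 5, 4, 3, 1, 6, 5, 4, 3, 7, 6], [0, 2, 3,
  1, 4, 3, 2, 5, 4, 3, 1, 6, 5, 4, 3, 7], [6, 5, 4, 3, 1, 2, 0, 3, 2, 4, 3, 1, 5, 4, 3], [0, 2, 3, 1,
  4, 3, 2, 5, 4, 3, 1, 6, 5, 4, 7, 6, 5], [0, 2, 3, 1, 4, 3, 2, 5, 4, 3, 1, 6, 5, 4, 7, 6], [0, 2, 3,
  1, 4, 3, 2, 5, 4, 3, 1, 6, 5, 4, 7], [6, 5, 4, 3, 1, 2, 0, 3, 2, 4, 3, 1, 5, 4], [0, 2, 3, 1, 4, 3,
  2, 5, 4, 3, 1, 6, 5, 7, 6], [0, 2, 3, 1, 4, 3, 2, 5, 4, 3, 1, 6, 5, 7], [6, 5, 4, 3, 1, 2, 0, 3, 2,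
  4, 3, 1, 5], [0, 2, 3, 1, 4, 3, 2, 5, 4, 3, 1, 6, 7], [6, 5, 4, 3, 1, 2, 0, 3, 2, 4, 3, 1], [5, 4,
  3, 1, 2, 0, 3, 2, 4, 3, 1], [0, 2, 3, 1, 4, 3, 2, 5, 4, 3, 6, 5, 4, 7, 6, 5], [0, 2, 3, 1, 4, 3, 2,
  5, 4, 3, 6, 5, 4, 7, 6], [0, 2, 3, 1, 4, 3, 2, 5, 4, 3, 6, 5, 4, 7], [6, 5, 4, 3, 1, 2, 0, 3, 2, 4,
  3, 5, 4], [0, 2, 3, 1, 4, 3, 2, 5, 4, 3, 6, 5, 7, 6], [0, 2, 3, 1, 4, 3, 2, 5, 4, 3, 6, 5, 7], [6,
  5, 4, 3, 1, 2, 0, 3, 2, 4, 3, 5], [0, 2, 3, 1, 4, 3, 2, 5, 4, 3, 6, 7], [6, 5, 4, 3, 1, 2, 0, 3, 2,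
  4, 3], [5, 4, 3, 1, 2, 0, 3, 2, 4, 3], [0, 2, 3, 1, 4, 3, 2, 5, 4, 6, 5, 7, 6], [0, 2, 3, 1, 4, 3,
  2, 5, 4, 6, 5, 7], [6, 5, 4, 3, 1, 2, 0, 3, 2, 4, 5], [0, 2, 3, 1, 4, 3, 2, 5, 4, 6, 7], [6, 5, 4,
  3, 1, 2, 0, 3, 2, 4], [5, 4, 3, 1, 2, 0, 3, 2, 4], [0, 2, 3, 1, 4, 3, 2, 5, 6, 7], [6, 5, 4, 3, 1,
  2, 0, 3, 2], [5, 4, 3, 1, 2, 0, 3, 2], [4, 3, 1, 2, 0, 3, 2], [0, 2, 3, 1, 4, 3, 5, 4, 6, 5, 7, 6],
  [0, 2, 3, 1, 4, 3, 5, 4, 6, 5, 7], [6, 5, 4, 3, 1, 2, 0, 3, 4, 5], [0, 2, 3, 1, 4, 3, 5, 4, 6, 7],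
  [6, 5, 4, 3, 1, 2, 0, 3, 4], [5, 4, 3, 1, 2, 0, 3, 4], [0, 2, 3, 1, 4, 3, 5, 6, 7], [6, 5, 4, 3, 1,
  2, 0, 3], [5, 4, 3, 1, 2, 0, 3], [4, 3, 1, 2, 0, 3], [0, 2, 3, 1, 4, 5, 6, 7], [6, 5, 4, 3, 1, 2,
  0], [5, 4, 3, 1, 2, 0], [4, 3, 1, 2, 0], [3, 1, 2, 0], [0, 2, 3, 4, 5, 6, 7], [6, 5, 4, 3, 2, 0],
  [5, 4, 3, 2, 0], [4, 3, 2, 0], [3, 2, 0], [2, 0], [0], [1, 3, 2, 4, 3, 5, 4, 6, 5, 7, 6], [1, 3, 2,
  4, 3, 5, 4, 6, 5, 7], [6, 5, 4, 3, 1, 2, 3, 4, 5], [1, 3, 2, 4, 3, 5, 4, 6, 7], [6, 5, 4, 3, 1, 2,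
  3, 4], [5, 4, 3, 1, 2, 3, 4], [1, 3, 2, 4, 3, 5, 6, 7], [6, 5, 4, 3, 1, 2, 3], [5, 4, 3, 1, 2, 3],
  [4, 3, 1, 2, 3], [1, 3, 2, 4, 5, 6, 7], [6, 5, 4, 3, 1, 2], [5, 4, 3, 1, 2], [4, 3, 1, 2], [3, 1,
  2], [1, 3, 4, 5, 6, 7], [6, 5, 4, 3, 1], [5, 4, 3, 1], [4, 3, 1], [3, 1], [1], [2, 3, 4, 5, 6, 7],
  [6, 5, 4, 3, 2], [5, 4, 3, 2], [4, 3, 2], [3, 2], [2], [3, 4, 5, 6, 7], [6, 5, 4, 3], [5, 4, 3], [4,
  3], [3], [4, 5, 6, 7], [6, 5, 4], [5, 4], [4], [5, 6, 7], [6, 5], [5], [6, 7], [6], [7], [], [], [],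
  [], [], [], [], [], [], [], [], [], [], [], [], [], [], [], [], [], [], [], [], [], [], [], [], [],
  [], [], [], [], [], [], [], [], [], [], [], [], [], [], [], [], [], [], [], [], [], [], [], [], [],
  [], [], [], [], [], [], [], [], [], [], [], [], [], [], [], [], [], [], [], [], [], [], [], [], [],
  [], [], [], [], [], [], [], [], [], [], [], [], [], [], [], [], [], [], [], [], [], [], [], [], [],
  [], [], [], [], [], [], [], [], [], [], [], [], [], [], [], [], []]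

/-- the words indexed by the root `s`: they make the highest root and `s` both positive -/
def hrWords (D : ChevalleyDatum) : List (List ℕ) :=
  bif Nat.beq D.nroots 12 then hrWordsG2
  else bif Nat.beq D.nroots 24 then hrWordsD4
  else bif Nat.beq D.nroots 72 then hrWordsE6
  else bif Nat.beq D.nroots 126 then hrWordsE7
  else hrWordsE8

/-- the highest root has no commutator terms with the other positive roots -/
def topChk (D : ChevalleyDatum) : Bool :=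
  allLt D.nroots fun s => Nat.blt s (D.nroots / 2) || Nat.beq s (D.nroots - 1) ||
    (commTermsG (ceF D) (D.nroots - 1) s).isEmpty

/-- for every root `s` other than the lowest one, the word of `s` makes the highest root and
`s` positive -/
def hrChk (D : ChevalleyDatum) : Bool :=
  allLt D.nroots fun s => Nat.beq s 0 ||
    (allL ((hrWords D).getD s []) (fun i => Nat.blt i D.rank) &&
      Nat.ble (D.nroots / 2) (wFoldD D ((hrWords D).getD s []) (D.nroots - 1)) &&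
      Nat.ble (D.nroots / 2) (wFoldD D ((hrWords D).getD s []) s))

set_option maxRecDepth 100000 in
theorem topChk_of {D : ChevalleyDatum} (hD : D ∈ [chevG2, chevD4, chevE6, chevE7, chevE8]) :
    topChk D = true := by
  simp only [List.mem_cons, List.not_mem_nil, or_false] at hD
  rcases hD with rfl | rfl | rfl | rfl | rfl <;> decide +kernel

set_option maxRecDepth 100000 in
theorem hrChk_of {D : ChevalleyDatum} (hD : D ∈ [chevG2, chevD4, chevE6, chevE7, chevE8]) :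
    hrChk D = true := by
  simp only [List.mem_cons, List.not_mem_nil, or_false] at hD
  rcases hD with rfl | rfl | rfl | rfl | rfl <;> decide +kernel

theorem nroots_pos_of {D : ChevalleyDatum} (hD : D ∈ [chevG2, chevD4, chevE6, chevE7, chevE8]) :
    0 < D.nroots := by
  simp only [List.mem_cons, List.not_mem_nil, or_false] at hD
  rcases hD with rfl | rfl | rfl | rfl | rfl <;> decide +kernel

theorem isTabulated_of {D : ChevalleyDatum} (hD : D ∈ [chevG2, chevD4, chevE6, chevE7, chevE8]) :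
    IsTabulated D := by
  simp only [List.mem_cons, List.not_mem_nil, or_false] at hD
  rcases hD with rfl | rfl | rfl | rfl | rfl <;> simp [IsTabulated]

variable {D : ChevalleyDatum} {F : Type*} [Field F]

theorem mem_cj {G : Type*} [Group G] (g x : G) (K : Subgroup G) :
    x ∈ K.map (MulAut.conj g).toMonoidHom ↔ g⁻¹ * x * g ∈ K := by
  rw [Subgroup.mem_map_equiv, MulAut.conj_symm_apply]

theorem cj_cj {G : Type*} [Group G] (a b : G) (K : Subgroup G) :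
    (K.map (MulAut.conj b).toMonoidHom).map (MulAut.conj a).toMonoidHom =
      K.map (MulAut.conj (a * b)).toMonoidHom := by
  ext x
  rw [mem_cj, mem_cj, mem_cj]
  have : (a * b)⁻¹ * x * (a * b) = b⁻¹ * (a⁻¹ * x * a) * b := by group
  rw [this]

/-- `g` conjugates `X_r` onto `X_s`, scaling the parameter -/
def Sc (hB : BasicOK D) (g : GL D.Idx F) (r s : ℕ) : Prop :=
  ∃ c : F, c ≠ 0 ∧ ∀ t : F, g * xU hB r t * g⁻¹ = xU hB s (c * t)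

theorem Sc.cj_eq {hB : BasicOK D} {g : GL D.Idx F} {r s : ℕ} (h : Sc hB g r s) :
    (D.rootSubgroup F r).map (MulAut.conj g).toMonoidHom = D.rootSubgroup F s := by
  obtain ⟨c, hc, h⟩ := h
  apply le_antisymm
  · rw [map_conj_le_iff hB]
    intro t
    rw [h t]
    exact (mem_rootSubgroup_iff hB).2 ⟨_, rfl⟩
  · intro x hx
    obtain ⟨t, rfl⟩ := (mem_rootSubgroup_iff hB).1 hx
    rw [mem_cj]
    refine (mem_rootSubgroup_iff hB).2 ⟨c⁻¹ * t, ?_⟩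
    have h1 := h (c⁻¹ * t)
    rw [← mul_assoc, mul_inv_cancel₀ hc, one_mul] at h1
    rw [← h1]; group

theorem Sc.mul {hB : BasicOK D} {a b : GL D.Idx F} {r s s' : ℕ} (ha : Sc hB a s s')
    (hb : Sc hB b r s) : Sc hB (a * b) r s' := by
  obtain ⟨c, hc, h1⟩ := ha
  obtain ⟨d, hd, h2⟩ := hb
  refine ⟨c * d, mul_ne_zero hc hd, fun t => ?_⟩
  have : a * b * xU hB r t * (a * b)⁻¹ = a * (b * xU hB r t * b⁻¹) * a⁻¹ := by group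
  rw [this, h2, h1, mul_assoc]

theorem sc_of_conj (Δ : BNData D F) {g : GL D.Idx F} {r s : ℕ} (hr : r < D.nroots) {c : F}
    (h : ∀ t : F, g * xU Δ.hB r t * g⁻¹ = xU Δ.hB s (c * t)) : Sc Δ.hB g r s := by
  refine ⟨c, ?_, h⟩
  rintro rfl
  have h1 := h 1
  rw [zero_mul, xU_zero] at h1
  apply Δ.xU_one_ne_one hr
  have : xU Δ.hB r (1 : F) = g⁻¹ * (g * xU Δ.hB r 1 * g⁻¹) * g := by group
  rw [this, h1]; group

theorem sc_of_monomial (Δ : BNData D F) {n : GL D.Idx F} (hn : n ∈ D.monomialSubgroup F) {r : ℕ}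
    (hr : r < D.nroots) : ∃ s < D.nroots, Sc Δ.hB n r s := by
  obtain ⟨σ, c, h⟩ := Δ.rootPermP_of_mem hn
  obtain ⟨h1, _, h3⟩ := h r hr
  exact ⟨σ r, h1, sc_of_conj Δ hr h3⟩

theorem sc_of_diag (Δ : BNData D F) {h : GL D.Idx F} (hh : h ∈ D.diagonalSubgroup F) {r : ℕ}
    (hr : r < D.nroots) : Sc Δ.hB h r r := by
  obtain ⟨c, hc⟩ := Δ.diag_conj_xU hh hr
  exact sc_of_conj Δ hr hc

theorem comm_top (Δ : BNData D F) (hT : topChk D = true) {s : ℕ} (hs : D.IsPosRoot s) (a t : F) :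
    xU Δ.hB s a * xU Δ.hB (D.nroots - 1) t = xU Δ.hB (D.nroots - 1) t * xU Δ.hB s a := by
  have hs' := hs.1
  have hN : D.nroots / 2 ≤ s := (Δ.hsign' s hs').1 hs
  by_cases e : s = D.nroots - 1
  · rw [e, xU_mul, xU_mul, add_comm]
  · have htop : D.nroots - 1 < D.nroots := by omega
    have hneg : D.neg (D.nroots - 1) = 0 := by rw [Δ.neg_eq htop]; omega
    have hs0 : s ≠ D.neg (D.nroots - 1) := by
      rw [hneg]; intro h0; have := Δ.even; omega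
    have hC := Δ.hC (D.nroots - 1) htop s hs' e hs0 t a
    have hterms : D.commTerms (D.nroots - 1) s = [] := by
      unfold topChk at hT
      have h1 := allLt_iff.1 hT s hs'
      simp only [Bool.or_eq_true, Nat.blt_eq, Nat.beq_eq, List.isEmpty_iff] at h1
      rcases h1 with (h1 | h1) | h1
      · omega
      · exact absurd h1 e
      · rw [ceF_eq Δ.hF.keys Δ.hF.chk, commTermsG_eq] at h1; exact h1
    apply Units.ext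
    rw [Units.val_mul, Units.val_mul, xU_val, xU_val, hC]
    unfold ChevalleyDatum.commWord
    rw [hterms, List.map_nil]
    simp [ChevalleyDatum.wordMat]

theorem conj_top_of_mem_U (Δ : BNData D F) (hT : topChk D = true) {u : GL D.Idx F}
    (hu : u ∈ D.posUnipotent F) (t : F) :
    u * xU Δ.hB (D.nroots - 1) t * u⁻¹ = xU Δ.hB (D.nroots - 1) t := by
  have hle : D.posUnipotent F ≤ Subgroup.centralizer {xU Δ.hB (D.nroots - 1) t} := by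
    unfold ChevalleyDatum.posUnipotent
    rw [Subgroup.closure_le]
    rintro g ⟨s, a, hs, hg⟩
    have e : g = xU Δ.hB s a := Units.ext (by rw [hg, xU_val])
    rw [e, SetLike.mem_coe, Subgroup.mem_centralizer_iff]
    intro h hh
    rw [Set.mem_singleton_iff] at hh
    rw [hh]
    exact (comm_top Δ hT hs a t).symm
  have h1 := Subgroup.mem_centralizer_iff.1 (hle hu) _ (Set.mem_singleton _)
  rw [mul_inv_eq_iff_eq_mul]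
  exact h1.symm

theorem sc_top_of_U (Δ : BNData D F) (hT : topChk D = true) {u : GL D.Idx F}
    (hu : u ∈ D.posUnipotent F) : Sc Δ.hB u (D.nroots - 1) (D.nroots - 1) :=
  ⟨1, one_ne_zero, fun t => by rw [one_mul]; exact conj_top_of_mem_U Δ hT hu t⟩

theorem sc_top_of_borel (Δ : BNData D F) (hT : topChk D = true) (hpos : 0 < D.nroots)
    {b : GL D.Idx F} (hb : b ∈ D.borelSubgroup F) :
    Sc Δ.hB b (D.nroots - 1) (D.nroots - 1) := by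
  have htop : D.nroots - 1 < D.nroots := by omega
  have hb' : b ∈ ((D.posUnipotent F ⊔ D.diagonalSubgroup F : Subgroup (GL D.Idx F)) :
      Set (GL D.Idx F)) := hb
  rw [Subgroup.coe_mul_of_right_le_normalizer_left _ _
    (diagonal_le_normalizer_posUnipotent Δ.hB Δ.hAll Δ.hAdd Δ.hH), Set.mem_mul] at hb'
  obtain ⟨u, hu, h, hh, rfl⟩ := hb'
  exact (sc_top_of_U Δ hT hu).mul (sc_of_diag Δ hh htop)

theorem nW_conj_pos (Δ : BNData D F) {L : List ℕ} (hL : ∀ i ∈ L, i < D.rank) {s : ℕ}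
    (hs : s < D.nroots) (hp : D.nroots / 2 ≤ wFold D L s) (t : F) :
    nW Δ.hB F L * xU Δ.hB s t * (nW Δ.hB F L)⁻¹ ∈ D.posUnipotent F := by
  obtain ⟨t', h⟩ := nW_conj Δ.hB Δ.hAll hL hs t
  rw [h]
  exact Δ.xU_pos_mem ((Δ.hsign' _ (wFold_lt Δ.hB Δ.hAll hL hs)).2 hp) t'

theorem hr_words (Δ : BNData D F) (hW : hrChk D = true) (hpos : 0 < D.nroots) {s : ℕ}
    (hs : s < D.nroots) (h0 : s ≠ 0) :
    ∃ L : List ℕ, (∀ i ∈ L, i < D.rank) ∧ D.nroots / 2 ≤ wFold D L (D.nroots - 1) ∧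
      D.nroots / 2 ≤ wFold D L s := by
  unfold hrChk at hW
  have h1 := allLt_iff.1 hW s hs
  simp only [Bool.or_eq_true, Bool.and_eq_true, Nat.beq_eq, allL_iff, Nat.blt_eq, Nat.ble_eq] at h1
  rcases h1 with h1 | ⟨⟨h1, h2⟩, h3⟩
  · exact absurd h1 h0
  · have htop : D.nroots - 1 < D.nroots := by omega
    refine ⟨(hrWords D).getD s [], h1, ?_, ?_⟩
    · rw [← wFoldD_eq Δ.hB Δ.hF Δ.hn Δ.hAll h1 htop]; exact h2
    · rw [← wFoldD_eq Δ.hB Δ.hF Δ.hn Δ.hAll h1 hs]; exact h3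

theorem isPGroup_U [Fintype F] [CharP F 2] (hD : IsTabulated D) :
    IsPGroup 2 (D.posUnipotent F) := by
  obtain ⟨k, -, hk⟩ := FiniteField.card F 2
  have h1 := Cfsg.Agent.S1027.result (F := F) D hD
  apply IsPGroup.of_card (n := (k : ℕ) * (D.nroots / 2))
  rw [h1, hk, pow_mul]

/-- the subgroup generated by the highest root subgroup and one of its conjugates is a
`2`-group or conjugate to `⟨X_r, X_{-r}⟩` -/
theorem main (Δ : BNData D F) (hT : topChk D = true) (hW : hrChk D = true) (hpos : 0 < D.nroots)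
    (hU : IsPGroup 2 (D.posUnipotent F)) {g : GL D.Idx F} (hg : g ∈ D.group F) :
    IsPGroup 2 ↥(D.rootSubgroup F (D.nroots - 1) ⊔
      (D.rootSubgroup F (D.nroots - 1)).map (MulAut.conj g).toMonoidHom) ∨
    ∃ h ∈ D.group F, (D.rootSubgroup F (D.nroots - 1) ⊔
      (D.rootSubgroup F (D.nroots - 1)).map (MulAut.conj g).toMonoidHom).map
        (MulAut.conj h).toMonoidHom = D.rootSubgroup F (D.nroots - 1) ⊔ D.rootSubgroup F 0 := by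
  have htop : D.nroots - 1 < D.nroots := by omega
  obtain ⟨b, hb, n, hn, u, hu, rfl⟩ := Δ.exists_normal_form hg
  have huU : u ∈ D.posUnipotent F := Δ.unegGen_le_posUnipotent n hu
  obtain ⟨s, hs, hns⟩ := sc_of_monomial Δ hn htop
  have hbi : b⁻¹ ∈ D.borelSubgroup F := Subgroup.inv_mem _ hb
  have hsb := sc_top_of_borel Δ hT hpos hbi
  have hsu := sc_top_of_U Δ hT huU
  have hsg : Sc Δ.hB (b⁻¹ * (b * n * u)) (D.nroots - 1) s := by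
    have e : b⁻¹ * (b * n * u) = n * u := by group
    rw [e]; exact hns.mul hsu
  by_cases h0 : s = 0
  · right
    subst h0
    refine ⟨b⁻¹, Δ.borel_le_group hbi, ?_⟩
    rw [Subgroup.map_sup, cj_cj, hsb.cj_eq, hsg.cj_eq]
  · left
    obtain ⟨L, hL, hp1, hp2⟩ := hr_words Δ hW hpos hs h0
    obtain ⟨m, hm⟩ : ∃ m, m = nW Δ.hB F L * b⁻¹ := ⟨_, rfl⟩
    have hle : (D.rootSubgroup F (D.nroots - 1) ⊔
        (D.rootSubgroup F (D.nroots - 1)).map (MulAut.conj (b * n * u)).toMonoidHom).map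
          (MulAut.conj m).toMonoidHom ≤ D.posUnipotent F := by
      rw [Subgroup.map_sup, cj_cj]
      apply sup_le
      · rw [map_conj_le_iff Δ.hB]
        intro t
        obtain ⟨c, _, hc⟩ := hsb
        have e : m * xU Δ.hB (D.nroots - 1) t * m⁻¹ = nW Δ.hB F L *
            (b⁻¹ * xU Δ.hB (D.nroots - 1) t * b⁻¹⁻¹) * (nW Δ.hB F L)⁻¹ := by
          rw [hm]; group
        rw [e, hc]
        exact nW_conj_pos Δ hL htop hp1 _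
      · rw [map_conj_le_iff Δ.hB]
        intro t
        obtain ⟨c, _, hc⟩ := hsg
        have e : m * (b * n * u) * xU Δ.hB (D.nroots - 1) t * (m * (b * n * u))⁻¹ =
            nW Δ.hB F L * ((b⁻¹ * (b * n * u)) * xU Δ.hB (D.nroots - 1) t *
              (b⁻¹ * (b * n * u))⁻¹) * (nW Δ.hB F L)⁻¹ := by
          rw [hm]; group
        rw [e, hc]
        exact nW_conj_pos Δ hL hs hp2 _
    have h2 := hU.to_le hle
    exact h2.of_equiv ((Subgroup.equivMapOfInjective _ _ (MulAut.conj m).injective).symm)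

end Cfsg.Agent.Helper2.HRoot
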