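import Mathlib
import Cfsg.Agent.Helper2.HRoot
import Cfsg.Agent.Helper2.BN.Parabolic
import Cfsg.Agent.Helper6.Chev.BNPairDef

set_option autoImplicit false
set_option linter.unusedSectionVars false
set_option linter.unusedVariables false

/-! Centralizers of dominant root elements of Chevalley groups in characteristic two. -/

namespace Cfsg.Agent.Helper2.HRoot

open Cfsg.Lie Cfsg.Agent.Helper6 Cfsg.Agent.Helper2.BN

variable {D : ChevalleyDatum} {F : Type*} [Field F]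

theorem wordMat_eq_one_of_zero (w : List (ℕ × F)) (h : ∀ p ∈ w, p.2 = 0) :
    D.wordMat F w = 1 := by
  induction w with
  | nil => simp [ChevalleyDatum.wordMat]
  | cons p w ih =>
    have hp := h p List.mem_cons_self
    have e : D.wordMat F (p :: w) = D.x F p.1 p.2 * D.wordMat F w := by
      simp [ChevalleyDatum.wordMat]
    rw [e, ih (fun q hq => h q (List.mem_cons_of_mem _ hq)), hp, x_zero, mul_one]

/-- root elements commute when all the constants of the commutator formula are even and the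
characteristic is two -/
theorem comm_of_even [CharP F 2] (Δ : BNData D F) {r s : ℕ} (hr : r < D.nroots)
    (hs : s < D.nroots) (h1 : s ≠ r) (h2 : s ≠ D.neg r)
    (hE : ∀ c ∈ D.commTerms r s, c.2.1 % 2 = 0) (a t : F) :
    xU Δ.hB s a * xU Δ.hB r t = xU Δ.hB r t * xU Δ.hB s a := by
  have hC := Δ.hC r hr s hs h1 h2 t a
  apply Units.ext
  rw [Units.val_mul, Units.val_mul, xU_val, xU_val, hC, wordMat_eq_one_of_zero, mul_one]
  intro p hp
  unfold ChevalleyDatum.commWord at hp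
  rw [List.mem_map] at hp
  obtain ⟨c, hc, rfl⟩ := hp
  have h0 : ((c.2.1 : ℤ) : F) = 0 := by
    rw [CharP.intCast_eq_zero_iff F 2]
    exact_mod_cast Int.dvd_of_emod_eq_zero (hE c hc)
  simp only [h0, zero_mul]

theorem xU_inj' (Δ : BNData D F) {r : ℕ} (hr : r < D.nroots) {a b : F}
    (h : xU Δ.hB r a = xU Δ.hB r b) : a = b := by
  have e : xU Δ.hB r (a - b) = 1 := by
    rw [sub_eq_add_neg, ← xU_mul, ← xU_inv, h, mul_inv_cancel]
  have h2 := congrArg Units.val e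
  rw [xU_val, Units.val_one, ← torMat_one (D := D)] at h2
  exact sub_eq_zero.1 (eq_zero_of_x_eq_torMat Δ.hB hr h2)

/-- distinct roots have distinct root subgroups: the case of a positive root `r0` -/
theorem root_unique (hD : IsTabulated D) (Δ : BNData D F) {r0 s : ℕ} (hN : D.nroots / 2 ≤ r0)
    (hr0 : r0 < D.nroots) (hs : s < D.nroots) {c c' : F} (hc : c ≠ 0)
    (h : xU Δ.hB s c = xU Δ.hB r0 c') : s = r0 := by
  have hO := ordOK_of_tabulated hD
  obtain ⟨lam, Λ, M, h1, h2, h3, h4, h5⟩ := hO.ex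
  by_contra hne
  rcases Nat.lt_or_ge s (D.nroots / 2) with hneg | hpos
  · have hb : xU Δ.hB s c ∈ D.borelSubgroup F := by
      rw [h]; exact Δ.posUnipotent_le_borel (Δ.xU_pos_mem ((Δ.hsign' _ hr0).2 hN) c')
    exact hc (Δ.eq_zero_of_xU_neg_mem_borel hs hneg hb)
  · rcases Nat.lt_or_gt_of_ne hne with hlt | hgt
    · have : xU Δ.hB s c ∈ Uge D F (s + 1) := by
        rw [h]; exact xU_mem_Uge _ (by omega) hr0 c'
      exact hc (eq_zero_of_xU_mem_Uge Δ.hB Δ.hF h1 h2 h3 h4 hpos hs this)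
    · have : xU Δ.hB r0 c' ∈ Uge D F (r0 + 1) := by
        rw [← h]; exact xU_mem_Uge _ (by omega) hs c
      have hc' := eq_zero_of_xU_mem_Uge Δ.hB Δ.hF h1 h2 h3 h4 hN hr0 this
      rw [hc', xU_zero] at h
      have h2' := congrArg Units.val h
      rw [xU_val, Units.val_one, ← torMat_one (D := D)] at h2'
      exact hc (eq_zero_of_x_eq_torMat Δ.hB hs h2')

theorem mem_normalizer_of_cj_eq {G : Type*} [Group G] {g : G} {K : Subgroup G}
    (h : K.map (MulAut.conj g).toMonoidHom = K) : g ∈ Subgroup.normalizer (K : Set G) := by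
  rw [Subgroup.mem_normalizer_iff]
  intro x
  show x ∈ K ↔ g * x * g⁻¹ ∈ K
  constructor
  · intro hx
    have h1 : g * x * g⁻¹ ∈ K.map (MulAut.conj g).toMonoidHom := ⟨x, hx, rfl⟩
    rwa [h] at h1
  · intro hx
    rw [← h, mem_cj] at hx
    have e : g⁻¹ * (g * x * g⁻¹) * g = x := by group
    rwa [e] at hx

theorem wordU_mem (hB : BasicOK D) {K : Subgroup (GL D.Idx F)} {w : List (ℕ × F)}
    (h : ∀ p ∈ w, xU hB p.1 p.2 ∈ K) : wordU hB w ∈ K := by
  unfold wordU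
  apply Subgroup.list_prod_mem
  intro y hy
  rw [List.mem_map] at hy
  obtain ⟨p, hp, rfl⟩ := hy
  exact h p hp

theorem nU_eq_mul (hB : BasicOK D) (r : ℕ) {c : F} (hc : c ≠ 0) :
    nU hB r hc = xU hB r c * xU hB (D.neg r) (-c⁻¹) * xU hB r c := by
  apply Units.ext
  simp [nU_val, ChevalleyDatum.nMat, ChevalleyDatum.nWord, ChevalleyDatum.wordMat, mul_assoc]

/-- the data of a dominant root `r0`: it is centralized by `U`, the only fundamental reflection
moving it is the `j`-th one, and `negs` lists the negatives of the other fundamental roots -/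
structure CData (Δ : BNData D F) (r0 j : ℕ) (negs : List ℕ) : Prop where
  hN : D.nroots / 2 ≤ r0
  hlt : r0 < D.nroots
  hj : j < D.rank
  hU : ∀ s, D.IsPosRoot s → ∀ a t : F,
    xU Δ.hB s a * xU Δ.hB r0 t = xU Δ.hB r0 t * xU Δ.hB s a
  hJ : ∀ i < D.rank, i ≠ j → ∀ a t : F,
    xU Δ.hB (D.neg (D.simple i)) a * xU Δ.hB r0 t = xU Δ.hB r0 t * xU Δ.hB (D.neg (D.simple i)) a
  hmove : wR D (D.simple j) r0 ≠ r0
  hcart : ∀ i < D.rank, D.cartan i r0 = if i = j then 1 else 0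
  hnegs1 : ∀ i < D.rank, i ≠ j → D.neg (D.simple i) ∈ negs
  hnegs2 : ∀ s ∈ negs, ∃ i < D.rank, i ≠ j ∧ s = D.neg (D.simple i)

/-- the subgroup generated by `U` and the listed negative root subgroups -/
def Rsub (D : ChevalleyDatum) (F : Type*) [Field F] (negs : List ℕ) : Subgroup (GL D.Idx F) :=
  D.posUnipotent F ⊔ Subgroup.closure {g : GL D.Idx F | ∃ s ∈ negs, ∃ c : F,
    (g : Matrix D.Idx D.Idx F) = D.x F s c}

/-- the centralizer of `x_{r0}(1)` -/
def Zsub (Δ : BNData D F) (r0 : ℕ) : Subgroup (GL D.Idx F) :=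
  Subgroup.centralizer {xU Δ.hB r0 (1 : F)}

theorem mem_Zsub {Δ : BNData D F} {r0 : ℕ} {g : GL D.Idx F} :
    g ∈ Zsub Δ r0 ↔ g * xU Δ.hB r0 1 * g⁻¹ = xU Δ.hB r0 1 := by
  unfold Zsub
  rw [Subgroup.mem_centralizer_iff]
  constructor
  · intro h
    have := h _ (Set.mem_singleton _)
    rw [mul_inv_eq_iff_eq_mul]; exact this.symm
  · intro h y hy
    rw [Set.mem_singleton_iff] at hy
    rw [hy]
    rw [mul_inv_eq_iff_eq_mul] at h; exact h.symm

section cdata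

variable {Δ : BNData D F} {r0 j : ℕ} {negs : List ℕ} (h : CData Δ r0 j negs)
include h

theorem U_le_R : D.posUnipotent F ≤ Rsub D F negs := le_sup_left

theorem xneg_mem_R {s : ℕ} (hs : s ∈ negs) (c : F) : xU Δ.hB s c ∈ Rsub D F negs :=
  Subgroup.mem_sup_right (Subgroup.subset_closure ⟨s, hs, c, xU_val Δ.hB s c⟩)

theorem U_le_Z : D.posUnipotent F ≤ Zsub Δ r0 := by
  unfold ChevalleyDatum.posUnipotent
  rw [Subgroup.closure_le]
  rintro g ⟨s, a, hs, hg⟩
  have e : g = xU Δ.hB s a := Units.ext (by rw [hg, xU_val])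
  rw [e, SetLike.mem_coe, mem_Zsub, mul_inv_eq_iff_eq_mul]
  exact h.hU s hs a 1

theorem conj_r0_of_mem_U {u : GL D.Idx F} (hu : u ∈ D.posUnipotent F) (t : F) :
    u * xU Δ.hB r0 t * u⁻¹ = xU Δ.hB r0 t := by
  have hle : D.posUnipotent F ≤ Subgroup.centralizer {xU Δ.hB r0 t} := by
    unfold ChevalleyDatum.posUnipotent
    rw [Subgroup.closure_le]
    rintro g ⟨s, a, hs, hg⟩
    have e : g = xU Δ.hB s a := Units.ext (by rw [hg, xU_val])
    rw [e, SetLike.mem_coe, Subgroup.mem_centralizer_iff]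
    intro y hy
    rw [Set.mem_singleton_iff] at hy
    rw [hy]
    exact (h.hU s hs a t).symm
  have h1 := Subgroup.mem_centralizer_iff.1 (hle hu) _ (Set.mem_singleton _)
  rw [mul_inv_eq_iff_eq_mul]
  exact h1.symm

theorem sc_r0_of_borel {b : GL D.Idx F} (hb : b ∈ D.borelSubgroup F) : Sc Δ.hB b r0 r0 := by
  have hb' : b ∈ ((D.posUnipotent F ⊔ D.diagonalSubgroup F : Subgroup (GL D.Idx F)) :
      Set (GL D.Idx F)) := hb
  rw [Subgroup.coe_mul_of_right_le_normalizer_left _ _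
    (diagonal_le_normalizer_posUnipotent Δ.hB Δ.hAll Δ.hAdd Δ.hH), Set.mem_mul] at hb'
  obtain ⟨u, hu, d, hd, rfl⟩ := hb'
  have h1 : Sc Δ.hB u r0 r0 :=
    ⟨1, one_ne_zero, fun t => by rw [one_mul]; exact conj_r0_of_mem_U h hu t⟩
  exact h1.mul (sc_of_diag Δ hd h.hlt)

theorem R_le : Rsub D F negs ≤ D.group F ⊓ Zsub Δ r0 := by
  unfold Rsub
  apply sup_le
  · exact le_inf (le_trans Δ.posUnipotent_le_borel Δ.borel_le_group) (U_le_Z h)
  · rw [Subgroup.closure_le]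
    rintro g ⟨s, hs, c, hg⟩
    have e : g = xU Δ.hB s c := Units.ext (by rw [hg, xU_val])
    obtain ⟨i, hi, hij, rfl⟩ := h.hnegs2 s hs
    have hlt : D.neg (D.simple i) < D.nroots := (Δ.hB.neg _ (Δ.hAll i hi).hS.1).1
    rw [e, SetLike.mem_coe, Subgroup.mem_inf]
    refine ⟨xU_mem_group Δ.hB hlt c, ?_⟩
    rw [mem_Zsub, mul_inv_eq_iff_eq_mul]
    exact h.hJ i hi hij c 1

theorem nU_mem_RZ {i : ℕ} (hi : i < D.rank) (hij : i ≠ j) :
    nU Δ.hB (D.simple i) (one_ne_zero (α := F)) ∈ Rsub D F negs ⊓ Zsub Δ r0 := by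
  have hpos : ∀ a : F, xU Δ.hB (D.simple i) a ∈ Rsub D F negs ⊓ Zsub Δ r0 := fun a =>
    have hm := Δ.xU_pos_mem ((Δ.hsign' _ (Δ.hAll i hi).hS.1).2 (Δ.hpN i hi)) a
    Subgroup.mem_inf.2 ⟨U_le_R h hm, U_le_Z h hm⟩
  have hneg : ∀ a : F, xU Δ.hB (D.neg (D.simple i)) a ∈ Rsub D F negs ⊓ Zsub Δ r0 := fun a => by
    rw [Subgroup.mem_inf]
    refine ⟨xneg_mem_R h (h.hnegs1 i hi hij) a, ?_⟩
    rw [mem_Zsub, mul_inv_eq_iff_eq_mul]
    exact h.hJ i hi hij a 1
  rw [nU_eq_mul]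
  exact Subgroup.mul_mem _ (Subgroup.mul_mem _ (hpos _) (hneg _)) (hpos _)

theorem torus_mem_R {x : GL D.Idx F} (hx : x ∈ D.diagonalSubgroup F) (hxZ : x ∈ Zsub Δ r0) :
    x ∈ Rsub D F negs := by
  obtain ⟨cc, hcc, hv⟩ := exists_torMat_of_mem_diagonal Δ.hB Δ.hH hx
  have h1 : x * xU Δ.hB r0 1 * x⁻¹ = xU Δ.hB r0 (torChar D cc r0 * 1) := by
    rw [mul_inv_eq_iff_eq_mul]
    apply Units.ext
    rw [Units.val_mul, Units.val_mul, hv, xU_val, xU_val]
    exact torMat_mul_x Δ.hB Δ.hAdd hcc h.hlt 1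
  rw [mem_Zsub.1 hxZ] at h1
  have h2 : torChar D cc r0 = 1 := by
    have := xU_inj' Δ h.hlt h1
    rw [mul_one] at this; exact this.symm
  have h3 : cc j = 1 := by
    rw [← h2]
    unfold torChar
    rw [Finset.prod_eq_single j]
    · rw [h.hcart j h.hj, if_pos rfl, zpow_one]
    · intro i hi hij
      rw [h.hcart i (Finset.mem_range.1 hi), if_neg hij, zpow_zero]
    · intro hj; exact absurd (Finset.mem_range.2 h.hj) hj
  have hx' : x = wordU Δ.hB ((List.range D.rank).flatMap fun i =>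
      D.hWord (D.simple i) (cc i)) := by
    apply Units.ext
    rw [hv, wordU_val, wordMat_eq_torMat Δ.hB Δ.hAll cc (fun i _ => hcc i)]
  rw [hx', wordU_flatMap]
  apply Subgroup.list_prod_mem
  intro y hy
  rw [List.mem_map] at hy
  obtain ⟨i, hi, rfl⟩ := hy
  have hi' := List.mem_range.1 hi
  by_cases hij : i = j
  · have e1 : wordU Δ.hB (D.hWord (D.simple i) (cc i)) = 1 := by
      apply Units.ext
      rw [wordU_val, hij, h3, Units.val_one]
      have e2 := hMat_eq_torMat (Δ.hH (D.simple j) (Δ.hAll j h.hj).hS.1) (one_ne_zero (α := F))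
      have e3 : (fun k => (1 : F) ^ corootC D (D.simple j) k) = fun _ => (1 : F) := by
        funext k; exact one_zpow _
      rw [e3, torMat_one] at e2
      exact e2
    rw [e1]; exact Subgroup.one_mem _
  · apply wordU_mem
    intro p hp
    have hpos : ∀ a : F, xU Δ.hB (D.simple i) a ∈ Rsub D F negs := fun a =>
      U_le_R h (Δ.xU_pos_mem ((Δ.hsign' _ (Δ.hAll i hi').hS.1).2 (Δ.hpN i hi')) a)
    have hneg : ∀ a : F, xU Δ.hB (D.neg (D.simple i)) a ∈ Rsub D F negs := fun a =>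
      xneg_mem_R h (h.hnegs1 i hi' hij) a
    simp only [ChevalleyDatum.hWord, ChevalleyDatum.nWord, List.mem_append, List.mem_cons,
      List.not_mem_nil, or_false] at hp
    rcases hp with (rfl | rfl | rfl) | (rfl | rfl | rfl)
    all_goals first | exact hpos _ | exact hneg _

/-- `C_G(x_{r0}(1)) ≤ ⟨U, X_{-p} : p ≠ p_j⟩` -/
theorem centralizer_le (hD : IsTabulated D) : D.group F ⊓ Zsub Δ r0 ≤ Rsub D F negs := by
  rintro g ⟨hgG, hgZ⟩
  obtain ⟨b, hb, n, hn, u, hu, rfl⟩ := Δ.exists_normal_form hgG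
  have huU : u ∈ D.posUnipotent F := Δ.unegGen_le_posUnipotent n hu
  have hb' : b ∈ ((D.posUnipotent F ⊔ D.diagonalSubgroup F : Subgroup (GL D.Idx F)) :
      Set (GL D.Idx F)) := hb
  rw [Subgroup.coe_mul_of_right_le_normalizer_left _ _
    (diagonal_le_normalizer_posUnipotent Δ.hB Δ.hAll Δ.hAdd Δ.hH), Set.mem_mul] at hb'
  obtain ⟨u1, hu1, h1, hh1, rfl⟩ := hb'
  have hu1Z : u1 ∈ Zsub Δ r0 := U_le_Z h hu1
  have huZ : u ∈ Zsub Δ r0 := U_le_Z h huU
  have hhnZ : h1 * n ∈ Zsub Δ r0 := by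
    have e : h1 * n = u1⁻¹ * (u1 * h1 * n * u) * u⁻¹ := by group
    rw [e]
    exact Subgroup.mul_mem _ (Subgroup.mul_mem _ (Subgroup.inv_mem _ hu1Z) hgZ)
      (Subgroup.inv_mem _ huZ)
  obtain ⟨s, hs, hns⟩ := sc_of_monomial Δ hn h.hlt
  have hsc : Sc Δ.hB (h1 * n) r0 s := (sc_of_diag Δ hh1 hs).mul hns
  have hsr : s = r0 := by
    obtain ⟨c, hc, hcc⟩ := hsc
    have e1 := hcc 1
    rw [mem_Zsub.1 hhnZ] at e1
    exact root_unique hD Δ h.hN h.hlt hs (c := c * 1) (by rw [mul_one]; exact hc) e1.symm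
  rw [hsr] at hns
  have hnM : n ∈ Subgroup.normalizer ((D.rootSubgroup F r0 : Subgroup (GL D.Idx F)) :
      Set (GL D.Idx F)) := mem_normalizer_of_cj_eq hns.cj_eq
  obtain ⟨M, hMdef⟩ : ∃ M : Subgroup ↥(D.group F), M = (Subgroup.normalizer
      ((D.rootSubgroup F r0 : Subgroup (GL D.Idx F)) : Set (GL D.Idx F))).subgroupOf
        (D.group F) := ⟨_, rfl⟩
  have hBM : Δ.bnPair.B ≤ M := by
    intro x hx
    rw [hMdef, Subgroup.mem_subgroupOf]
    exact mem_normalizer_of_cj_eq (sc_r0_of_borel h (Δ.mem_B_iff_val.1 hx)).cj_eq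
  have hnN : (⟨n, Δ.monomial_le_group hn⟩ : ↥(D.group F)) ∈ Δ.bnPair.N := Δ.mem_N_iff_val.2 hn
  have hnGM : (⟨n, Δ.monomial_le_group hn⟩ : ↥(D.group F)) ∈ M := by
    rw [hMdef, Subgroup.mem_subgroupOf]; exact hnM
  have h3 := mem_NJ_of_mem (P := Δ.bnPair) M hBM _ _ hnN hnGM rfl
  obtain ⟨c, hc, hch⟩ := exists_closure_of_mem_NJ (P := Δ.bnPair) Set.inter_subset_left h3
  have hcl : Subgroup.closure (Δ.bnPair.S ∩ (M : Set ↥(D.group F))) ≤
      (Rsub D F negs ⊓ Zsub Δ r0).subgroupOf (D.group F) := by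
    rw [Subgroup.closure_le]
    rintro x ⟨hxS, hxM⟩
    obtain ⟨i, hi, hx⟩ := hxS
    have hxv := Δ.coe_of_mem_Sset hx
    rw [SetLike.mem_coe, Subgroup.mem_subgroupOf, hxv]
    have hij : i ≠ j := by
      intro hij
      rw [hij] at hxv
      have hxM' : (x : GL D.Idx F) ∈ Subgroup.normalizer
          ((D.rootSubgroup F r0 : Subgroup (GL D.Idx F)) : Set (GL D.Idx F)) := by
        have := hxM
        rw [SetLike.mem_coe, hMdef, Subgroup.mem_subgroupOf] at this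
        exact this
      rw [hxv] at hxM'
      have h5 := ((Subgroup.mem_normalizer_iff.1 hxM') (xU Δ.hB r0 1)).1
        ((mem_rootSubgroup_iff Δ.hB).2 ⟨1, rfl⟩)
      rw [nU_conj_xU Δ.hB (Δ.hAll j h.hj) h.hlt] at h5
      obtain ⟨c', hc'⟩ := (mem_rootSubgroup_iff Δ.hB).1 h5
      have hη := etaR_sq (F := F) Δ.hB (Δ.hAll j h.hj) h.hlt
      have hne : ((etaR D (D.simple j) r0 : ℤ) : F) * 1 ≠ 0 := by
        rw [mul_one]; intro h0; rw [h0, zero_mul] at hη; exact zero_ne_one hη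
      exact h.hmove (root_unique hD Δ h.hN h.hlt
        (wR_lt Δ.hB (Δ.hAll j h.hj).hS.1 (Δ.hAll j h.hj).hR h.hlt) hne hc')
    exact nU_mem_RZ h hi hij
  have hcRZ := hcl hc
  rw [Subgroup.mem_subgroupOf] at hcRZ
  obtain ⟨hcR, hcZ⟩ := hcRZ
  have hh' : (c : GL D.Idx F)⁻¹ * n ∈ D.diagonalSubgroup F := Δ.mem_H_iff_val.1 hch
  have hcN : (c : GL D.Idx F) ∈ D.monomialSubgroup F := by
    have : (c : GL D.Idx F) = n * ((c : GL D.Idx F)⁻¹ * n)⁻¹ := by group
    rw [this]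
    exact Subgroup.mul_mem _ hn (Subgroup.inv_mem _ (Δ.diag_le_monomial hh'))
  have hnorm := monomial_le_normalizer Δ.hB Δ.hAll Δ.hH Δ.hReach (Subgroup.inv_mem _ hcN)
  have hconj : (c : GL D.Idx F)⁻¹ * h1 * ((c : GL D.Idx F)⁻¹)⁻¹ ∈ D.diagonalSubgroup F :=
    ((Subgroup.mem_normalizer_iff.1 hnorm) h1).1 hh1
  have hh'' : (c : GL D.Idx F)⁻¹ * h1 * ((c : GL D.Idx F)⁻¹)⁻¹ * ((c : GL D.Idx F)⁻¹ * n) ∈
      D.diagonalSubgroup F := Subgroup.mul_mem _ hconj hh'
  have hh''Z : (c : GL D.Idx F)⁻¹ * h1 * ((c : GL D.Idx F)⁻¹)⁻¹ * ((c : GL D.Idx F)⁻¹ * n) ∈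
      Zsub Δ r0 := by
    have e : (c : GL D.Idx F)⁻¹ * h1 * ((c : GL D.Idx F)⁻¹)⁻¹ * ((c : GL D.Idx F)⁻¹ * n) =
        (c : GL D.Idx F)⁻¹ * (h1 * n) := by group
    rw [e]
    exact Subgroup.mul_mem _ (Subgroup.inv_mem _ hcZ) hhnZ
  have hh''R := torus_mem_R h hh'' hh''Z
  have e : u1 * h1 * n * u = u1 * (c : GL D.Idx F) *
      ((c : GL D.Idx F)⁻¹ * h1 * ((c : GL D.Idx F)⁻¹)⁻¹ * ((c : GL D.Idx F)⁻¹ * n)) * u := by
    group
  rw [e]
  exact Subgroup.mul_mem _ (Subgroup.mul_mem _ (Subgroup.mul_mem _ (U_le_R h hu1) hcR) hh''R)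
    (U_le_R h huU)

end cdata

/-- the table check producing the data of a dominant root in characteristic two -/
def cdChk (D : ChevalleyDatum) (r0 j : ℕ) (negs : List ℕ) : Bool :=
  decide (D.nroots / 2 ≤ r0) && decide (r0 < D.nroots) && decide (j < D.rank) &&
  (allLt D.nroots fun s => decide (s < D.nroots / 2) || decide (s = r0) ||
    allL (commTermsG (ceF D) r0 s) fun c => decide (c.2.1 % 2 = 0)) &&
  (allLt D.rank fun i => decide (i = j) ||
    (allL (commTermsG (ceF D) r0 (negF D (D.simple i))) (fun c => decide (c.2.1 % 2 = 0)) &&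
      decide (negF D (D.simple i) ≠ r0) && decide (negF D (D.simple i) ≠ negF D r0) &&
      decide (negF D (D.simple i) ∈ negs))) &&
  decide (wD D j r0 ≠ r0) &&
  (allLt D.rank fun i => decide (cartanF D i r0 = if i = j then 1 else 0)) &&
  (allL negs fun s => anyLt D.rank fun i => decide (i ≠ j) && decide (s = negF D (D.simple i)))

theorem cdata_of_chk [CharP F 2] (Δ : BNData D F) {r0 j : ℕ} {negs : List ℕ}
    (hchk : cdChk D r0 j negs = true) : CData Δ r0 j negs := by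
  unfold cdChk at hchk
  rw [ceF_eq Δ.hF.keys Δ.hF.chk, negF_eq Δ.hF.chk, cartanF_eq Δ.hF.chk, commTermsG_eq] at hchk
  simp only [Bool.and_eq_true, Bool.or_eq_true, decide_eq_true_eq, allLt_iff, allL_iff,
    anyLt_iff] at hchk
  obtain ⟨⟨⟨⟨⟨⟨⟨h1, h2⟩, h3⟩, h4⟩, h5⟩, h6⟩, h7⟩, h8⟩ := hchk
  have hnr0 : D.neg r0 < D.nroots / 2 := by
    rw [Δ.neg_eq h2]; have := Δ.even; omega
  refine ⟨h1, h2, h3, ?_, ?_, ?_, h7, ?_, ?_⟩
  · intro s hs a t
    have hs' := hs.1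
    have hN : D.nroots / 2 ≤ s := (Δ.hsign' s hs').1 hs
    rcases h4 s hs' with (h | h) | h
    · omega
    · rw [h, xU_mul, xU_mul, add_comm]
    · by_cases e : s = r0
      · rw [e, xU_mul, xU_mul, add_comm]
      · exact comm_of_even Δ h2 hs' e (by omega) h a t
  · intro i hi hij a t
    rcases h5 i hi with h | ⟨⟨⟨h, h'⟩, h''⟩, _⟩
    · exact absurd h hij
    · exact comm_of_even Δ h2 (Δ.hB.neg _ (Δ.hAll i hi).hS.1).1 h' h'' h a t
  · rw [← wD_eq Δ.hF Δ.hn (fun s hs => wR_lt Δ.hB (Δ.hAll j h3).hS.1 (Δ.hAll j h3).hR hs) h2]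
    exact h6
  · intro i hi hij
    rcases h5 i hi with h | ⟨_, h⟩
    · exact absurd h hij
    · exact h
  · intro s hs
    obtain ⟨i, hi, hij, hsi⟩ := h8 s hs
    exact ⟨i, hi, hij, hsi⟩

/-- the centralizer of a dominant root element -/
theorem centralizer_eq_of_chk [CharP F 2] (hD : IsTabulated D) {r0 j : ℕ} {negs : List ℕ}
    (hchk : cdChk D r0 j negs = true) (t : GL D.Idx F)
    (ht : (t : Matrix D.Idx D.Idx F) = D.x F r0 1) :
    D.group F ⊓ Subgroup.centralizer {t} = D.posUnipotent F ⊔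
      Subgroup.closure {g : GL D.Idx F | ∃ s ∈ negs, ∃ c : F,
        (g : Matrix D.Idx D.Idx F) = D.x F s c} := by
  have Δ := bnData_of_tabulated F hD
  have h := cdata_of_chk Δ hchk
  have e : t = xU Δ.hB r0 1 := Units.ext (by rw [ht, xU_val])
  rw [e]
  exact le_antisymm (centralizer_le h hD) (R_le h)

end Cfsg.Agent.Helper2.HRoot
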