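import Mathlib
import Cfsg.Prelude.Def_Classical

/-! The action of `GL₂ × GL₂` on `2 × 2` matrices, `X ↦ g X adj(h)`, in `O₄⁺` coordinates. -/

set_option autoImplicit false
set_option linter.unusedSectionVars false
set_option linter.unusedVariables false
set_option linter.unusedSimpArgs false

namespace Cfsg.Agent.Helper2.Bil4

open Matrix

/-- index type of the hyperbolic four-space -/
abbrev I4 := Fin 2 ⊕ Fin 2

variable {F : Type*} [Field F]

/-- a vector as a `2 × 2` matrix -/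
def toX (v : I4 → F) : Matrix (Fin 2) (Fin 2) F :=
  !![v (.inl 0), v (.inl 1); -v (.inr 1), v (.inr 0)]

/-- a `2 × 2` matrix as a vector -/
def fromX (X : Matrix (Fin 2) (Fin 2) F) : I4 → F :=
  Sum.elim ![X 0 0, X 0 1] ![X 1 1, -X 1 0]

theorem fromX_toX (v : I4 → F) : fromX (toX v) = v := by
  funext i
  rcases i with i | i <;> fin_cases i <;> simp [fromX, toX]

theorem toX_fromX (X : Matrix (Fin 2) (Fin 2) F) : toX (fromX X) = X := by
  ext i j
  fin_cases i <;> fin_cases j <;> simp [fromX, toX]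

theorem toX_injective : Function.Injective (toX : (I4 → F) → Matrix (Fin 2) (Fin 2) F) := by
  intro v w h
  rw [← fromX_toX v, ← fromX_toX w, h]

theorem quad_eq (v : I4 → F) : Cfsg.quadFormPlus 2 F v = (toX v).det := by
  simp [Cfsg.quadFormPlus, toX, Matrix.det_fin_two, Fin.sum_univ_two]

/-- the matrix of `X ↦ g X adj(h)` -/
def bil0 (g h : Matrix (Fin 2) (Fin 2) F) : Matrix I4 I4 F :=
  Matrix.of fun i j => fromX (g * toX (Pi.single j 1) * h.adjugate) i

theorem toX_bil0_mulVec (g h : Matrix (Fin 2) (Fin 2) F) (v : I4 → F) :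
    toX (bil0 g h *ᵥ v) = g * toX v * h.adjugate := by
  ext i j
  fin_cases i <;> fin_cases j <;>
    simp [toX, bil0, fromX, Matrix.mulVec, dotProduct, Fintype.sum_sum_type, Fin.sum_univ_two,
      Matrix.mul_apply, Matrix.adjugate_fin_two, Pi.single_apply] <;> ring

theorem bil0_mul (g g' h h' : Matrix (Fin 2) (Fin 2) F) :
    bil0 (g * g') (h * h') = bil0 g h * bil0 g' h' := by
  rw [Matrix.ext_iff_mulVec]
  intro v
  apply toX_injective
  rw [← Matrix.mulVec_mulVec, toX_bil0_mulVec, toX_bil0_mulVec, toX_bil0_mulVec,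
    Matrix.adjugate_mul_distrib]
  simp only [Matrix.mul_assoc]

theorem bil0_one : bil0 (1 : Matrix (Fin 2) (Fin 2) F) 1 = 1 := by
  rw [Matrix.ext_iff_mulVec]
  intro v
  apply toX_injective
  rw [toX_bil0_mulVec, Matrix.adjugate_one, Matrix.one_mul, Matrix.mul_one, Matrix.one_mulVec]

theorem quad_bil0 (g h : Matrix (Fin 2) (Fin 2) F) (v : I4 → F) :
    Cfsg.quadFormPlus 2 F (bil0 g h *ᵥ v) = g.det * h.det * Cfsg.quadFormPlus 2 F v := by
  rw [quad_eq, quad_eq, toX_bil0_mulVec, Matrix.det_mul, Matrix.det_mul, Matrix.det_adjugate]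
  simp only [Fintype.card_fin, Nat.add_one_sub_one, pow_one]
  ring

theorem bil0_smul_left (r : F) (g h : Matrix (Fin 2) (Fin 2) F) :
    bil0 (r • g) h = r • bil0 g h := by
  rw [Matrix.ext_iff_mulVec]
  intro v
  apply toX_injective
  rw [toX_bil0_mulVec, Matrix.smul_mulVec]
  have : toX (r • (bil0 g h *ᵥ v)) = r • toX (bil0 g h *ᵥ v) := by
    ext i j
    fin_cases i <;> fin_cases j <;> simp [toX]
  rw [this, toX_bil0_mulVec, Matrix.smul_mul, Matrix.smul_mul]

/-- the scaled matrix: an isometry when `det g = det h` -/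
def bilM (p : GL (Fin 2) F × GL (Fin 2) F) : Matrix I4 I4 F :=
  ((p.1 : Matrix (Fin 2) (Fin 2) F).det)⁻¹ •
    bil0 (p.1 : Matrix (Fin 2) (Fin 2) F) (p.2 : Matrix (Fin 2) (Fin 2) F)

theorem det_ne_zero (g : GL (Fin 2) F) : (g : Matrix (Fin 2) (Fin 2) F).det ≠ 0 :=
  (Matrix.isUnits_det_units g).ne_zero

theorem bilM_mul (p p' : GL (Fin 2) F × GL (Fin 2) F) : bilM (p * p') = bilM p * bilM p' := by
  rw [bilM, bilM, bilM, Prod.fst_mul, Prod.snd_mul, Units.val_mul, Units.val_mul, bil0_mul,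
    Matrix.det_mul, Matrix.smul_mul, Matrix.mul_smul, smul_smul, mul_inv]

theorem bilM_one : bilM (1 : GL (Fin 2) F × GL (Fin 2) F) = 1 := by
  rw [bilM, Prod.fst_one, Prod.snd_one, Units.val_one, bil0_one, Matrix.det_one, inv_one, one_smul]

/-- the hom `GL₂ × GL₂ → GL₄` -/
def bilGL : GL (Fin 2) F × GL (Fin 2) F →* GL I4 F :=
  MonoidHom.toHomUnits
    { toFun := bilM
      map_one' := bilM_one
      map_mul' := bilM_mul }

theorem bilGL_coe (p : GL (Fin 2) F × GL (Fin 2) F) :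
    ((bilGL p : GL I4 F) : Matrix I4 I4 F) = bilM p := rfl

theorem quad_smul (c : F) (v : I4 → F) :
    Cfsg.quadFormPlus 2 F (c • v) = c ^ 2 * Cfsg.quadFormPlus 2 F v := by
  simp only [Cfsg.quadFormPlus, Pi.smul_apply, smul_eq_mul, Fin.sum_univ_two]
  ring

theorem bilGL_mem (p : GL (Fin 2) F × GL (Fin 2) F)
    (hp : (p.1 : Matrix (Fin 2) (Fin 2) F).det = (p.2 : Matrix (Fin 2) (Fin 2) F).det) :
    bilGL p ∈ Cfsg.isometryGroup F (Cfsg.quadFormPlus 2 F) := by
  intro u v
  change Cfsg.quadFormPlus 2 F (bilM p *ᵥ u) = Cfsg.quadFormPlus 2 F u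
  rw [bilM, Matrix.smul_mulVec, quad_smul, quad_bil0, ← hp]
  have := det_ne_zero p.1
  field_simp

end Cfsg.Agent.Helper2.Bil4
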