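import Mathlib
import Cfsg.Agent.Helper2.Bil4
import Cfsg.Agent.Helper2.OmegaGen3
import Cfsg.Agent.Helper2.GLComm
import Cfsg.Agent.Helper2.QuadPlus
import Cfsg.Agent.Helper2.Adj3Omega

/-! `PΩ₄⁺(q) ≃* PSL₂(q) × PSL₂(q)` for `q ≥ 3`. -/

set_option autoImplicit false
set_option linter.unusedSectionVars false
set_option linter.unusedVariables false
set_option linter.unusedSimpArgs false

namespace Cfsg.Agent.Helper2.Bil4

open Matrix Subgroup

variable {F : Type*} [Field F]

/-- the determinant-ratio character -/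
def delta : GL (Fin 2) F × GL (Fin 2) F →* Fˣ :=
  (GeneralLinearGroup.det.comp (MonoidHom.fst _ _)) *
    (GeneralLinearGroup.det.comp (MonoidHom.snd _ _))⁻¹

/-- the subgroup `det g = det h` of `GL₂ × GL₂` -/
def D (F : Type*) [Field F] : Subgroup (GL (Fin 2) F × GL (Fin 2) F) := delta.ker

theorem mem_D_iff (p : GL (Fin 2) F × GL (Fin 2) F) :
    p ∈ D F ↔ (p.1 : Matrix (Fin 2) (Fin 2) F).det = (p.2 : Matrix (Fin 2) (Fin 2) F).det := by
  rw [D, MonoidHom.mem_ker, delta, MonoidHom.mul_apply, MonoidHom.inv_apply, mul_inv_eq_one]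
  simp only [MonoidHom.coe_comp, MonoidHom.coe_fst, MonoidHom.coe_snd, Function.comp_apply]
  constructor
  · intro h
    have := congrArg Units.val h
    exact this
  · intro h
    exact Units.ext h

/-- the hom `D → GO₄⁺` -/
def phiD : D F →* Cfsg.isometryGroup F (Cfsg.quadFormPlus 2 F) :=
  (bilGL.comp (D F).subtype).codRestrict _ (fun p => bilGL_mem p.1 ((mem_D_iff _).mp p.2))

theorem phiD_coe (p : D F) :
    (((phiD p : Cfsg.isometryGroup F (Cfsg.quadFormPlus 2 F)) : GL I4 F) : Matrix I4 I4 F) =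
      bilM p.1 := rfl

theorem phiD_eq_one_iff (p : D F) : phiD p = 1 ↔ bilM p.1 = 1 := by
  constructor
  · intro h
    have := congrArg (fun x : Cfsg.isometryGroup F (Cfsg.quadFormPlus 2 F) =>
      ((x : GL I4 F) : Matrix I4 I4 F)) h
    exact this
  · intro h
    apply Subtype.ext
    apply Units.ext
    exact h

/-- a matrix commuting with the two elementary nilpotents is scalar -/
theorem scalar_of_commute (g : Matrix (Fin 2) (Fin 2) F)
    (h1 : g * !![0, 1; 0, 0] = !![0, 1; 0, 0] * g)
    (h2 : g * !![0, 0; 1, 0] = !![0, 0; 1, 0] * g) :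
    g = g 0 0 • (1 : Matrix (Fin 2) (Fin 2) F) := by
  have a1 := congrFun (congrFun h1 0) 0
  have a2 := congrFun (congrFun h1 0) 1
  have b1 := congrFun (congrFun h2 1) 1
  simp [Matrix.mul_apply, Fin.sum_univ_two] at a1 a2 b1
  ext i j
  fin_cases i <;> fin_cases j <;> simp
  · exact b1.symm
  · exact a1.symm
  · exact a2.symm

theorem bilM_eq_one_iff (p : GL (Fin 2) F × GL (Fin 2) F)
    (hp : (p.1 : Matrix (Fin 2) (Fin 2) F).det = (p.2 : Matrix (Fin 2) (Fin 2) F).det) :
    bilM p = 1 ↔ ∃ r : F, (p.1 : Matrix (Fin 2) (Fin 2) F) = r • (1 : Matrix (Fin 2) (Fin 2) F) ∧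
      (p.2 : Matrix (Fin 2) (Fin 2) F) = r • (1 : Matrix (Fin 2) (Fin 2) F) := by
  set g := (p.1 : Matrix (Fin 2) (Fin 2) F) with hg
  set h := (p.2 : Matrix (Fin 2) (Fin 2) F) with hh
  have hD : g.det ≠ 0 := det_ne_zero p.1
  have hDh : h.det ≠ 0 := det_ne_zero p.2
  constructor
  · intro h1
    -- for all X : g X adj h = det g • X
    have key : ∀ X : Matrix (Fin 2) (Fin 2) F, g * X * h.adjugate = g.det • X := by
      intro X
      have h2 : toX (bilM p *ᵥ fromX X) = toX (fromX X) := by rw [h1, Matrix.one_mulVec]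
      rw [bilM, Matrix.smul_mulVec] at h2
      have h3 : toX (g.det⁻¹ • (bil0 g h *ᵥ fromX X)) = g.det⁻¹ • toX (bil0 g h *ᵥ fromX X) := by
        ext i j
        fin_cases i <;> fin_cases j <;> simp [toX]
      rw [h3, toX_bil0_mulVec, toX_fromX] at h2
      have h4 := congrArg (fun M => g.det • M) h2
      simp only [smul_smul, mul_inv_cancel₀ hD, one_smul] at h4
      exact h4
    have hgh : g = h := by
      have k1 := key 1
      rw [Matrix.mul_one] at k1
      have k2 : h * h.adjugate = g.det • (1 : Matrix (Fin 2) (Fin 2) F) := by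
        rw [Matrix.mul_adjugate, hp]
      have k3 : (g - h) * h.adjugate = 0 := by rw [Matrix.sub_mul, k1, k2, sub_self]
      have k4 : (g - h) * h.adjugate * h = 0 := by rw [k3, Matrix.zero_mul]
      rw [Matrix.mul_assoc, Matrix.adjugate_mul, Matrix.mul_smul, Matrix.mul_one] at k4
      have k5 : g - h = 0 := by
        have := congrArg (fun M => h.det⁻¹ • M) k4
        simp only [smul_smul, inv_mul_cancel₀ hDh, one_smul, smul_zero] at this
        exact this
      exact sub_eq_zero.mp k5
    have hcomm : ∀ X : Matrix (Fin 2) (Fin 2) F, g * X = X * g := by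
      intro X
      have k1 := key X
      rw [← hgh] at k1
      have k2 : g * X * g.adjugate * g = g.det • X * g := by rw [k1]
      rw [Matrix.mul_assoc, Matrix.adjugate_mul, Matrix.mul_smul, Matrix.mul_one,
        Matrix.smul_mul] at k2
      have := congrArg (fun M => g.det⁻¹ • M) k2
      simp only [smul_smul, inv_mul_cancel₀ hD, one_smul] at this
      exact this
    have hs := scalar_of_commute g (hcomm _) (hcomm _)
    exact ⟨g 0 0, hs, by rw [← hgh]; exact hs⟩
  · rintro ⟨r, hr1, hr2⟩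
    have hr0 : r ≠ 0 := by
      intro h0; rw [hr1, h0, zero_smul, Matrix.det_zero] at hD; exact hD rfl
    rw [Matrix.ext_iff_mulVec]
    intro v
    apply toX_injective
    rw [bilM, Matrix.smul_mulVec]
    have h3 : toX (g.det⁻¹ • (bil0 g h *ᵥ v)) = g.det⁻¹ • toX (bil0 g h *ᵥ v) := by
      ext i j
      fin_cases i <;> fin_cases j <;> simp [toX]
    rw [h3, toX_bil0_mulVec, Matrix.one_mulVec, hr1, hr2]
    have hadj : (r • (1 : Matrix (Fin 2) (Fin 2) F)).adjugate = r • 1 := by
      rw [Matrix.adjugate_smul, Matrix.adjugate_one]; simp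
    rw [hadj, Matrix.det_smul, Matrix.det_one]
    simp only [Fintype.card_fin, mul_one, Matrix.smul_mul, Matrix.one_mul, Matrix.mul_smul,
      Matrix.mul_one, smul_smul]
    have : (r ^ 2)⁻¹ * (r * r) = 1 := by field_simp
    rw [this, one_smul]

/-- the diagonal scalar embedding `Fˣ → D` -/
def sigma : Fˣ →* D F :=
  ((GeneralLinearGroup.scalar (Fin 2)).prod (GeneralLinearGroup.scalar (Fin 2))).codRestrict _
    (fun r => by rw [mem_D_iff]; rfl)

theorem sigma_injective : Function.Injective (sigma : Fˣ →* D F) := by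
  intro u v huv
  have h1 := congrArg (fun p : D F => ((p.1.1 : GL (Fin 2) F) : Matrix (Fin 2) (Fin 2) F) 0 0) huv
  simp only [sigma, MonoidHom.codRestrict_apply, MonoidHom.prod_apply,
    GeneralLinearGroup.coe_scalar, Matrix.scalar_apply, Matrix.diagonal_apply_eq] at h1
  exact Units.ext h1

theorem phiD_ker_eq : (phiD : D F →* _).ker = (sigma : Fˣ →* D F).range := by
  ext p
  rw [MonoidHom.mem_ker, MonoidHom.mem_range, phiD_eq_one_iff,
    bilM_eq_one_iff p.1 ((mem_D_iff _).mp p.2)]
  constructor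
  · rintro ⟨r, hr1, hr2⟩
    have hr0 : r ≠ 0 := by
      intro h0
      have hD := det_ne_zero p.1.1
      rw [hr1, h0, zero_smul, Matrix.det_zero] at hD; exact hD rfl
    refine ⟨Units.mk0 r hr0, ?_⟩
    apply Subtype.ext
    apply Prod.ext
    · apply Units.ext
      change (GeneralLinearGroup.scalar (Fin 2) (Units.mk0 r hr0) : Matrix (Fin 2) (Fin 2) F) = _
      rw [GeneralLinearGroup.coe_scalar, hr1, Matrix.smul_one_eq_diagonal]
      rfl
    · apply Units.ext
      change (GeneralLinearGroup.scalar (Fin 2) (Units.mk0 r hr0) : Matrix (Fin 2) (Fin 2) F) = _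
      rw [GeneralLinearGroup.coe_scalar, hr2, Matrix.smul_one_eq_diagonal]
      rfl
  · rintro ⟨u, rfl⟩
    refine ⟨(u : F), ?_, ?_⟩
    · change (GeneralLinearGroup.scalar (Fin 2) u : Matrix (Fin 2) (Fin 2) F) = _
      rw [GeneralLinearGroup.coe_scalar, Matrix.smul_one_eq_diagonal]
      rfl
    · change (GeneralLinearGroup.scalar (Fin 2) u : Matrix (Fin 2) (Fin 2) F) = _
      rw [GeneralLinearGroup.coe_scalar, Matrix.smul_one_eq_diagonal]
      rfl

theorem card_phiD_ker [Fintype F] :
    Nat.card (phiD : D F →* _).ker = Fintype.card F - 1 := by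
  rw [phiD_ker_eq, ← Nat.card_congr (MonoidHom.ofInjective sigma_injective).toEquiv,
    card_units_field]

theorem delta_surjective : Function.Surjective (delta : GL (Fin 2) F × GL (Fin 2) F →* Fˣ) := by
  intro u
  obtain ⟨g, hg⟩ := GeneralLinearGroup.det_surjective (n := Fin 2) (R := F) u
  refine ⟨(g, 1), ?_⟩
  rw [delta, MonoidHom.mul_apply, MonoidHom.inv_apply]
  simp [hg]

theorem card_D_mul [Fintype F] :
    Nat.card (D F) * (Fintype.card F - 1) = Nat.card (GL (Fin 2) F) ^ 2 := by
  have h1 := Subgroup.card_eq_card_quotient_mul_card_subgroup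
    (delta : GL (Fin 2) F × GL (Fin 2) F →* Fˣ).ker
  rw [Nat.card_congr (QuotientGroup.quotientKerEquivOfSurjective _ delta_surjective).toEquiv,
    card_units_field, Nat.card_prod] at h1
  rw [D, sq, h1, mul_comm]

/-- the embedding `SL₂ × SL₂ → D` -/
def iota : SpecialLinearGroup (Fin 2) F × SpecialLinearGroup (Fin 2) F →* D F :=
  ((SpecialLinearGroup.toGL : SpecialLinearGroup (Fin 2) F →* GL (Fin 2) F).prodMap
    (SpecialLinearGroup.toGL : SpecialLinearGroup (Fin 2) F →* GL (Fin 2) F)).codRestrict _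
    (fun p => by
      rw [mem_D_iff]
      change (p.1 : Matrix (Fin 2) (Fin 2) F).det = (p.2 : Matrix (Fin 2) (Fin 2) F).det
      rw [p.1.2, p.2.2])

theorem iota_coe (p : SpecialLinearGroup (Fin 2) F × SpecialLinearGroup (Fin 2) F) :
    ((iota p : D F) : GL (Fin 2) F × GL (Fin 2) F) =
      (SpecialLinearGroup.toGL p.1, SpecialLinearGroup.toGL p.2) := rfl

/-- the diagonal section of the determinant -/
def cdiag : Fˣ →* GL (Fin 2) F :=
  Units.map
    { toFun := fun x => Matrix.diagonal ![x, 1]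
      map_one' := by
        ext i j
        fin_cases i <;> fin_cases j <;> simp
      map_mul' := fun x y => by
        rw [Matrix.diagonal_mul_diagonal]
        congr 1
        funext i
        fin_cases i <;> simp }

theorem det_cdiag (u : Fˣ) : GeneralLinearGroup.det (cdiag u : GL (Fin 2) F) = u := by
  apply Units.ext
  change (Matrix.diagonal ![(u : F), 1]).det = u
  rw [Matrix.det_diagonal, Fin.prod_univ_two]
  simp

/-- `g ↦ (g, diag(det g, 1))` -/
def j1 : GL (Fin 2) F →* D F :=
  ((MonoidHom.id (GL (Fin 2) F)).prod (cdiag.comp GeneralLinearGroup.det)).codRestrict _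
    (fun g => by
      rw [D, MonoidHom.mem_ker, delta, MonoidHom.mul_apply, MonoidHom.inv_apply, mul_inv_eq_one]
      simp [det_cdiag])

/-- `g ↦ (diag(det g, 1), g)` -/
def j2 : GL (Fin 2) F →* D F :=
  ((cdiag.comp GeneralLinearGroup.det).prod (MonoidHom.id (GL (Fin 2) F))).codRestrict _
    (fun g => by
      rw [D, MonoidHom.mem_ker, delta, MonoidHom.mul_apply, MonoidHom.inv_apply, mul_inv_eq_one]
      simp [det_cdiag])

theorem det_toGL (s : SpecialLinearGroup (Fin 2) F) :
    GeneralLinearGroup.det (SpecialLinearGroup.toGL s : GL (Fin 2) F) = 1 := by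
  apply Units.ext
  change (s : Matrix (Fin 2) (Fin 2) F).det = 1
  exact s.2

theorem j1_toGL (s : SpecialLinearGroup (Fin 2) F) :
    j1 (SpecialLinearGroup.toGL s) = iota (s, 1) := by
  apply Subtype.ext
  apply Prod.ext
  · rfl
  · change cdiag (GeneralLinearGroup.det (SpecialLinearGroup.toGL s : GL (Fin 2) F)) =
      SpecialLinearGroup.toGL (1 : SpecialLinearGroup (Fin 2) F)
    rw [det_toGL, map_one, map_one]

theorem j2_toGL (s : SpecialLinearGroup (Fin 2) F) :
    j2 (SpecialLinearGroup.toGL s) = iota (1, s) := by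
  apply Subtype.ext
  apply Prod.ext
  · change cdiag (GeneralLinearGroup.det (SpecialLinearGroup.toGL s : GL (Fin 2) F)) =
      SpecialLinearGroup.toGL (1 : SpecialLinearGroup (Fin 2) F)
    rw [det_toGL, map_one, map_one]
  · rfl

theorem map_commutator_le {G H : Type*} [Group G] [Group H] (f : G →* H) :
    (commutator G).map f ≤ commutator H := by
  rw [commutator_def, Subgroup.map_commutator, commutator_def]
  exact Subgroup.commutator_mono le_top le_top

theorem commutator_D_eq (hex : ∃ a : F, a ≠ 0 ∧ a ≠ 1) :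
    commutator (D F) = (iota : _ →* D F).range := by
  have hcomm : commutator (GL (Fin 2) F) =
      (SpecialLinearGroup.toGL : SpecialLinearGroup (Fin 2) F →* GL (Fin 2) F).range := by
    rw [commutator_GL_eq_ker_det (fun _ => hex), range_toGL_eq_ker_det]
  apply le_antisymm
  · -- commutator D ≤ ker (det ∘ fst)
    have h1 := Abelianization.commutator_subset_ker
      ((GeneralLinearGroup.det.comp (MonoidHom.fst (GL (Fin 2) F) (GL (Fin 2) F))).comp
        (D F).subtype)
    intro p hp
    have h2 := h1 hp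
    rw [MonoidHom.mem_ker] at h2
    have h3 : (p.1.1 : Matrix (Fin 2) (Fin 2) F).det = 1 := by
      have := congrArg Units.val h2
      exact this
    have h4 : (p.1.2 : Matrix (Fin 2) (Fin 2) F).det = 1 := by
      rw [← (mem_D_iff _).mp p.2]; exact h3
    refine ⟨(⟨(p.1.1 : Matrix (Fin 2) (Fin 2) F), h3⟩, ⟨(p.1.2 : Matrix (Fin 2) (Fin 2) F), h4⟩), ?_⟩
    apply Subtype.ext
    apply Prod.ext
    · apply Units.ext; rfl
    · apply Units.ext; rfl
  · rintro _ ⟨⟨s, t⟩, rfl⟩
    have hs : iota (s, 1) ∈ commutator (D F) := by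
      rw [← j1_toGL]
      apply map_commutator_le j1
      apply Subgroup.mem_map_of_mem
      rw [hcomm]; exact ⟨s, rfl⟩
    have ht : iota (1, t) ∈ commutator (D F) := by
      rw [← j2_toGL]
      apply map_commutator_le j2
      apply Subgroup.mem_map_of_mem
      rw [hcomm]; exact ⟨t, rfl⟩
    have : iota (s, t) = iota (s, 1) * iota (1, t) := by
      rw [← map_mul]; simp
    rw [this]
    exact mul_mem hs ht

/-- the hom `SL₂ × SL₂ → GO₄⁺` -/
def psi : SpecialLinearGroup (Fin 2) F × SpecialLinearGroup (Fin 2) F →*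
    Cfsg.isometryGroup F (Cfsg.quadFormPlus 2 F) := phiD.comp iota

theorem psi_ker_scalar (p : SpecialLinearGroup (Fin 2) F × SpecialLinearGroup (Fin 2) F)
    (hp : p ∈ (psi : _ →* Cfsg.isometryGroup F (Cfsg.quadFormPlus 2 F)).ker) :
    ∃ r : F, r ^ 2 = 1 ∧ (p.1 : Matrix (Fin 2) (Fin 2) F) = r • (1 : Matrix (Fin 2) (Fin 2) F) ∧
      (p.2 : Matrix (Fin 2) (Fin 2) F) = r • (1 : Matrix (Fin 2) (Fin 2) F) := by
  rw [MonoidHom.mem_ker] at hp
  have h1 : phiD (iota p) = 1 := hp
  rw [phiD_eq_one_iff, bilM_eq_one_iff _ ((mem_D_iff _).mp (iota p).2)] at h1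
  obtain ⟨r, hr1, hr2⟩ := h1
  have hr1' : (p.1 : Matrix (Fin 2) (Fin 2) F) = r • (1 : Matrix (Fin 2) (Fin 2) F) := hr1
  have hr2' : (p.2 : Matrix (Fin 2) (Fin 2) F) = r • (1 : Matrix (Fin 2) (Fin 2) F) := hr2
  refine ⟨r, ?_, hr1', hr2'⟩
  have hdet := p.1.2
  rw [hr1', Matrix.det_smul, Matrix.det_one, Fintype.card_fin, mul_one] at hdet
  exact hdet

theorem card_psi_ker_dvd_two [Finite F] :
    Nat.card (psi : _ →* Cfsg.isometryGroup F (Cfsg.quadFormPlus 2 F)).ker ∣ 2 := by
  classical
  let f : (psi : _ →* Cfsg.isometryGroup F (Cfsg.quadFormPlus 2 F)).ker → Bool :=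
    fun A => decide ((A.1.1 : Matrix (Fin 2) (Fin 2) F) 0 0 = 1)
  have hinj : Function.Injective f := by
    intro A B hAB
    obtain ⟨r, hr, hA1, hA2⟩ := psi_ker_scalar A.1 A.2
    obtain ⟨s, hs, hB1, hB2⟩ := psi_ker_scalar B.1 B.2
    have hA0 : (A.1.1 : Matrix (Fin 2) (Fin 2) F) 0 0 = r := by rw [hA1]; simp
    have hB0 : (B.1.1 : Matrix (Fin 2) (Fin 2) F) 0 0 = s := by rw [hB1]; simp
    have hrs : r = s := by
      simp only [f, hA0, hB0, decide_eq_decide] at hAB
      rcases sq_eq_one_iff.mp hr with h1 | h1 <;> rcases sq_eq_one_iff.mp hs with h2 | h2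
      · rw [h1, h2]
      · exact (hAB.mp h1).symm ▸ h1 |>.trans (by rw [hAB.mp h1])
      · exact (hAB.mpr h2).trans h2.symm ▸ rfl
      · rw [h1, h2]
    apply Subtype.ext
    apply Prod.ext
    · apply Subtype.ext; rw [hA1, hB1, hrs]
    · apply Subtype.ext; rw [hA2, hB2, hrs]
  have hle : Nat.card (psi : _ →* Cfsg.isometryGroup F (Cfsg.quadFormPlus 2 F)).ker ≤ 2 := by
    have := Nat.card_le_card_of_injective f hinj
    simpa using this
  have hpos : 0 < Nat.card (psi : _ →* Cfsg.isometryGroup F (Cfsg.quadFormPlus 2 F)).ker :=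
    Nat.card_pos
  interval_cases Nat.card (psi : _ →* Cfsg.isometryGroup F (Cfsg.quadFormPlus 2 F)).ker <;>
    norm_num

/-- the projection to `PSL₂ × PSL₂` -/
def proj : SpecialLinearGroup (Fin 2) F × SpecialLinearGroup (Fin 2) F →*
    Matrix.ProjectiveSpecialLinearGroup (Fin 2) F × Matrix.ProjectiveSpecialLinearGroup (Fin 2) F :=
  (QuotientGroup.mk' (center (SpecialLinearGroup (Fin 2) F))).prodMap
    (QuotientGroup.mk' (center (SpecialLinearGroup (Fin 2) F)))

theorem proj_surjective : Function.Surjective (proj : _ →*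
    Matrix.ProjectiveSpecialLinearGroup (Fin 2) F × Matrix.ProjectiveSpecialLinearGroup (Fin 2) F) :=
  Function.Surjective.prodMap (QuotientGroup.mk'_surjective _) (QuotientGroup.mk'_surjective _)

theorem mem_proj_ker (p : SpecialLinearGroup (Fin 2) F × SpecialLinearGroup (Fin 2) F) :
    p ∈ (proj : _ →* Matrix.ProjectiveSpecialLinearGroup (Fin 2) F ×
      Matrix.ProjectiveSpecialLinearGroup (Fin 2) F).ker ↔
    p.1 ∈ center (SpecialLinearGroup (Fin 2) F) ∧ p.2 ∈ center (SpecialLinearGroup (Fin 2) F) := by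
  rw [MonoidHom.mem_ker, proj, MonoidHom.prodMap_def, MonoidHom.prod_apply, Prod.mk_eq_one]
  simp only [MonoidHom.coe_comp, Function.comp_apply, MonoidHom.coe_fst, MonoidHom.coe_snd,
    QuotientGroup.mk'_apply, QuotientGroup.eq_one_iff]

theorem proj_ker_le_center : (proj : _ →* Matrix.ProjectiveSpecialLinearGroup (Fin 2) F ×
    Matrix.ProjectiveSpecialLinearGroup (Fin 2) F).ker ≤
    center (SpecialLinearGroup (Fin 2) F × SpecialLinearGroup (Fin 2) F) := by
  intro p hp
  rw [mem_proj_ker] at hp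
  rw [Subgroup.mem_center_iff]
  intro x
  apply Prod.ext
  · exact Subgroup.mem_center_iff.mp hp.1 x.1
  · exact Subgroup.mem_center_iff.mp hp.2 x.2

theorem psi_ker_le_proj_ker : (psi : _ →* Cfsg.isometryGroup F (Cfsg.quadFormPlus 2 F)).ker ≤
    (proj : _ →* Matrix.ProjectiveSpecialLinearGroup (Fin 2) F ×
      Matrix.ProjectiveSpecialLinearGroup (Fin 2) F).ker := by
  intro p hp
  obtain ⟨r, hr, h1, h2⟩ := psi_ker_scalar p hp
  rw [mem_proj_ker, Matrix.SpecialLinearGroup.mem_center_iff,
    Matrix.SpecialLinearGroup.mem_center_iff]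
  refine ⟨⟨r, by rw [Fintype.card_fin]; exact hr, ?_⟩, ⟨r, by rw [Fintype.card_fin]; exact hr, ?_⟩⟩
  · rw [h1, Matrix.smul_one_eq_diagonal]; rfl
  · rw [h2, Matrix.smul_one_eq_diagonal]; rfl

theorem center_prod_PSL2_eq_bot :
    center (Matrix.ProjectiveSpecialLinearGroup (Fin 2) F ×
      Matrix.ProjectiveSpecialLinearGroup (Fin 2) F) = ⊥ := by
  rw [eq_bot_iff]
  intro p hp
  rw [Subgroup.mem_bot]
  have h1 : p.1 ∈ center (Matrix.ProjectiveSpecialLinearGroup (Fin 2) F) := by
    rw [Subgroup.mem_center_iff]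
    intro x
    have := Subgroup.mem_center_iff.mp hp (x, 1)
    exact congrArg Prod.fst this
  have h2 : p.2 ∈ center (Matrix.ProjectiveSpecialLinearGroup (Fin 2) F) := by
    rw [Subgroup.mem_center_iff]
    intro x
    have := Subgroup.mem_center_iff.mp hp (1, x)
    exact congrArg Prod.snd this
  rw [Adj3.center_PSL2_eq_bot, Subgroup.mem_bot] at h1 h2
  exact Prod.ext h1 h2

theorem card_GO4_mul [Fintype F] :
    Nat.card (Cfsg.isometryGroup F (Cfsg.quadFormPlus 2 F)) * (Fintype.card F - 1) ^ 2 =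
      2 * Nat.card (GL (Fin 2) F) ^ 2 := by
  set q := Fintype.card F with hq
  have hq2 : 2 ≤ q := Fintype.one_lt_card
  rw [Quad.card_GO_plus (F := F) (q := q) rfl 2 (by norm_num), Matrix.card_GL_field, ← hq,
    Fin.prod_univ_two]
  simp only [Finset.prod_range_one, Fin.val_zero, Fin.val_one, pow_zero, pow_one]
  have e1 : q ^ 2 - q = q * (q - 1) := by
    rw [Nat.mul_sub]; ring_nf
  rw [e1]
  norm_num
  ring

theorem card_GO4_eq [Fintype F] :
    Nat.card (Cfsg.isometryGroup F (Cfsg.quadFormPlus 2 F)) =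
      2 * Nat.card (SpecialLinearGroup (Fin 2) F × SpecialLinearGroup (Fin 2) F) := by
  have hq2 : 2 ≤ Fintype.card F := Fintype.one_lt_card
  have h1 := card_GO4_mul (F := F)
  have h2 := card_SL_mul_card_units (ι := Fin 2) (F := F)
  rw [card_units_field] at h2
  rw [← h2] at h1
  have hpos : 0 < (Fintype.card F - 1) ^ 2 := pow_pos (by omega) 2
  apply Nat.eq_of_mul_eq_mul_right hpos
  rw [h1, Nat.card_prod]; ring

theorem nonempty_mulEquiv [Fintype F] (hF : 3 ≤ Fintype.card F) :
    Nonempty (Cfsg.POmega F (Cfsg.quadFormPlus 2 F) ≃*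
      Matrix.ProjectiveSpecialLinearGroup (Fin 2) F ×
        Matrix.ProjectiveSpecialLinearGroup (Fin 2) F) := by
  have hex : ∃ a : F, a ≠ 0 ∧ a ≠ 1 := by
    classical
    by_contra hne
    push Not at hne
    have : Fintype.card F ≤ 2 := by
      have hsub : (Finset.univ : Finset F) ⊆ {0, 1} := by
        intro x _
        by_cases hx : x = 0
        · simp [hx]
        · simp [hne x hx]
      calc Fintype.card F = (Finset.univ : Finset F).card := rfl
        _ ≤ ({0, 1} : Finset F).card := Finset.card_le_card hsub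
        _ ≤ 2 := Finset.card_le_two
    omega
  have hq2 : 2 ≤ Fintype.card F := Fintype.one_lt_card
  have h2 : (phiD : D F →* _).range.index ∣ 2 := by
    rw [OmegaGen.index_dvd_of_card phiD 2 (by
      rw [card_phiD_ker]
      have hpos : 0 < Fintype.card F - 1 := by omega
      apply Nat.eq_of_mul_eq_mul_right hpos
      have h1 := card_GO4_mul (F := F)
      have h3 := card_D_mul (F := F)
      rw [mul_assoc, ← sq, h1, mul_assoc, h3])]
  have hmap : (commutator (D F)).map phiD =
      (psi : _ →* Cfsg.isometryGroup F (Cfsg.quadFormPlus 2 F)).range := by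
    rw [commutator_D_eq hex, MonoidHom.map_range]; rfl
  have h4 : (psi : _ →* Cfsg.isometryGroup F (Cfsg.quadFormPlus 2 F)).range.index ∣ 4 :=
    OmegaGen.index_dvd_four_of_card psi card_GO4_eq card_psi_ker_dvd_two
  have hrange := OmegaGen.commutator_eq_map_commutator phiD h2 (hmap ▸ h4)
  rw [hmap] at hrange
  exact OmegaGen.nonempty_mulEquiv_of_range_eq' psi hrange proj proj_surjective
    proj_ker_le_center psi_ker_le_proj_ker center_prod_PSL2_eq_bot

end Cfsg.Agent.Helper2.Bil4
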