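import Mathlib
import Cfsg.Agent.Helper2.StPerfB

set_option autoImplicit false
set_option linter.unusedSectionVars false
set_option linter.unusedSimpArgs false
set_option linter.unusedVariables false

/-! A group generated by elements satisfying Steinberg's relations (R1), (R2) of a tabulated type
is perfect (`G₂`, `B₂` over the field with two elements excepted). -/

namespace Cfsg.Agent.Helper2.StPerf

open Cfsg.Lie

variable {F : Type*} [Field F] {M : Type*} [Group M]

theorem inDer_G2 {X : ℕ → F → M} (h : R12 chevG2 X)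
    {l : F} (hl0 : l ≠ 0) (hl1 : l ≠ 1) : ∀ r < chevG2.nroots, InDer X r := by
  have hT_1_5 : chevG2.commTerms 1 5 = [(0, 1, 1, 1)] := by decide +kernel
  have h0 : InDer X 0 := inDer_of_single h (by decide) (by decide) (by decide) (by decide) hT_1_5 (by norm_num)
  have hT_0_6 : chevG2.commTerms 0 6 = [(1, 1, 1, 1)] := by decide +kernel
  have h1 : InDer X 1 := inDer_of_single h (by decide) (by decide) (by decide) (by decide) hT_0_6 (by norm_num)
  have hT_0_10 : chevG2.commTerms 0 10 = [(5, -1, 1, 1)] := by decide +kernel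
  have h5 : InDer X 5 := inDer_of_single h (by decide) (by decide) (by decide) (by decide) hT_0_10 (by norm_num)
  have hT_1_11 : chevG2.commTerms 1 11 = [(6, -1, 1, 1)] := by decide +kernel
  have h6 : InDer X 6 := inDer_of_single h (by decide) (by decide) (by decide) (by decide) hT_1_11 (by norm_num)
  have hT_5_11 : chevG2.commTerms 5 11 = [(10, 1, 1, 1)] := by decide +kernel
  have h10 : InDer X 10 := inDer_of_single h (by decide) (by decide) (by decide) (by decide) hT_5_11 (by norm_num)
  have hT_6_10 : chevG2.commTerms 6 10 = [(11, 1, 1, 1)] := by decide +kernel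
  have h11 : InDer X 11 := inDer_of_single h (by decide) (by decide) (by decide) (by decide) hT_6_10 (by norm_num)
  have hT_2_10 : chevG2.commTerms 2 10 = [(7, -1, 1, 1), (3, 1, 2, 1), (0, 1, 3, 1), (5, 1, 3, 2)] := by decide +kernel
  have hd_2_10 := inDer_of_double h (by decide) (by decide) (by decide) (by decide) (by decide) (by decide) hT_2_10 (by norm_num) (by norm_num)
    (by
      intro p hp
      simp only [List.mem_cons, List.not_mem_nil, or_false] at hp
      rcases hp with rfl | rfl
      · exact h0
      · exact h5) hl0 hl1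
  have h7 : InDer X 7 := hd_2_10.1
  have h3 : InDer X 3 := hd_2_10.2
  have hT_2_11 : chevG2.commTerms 2 11 = [(8, -1, 1, 1), (4, -1, 2, 1), (1, -1, 3, 1), (6, -1, 3, 2)] := by decide +kernel
  have hd_2_11 := inDer_of_double h (by decide) (by decide) (by decide) (by decide) (by decide) (by decide) hT_2_11 (by norm_num) (by norm_num)
    (by
      intro p hp
      simp only [List.mem_cons, List.not_mem_nil, or_false] at hp
      rcases hp with rfl | rfl
      · exact h1
      · exact h6) hl0 hl1
  have h8 : InDer X 8 := hd_2_11.1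
  have h4 : InDer X 4 := hd_2_11.2
  have hT_3_6 : chevG2.commTerms 3 6 = [(4, 1, 1, 1), (2, -1, 2, 1), (0, 1, 3, 1), (1, -1, 3, 2)] := by decide +kernel
  have hd_3_6 := inDer_of_double h (by decide) (by decide) (by decide) (by decide) (by decide) (by decide) hT_3_6 (by norm_num) (by norm_num)
    (by
      intro p hp
      simp only [List.mem_cons, List.not_mem_nil, or_false] at hp
      rcases hp with rfl | rfl
      · exact h0
      · exact h1) hl0 hl1
  have h4 : InDer X 4 := hd_3_6.1
  have h2 : InDer X 2 := hd_3_6.2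
  have hT_3_11 : chevG2.commTerms 3 11 = [(9, 1, 1, 1), (7, 1, 2, 1), (5, -1, 3, 1), (10, 1, 3, 2)] := by decide +kernel
  have hd_3_11 := inDer_of_double h (by decide) (by decide) (by decide) (by decide) (by decide) (by decide) hT_3_11 (by norm_num) (by norm_num)
    (by
      intro p hp
      simp only [List.mem_cons, List.not_mem_nil, or_false] at hp
      rcases hp with rfl | rfl
      · exact h5
      · exact h10) hl0 hl1
  have h9 : InDer X 9 := hd_3_11.1
  have h7 : InDer X 7 := hd_3_11.2
  intro r hr
  have hr' : r < 12 := hr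
  interval_cases r
  · exact h0
  · exact h1
  · exact h2
  · exact h3
  · exact h4
  · exact h5
  · exact h6
  · exact h7
  · exact h8
  · exact h9
  · exact h10
  · exact h11

theorem inDer_B2 {X : ℕ → F → M} (h : R12 chevB2 X)
    {l : F} (hl0 : l ≠ 0) (hl1 : l ≠ 1) : ∀ r < chevB2.nroots, InDer X r := by
  have hT_1_4 : chevB2.commTerms 1 4 = [(2, 1, 1, 1), (0, 1, 2, 1)] := by decide +kernel
  have hd_1_4 := inDer_of_double h (by decide) (by decide) (by decide) (by decide) (by decide) (by decide) hT_1_4 (by norm_num) (by norm_num)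
    (by intro p hp; simp at hp) hl0 hl1
  have h2 : InDer X 2 := hd_1_4.1
  have h0 : InDer X 0 := hd_1_4.2
  have hT_1_7 : chevB2.commTerms 1 7 = [(5, -1, 1, 1), (3, 1, 2, 1)] := by decide +kernel
  have hd_1_7 := inDer_of_double h (by decide) (by decide) (by decide) (by decide) (by decide) (by decide) hT_1_7 (by norm_num) (by norm_num)
    (by intro p hp; simp at hp) hl0 hl1
  have h5 : InDer X 5 := hd_1_7.1
  have h3 : InDer X 3 := hd_1_7.2
  have hT_2_3 : chevB2.commTerms 2 3 = [(1, 1, 1, 1), (0, -1, 2, 1)] := by decide +kernel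
  have hd_2_3 := inDer_of_double h (by decide) (by decide) (by decide) (by decide) (by decide) (by decide) hT_2_3 (by norm_num) (by norm_num)
    (by intro p hp; simp at hp) hl0 hl1
  have h1 : InDer X 1 := hd_2_3.1
  have h0 : InDer X 0 := hd_2_3.2
  have hT_2_7 : chevB2.commTerms 2 7 = [(6, 1, 1, 1), (4, -1, 2, 1)] := by decide +kernel
  have hd_2_7 := inDer_of_double h (by decide) (by decide) (by decide) (by decide) (by decide) (by decide) hT_2_7 (by norm_num) (by norm_num)
    (by intro p hp; simp at hp) hl0 hl1
  have h6 : InDer X 6 := hd_2_7.1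
  have h4 : InDer X 4 := hd_2_7.2
  have hT_5_4 : chevB2.commTerms 5 4 = [(6, -1, 1, 1), (7, -1, 2, 1)] := by decide +kernel
  have hd_5_4 := inDer_of_double h (by decide) (by decide) (by decide) (by decide) (by decide) (by decide) hT_5_4 (by norm_num) (by norm_num)
    (by intro p hp; simp at hp) hl0 hl1
  have h6 : InDer X 6 := hd_5_4.1
  have h7 : InDer X 7 := hd_5_4.2
  intro r hr
  have hr' : r < 8 := hr
  interval_cases r
  · exact h0
  · exact h1
  · exact h2
  · exact h3
  · exact h4
  · exact h5
  · exact h6
  · exact h7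

/-- all root elements lie in the derived subgroup -/
theorem inDer_of_tabulated {D : ChevalleyDatum} {X : ℕ → F → M}
    (hD : D ∈ [chevG2, chevB2, chevD4, chevF4, chevE6, chevE7, chevE8]) (h : R12 D X)
    (h2 : D = chevG2 ∨ D = chevB2 → ∃ a : F, a ≠ 0 ∧ a ≠ 1) :
    ∀ r < D.nroots, InDer X r := by
  simp only [List.mem_cons, List.not_mem_nil, or_false] at hD
  rcases hD with rfl | rfl | rfl | rfl | rfl | rfl | rfl
  · obtain ⟨l, hl0, hl1⟩ := h2 (Or.inl rfl)
    exact inDer_G2 h hl0 hl1
  · obtain ⟨l, hl0, hl1⟩ := h2 (Or.inr rfl)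
    exact inDer_B2 h hl0 hl1
  · exact inDer_of_singleChk h singleChkXD4
  · exact inDer_of_singleChk h singleChkXF4
  · exact inDer_of_singleChk h singleChkXE6
  · exact inDer_of_singleChk h singleChkXE7
  · exact inDer_of_singleChk h singleChkXE8

end Cfsg.Agent.Helper2.StPerf
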