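import Mathlib

/-! Recognising dihedral groups. -/

namespace Cfsg.Agent.Helper2

open DihedralGroup

/-- If `G` is the disjoint union of `D '' A` and `S '' A` for a cyclic group `A` of order `n`,
with the dihedral multiplication rules, then `G` is dihedral of order `2n`. -/
theorem nonempty_mulEquiv_dihedralGroup {G A : Type*} [Group G] [CommGroup A] {n : ℕ}
    (e : Multiplicative (ZMod n) ≃* A) (D S : A → G)
    (hDD : ∀ a b, D a * D b = D (a * b)) (hDS : ∀ a b, D a * S b = S (a * b))
    (hSD : ∀ a b, S b * D a = S (b * a⁻¹)) (hSS : ∀ b c, S b * S c = D (b * c⁻¹))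
    (hinjD : Function.Injective D) (hinjS : Function.Injective S) (hne : ∀ a b, D a ≠ S b)
    (hsurj : ∀ g, (∃ a, D a = g) ∨ ∃ b, S b = g) : Nonempty (DihedralGroup n ≃* G) := by
  let f : DihedralGroup n → G := fun x =>
    match x with
    | r i => D (e (Multiplicative.ofAdd i))
    | sr i => S (e (Multiplicative.ofAdd (-i)))
  have hmul : ∀ x y, f (x * y) = f x * f y := by
    intro x y
    rcases x with i | i <;> rcases y with j | j
    · show D (e (Multiplicative.ofAdd (i + j))) = D _ * D _
      rw [hDD, ofAdd_add, map_mul]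
    · show S (e (Multiplicative.ofAdd (-(j - i)))) = D _ * S _
      rw [hDS, ← map_mul, ← ofAdd_add]
      congr 3; ring
    · show S (e (Multiplicative.ofAdd (-(i + j)))) = S _ * D _
      rw [hSD, ← map_inv, ← map_mul, ← ofAdd_neg, ← ofAdd_add]
      congr 3; ring
    · show D (e (Multiplicative.ofAdd (j - i))) = S _ * S _
      rw [hSS, ← map_inv, ← map_mul, ← ofAdd_neg, ← ofAdd_add]
      congr 3; ring
  have hinj : Function.Injective f := by
    intro x y h
    rcases x with i | i <;> rcases y with j | j
    · have := Multiplicative.ofAdd.injective (e.injective (hinjD h))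
      rw [this]
    · exact absurd h (hne _ _)
    · exact absurd h.symm (hne _ _)
    · have := Multiplicative.ofAdd.injective (e.injective (hinjS h))
      rw [neg_inj.mp this]
  have hsur : Function.Surjective f := by
    intro g
    rcases hsurj g with ⟨a, rfl⟩ | ⟨b, rfl⟩
    · refine ⟨r (Multiplicative.toAdd (e.symm a)), ?_⟩
      show D (e (Multiplicative.ofAdd (Multiplicative.toAdd (e.symm a)))) = D a
      rw [ofAdd_toAdd, MulEquiv.apply_symm_apply]
    · refine ⟨sr (-(Multiplicative.toAdd (e.symm b))), ?_⟩
      show S (e (Multiplicative.ofAdd (- -(Multiplicative.toAdd (e.symm b))))) = S b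
      rw [neg_neg, ofAdd_toAdd, MulEquiv.apply_symm_apply]
  exact ⟨MulEquiv.ofBijective (MonoidHom.mk' f hmul) ⟨hinj, hsur⟩⟩

end Cfsg.Agent.Helper2
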