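import Mathlib
import Cfsg.Agent.Helper2.ElusA

set_option autoImplicit false
set_option linter.unusedSectionVars false

/-! Characteristic two: `Sp_{2d}(q)` acting on the cosets of `O^±_{2d}(q)`: involutions and
elements of odd prime order. -/

namespace Cfsg.Agent.Helper2.Elus

open Matrix Module Cfsg.Agent.Helper28.QWitt Cfsg.Agent.Helper28.IsoTransport Cfsg.Agent.Helper2.Sp
  Cfsg.Agent.Helper28.Spin Cfsg.Agent.Helper2.OInv Cfsg.Agent.Helper2.OCent Cfsg.Agent.Helper2.ONs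

section invol

variable {F : Type*} [Field F] [Fintype F] {d : ℕ}
  (Q : QuadraticForm F (Fin d ⊕ Fin d → F))

/-- an involution of `Sp` with the rank and type of an involution of `O(Qs)` is conjugate into
`O(Q)`, when `Q` is isometric to `Qs` -/
theorem conj_invol (h2 : (2 : F) = 0) (hpol : ∀ u v : Fin d ⊕ Fin d → F, P Q u v = om u v)
    {ι : Type} [Fintype ι] [DecidableEq ι] {Qs : QuadraticForm F (ι → F)} (fr : Frame Q Qs)
    (A : symplecticGroup (Fin d) F) (hA : A * A = 1) (y : ↥(Cfsg.isometryGroup F ⇑Qs))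
    (hy : y * y = 1)
    (hrank : ((A : Matrix (Fin d ⊕ Fin d) (Fin d ⊕ Fin d) F) - 1).rank = (mt Qs y - 1).rank)
    (htype : (∀ v, om v ((A : Matrix (Fin d ⊕ Fin d) (Fin d ⊕ Fin d) F) *ᵥ v) = 0) ↔
      IsAltO Qs y) :
    ∃ c : symplecticGroup (Fin d) F, ∀ v,
      Q (((c * A * c⁻¹ : symplecticGroup (Fin d) F) :
        Matrix (Fin d ⊕ Fin d) (Fin d ⊕ Fin d) F) *ᵥ v) = Q v := by
  have hP : ∀ x y, P Qs (fr.Φ *ᵥ x) (fr.Φ *ᵥ y) = om x y := fun x y => by rw [fr.hP, hpol]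
  obtain ⟨hb1, hb2, hb3, hb4⟩ :=
    transport Qs fr.Φ fr.Φ' fr.h1 fr.h1' hP (mt Qs y) (mt_isom Qs y) (sq_mt Qs hy)
  have hconj : IsConj A (⟨_, hb1⟩ : symplecticGroup (Fin d) F) := by
    apply conj_of_rank_type h2 hA (Subtype.ext hb2)
    · show (A.1 - 1).rank = (fr.Φ' * mt Qs y * fr.Φ - 1).rank
      rw [hb3, hrank]
    · show (∀ v, om v (A.1 *ᵥ v) = 0) ↔ (∀ v, om v ((fr.Φ' * mt Qs y * fr.Φ) *ᵥ v) = 0)
      rw [hb4, ← isAltO_iff Qs h2]
      exact htype
  obtain ⟨c, hc⟩ := isConj_iff.mp hconj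
  refine ⟨c, fun v => ?_⟩
  rw [hc]
  exact fr.symm.isom (mt_isom Qs y) v

/-- the involution types of `Sp` of rank at most `n` are all realised in `O(Qs)` -/
def HasReps {ι : Type} [Fintype ι] [DecidableEq ι] (n : ℕ) (Qs : QuadraticForm F (ι → F)) : Prop :=
  ∀ (s : ℕ) (alt : Prop), 1 ≤ s → s ≤ n → (alt → Even s) →
    ∃ y : ↥(Cfsg.isometryGroup F ⇑Qs), y * y = 1 ∧ (mt Qs y - 1).rank = s ∧ (IsAltO Qs y ↔ alt)

theorem hasReps_plus (h2 : (2 : F) = 0) (hd : 1 ≤ d) : HasReps d (QfPlus d F) := by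
  intro s alt hs1 hsd heven
  by_cases halt : alt
  · obtain ⟨k, hk⟩ := heven halt
    refine ⟨uaO F d h2 k, uaO_sq h2 k, ?_, ?_⟩
    · rw [uaO_rank F d h2 (by omega), hk]
      ring
    · exact ⟨fun _ => halt, fun _ => uaO_alt F d h2 k⟩
  · refine ⟨swO F d h2 s, swO_sq h2 s, swO_rank F d h2 hsd, ?_⟩
    exact ⟨fun h => absurd h (swO_nonalt F d h2 hs1 hd), fun h => absurd h halt⟩

theorem hasReps_minus (h2 : (2 : F) = 0) (k : ℕ) (hodd : Odd (k + 1)) {a b : F} (ha : a ≠ 0) :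
    HasReps (k + 1) (QfMinus k F a b) := by
  intro s alt hs1 hsd heven
  by_cases halt : alt
  · obtain ⟨j, hj⟩ := heven halt
    obtain ⟨t, ht⟩ := hodd
    have hjk : 2 * j ≤ k := by omega
    refine ⟨uaM a b h2 j, mkO_sq _ _ _ _, ?_, ?_⟩
    · rw [uaM_rank a b h2 hjk, hj]
      ring
    · exact ⟨fun _ => halt, fun _ => uaM_alt a b h2 j⟩
  · refine ⟨nbM a b h2 s, mkO_sq _ _ _ _, nbM_rank a b h2 ha hs1 hsd, ?_⟩
    exact ⟨fun h => absurd h (nbM_nonalt a b h2 ha s), fun h => absurd h halt⟩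

/-- every involution of `Sp` is conjugate into `O(Q)` when all types are realised -/
theorem conj_all (h2 : (2 : F) = 0) (hpol : ∀ u v : Fin d ⊕ Fin d → F, P Q u v = om u v)
    {ι : Type} [Fintype ι] [DecidableEq ι] {Qs : QuadraticForm F (ι → F)} (fr : Frame Q Qs)
    (hreps : HasReps d Qs) (A : symplecticGroup (Fin d) F) (hA : A * A = 1) (hA1 : A ≠ 1) :
    ∃ c : symplecticGroup (Fin d) F, ∀ v,
      Q (((c * A * c⁻¹ : symplecticGroup (Fin d) F) :
        Matrix (Fin d ⊕ Fin d) (Fin d ⊕ Fin d) F) *ᵥ v) = Q v := by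
  have hAA : (A : Matrix (Fin d ⊕ Fin d) (Fin d ⊕ Fin d) F) * A.1 = 1 := congrArg Subtype.val hA
  have h1 : 1 ≤ (A.1 - 1).rank := by
    have : (A.1 - 1).rank ≠ 0 := rank_ne_zero_of_ne_zero (fun h0 => hA1 (Subtype.ext (by
      show A.1 = 1
      exact sub_eq_zero.mp h0)))
    omega
  have h3 : (A.1 - 1).rank ≤ d := by
    have := two_rank_le h2 A.1 hAA
    rw [Fintype.card_sum, Fintype.card_fin] at this
    omega
  obtain ⟨y, hy, hyr, hya⟩ := hreps (A.1 - 1).rank (∀ v, om v (A.1 *ᵥ v) = 0) h1 h3 (by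
    intro halt
    exact even_rank_of_alt h2 _ A.1 (invS_of_sq hA) (fun v _ => by
      rw [om_swap, halt v, neg_zero]) rfl)
  exact conj_invol Q h2 hpol fr A hA y hy hyr.symm hya.symm

/-- a form of minus type admits no alternating involution of half rank -/
theorem alt_half_false (h2 : (2 : F) = 0) (hpol : ∀ u v : Fin d ⊕ Fin d → F, P Q u v = om u v)
    {k : ℕ} (hdk : d = k + 1) {a b : F} (hab : Quad.Aniso a b) (ha : a ≠ 0)
    (fr : Frame Q (QfMinus k F a b)) (B : Matrix (Fin d ⊕ Fin d) (Fin d ⊕ Fin d) F)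
    (hBB : B * B = 1) (hQB : ∀ v, Q (B *ᵥ v) = Q v) (hrank : (B - 1).rank = d)
    (halt : ∀ v, om v (B *ᵥ v) = 0) : False := by
  obtain ⟨T, hTdef⟩ : ∃ T, T = fr.Φ * B * fr.Φ' := ⟨_, rfl⟩
  have hT : ∀ w, QfMinus k F a b (T *ᵥ w) = QfMinus k F a b w := by
    intro w
    rw [hTdef]
    exact fr.isom hQB w
  have hTT : T * T = 1 := by
    rw [hTdef]
    calc fr.Φ * B * fr.Φ' * (fr.Φ * B * fr.Φ') = fr.Φ * B * (fr.Φ' * fr.Φ) * B * fr.Φ' := by
          simp only [Matrix.mul_assoc]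
      _ = 1 := by rw [fr.h1', Matrix.mul_one, Matrix.mul_assoc fr.Φ, hBB, Matrix.mul_one, fr.h1]
  have hback : fr.Φ' * T * fr.Φ = B := by
    rw [hTdef]
    exact fr.back B
  have hP : ∀ x y, P (QfMinus k F a b) (fr.Φ *ᵥ x) (fr.Φ *ᵥ y) = om x y :=
    fun x y => by rw [fr.hP, hpol]
  obtain ⟨-, -, hb3, hb4⟩ :=
    transport (QfMinus k F a b) fr.Φ fr.Φ' fr.h1 fr.h1' hP T hT hTT
  rw [hback] at hb3 hb4
  have h5 : ∀ v, QfMinus k F a b ((T - 1) *ᵥ v) = 0 :=
    (isAltO_iff (QfMinus k F a b) h2 (mkO (QfMinus k F a b) T hTT hT)).2 (hb4.1 halt)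
  exact no_alt_half a b h2 hab (QfMinus_nondeg' h2 k ha) T hT hTT h5 (by
    rw [← hb3, hrank, hdk])

end invol

section types

variable {F : Type*} [Field F] [Fintype F] {d : ℕ}
  (Q : QuadraticForm F (Fin d ⊕ Fin d → F))

theorem isP_of_frame (fr : Frame Q (QfPlus d F)) : IsP d Q := by
  unfold IsP
  rw [fr.card_sing]
  exact isP_plus d

theorem isM_of_frame (hd : 1 ≤ d) {a b : F} (hab : Quad.Aniso a b)
    (fr : Frame Q (QfMinus (d - 1) F a b)) : IsM d Q := by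
  unfold IsM
  rw [fr.card_sing]
  exact isM_minus hd hab

/-- a form with a totally singular subspace of half the dimension has the plus count -/
theorem isP_of_plusType (hQ : (QuadraticMap.polarBilin Q).Nondegenerate)
    (h : Cfsg.Geo.IsPlusTypeOn ⇑Q ⊤) : IsP d Q := by
  classical
  obtain ⟨U, -, hU0, hUdim⟩ := h
  have hV : finrank F (Fin d ⊕ Fin d → F) = 2 * d := by
    rw [Module.finrank_fintype_fun_eq_card, Fintype.card_sum, Fintype.card_fin, two_mul]
  rw [finrank_top, hV] at hUdim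
  have hfU : finrank F ↥U = d := by omega
  have hU0' : ∀ w ∈ U, Q w = 0 := hU0
  have hle : U ≤ LinearMap.BilinForm.orthogonal (QuadraticMap.polarBilin Q) U := by
    intro u hu n hn
    show QuadraticMap.polarBilin Q n u = 0
    rw [QuadraticMap.polarBilin_apply_apply]
    unfold QuadraticMap.polar
    rw [hU0' _ (U.add_mem hn hu), hU0' _ hn, hU0' _ hu]
    ring
  have hfo : finrank F ↥(LinearMap.BilinForm.orthogonal (QuadraticMap.polarBilin Q) U) = d := by
    rw [LinearMap.BilinForm.finrank_orthogonal hQ U, hV, hfU]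
    omega
  have heq : U = LinearMap.BilinForm.orthogonal (QuadraticMap.polarBilin Q) U :=
    Submodule.eq_of_le_of_finrank_eq hle (by rw [hfU, hfo])
  have hWW : ∀ v, (∀ w ∈ U, QuadraticMap.polar Q v w = 0) → v ∈ U := by
    intro v hv
    rw [heq]
    intro n hn
    show QuadraticMap.polarBilin Q n v = 0
    rw [QuadraticMap.polarBilin_apply_apply, QuadraticMap.polar_comm]
    exact hv n hn
  have hcount := card_sing_lagrangian Q U hU0' hWW
  have hcU : Nat.card U = Fintype.card F ^ d := by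
    rw [Module.natCard_eq_pow_finrank (K := F), hfU, Nat.card_eq_fintype_card]
  have hcV : Nat.card (Fin d ⊕ Fin d → F) = Fintype.card F ^ (2 * d) := by
    rw [Module.natCard_eq_pow_finrank (K := F), hV, Nat.card_eq_fintype_card]
  rw [hcU, hcV] at hcount
  unfold IsP
  obtain ⟨q, hq⟩ : ∃ q, q = Fintype.card F := ⟨_, rfl⟩
  obtain ⟨Z, hZ⟩ : ∃ Z, Z = Nat.card {v : Fin d ⊕ Fin d → F // Q v = 0} := ⟨_, rfl⟩
  rw [← hq, ← hZ] at hcount ⊢
  have hq2 : 2 ≤ q := by rw [hq]; exact Fintype.one_lt_card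
  have hX : 0 < q ^ d := Nat.pow_pos (by omega)
  have hle2 : q ^ d ≤ q ^ (2 * d) := Nat.pow_le_pow_right (by omega) (by omega)
  obtain ⟨W, hW⟩ : ∃ W, q ^ (2 * d) = q ^ d + W := ⟨q ^ (2 * d) - q ^ d, by omega⟩
  rw [hW, Nat.add_sub_cancel_left] at hcount
  have h6 : (Z * q) * q ^ d = (q ^ d * q + W) * q ^ d := by
    rw [add_mul]
    linarith
  have h7 := Nat.eq_of_mul_eq_mul_right hX h6
  rw [hW, h7, pow_succ]
  ring

end types

end Cfsg.Agent.Helper2.Elus
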