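import Mathlib
import Cfsg.Agent.Helper2.ElusB

set_option autoImplicit false
set_option linter.unusedSectionVars false

/-! Characteristic two: `Sp_{2d}(q)` acting on the cosets of `O^±_{2d}(q)`: elements of odd prime
order without fixed vectors, and the index. -/

namespace Cfsg.Agent.Helper2.Elus

open Matrix Module Cfsg.Agent.Helper28.QWitt Cfsg.Agent.Helper28.IsoTransport Cfsg.Agent.Helper2.Sp
  Cfsg.Agent.Helper28.Spin Cfsg.Agent.Helper2.OInv Cfsg.Agent.Helper2.OCent Cfsg.Agent.Helper2.ONs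
  Cfsg.Agent.Helper28.SpMax

section fpf

variable {F : Type*} [Field F] [Fintype F] {d : ℕ}
  (Q : QuadraticForm F (Fin d ⊕ Fin d → F))

/-- an element of `Sp` without fixed vectors that preserves `Q₁` and has a conjugate
preserving `Q`: the two forms have the same number of singular vectors -/
theorem zc_eq_of_fpf (h2 : (2 : F) = 0) (hpol : ∀ u v : Fin d ⊕ Fin d → F, P Q u v = om u v)
    (Q₁ : QuadraticForm F (Fin d ⊕ Fin d → F))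
    (hp₁ : ∀ u v : Fin d ⊕ Fin d → F, P Q₁ u v = om u v) (A : symplecticGroup (Fin d) F)
    (C : Matrix (Fin d ⊕ Fin d) (Fin d ⊕ Fin d) F)
    (hC : ((A : Matrix (Fin d ⊕ Fin d) (Fin d ⊕ Fin d) F) - 1) * C = 1)
    (hA₁ : ∀ v, Q₁ ((A : Matrix (Fin d ⊕ Fin d) (Fin d ⊕ Fin d) F) *ᵥ v) = Q₁ v)
    (c : symplecticGroup (Fin d) F)
    (hc : ∀ v, Q (((c⁻¹ * A * c : symplecticGroup (Fin d) F) :
      Matrix (Fin d ⊕ Fin d) (Fin d ⊕ Fin d) F) *ᵥ v) = Q v) :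
    Nat.card {v : Fin d ⊕ Fin d → F // Q₁ v = 0} = Nat.card {v : Fin d ⊕ Fin d → F // Q v = 0} := by
  have hci1 : (c⁻¹).1 * c.1 = 1 := congrArg Subtype.val (inv_mul_cancel c)
  have hci2 : c.1 * (c⁻¹).1 = 1 := congrArg Subtype.val (mul_inv_cancel c)
  have hcP : PresS (c⁻¹).1 := mem_symplectic_iff_om.mp (c⁻¹).2
  obtain ⟨Q₂, hQ₂⟩ : ∃ Q₂ : QuadraticForm F (Fin d ⊕ Fin d → F),
      ∀ v, Q₂ v = Q ((c⁻¹).1 *ᵥ v) := ⟨Q.comp (Matrix.mulVecLin (c⁻¹).1), fun v => rfl⟩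
  have hp₂ : ∀ u v, P Q₂ u v = om u v := by
    intro u v
    show QuadraticMap.polar ⇑Q₂ u v = om u v
    unfold QuadraticMap.polar
    rw [hQ₂, hQ₂, hQ₂, Matrix.mulVec_add, ← hcP u v, ← hpol]
    rfl
  have hA₂ : ∀ v, Q₂ (A.1 *ᵥ v) = Q₂ v := by
    intro v
    rw [hQ₂, hQ₂, ← hc ((c⁻¹).1 *ᵥ v)]
    congr 1
    show (c⁻¹).1 *ᵥ (A.1 *ᵥ v) = ((c⁻¹).1 * A.1 * c.1) *ᵥ ((c⁻¹).1 *ᵥ v)
    rw [Matrix.mulVec_mulVec, Matrix.mulVec_mulVec, Matrix.mul_assoc ((c⁻¹).1 * A.1), hci2,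
      Matrix.mul_one]
  have heq : ∀ v, Q₁ v = Q₂ v :=
    form_unique h2 A.1 C hC Q₁ Q₂ (fun u v => by rw [hp₁, hp₂]) hA₁ hA₂
  have fr : Frame Q₂ Q := ⟨(c⁻¹).1, c.1, hci1, hci2, fun x => (hQ₂ x).symm⟩
  rw [← fr.card_sing]
  apply Nat.card_congr
  exact Equiv.subtypeEquivRight (fun v => by rw [heq])

theorem pow_conj_frame {ι₁ ι₂ : Type} [Fintype ι₁] [DecidableEq ι₁] [Fintype ι₂] [DecidableEq ι₂]
    (Φ : Matrix ι₂ ι₁ F) (Φ' : Matrix ι₁ ι₂ F) (h1 : Φ * Φ' = 1) (h1' : Φ' * Φ = 1)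
    (T : Matrix ι₂ ι₂ F) (n : ℕ) : (Φ' * T * Φ) ^ n = Φ' * T ^ n * Φ := by
  induction n with
  | zero => rw [pow_zero, pow_zero, Matrix.mul_one, h1']
  | succ n ih =>
    rw [pow_succ, ih, pow_succ]
    calc Φ' * T ^ n * Φ * (Φ' * T * Φ) = Φ' * T ^ n * (Φ * Φ') * T * Φ := by
          simp only [Matrix.mul_assoc]
      _ = Φ' * (T ^ n * T) * Φ := by rw [h1, Matrix.mul_one, Matrix.mul_assoc Φ']

/-- an isometry of a standard form without fixed vectors, moved into `Sp` -/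
theorem exists_fpf_sp (h2 : (2 : F) = 0) {ι : Type} [Fintype ι] [DecidableEq ι]
    (Qs : QuadraticForm F (ι → F)) (hQs : (QuadraticMap.polarBilin Qs).Nondegenerate)
    (hcard : Fintype.card ι = 2 * d) (x : ↥(Cfsg.isometryGroup F ⇑Qs)) (r : ℕ) (hxr : x ^ r = 1)
    (hfpf : ∀ v, mt Qs x *ᵥ v = v → v = 0) :
    ∃ (A : symplecticGroup (Fin d) F) (C : Matrix (Fin d ⊕ Fin d) (Fin d ⊕ Fin d) F)
      (Q₁ : QuadraticForm F (Fin d ⊕ Fin d → F)),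
      ((A : Matrix (Fin d ⊕ Fin d) (Fin d ⊕ Fin d) F) - 1) * C = 1 ∧ A ^ r = 1 ∧
      (∀ u v : Fin d ⊕ Fin d → F, P Q₁ u v = om u v) ∧
      (∀ v, Q₁ ((A : Matrix (Fin d ⊕ Fin d) (Fin d ⊕ Fin d) F) *ᵥ v) = Q₁ v) ∧
      Nonempty (Frame Q₁ Qs) := by
  obtain ⟨Φ, Φ', h1, h1', hP⟩ := exists_sframe Qs h2 hQs hcard
  obtain ⟨T, hT⟩ : ∃ T : Matrix ι ι F, T = mt Qs x := ⟨_, rfl⟩
  have hTi : ∀ v, Qs (T *ᵥ v) = Qs v := by rw [hT]; exact mt_isom Qs x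
  have hTr : T ^ r = 1 := by
    have := congrArg (mt Qs) hxr
    rw [hT]
    exact this
  -- `T - 1` is invertible
  have hinj : Function.Injective (T - 1).mulVec := by
    intro u v huv
    have h3 : (T - 1) *ᵥ (u - v) = 0 := by
      rw [Matrix.mulVec_sub]
      exact sub_eq_zero.mpr huv
    rw [Matrix.sub_mulVec, Matrix.one_mulVec, sub_eq_zero] at h3
    have := hfpf (u - v) (by rw [← hT]; exact h3)
    exact sub_eq_zero.mp this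
  have hunit : IsUnit (T - 1) := Matrix.mulVec_injective_iff_isUnit.mp hinj
  obtain ⟨C₀, hC₀⟩ : ∃ C₀ : Matrix ι ι F, (T - 1) * C₀ = 1 :=
    ⟨(T - 1)⁻¹, Matrix.mul_nonsing_inv _ ((Matrix.isUnit_iff_isUnit_det _).mp hunit)⟩
  obtain ⟨Q₁, hQ₁⟩ : ∃ Q₁ : QuadraticForm F (Fin d ⊕ Fin d → F), ∀ v, Q₁ v = Qs (Φ *ᵥ v) :=
    ⟨Qs.comp (Matrix.mulVecLin Φ), fun v => rfl⟩
  have fr : Frame Q₁ Qs := ⟨Φ, Φ', h1, h1', fun v => (hQ₁ v).symm⟩
  have hΦA : ∀ v, Φ *ᵥ ((Φ' * T * Φ) *ᵥ v) = T *ᵥ (Φ *ᵥ v) := by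
    intro v
    rw [Matrix.mulVec_mulVec, ← Matrix.mul_assoc, ← Matrix.mul_assoc, h1, Matrix.one_mul,
      ← Matrix.mulVec_mulVec]
  have hmem : Φ' * T * Φ ∈ symplecticGroup (Fin d) F := by
    rw [mem_symplectic_iff_om]
    intro u v
    rw [← hP, hΦA, hΦA, P_mulVec Qs T hTi, hP]
  refine ⟨⟨Φ' * T * Φ, hmem⟩, Φ' * C₀ * Φ, Q₁, ?_, ?_, ?_, ?_, ⟨fr⟩⟩
  · show (Φ' * T * Φ - 1) * (Φ' * C₀ * Φ) = 1
    have e : Φ' * T * Φ - 1 = Φ' * (T - 1) * Φ := by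
      rw [Matrix.mul_sub, Matrix.sub_mul, Matrix.mul_one, h1']
    rw [e]
    calc Φ' * (T - 1) * Φ * (Φ' * C₀ * Φ) = Φ' * (T - 1) * (Φ * Φ') * C₀ * Φ := by
          simp only [Matrix.mul_assoc]
      _ = 1 := by rw [h1, Matrix.mul_one, Matrix.mul_assoc Φ', hC₀, Matrix.mul_one, h1']
  · apply Subtype.ext
    show (Φ' * T * Φ) ^ r = 1
    rw [pow_conj_frame Φ Φ' h1 h1', hTr, Matrix.mul_one, h1']
  · intro u v
    rw [← hP u v]
    show QuadraticMap.polar ⇑Q₁ u v = QuadraticMap.polar ⇑Qs (Φ *ᵥ u) (Φ *ᵥ v)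
    unfold QuadraticMap.polar
    rw [hQ₁, hQ₁, hQ₁, Matrix.mulVec_add]
  · intro v
    show Q₁ ((Φ' * T * Φ) *ᵥ v) = Q₁ v
    rw [hQ₁, hQ₁, hΦA, hTi]

/-- the main step for odd primes -/
theorem odd_false (h2 : (2 : F) = 0) (hd : 1 ≤ d)
    (hpol : ∀ u v : Fin d ⊕ Fin d → F, P Q u v = om u v) (r : ℕ)
    (hall : ∀ A : symplecticGroup (Fin d) F, A ^ r = 1 → A ≠ 1 →
      ∃ c : symplecticGroup (Fin d) F, ∀ v, Q (((c⁻¹ * A * c : symplecticGroup (Fin d) F) :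
        Matrix (Fin d ⊕ Fin d) (Fin d ⊕ Fin d) F) *ᵥ v) = Q v)
    {ι : Type} [Fintype ι] [DecidableEq ι]
    (Qs : QuadraticForm F (ι → F)) (hQs : (QuadraticMap.polarBilin Qs).Nondegenerate)
    (hcard : Fintype.card ι = 2 * d) (x : ↥(Cfsg.isometryGroup F ⇑Qs)) (hxr : x ^ r = 1)
    (hfpf : ∀ v, mt Qs x *ᵥ v = v → v = 0)
    (hcount : Nat.card {v : ι → F // Qs v = 0} ≠ Nat.card {v : Fin d ⊕ Fin d → F // Q v = 0}) :
    False := by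
  obtain ⟨A, C, Q₁, hC, hAr, hp₁, hA₁, ⟨fr⟩⟩ := exists_fpf_sp h2 Qs hQs hcard x r hxr hfpf
  have hA1 : A ≠ 1 := by
    intro h
    have h3 : (A : Matrix (Fin d ⊕ Fin d) (Fin d ⊕ Fin d) F) = 1 := congrArg Subtype.val h
    rw [h3, sub_self, Matrix.zero_mul] at hC
    have := congrFun (congrFun hC (Sum.inl ⟨0, hd⟩)) (Sum.inl ⟨0, hd⟩)
    rw [Matrix.zero_apply, Matrix.one_apply_eq] at this
    exact zero_ne_one this
  obtain ⟨c, hc⟩ := hall A hAr hA1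
  apply hcount
  rw [← fr.card_sing]
  exact zc_eq_of_fpf Q h2 hpol Q₁ hp₁ A C hC hA₁ c hc

end fpf

section index

variable {F : Type*} [Field F] [Fintype F] {d : ℕ}

theorem isom_eq_inf (hd : 1 ≤ d) (Q₀ : (Fin d ⊕ Fin d → F) → F)
    (hpol₀ : ∀ u v, QuadraticMap.polar Q₀ u v = Cfsg.sympForm d F u v) :
    Cfsg.isometryGroup F Q₀ = Cfsg.Geo.quadSimilarityGroup Q₀ ⊓ Cfsg.spGL d F := by
  ext x
  rw [Subgroup.mem_inf, mem_isometryGroup_iff]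
  constructor
  · intro h
    refine ⟨⟨1, fun v => by rw [Units.val_one, one_mul]; exact h v⟩, ?_⟩
    intro u v
    show Cfsg.sympForm d F ((x : Matrix (Fin d ⊕ Fin d) (Fin d ⊕ Fin d) F) *ᵥ u)
      ((x : Matrix (Fin d ⊕ Fin d) (Fin d ⊕ Fin d) F) *ᵥ v) = Cfsg.sympForm d F u v
    rw [← hpol₀, ← hpol₀]
    unfold QuadraticMap.polar
    rw [← Matrix.mulVec_add, h, h, h]
  · rintro ⟨⟨c, hc⟩, hsp⟩ v
    have hsp' : ∀ u v, Cfsg.sympForm d F ((x : Matrix (Fin d ⊕ Fin d) (Fin d ⊕ Fin d) F) *ᵥ u)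
      ((x : Matrix (Fin d ⊕ Fin d) (Fin d ⊕ Fin d) F) *ᵥ v) = Cfsg.sympForm d F u v := hsp
    have hne : (Pi.single (Sum.inl ⟨0, hd⟩) 1 : Fin d ⊕ Fin d → F) ≠ 0 := by
      intro h
      have := congrFun h (Sum.inl ⟨0, hd⟩)
      simp at this
    obtain ⟨w₀, hw₀⟩ := exists_om_ne_zero hne
    have hw₀' : Cfsg.sympForm d F (Pi.single (Sum.inl ⟨0, hd⟩) 1) w₀ ≠ 0 := hw₀
    have h3 : (c : F) * Cfsg.sympForm d F (Pi.single (Sum.inl ⟨0, hd⟩) 1) w₀ =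
        Cfsg.sympForm d F (Pi.single (Sum.inl ⟨0, hd⟩) 1) w₀ := by
      conv_rhs => rw [← hsp']
      rw [← hpol₀, ← hpol₀]
      unfold QuadraticMap.polar
      rw [← Matrix.mulVec_add, hc, hc, hc]
      ring
    have hc1 : (c : F) = 1 := mul_right_cancel₀ hw₀' (h3.trans (one_mul _).symm)
    rw [hc v, hc1, one_mul]

theorem card_spGL : Nat.card ↥(Cfsg.spGL d F) = Nat.card (symplecticGroup (Fin d) F) := by
  symm
  apply Nat.card_congr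
  refine Equiv.ofBijective (fun A => (⟨toGL A, toGL_mem A⟩ : ↥(Cfsg.spGL d F))) ⟨?_, ?_⟩
  · intro A B hAB
    have h1 : toGL A = toGL B := congrArg Subtype.val hAB
    have h3 : A.1 = B.1 := by rw [← toGL_val A, ← toGL_val B, h1]
    exact Subtype.ext h3
  · rintro ⟨g, hg⟩
    obtain ⟨A, rfl⟩ := exists_of_mem_spGL g hg
    exact ⟨A, rfl⟩

theorem index_mul_card (hd : 1 ≤ d) (Q₀ : (Fin d ⊕ Fin d → F) → F)
    (hpol₀ : ∀ u v, QuadraticMap.polar Q₀ u v = Cfsg.sympForm d F u v) :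
    Nat.card ↥(Cfsg.isometryGroup F Q₀) *
      (Cfsg.Geo.quadSimilarityGroup Q₀).relIndex (Cfsg.spGL d F) =
      Nat.card (symplecticGroup (Fin d) F) := by
  rw [← Subgroup.inf_relIndex_right, ← isom_eq_inf hd Q₀ hpol₀, ← card_spGL,
    ← Subgroup.relIndex_bot_left, ← Subgroup.relIndex_bot_left (H := Cfsg.spGL d F)]
  apply Subgroup.relIndex_mul_relIndex _ _ _ bot_le
  rw [isom_eq_inf hd Q₀ hpol₀]
  exact inf_le_right

theorem index_arith_plus {I E P Y : ℕ} (hE : 0 < E) (hP : 0 < P) (hY : 0 < Y)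
    (h : (2 * E * Y * P) * I = (E * (Y + 1)) * (P * (Y * (Y + 2)))) :
    I * 2 = (Y + 1) * (Y + 2) := by
  have h1 : 0 < E * Y * P := Nat.mul_pos (Nat.mul_pos hE hY) hP
  apply Nat.eq_of_mul_eq_mul_right h1
  linarith

theorem index_arith_minus {I E P Y : ℕ} (hE : 0 < E) (hP : 0 < P)
    (h : (2 * E * (Y + 2) * P) * I = (E * (Y + 1)) * (P * (Y * (Y + 2)))) :
    I * 2 = (Y + 1) * Y := by
  have h1 : 0 < E * (Y + 2) * P := Nat.mul_pos (Nat.mul_pos hE (by omega)) hP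
  apply Nat.eq_of_mul_eq_mul_right h1
  linarith

theorem prod_pos' (q k : ℕ) (hq : 2 ≤ q) : 0 < ∏ i ∈ Finset.range k, (q ^ (2 * (i + 1)) - 1) := by
  apply Finset.prod_pos
  intro i _
  have : 2 ≤ q ^ (2 * (i + 1)) := by
    calc 2 ≤ q := hq
      _ = q ^ 1 := (pow_one q).symm
      _ ≤ q ^ (2 * (i + 1)) := Nat.pow_le_pow_right (by omega) (by omega)
  omega

/-- twice the index of `O⁺` in `Sp` -/
theorem index_plus (hd : 1 ≤ d) (Q₀ : (Fin d ⊕ Fin d → F) → F)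
    (hpol₀ : ∀ u v, QuadraticMap.polar Q₀ u v = Cfsg.sympForm d F u v)
    (hcard : Nat.card ↥(Cfsg.isometryGroup F Q₀) =
      Nat.card ↥(Cfsg.isometryGroup F (Cfsg.quadFormPlus d F))) :
    (Cfsg.Geo.quadSimilarityGroup Q₀).relIndex (Cfsg.spGL d F) * 2 =
      Fintype.card F ^ d * (Fintype.card F ^ d + 1) := by
  have h1 := index_mul_card hd Q₀ hpol₀
  rw [hcard, Quad.card_GO_plus rfl d hd, card_symplectic_fin] at h1
  obtain ⟨q, hq⟩ : ∃ q, q = Fintype.card F := ⟨_, rfl⟩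
  have hq2 : 2 ≤ q := by rw [hq]; exact Fintype.one_lt_card
  rw [← hq] at h1 ⊢
  obtain ⟨k, rfl⟩ : ∃ k, d = k + 1 := ⟨d - 1, by omega⟩
  rw [Nat.add_sub_cancel, Finset.prod_range_succ] at h1
  have hX : 2 ≤ q ^ (k + 1) := by
    calc 2 ≤ q := hq2
      _ = q ^ 1 := (pow_one q).symm
      _ ≤ q ^ (k + 1) := Nat.pow_le_pow_right (by omega) (by omega)
  obtain ⟨Y, hY⟩ : ∃ Y, q ^ (k + 1) = Y + 1 := ⟨q ^ (k + 1) - 1, by omega⟩
  have e1 : q ^ (2 * (k + 1)) - 1 = Y * (Y + 2) := by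
    rw [two_mul, pow_add, hY]
    apply Nat.sub_eq_of_eq_add
    ring
  have e2 : q ^ ((k + 1) ^ 2) = q ^ ((k + 1) * k) * (Y + 1) := by
    rw [← hY, ← pow_add]
    congr 1
    ring
  rw [e1, e2, hY, Nat.add_sub_cancel] at h1
  rw [hY]
  exact index_arith_plus (Nat.pow_pos (by omega)) (prod_pos' q k hq2) (by omega) h1

/-- twice the index of `O⁻` in `Sp` -/
theorem index_minus (hd : 1 ≤ d) (Q₀ : (Fin d ⊕ Fin d → F) → F)
    (hpol₀ : ∀ u v, QuadraticMap.polar Q₀ u v = Cfsg.sympForm d F u v) {a b : F}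
    (hab : Quad.Aniso a b)
    (hcard : Nat.card ↥(Cfsg.isometryGroup F Q₀) =
      Nat.card ↥(Cfsg.isometryGroup F (Cfsg.quadFormMinus (d - 1) F a b))) :
    (Cfsg.Geo.quadSimilarityGroup Q₀).relIndex (Cfsg.spGL d F) * 2 =
      Fintype.card F ^ d * (Fintype.card F ^ d - 1) := by
  have h1 := index_mul_card hd Q₀ hpol₀
  rw [hcard, Quad.card_GO_minus rfl d hd a b hab, card_symplectic_fin] at h1
  obtain ⟨q, hq⟩ : ∃ q, q = Fintype.card F := ⟨_, rfl⟩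
  have hq2 : 2 ≤ q := by rw [hq]; exact Fintype.one_lt_card
  rw [← hq] at h1 ⊢
  obtain ⟨k, rfl⟩ : ∃ k, d = k + 1 := ⟨d - 1, by omega⟩
  rw [Nat.add_sub_cancel, Finset.prod_range_succ] at h1
  have hX : 2 ≤ q ^ (k + 1) := by
    calc 2 ≤ q := hq2
      _ = q ^ 1 := (pow_one q).symm
      _ ≤ q ^ (k + 1) := Nat.pow_le_pow_right (by omega) (by omega)
  obtain ⟨Y, hY⟩ : ∃ Y, q ^ (k + 1) = Y + 1 := ⟨q ^ (k + 1) - 1, by omega⟩
  have e1 : q ^ (2 * (k + 1)) - 1 = Y * (Y + 2) := by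
    rw [two_mul, pow_add, hY]
    apply Nat.sub_eq_of_eq_add
    ring
  have e2 : q ^ ((k + 1) ^ 2) = q ^ ((k + 1) * k) * (Y + 1) := by
    rw [← hY, ← pow_add]
    congr 1
    ring
  rw [e1, e2, hY] at h1
  rw [hY, Nat.add_sub_cancel]
  exact index_arith_minus (Nat.pow_pos (by omega)) (prod_pos' q k hq2) h1

end index

end Cfsg.Agent.Helper2.Elus
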