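import Mathlib
import Cfsg.Agent.Helper2.ElusC

set_option autoImplicit false
set_option linter.unusedSectionVars false

/-! Characteristic two: `Sp_{2d}(q)` acting on the cosets of `O^±_{2d}(q)`: which primes are
elusive. -/

namespace Cfsg.Agent.Helper2.Elus

open Matrix Module Cfsg.Agent.Helper28.QWitt Cfsg.Agent.Helper28.IsoTransport Cfsg.Agent.Helper2.Sp
  Cfsg.Agent.Helper28.Spin Cfsg.Agent.Helper2.OInv Cfsg.Agent.Helper2.OCent Cfsg.Agent.Helper2.ONs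
  Cfsg.Agent.Helper28.SpMax

section final

variable {F : Type*} [Field F] [Fintype F] {d : ℕ}

/-- scalar symplectic matrices are trivial in characteristic two -/
theorem scalar_sp (h2 : (2 : F) = 0) (hd : 1 ≤ d) (B : symplecticGroup (Fin d) F) (z : F)
    (hB : (B : Matrix (Fin d ⊕ Fin d) (Fin d ⊕ Fin d) F) = z • 1) : B = 1 := by
  have hne : (Pi.single (Sum.inl ⟨0, hd⟩) 1 : Fin d ⊕ Fin d → F) ≠ 0 := by
    intro h
    have := congrFun h (Sum.inl ⟨0, hd⟩)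
    simp at this
  obtain ⟨w₀, hw₀⟩ := exists_om_ne_zero hne
  have h1 := mem_symplectic_iff_om.mp B.2 (Pi.single (Sum.inl ⟨0, hd⟩) 1) w₀
  rw [hB, Matrix.smul_mulVec, Matrix.smul_mulVec, Matrix.one_mulVec, Matrix.one_mulVec,
    om_smul_left, om_smul_right] at h1
  have h3 : z * z = 1 := by
    have h4 : (z * z) * om (Pi.single (Sum.inl ⟨0, hd⟩) 1) w₀ =
        1 * om (Pi.single (Sum.inl ⟨0, hd⟩) 1) w₀ := by
      rw [one_mul, mul_assoc]
      exact h1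
    exact mul_right_cancel₀ hw₀ h4
  have h5 : (z - 1) ^ 2 = 0 := by linear_combination h3 + (1 - z) * h2
  have hz : z = 1 := sub_eq_zero.mp (pow_eq_zero_iff (two_ne_zero) |>.mp h5)
  apply Subtype.ext
  rw [hB, hz, one_smul]
  rfl

variable (Q : QuadraticForm F (Fin d ⊕ Fin d → F))

/-- the hypothesis in terms of the symplectic group -/
theorem hall_sp (h2 : (2 : F) = 0) (hd : 1 ≤ d)
    (hpol₀ : ∀ u v, QuadraticMap.polar ⇑Q u v = Cfsg.sympForm d F u v) (r : ℕ)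
    (hall : ∀ x ∈ Cfsg.spGL d F,
      (∃ z : F, ((x ^ r : GL (Fin d ⊕ Fin d) F) : Matrix (Fin d ⊕ Fin d) (Fin d ⊕ Fin d) F) =
        z • (1 : Matrix (Fin d ⊕ Fin d) (Fin d ⊕ Fin d) F)) →
      (∀ z : F, (x : Matrix (Fin d ⊕ Fin d) (Fin d ⊕ Fin d) F) ≠
        z • (1 : Matrix (Fin d ⊕ Fin d) (Fin d ⊕ Fin d) F)) →
      ∃ g ∈ Cfsg.spGL d F, g⁻¹ * x * g ∈ Cfsg.Geo.quadSimilarityGroup ⇑Q)
    (A : symplecticGroup (Fin d) F) (hAr : A ^ r = 1) (hA1 : A ≠ 1) :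
    ∃ c : symplecticGroup (Fin d) F, ∀ v, Q (((c⁻¹ * A * c : symplecticGroup (Fin d) F) :
      Matrix (Fin d ⊕ Fin d) (Fin d ⊕ Fin d) F) *ᵥ v) = Q v := by
  obtain ⟨g, hg, hmem⟩ := hall (toGL A) (toGL_mem A) ⟨1, by
      rw [← map_pow, hAr, map_one, one_smul]
      rfl⟩ (by
    intro z hz
    exact hA1 (scalar_sp h2 hd A z hz))
  obtain ⟨c, rfl⟩ := exists_of_mem_spGL g hg
  refine ⟨c, ?_⟩
  have h1 : (toGL c)⁻¹ * toGL A * toGL c = toGL (c⁻¹ * A * c) := by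
    rw [map_mul, map_mul, map_inv]
  rw [h1] at hmem
  have h3 : toGL (c⁻¹ * A * c) ∈ Cfsg.isometryGroup F ⇑Q := by
    rw [isom_eq_inf hd ⇑Q hpol₀]
    exact ⟨hmem, toGL_mem _⟩
  exact (mem_isometryGroup_iff _ _).1 h3

/-- conjugating an involution into the orthogonal group, in terms of `GL` -/
theorem conj_gl (h2 : (2 : F) = 0) (hd : 1 ≤ d)
    (hconj : ∀ A : symplecticGroup (Fin d) F, A * A = 1 → A ≠ 1 →
      ∃ c : symplecticGroup (Fin d) F, ∀ v, Q (((c * A * c⁻¹ : symplecticGroup (Fin d) F) :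
        Matrix (Fin d ⊕ Fin d) (Fin d ⊕ Fin d) F) *ᵥ v) = Q v)
    (x : GL (Fin d ⊕ Fin d) F) (hx : x ∈ Cfsg.spGL d F)
    (hsq : ∃ z : F, ((x ^ 2 : GL (Fin d ⊕ Fin d) F) : Matrix (Fin d ⊕ Fin d) (Fin d ⊕ Fin d) F) =
      z • (1 : Matrix (Fin d ⊕ Fin d) (Fin d ⊕ Fin d) F))
    (hns : ∀ z : F, (x : Matrix (Fin d ⊕ Fin d) (Fin d ⊕ Fin d) F) ≠
      z • (1 : Matrix (Fin d ⊕ Fin d) (Fin d ⊕ Fin d) F)) :
    ∃ g ∈ Cfsg.spGL d F, g⁻¹ * x * g ∈ Cfsg.Geo.quadSimilarityGroup ⇑Q := by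
  obtain ⟨A, rfl⟩ := exists_of_mem_spGL x hx
  obtain ⟨z, hz⟩ := hsq
  have hAA : A * A = 1 := by
    apply scalar_sp h2 hd (A * A) z
    rw [← hz, sq]
    rfl
  have hA1 : A ≠ 1 := by
    intro h
    apply hns 1
    rw [h, one_smul]
    rfl
  obtain ⟨c, hc⟩ := hconj A hAA hA1
  refine ⟨toGL c⁻¹, toGL_mem _, ?_⟩
  have h1 : (toGL c⁻¹)⁻¹ * toGL A * toGL c⁻¹ = toGL (c * A * c⁻¹) := by
    rw [map_mul, map_mul, map_inv, inv_inv]
  rw [h1]
  exact ⟨1, fun v => by rw [Units.val_one, one_mul]; exact hc v⟩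

/-- a form isometric to the standard plus form is of plus type -/
theorem plusType_of_frame (fr : Frame Q (QfPlus d F)) : Cfsg.Geo.IsPlusTypeOn ⇑Q ⊤ := by
  classical
  let ℓ₀ : (Fin d → F) →ₗ[F] (Fin d ⊕ Fin d → F) :=
    LinearMap.pi (fun i => Sum.elim (fun j => LinearMap.proj j) (fun _ => 0) i)
  have hℓ₀l : ∀ a j, ℓ₀ a (Sum.inl j) = a j := fun a j => rfl
  have hℓ₀r : ∀ a j, ℓ₀ a (Sum.inr j) = 0 := fun a j => rfl
  let ℓ : (Fin d → F) →ₗ[F] (Fin d ⊕ Fin d → F) := (Matrix.mulVecLin fr.Φ').comp ℓ₀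
  have hℓ : ∀ a, ℓ a = fr.Φ' *ᵥ (ℓ₀ a) := fun a => rfl
  have hinj : Function.Injective ℓ := by
    intro a b hab
    have h3 : ℓ₀ a = ℓ₀ b := by
      rw [← fr.ΦΦ' (ℓ₀ a), ← fr.ΦΦ' (ℓ₀ b), ← hℓ, ← hℓ, hab]
    funext j
    exact congrFun h3 (Sum.inl j)
  refine ⟨LinearMap.range ℓ, le_top, ?_, ?_⟩
  · rintro _ ⟨a, rfl⟩
    show Q (fr.Φ' *ᵥ (ℓ₀ a)) = 0
    rw [fr.hQ']
    show Cfsg.quadFormPlus d F (ℓ₀ a) = 0
    unfold Cfsg.quadFormPlus
    apply Finset.sum_eq_zero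
    intro i _
    rw [hℓ₀r, mul_zero]
  · rw [LinearMap.finrank_range_of_inj hinj, finrank_top, Module.finrank_fintype_fun_eq_card,
      Module.finrank_fintype_fun_eq_card, Fintype.card_sum, Fintype.card_fin, two_mul]

theorem two_of_dvd_pow (h2 : (2 : F) = 0) {r n : ℕ} (hr : r.Prime)
    (h : r ∣ Fintype.card F ^ n) : r = 2 := by
  have h5 := hr.dvd_of_dvd_pow h
  have hchar : CharP F 2 := CharTwo.of_one_ne_zero_of_two_eq_zero one_ne_zero h2
  obtain ⟨n, hp, hn⟩ := FiniteField.card F 2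
  rw [hn] at h5
  have h6 := hr.dvd_of_dvd_pow h5
  exact (Nat.prime_dvd_prime_iff_eq hr Nat.prime_two).mp h6

theorem aniso_of_irr {ζ : F} (hζ : ∀ t : F, t ^ 2 + t + ζ ≠ 0) : Quad.Aniso 1 ζ := by
  intro x y hxy
  by_cases hy : y = 0
  · rw [hy] at hxy
    have : x ^ 2 = 0 := by linear_combination hxy
    exact ⟨pow_eq_zero_iff (two_ne_zero) |>.mp this, hy⟩
  · exfalso
    apply hζ (x / y)
    field_simp
    linear_combination hxy

/-- **`Sp_{2d}(q)` on the cosets of `O^±_{2d}(q)`, `q` even.** -/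
theorem main (h2 : (2 : F) = 0) (hd : 2 ≤ d) (hT : Fintype.card F ≠ 2 ∨ d ≠ 2)
    (Q₀ : (Fin d ⊕ Fin d → F) → F) (hQ₀ : Cfsg.Geo.IsNondegenerateQuadraticForm Q₀)
    (hpol₀ : ∀ u v, QuadraticMap.polar Q₀ u v = Cfsg.sympForm d F u v) (r : ℕ) (hr : r.Prime)
    (hΩ : r ∣ (Cfsg.Geo.quadSimilarityGroup Q₀).relIndex (Cfsg.spGL d F)) :
    (∀ x ∈ Cfsg.spGL d F,
      (∃ z : F, ((x ^ r : GL (Fin d ⊕ Fin d) F) : Matrix (Fin d ⊕ Fin d) (Fin d ⊕ Fin d) F) =
        z • (1 : Matrix (Fin d ⊕ Fin d) (Fin d ⊕ Fin d) F)) →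
      (∀ z : F, (x : Matrix (Fin d ⊕ Fin d) (Fin d ⊕ Fin d) F) ≠
        z • (1 : Matrix (Fin d ⊕ Fin d) (Fin d ⊕ Fin d) F)) →
      ∃ g ∈ Cfsg.spGL d F, g⁻¹ * x * g ∈ Cfsg.Geo.quadSimilarityGroup Q₀) ↔
    (r = 2 ∧ (Cfsg.Geo.IsPlusTypeOn Q₀ ⊤ ∨ Odd d)) := by
  classical
  have hd1 : 1 ≤ d := by omega
  have hchar : CharP F 2 := CharTwo.of_one_ne_zero_of_two_eq_zero one_ne_zero h2
  obtain ⟨Q, hcoe, hQnd⟩ : ∃ Q : QuadraticForm F (Fin d ⊕ Fin d → F), ⇑Q = Q₀ ∧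
      (QuadraticMap.polarBilin Q).Nondegenerate :=
    ⟨Cfsg.Agent.Helper28.NM.ofFun Q₀ hQ₀, rfl, Cfsg.Agent.Helper28.NM.ofFun_nondeg Q₀ hQ₀⟩
  subst hcoe
  have hpol : ∀ u v : Fin d ⊕ Fin d → F, P Q u v = om u v := hpol₀
  have hV : finrank F (Fin d ⊕ Fin d → F) = 2 * d := by
    rw [Module.finrank_fintype_fun_eq_card, Fintype.card_sum, Fintype.card_fin, two_mul]
  have hcardm : Fintype.card ((Fin (d - 1) ⊕ Fin (d - 1)) ⊕ Fin 2) = 2 * d := by
    rw [card_minus_index]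
    omega
  have hcardp : Fintype.card (Fin d ⊕ Fin d) = 2 * d := by
    rw [Fintype.card_sum, Fintype.card_fin, two_mul]
  rcases isometry_dichotomy hd1 hV Q hQnd with ⟨g, hg⟩ | ⟨ζ, hζ, g, hg⟩
  · -- plus type
    obtain ⟨fr⟩ : Nonempty (Frame Q (QfPlus d F)) := exists_frame g hg
    have hidx := index_plus hd1 ⇑Q hpol₀ fr.card_isom
    constructor
    · intro hall
      have hr2 : r = 2 := by
        by_contra hne
        have h3 : r ∣ Fintype.card F ^ d * (Fintype.card F ^ d + 1) := by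
          rw [← hidx]
          exact Dvd.dvd.mul_right hΩ 2
        rcases (Nat.Prime.dvd_mul hr).1 h3 with h4 | h4
        · exact hne (two_of_dvd_pow h2 hr h4)
        · obtain ⟨ζ₀, hζ₀⟩ := exists_not_wp (F := F) h2
          have hab₀ : Quad.Aniso (1 : F) ζ₀ := aniso_of_irr (fun t ht => hζ₀ ⟨t, by
            linear_combination ht - ζ₀ * h2⟩)
          obtain ⟨x, -, hxr, hfpf⟩ := exists_fpf_omega_minus h2 hd1 hab₀ r hr hne h4
          refine odd_false Q h2 hd1 hpol r (hall_sp Q h2 hd1 hpol₀ r hall)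
            (QfMinus (d - 1) F 1 ζ₀) (QfMinus_nondeg' h2 (d - 1) one_ne_zero) hcardm x hxr hfpf ?_
          intro hc
          exact isP_isM_false (isP_of_frame Q fr) (isM_minus hd1 hab₀) hc.symm
      exact ⟨hr2, Or.inl (plusType_of_frame Q fr)⟩
    · rintro ⟨rfl, -⟩ x hx hsq hns
      exact conj_gl Q h2 hd1
        (fun A hA hA1 => conj_all Q h2 hpol fr (hasReps_plus h2 hd1) A hA hA1) x hx hsq hns
  · -- minus type
    have hab : Quad.Aniso (1 : F) ζ := aniso_of_irr hζ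
    have ha : (1 : F) ≠ 0 := one_ne_zero
    obtain ⟨fr⟩ : Nonempty (Frame Q (QfMinus (d - 1) F 1 ζ)) := exists_frame g hg
    have hidx := index_minus hd1 ⇑Q hpol₀ hab fr.card_isom
    have hM : IsM d Q := isM_of_frame Q hd1 hab fr
    constructor
    · intro hall
      have hr2 : r = 2 := by
        by_contra hne
        have h3 : r ∣ Fintype.card F ^ d * (Fintype.card F ^ d - 1) := by
          rw [← hidx]
          exact Dvd.dvd.mul_right hΩ 2
        rcases (Nat.Prime.dvd_mul hr).1 h3 with h4 | h4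
        · exact hne (two_of_dvd_pow h2 hr h4)
        · obtain ⟨x, -, hxr, hfpf⟩ := exists_fpf_omega h2 hd1 hT r hr hne h4
          refine odd_false Q h2 hd1 hpol r (hall_sp Q h2 hd1 hpol₀ r hall)
            (QfPlus d F) (QfPlus_nondeg d) hcardp x hxr hfpf ?_
          intro hc
          exact isP_isM_false (isP_plus d) hM hc
      refine ⟨hr2, Or.inr ?_⟩
      by_contra hodd
      rw [Nat.not_odd_iff_even] at hodd
      obtain ⟨k', hk'⟩ := hodd
      subst hr2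
      have hAmem : mt (QfPlus d F) (uaO F d h2 k') ∈ symplecticGroup (Fin d) F := by
        rw [mem_symplectic_iff_om]
        intro x y
        rw [← P_plus_eq_om h2, ← P_plus_eq_om h2]
        exact P_mulVec (QfPlus d F) _ (mt_isom _ _) x y
      obtain ⟨A, hAdef⟩ : ∃ A : symplecticGroup (Fin d) F,
          A.1 = mt (QfPlus d F) (uaO F d h2 k') := ⟨⟨_, hAmem⟩, rfl⟩
      have hA : A * A = 1 := by
        apply Subtype.ext
        show A.1 * A.1 = 1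
        rw [hAdef]
        exact sq_mt _ (uaO_sq h2 k')
      have hrankA : (A.1 - 1).rank = d := by
        rw [hAdef, uaO_rank F d h2 (by omega)]
        omega
      have haltA : ∀ v, om v (A.1 *ᵥ v) = 0 := by
        intro v
        rw [hAdef, ← P_plus_eq_om h2]
        exact (isAltO_iff _ h2 _).1 (uaO_alt F d h2 k') v
      have hA1 : A ≠ 1 := by
        intro h
        have h3 : A.1 = 1 := congrArg Subtype.val h
        rw [h3, sub_self, Matrix.rank_zero] at hrankA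
        omega
      obtain ⟨c, hc⟩ := hall_sp Q h2 hd1 hpol₀ 2 hall A (by rw [pow_two]; exact hA) hA1
      have hconj : IsConj A (c⁻¹ * A * c) := isConj_iff.2 ⟨c⁻¹, by rw [inv_inv]⟩
      have hBB : (c⁻¹ * A * c) * (c⁻¹ * A * c) = 1 := by
        have : (c⁻¹ * A * c) * (c⁻¹ * A * c) = c⁻¹ * (A * A) * c := by group
        rw [this, hA]
        group
      exact alt_half_false Q h2 hpol (by omega : d = d - 1 + 1) hab ha fr (c⁻¹ * A * c).1
        (congrArg Subtype.val hBB) hc (by rw [← rank_isConj hconj]; exact hrankA)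
        (alt_isConj hconj haltA)
    · rintro ⟨rfl, hor⟩ x hx hsq hns
      have hodd : Odd d := hor.resolve_left (fun hplus =>
        isP_isM_false (isP_of_plusType Q hQnd hplus) hM rfl)
      have hreps : HasReps d (QfMinus (d - 1) F 1 ζ) := by
        have h5 := hasReps_minus (F := F) h2 (d - 1) (a := 1) (b := ζ)
          (by rw [Nat.sub_add_cancel hd1]; exact hodd) ha
        rw [Nat.sub_add_cancel hd1] at h5
        exact h5
      exact conj_gl Q h2 hd1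
        (fun A hA hA1 => conj_all Q h2 hpol fr hreps A hA hA1) x hx hsq hns

end final

end Cfsg.Agent.Helper2.Elus
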