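import Mathlib

/-!
# Groups of order 27: commutators, generation, normalisers (for S5998)
-/

set_option autoImplicit false

namespace Cfsg.Agent.Helper2.Extra3

theorem comm_of_card {H : Type*} [Group H]
    (h : Nat.card H = 1 ∨ Nat.card H = 3 ∨ Nat.card H = 9) : IsMulCommutative H := by
  have : Fact (Nat.Prime 3) := ⟨Nat.prime_three⟩
  rcases h with h | h | h
  · have : Subsingleton H := (Nat.card_eq_one_iff_unique.mp h).1
    exact ⟨⟨fun x y => Subsingleton.elim _ _⟩⟩
  · have : IsCyclic H := isCyclic_of_prime_card (p := 3) h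
    exact IsCyclic.isMulCommutative
  · exact IsPGroup.isMulCommutative_of_card_eq_prime_sq (p := 3) (by rw [h]; norm_num)

theorem card_cases {n : ℕ} (h : n ∣ 27) : n = 1 ∨ n = 3 ∨ n = 9 ∨ n = 27 := by
  have hmem : n ∈ Nat.divisors 27 := Nat.mem_divisors.mpr ⟨h, by norm_num⟩
  have hdiv : Nat.divisors 27 = {1, 3, 9, 27} := by decide
  rw [hdiv] at hmem
  simpa using hmem

/-- in a group of order 27 every commutator is central -/
theorem comm_central {G : Type*} [Group G] (hG : Nat.card G = 27) (a b g : G) :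
    (a * b * a⁻¹ * b⁻¹) * g = g * (a * b * a⁻¹ * b⁻¹) := by
  have : Fact (Nat.Prime 3) := ⟨Nat.prime_three⟩
  have : Finite G := Nat.finite_of_card_ne_zero (by rw [hG]; norm_num)
  have : Nontrivial G := by
    rw [← Finite.one_lt_card_iff_nontrivial, hG]; norm_num
  have hp : IsPGroup 3 G := IsPGroup.of_card (n := 3) (by rw [hG]; norm_num)
  have := hp.center_nontrivial
  have hcard : Nat.card (G ⧸ Subgroup.center G) * Nat.card (Subgroup.center G) = 27 := by
    rw [← hG]; exact (Subgroup.card_eq_card_quotient_mul_card_subgroup (Subgroup.center G)).symm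
  have hZ1 : 1 < Nat.card (Subgroup.center G) := Finite.one_lt_card
  have hcomm : IsMulCommutative (G ⧸ Subgroup.center G) := by
    rcases card_cases (Dvd.intro _ hcard) with h | h | h | h
    · exact comm_of_card (Or.inl h)
    · exact comm_of_card (Or.inr (Or.inl h))
    · exact comm_of_card (Or.inr (Or.inr h))
    · exfalso
      rw [h] at hcard
      have : Nat.card (Subgroup.center G) = 1 := by omega
      omega
  have h1 : ((a * b * a⁻¹ * b⁻¹ : G) : G ⧸ Subgroup.center G) = 1 := by
    have h2 := hcomm.is_comm.comm ((a : G) : G ⧸ Subgroup.center G) (b : G ⧸ Subgroup.center G)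
    rw [QuotientGroup.mk_mul, QuotientGroup.mk_mul, QuotientGroup.mk_mul, QuotientGroup.mk_inv,
      QuotientGroup.mk_inv, h2]
    group
  have h2 : a * b * a⁻¹ * b⁻¹ ∈ Subgroup.center G := (QuotientGroup.eq_one_iff _).mp h1
  exact (Subgroup.mem_center_iff.mp h2 g).symm

/-- two non-commuting elements generate a group of order 27 -/
theorem gen27 {G : Type*} [Group G] (R : Subgroup G) (hR : Nat.card R = 27) {a b : G}
    (ha : a ∈ R) (hb : b ∈ R) (hab : a * b ≠ b * a) : Subgroup.closure {a, b} = R := by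
  have : Finite R := Nat.finite_of_card_ne_zero (by rw [hR]; norm_num)
  have hle : Subgroup.closure {a, b} ≤ R := by
    rw [Subgroup.closure_le]
    intro x hx
    rcases hx with rfl | rfl
    · exact ha
    · exact hb
  have haH : a ∈ Subgroup.closure {a, b} := Subgroup.subset_closure (by simp)
  have hbH : b ∈ Subgroup.closure {a, b} := Subgroup.subset_closure (by simp)
  have hnc : ¬ IsMulCommutative (Subgroup.closure {a, b}) := by
    intro h
    have h2 := h.is_comm.comm (⟨a, haH⟩ : Subgroup.closure {a, b}) ⟨b, hbH⟩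
    exact hab (congrArg Subtype.val h2)
  have hdvd : Nat.card (Subgroup.closure {a, b}) ∣ 27 := by
    rw [← hR]; exact Subgroup.card_dvd_of_le hle
  have hcard : Nat.card (Subgroup.closure {a, b}) = 27 := by
    rcases card_cases hdvd with h | h | h | h
    · exact absurd (comm_of_card (Or.inl h)) hnc
    · exact absurd (comm_of_card (Or.inr (Or.inl h))) hnc
    · exact absurd (comm_of_card (Or.inr (Or.inr h))) hnc
    · exact h
  exact Subgroup.eq_of_le_of_card_ge hle (by rw [hR, hcard])

/-- an element conjugating a generating set of a finite subgroup into it normalises it -/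
theorem mem_normalizer_of_closure {G : Type*} [Group G] (R : Subgroup G) [Finite R]
    {S : Set G} (hS : Subgroup.closure S = R) {y : G} (hy : ∀ s ∈ S, y * s * y⁻¹ ∈ R) :
    y ∈ Subgroup.normalizer (R : Set G) := by
  have h1 : ∀ h ∈ R, y * h * y⁻¹ ∈ R := by
    intro h hh
    rw [← hS] at hh
    induction hh using Subgroup.closure_induction with
    | mem x hx => exact hy x hx
    | one => simpa using R.one_mem
    | mul x z _ _ hx hz =>
      have h2 := R.mul_mem hx hz
      have h3 : y * (x * z) * y⁻¹ = y * x * y⁻¹ * (y * z * y⁻¹) := by group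
      rw [h3]; exact h2
    | inv x _ hx =>
      have h2 := R.inv_mem hx
      have h3 : y * x⁻¹ * y⁻¹ = (y * x * y⁻¹)⁻¹ := by group
      rw [h3]; exact h2
  rw [Subgroup.mem_normalizer_iff]
  intro h
  refine ⟨h1 h, fun hh => ?_⟩
  obtain ⟨φ, hφ⟩ : ∃ φ : R → R, ∀ k : R, ((φ k : R) : G) = y * k * y⁻¹ :=
    ⟨fun k => ⟨y * k * y⁻¹, h1 k k.2⟩, fun k => rfl⟩
  have hinj : Function.Injective φ := by
    intro k k' hkk
    have h2 := congrArg (fun t : R => (t : G)) hkk
    simp only [hφ] at h2
    exact Subtype.ext (mul_left_cancel (mul_right_cancel h2))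
  obtain ⟨k, hk⟩ := (Finite.injective_iff_surjective.mp hinj) ⟨_, hh⟩
  have h2 := congrArg (fun t : R => (t : G)) hk
  simp only [hφ] at h2
  have hkh : (k : G) = h := mul_left_cancel (mul_right_cancel h2)
  rw [← hkh]; exact k.2

/-- an element of prime order `r ≥ 5` normalising a group of order 27 and centralising a
non-identity element of it centralises it -/
theorem centralizes_of_ge_five {G : Type*} [Group G] (R : Subgroup G) (hR : Nat.card R = 27)
    {y : G} (hy : y ∈ Subgroup.normalizer (R : Set G)) {r : ℕ} [Fact r.Prime] (hr : 5 ≤ r)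
    (hyr : y ^ r = 1) {c : G} (hc : c ∈ R) (hc1 : c ≠ 1) (hcy : y * c = c * y) :
    ∀ h ∈ R, y * h = h * y := by
  classical
  have : Finite R := Nat.finite_of_card_ne_zero (by rw [hR]; norm_num)
  haveI : Fintype R := Fintype.ofFinite R
  have hmem : ∀ h ∈ R, y * h * y⁻¹ ∈ R := fun h hh =>
    (Subgroup.mem_normalizer_iff.mp hy h).mp hh
  obtain ⟨φ, hφ⟩ : ∃ φ : Function.End R, ∀ k : R, ((φ k : R) : G) = y * k * y⁻¹ :=
    ⟨fun k => ⟨y * k * y⁻¹, hmem k k.2⟩, fun k => rfl⟩
  have hpow : ∀ (n : ℕ) (k : R), (((φ ^ n) k : R) : G) = y ^ n * k * (y ^ n)⁻¹ := by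
    intro n
    induction n with
    | zero =>
      intro k
      rw [pow_zero, pow_zero]
      show ((k : R) : G) = 1 * k * 1⁻¹
      group
    | succ n ih =>
      intro k
      have h1 : (φ ^ (n + 1)) k = φ ((φ ^ n) k) := by rw [pow_succ']; rfl
      rw [h1, hφ, ih, pow_succ']
      group
  have hφr : φ ^ r ^ 1 = 1 := by
    funext k
    apply Subtype.ext
    rw [pow_one, hpow, hyr]
    show 1 * ((k : R) : G) * 1⁻¹ = ((k : R) : G)
    group
  have hmod := Equiv.Perm.card_fixedPoints_modEq (p := r) (n := 1) hφr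
  rw [Fintype.card_eq_nat_card, Fintype.card_eq_nat_card] at hmod
  -- the centraliser as a subgroup of R
  obtain ⟨C, hC⟩ : ∃ C : Subgroup R, ∀ k : R, k ∈ C ↔ y * (k : G) = (k : G) * y :=
    ⟨{ carrier := {k | y * (k : G) = (k : G) * y}
       mul_mem' := by
         intro k k' hk hk'
         simp only [Set.mem_ofPred_eq] at hk hk' ⊢
         rw [Subgroup.coe_mul, ← mul_assoc, hk, mul_assoc, hk', mul_assoc]
       one_mem' := by simp
       inv_mem' := by
         intro k hk
         simp only [Set.mem_ofPred_eq] at hk ⊢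
         rw [Subgroup.coe_inv]
         calc y * (k : G)⁻¹ = (k : G)⁻¹ * ((k : G) * y) * (k : G)⁻¹ := by group
           _ = (k : G)⁻¹ * y := by rw [← hk]; group }, fun k => Iff.rfl⟩
  have hfix : Nat.card (Function.fixedPoints φ) = Nat.card C := by
    apply Nat.card_congr
    apply Equiv.subtypeEquivRight
    intro k
    show φ k = k ↔ k ∈ C
    rw [hC, Subtype.ext_iff, hφ, mul_inv_eq_iff_eq_mul]
  rw [hfix, hR] at hmod
  have hCdvd : Nat.card C ∣ 27 := by rw [← hR]; exact Subgroup.card_subgroup_dvd_card C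
  have hcC : (⟨c, hc⟩ : R) ∈ C := (hC _).mpr hcy
  have hC1 : Nat.card C ≠ 1 := by
    intro h
    have : Subsingleton C := (Nat.card_eq_one_iff_unique.mp h).1
    have h2 : (⟨⟨c, hc⟩, hcC⟩ : C) = 1 := Subsingleton.elim _ _
    apply hc1
    have h3 := congrArg (fun t : C => ((t : R) : G)) h2
    simpa using h3
  have hrP : r.Prime := Fact.out
  have hcard : Nat.card C = 27 := by
    rcases card_cases hCdvd with h | h | h | h
    · exact absurd h hC1
    · exfalso
      rw [h] at hmod
      have h2 : r ∣ 27 - 3 := (Nat.modEq_iff_dvd' (by norm_num)).mp hmod.symm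
      have h3 : r ∣ 2 ^ 3 * 3 := by norm_num at h2 ⊢; exact h2
      rcases (Nat.Prime.dvd_mul hrP).mp h3 with h4 | h4
      · have := Nat.le_of_dvd (by norm_num) (hrP.dvd_of_dvd_pow h4); omega
      · have := Nat.le_of_dvd (by norm_num) h4; omega
    · exfalso
      rw [h] at hmod
      have h2 : r ∣ 27 - 9 := (Nat.modEq_iff_dvd' (by norm_num)).mp hmod.symm
      have h3 : r ∣ 2 * 3 ^ 2 := by norm_num at h2 ⊢; exact h2
      rcases (Nat.Prime.dvd_mul hrP).mp h3 with h4 | h4
      · have := Nat.le_of_dvd (by norm_num) h4; omega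
      · have := Nat.le_of_dvd (by norm_num) (hrP.dvd_of_dvd_pow h4); omega
    · exact h
  have htop : C = ⊤ := Subgroup.eq_top_of_card_eq C (by rw [hcard, hR])
  intro h hh
  have h2 : (⟨h, hh⟩ : R) ∈ C := by rw [htop]; exact Subgroup.mem_top _
  exact (hC _).mp h2

end Cfsg.Agent.Helper2.Extra3
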