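import Mathlib
import Cfsg.Agent.Helper2.FieldSubA

/-!
# 3 × 3 matrices of order 3 (for S5971)
-/

set_option autoImplicit false

namespace Cfsg.Agent.Helper2.Singer

open Module Matrix

variable {F : Type*} [Field F]

/-- Cayley–Hamilton for 3 × 3 matrices, with the value of `det (1 - M)` -/
theorem ch3 (M : Matrix (Fin 3) (Fin 3) F) : ∃ t s : F,
    M * M * M - t • (M * M) + s • M - M.det • (1 : Matrix (Fin 3) (Fin 3) F) = 0 ∧
    (1 - M).det = 1 - t + s - M.det := by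
  refine ⟨M 0 0 + M 1 1 + M 2 2, M 0 0 * M 1 1 - M 0 1 * M 1 0 + M 0 0 * M 2 2 -
    M 0 2 * M 2 0 + M 1 1 * M 2 2 - M 1 2 * M 2 1, ?_, ?_⟩
  · ext i j
    fin_cases i <;> fin_cases j <;>
      simp [Matrix.mul_apply, Fin.sum_univ_three, Matrix.det_fin_three] <;> ring
  · rw [Matrix.det_fin_three, Matrix.det_fin_three]
    simp
    ring

theorem lin_zero_of_nonscalar {n : ℕ} (hn : 1 ≤ n) {y : Matrix (Fin n) (Fin n) F}
    (hy : ∀ c : F, y ≠ c • (1 : Matrix (Fin n) (Fin n) F)) {a b : F}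
    (h : a • (1 : Matrix (Fin n) (Fin n) F) + b • y = 0) : a = 0 ∧ b = 0 := by
  have hb : b = 0 := by
    by_contra hb
    apply hy (-(b⁻¹ * a))
    have h1 : b • y = -(a • (1 : Matrix (Fin n) (Fin n) F)) := eq_neg_of_add_eq_zero_right h
    calc y = b⁻¹ • (b • y) := by rw [smul_smul, inv_mul_cancel₀ hb, one_smul]
      _ = (-(b⁻¹ * a)) • (1 : Matrix (Fin n) (Fin n) F) := by
          rw [h1, smul_neg, smul_smul, neg_smul]
  refine ⟨?_, hb⟩
  rw [hb, zero_smul, add_zero] at h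
  exact Cfsg.Agent.Helper2.FSub.smul_one_eq_zero hn a h

/-- a nonscalar `x ∈ SL_3` with `x³ = z` scalar: `z = 1` or `z` is a cube -/
theorem cube_of_sl3 {x : Matrix (Fin 3) (Fin 3) F} (hdet : x.det = 1)
    (hns : ∀ c : F, x ≠ c • (1 : Matrix (Fin 3) (Fin 3) F)) {z : F}
    (hz : x * x * x = z • (1 : Matrix (Fin 3) (Fin 3) F)) : z = 1 ∨ ∃ c : F, c * c * c = z := by
  obtain ⟨t, s, h1, -⟩ := ch3 x
  rw [hz, hdet] at h1
  obtain ⟨X2, hX2⟩ : ∃ X2 : Matrix (Fin 3) (Fin 3) F, X2 = x * x := ⟨_, rfl⟩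
  rw [← hX2] at h1
  by_cases ht : t = 0
  · left
    rw [ht] at h1
    have h2 : (z - 1) • (1 : Matrix (Fin 3) (Fin 3) F) + s • x = 0 := by
      rw [← h1]; module
    exact sub_eq_zero.mp (lin_zero_of_nonscalar (by norm_num) hns h2).1
  · right
    have h2 : t • X2 = (z - 1) • (1 : Matrix (Fin 3) (Fin 3) F) + s • x := by
      have h3 : (z - 1) • (1 : Matrix (Fin 3) (Fin 3) F) + s • x - t • X2 = 0 := by
        rw [← h1]; module
      exact (sub_eq_zero.mp h3).symm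
    obtain ⟨a, ha⟩ : ∃ a : F, a = t⁻¹ * (z - 1) := ⟨_, rfl⟩
    obtain ⟨b, hb⟩ : ∃ b : F, b = t⁻¹ * s := ⟨_, rfl⟩
    have hxx : X2 = a • (1 : Matrix (Fin 3) (Fin 3) F) + b • x := by
      calc X2 = t⁻¹ • (t • X2) := by rw [smul_smul, inv_mul_cancel₀ ht, one_smul]
        _ = a • (1 : Matrix (Fin 3) (Fin 3) F) + b • x := by
            rw [h2, smul_add, smul_smul, smul_smul, ← ha, ← hb]
    have h4 : x * X2 = z • (1 : Matrix (Fin 3) (Fin 3) F) := by
      rw [hX2, ← Matrix.mul_assoc, hz]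
    have h5 : x * X2 = a • x + b • X2 := by
      conv_lhs => rw [hxx]
      rw [Matrix.mul_add, Matrix.mul_smul, Matrix.mul_smul, Matrix.mul_one, ← hX2]
    have h6 : (a * b - z) • (1 : Matrix (Fin 3) (Fin 3) F) + (a + b * b) • x = 0 := by
      have h7 : z • (1 : Matrix (Fin 3) (Fin 3) F) = a • x + b • X2 := by rw [← h4, h5]
      rw [hxx] at h7
      have h8 : (a * b - z) • (1 : Matrix (Fin 3) (Fin 3) F) + (a + b * b) • x =
          (a • x + b • (a • (1 : Matrix (Fin 3) (Fin 3) F) + b • x)) -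
            z • (1 : Matrix (Fin 3) (Fin 3) F) := by module
      rw [h8, ← h7, sub_self]
    obtain ⟨e1, e2⟩ := lin_zero_of_nonscalar (by norm_num) hns h6
    refine ⟨-b, ?_⟩
    linear_combination (-b) * e2 + e1

/-- the (unnormalised) eigenprojection of a matrix of order 3 -/
theorem proj_eig {M : Matrix (Fin 3) (Fin 3) F} (hM : M * M * M = 1) {mu : F}
    (hmu : mu * mu * mu = 1) :
    M * (1 + mu • M + (mu * mu) • (M * M)) = (mu * mu) • (1 + mu • M + (mu * mu) • (M * M)) := by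
  have e1 : mu * mu * (mu * mu) = mu := by linear_combination mu * hmu
  rw [Matrix.mul_add, Matrix.mul_add, Matrix.mul_one, Matrix.mul_smul, Matrix.mul_smul,
    ← Matrix.mul_assoc, hM, smul_add, smul_add, smul_smul, smul_smul, e1, hmu, one_smul]
  abel

/-- a nonscalar `x ∈ SL_3` with `x³ = 1` has every cube root of unity as an eigenvalue -/
theorem exists_eig_sl3 (h3 : (3 : F) ≠ 0) {x : Matrix (Fin 3) (Fin 3) F} (hdet : x.det = 1)
    (hns : ∀ c : F, x ≠ c • (1 : Matrix (Fin 3) (Fin 3) F)) (hx3 : x * x * x = 1) {mu : F}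
    (hmu : mu * mu * mu = 1) : ∃ v : Fin 3 → F, v ≠ 0 ∧ x *ᵥ v = (mu * mu) • v := by
  obtain ⟨e, he⟩ : ∃ e : Matrix (Fin 3) (Fin 3) F,
      e = 1 + mu • x + (mu * mu) • (x * x) := ⟨_, rfl⟩
  have hxe : x * e = (mu * mu) • e := by rw [he]; exact proj_eig hx3 hmu
  by_cases he0 : e = 0
  · exfalso
    obtain ⟨y, hy⟩ : ∃ y : Matrix (Fin 3) (Fin 3) F, y = mu • x := ⟨_, rfl⟩
    have hyy : y * y = (mu * mu) • (x * x) := by
      rw [hy, Matrix.smul_mul, Matrix.mul_smul, smul_smul]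
    have hy3 : y * y * y = 1 := by
      rw [hyy, hy, Matrix.smul_mul, Matrix.mul_smul, smul_smul, hx3, hmu, one_smul]
    have hyq : 1 + y + y * y = 0 := by rw [hyy, hy, ← he]; exact he0
    have hmu3 : mu ^ 3 = 1 := by rw [pow_succ, pow_two]; exact hmu
    have hydet : y.det = 1 := by
      rw [hy, Matrix.det_smul, Fintype.card_fin, hmu3, hdet, one_mul]
    have hxy : x = (mu * mu) • y := by
      rw [hy, smul_smul, hmu, one_smul]
    have hyns : ∀ c : F, y ≠ c • (1 : Matrix (Fin 3) (Fin 3) F) := by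
      intro c hc
      apply hns (mu * mu * c)
      rw [hxy, hc, smul_smul]
    obtain ⟨t, s, h1, h2⟩ := ch3 y
    rw [hy3, hydet] at h1
    have hyy' : y * y = -(1 + y) := eq_neg_of_add_eq_zero_right hyq
    rw [hyy'] at h1
    have h4 : t • (1 : Matrix (Fin 3) (Fin 3) F) + (t + s) • y = 0 := by
      rw [← h1]; module
    obtain ⟨e1, e2⟩ := lin_zero_of_nonscalar (by norm_num) hyns h4
    have hs : s = 0 := by rw [e1, zero_add] at e2; exact e2
    rw [hydet, e1, hs] at h2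
    have h5 : (1 - y).det = 0 := by rw [h2]; ring
    obtain ⟨v, hv0, hv⟩ := Matrix.exists_mulVec_eq_zero_iff.mpr h5
    rw [Matrix.sub_mulVec, Matrix.one_mulVec, sub_eq_zero] at hv
    have h6 : (1 + y + y * y) *ᵥ v = (3 : F) • v := by
      rw [Matrix.add_mulVec, Matrix.add_mulVec, Matrix.one_mulVec, ← Matrix.mulVec_mulVec,
        ← hv, ← hv]
      module
    rw [hyq, Matrix.zero_mulVec] at h6
    exact hv0 ((smul_eq_zero.mp h6.symm).resolve_left h3)
  · have hex : ∃ i j, e i j ≠ 0 := by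
      by_contra hcon
      push Not at hcon
      apply he0
      ext i j
      exact hcon i j
    obtain ⟨i, j, hij⟩ := hex
    refine ⟨e *ᵥ Pi.single j 1, ?_, ?_⟩
    · intro h
      apply hij
      have h1 := congrFun h i
      rw [Matrix.mulVec_single_one, Matrix.col_apply] at h1
      exact h1
    · rw [Matrix.mulVec_mulVec, hxe, Matrix.smul_mulVec]

/-- two 3 × 3 matrices with eigenvectors for the same three distinct eigenvalues are
conjugate by a matrix of determinant 1 -/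
theorem conj_of_eigen {x Φ : Matrix (Fin 3) (Fin 3) F} {d : Fin 3 → F}
    (hd : Function.Injective d) (v v' : Fin 3 → Fin 3 → F) (hv0 : ∀ j, v j ≠ 0)
    (hv : ∀ j, x *ᵥ v j = d j • v j) (hv0' : ∀ j, v' j ≠ 0)
    (hv' : ∀ j, Φ *ᵥ v' j = d j • v' j) :
    ∃ G Gi : Matrix (Fin 3) (Fin 3) F, G * Gi = 1 ∧ Gi * G = 1 ∧ G.det = 1 ∧
      G * x = Φ * G := by
  have key : ∀ (A : Matrix (Fin 3) (Fin 3) F) (w : Fin 3 → Fin 3 → F), (∀ j, w j ≠ 0) →
      (∀ j, A *ᵥ w j = d j • w j) → ∃ P : Matrix (Fin 3) (Fin 3) F, P.det ≠ 0 ∧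
        A * P = P * Matrix.diagonal d := by
    intro A w hw0 hw
    refine ⟨Matrix.of fun i j => w j i, ?_, ?_⟩
    · have hli : LinearIndependent F w :=
        Module.End.eigenvectors_linearIndependent' (Matrix.toLin' A) d hd w (fun j => by
          rw [Module.End.hasEigenvector_iff, Module.End.mem_eigenspace_iff,
            Matrix.toLin'_apply]
          exact ⟨hw j, hw0 j⟩)
      have hcol : (Matrix.of fun i j => w j i : Matrix (Fin 3) (Fin 3) F).col = w := by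
        funext j i; rfl
      have hu : IsUnit (Matrix.of fun i j => w j i : Matrix (Fin 3) (Fin 3) F) := by
        rw [← Matrix.linearIndependent_cols_iff_isUnit, hcol]; exact hli
      exact ((Matrix.isUnit_iff_isUnit_det _).1 hu).ne_zero
    · ext i j
      rw [Matrix.mul_diagonal]
      have h1 : (A * (Matrix.of fun i j => w j i : Matrix (Fin 3) (Fin 3) F)) i j =
          (A *ᵥ w j) i := by
        simp [Matrix.mul_apply, Matrix.mulVec, dotProduct]
      rw [h1, hw]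
      simp [mul_comm]
  obtain ⟨P, hPd, hP⟩ := key x v hv0 hv
  obtain ⟨P', hPd', hP'⟩ := key Φ v' hv0' hv'
  obtain ⟨t, ht⟩ : ∃ t : F, t = P.det / P'.det := ⟨_, rfl⟩
  have ht0 : t ≠ 0 := by rw [ht]; exact div_ne_zero hPd hPd'
  obtain ⟨Dg, hDg⟩ : ∃ Dg : Matrix (Fin 3) (Fin 3) F,
      Dg = Matrix.diagonal (fun j : Fin 3 => if j = 0 then t else 1) := ⟨_, rfl⟩
  have hDgdet : Dg.det = t := by
    rw [hDg, Matrix.det_diagonal, Fin.prod_univ_three]
    simp
  have hDgc : Dg * Matrix.diagonal d = Matrix.diagonal d * Dg := by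
    rw [hDg, Matrix.diagonal_mul_diagonal, Matrix.diagonal_mul_diagonal]
    congr 1
    funext j
    exact mul_comm _ _
  obtain ⟨Q, hQ⟩ : ∃ Q : Matrix (Fin 3) (Fin 3) F, Q = P' * Dg := ⟨_, rfl⟩
  have hQdet : Q.det = P.det := by
    rw [hQ, Matrix.det_mul, hDgdet, ht, mul_div_cancel₀ _ hPd']
  have hΦQ : Φ * Q = Q * Matrix.diagonal d := by
    rw [hQ, ← Matrix.mul_assoc, hP', Matrix.mul_assoc, ← hDgc, ← Matrix.mul_assoc]
  have hPu : IsUnit P.det := isUnit_iff_ne_zero.mpr hPd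
  have hQu : IsUnit Q.det := by rw [hQdet]; exact hPu
  have hxP : P⁻¹ * x = Matrix.diagonal d * P⁻¹ := by
    calc P⁻¹ * x = P⁻¹ * (x * P) * P⁻¹ := by
          rw [Matrix.mul_assoc, Matrix.mul_assoc, Matrix.mul_nonsing_inv P hPu, Matrix.mul_one]
      _ = Matrix.diagonal d * P⁻¹ := by
          rw [hP, ← Matrix.mul_assoc, Matrix.nonsing_inv_mul P hPu, Matrix.one_mul]
  refine ⟨Q * P⁻¹, P * Q⁻¹, ?_, ?_, ?_, ?_⟩
  · rw [Matrix.mul_assoc, ← Matrix.mul_assoc P⁻¹, Matrix.nonsing_inv_mul P hPu, Matrix.one_mul,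
      Matrix.mul_nonsing_inv Q hQu]
  · rw [Matrix.mul_assoc, ← Matrix.mul_assoc Q⁻¹, Matrix.nonsing_inv_mul Q hQu, Matrix.one_mul,
      Matrix.mul_nonsing_inv P hPu]
  · rw [Matrix.det_mul, Matrix.det_nonsing_inv, Ring.inverse_eq_inv', hQdet,
      mul_inv_cancel₀ hPd]
  · rw [Matrix.mul_assoc, hxP, ← Matrix.mul_assoc, ← hΦQ, Matrix.mul_assoc]

end Cfsg.Agent.Helper2.Singer
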