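import Mathlib
import Cfsg.Agent.Helper2.SingerF

/-!
# Linear algebra for the extraspecial group `3^{1+2}` in `GL_3` (for S5998)
-/

set_option autoImplicit false

namespace Cfsg.Agent.Helper2.Extra3

open Module Matrix Cfsg.Agent.Helper2.Singer

variable {F : Type*} [Field F]

/-- the cyclic shift -/
def S3 (F : Type*) [Field F] : Matrix (Fin 3) (Fin 3) F := !![0, 0, 1; 1, 0, 0; 0, 1, 0]

/-- an involution normalising the standard extraspecial group -/
def J3 (F : Type*) [Field F] : Matrix (Fin 3) (Fin 3) F := !![-1, 0, 0; 0, 0, -1; 0, -1, 0]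

theorem mul_S3_apply (Q : Matrix (Fin 3) (Fin 3) F) (i j : Fin 3) :
    (Q * S3 F) i j = Q i (j + 1) := by
  fin_cases j
  · show (Q * S3 F) i 0 = Q i 1
    simp [Matrix.mul_apply, Fin.sum_univ_three, S3]
  · show (Q * S3 F) i 1 = Q i 2
    simp [Matrix.mul_apply, Fin.sum_univ_three, S3]
  · show (Q * S3 F) i 2 = Q i 0
    simp [Matrix.mul_apply, Fin.sum_univ_three, S3]

theorem S3_mul_apply (Y : Matrix (Fin 3) (Fin 3) F) (i j : Fin 3) :
    (S3 F * Y) i j = Y (i - 1) j := by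
  fin_cases i
  · show (S3 F * Y) 0 j = Y 2 j
    simp [Matrix.mul_apply, Fin.sum_univ_three, S3]
  · show (S3 F * Y) 1 j = Y 0 j
    simp [Matrix.mul_apply, Fin.sum_univ_three, S3]
  · show (S3 F * Y) 2 j = Y 1 j
    simp [Matrix.mul_apply, Fin.sum_univ_three, S3]

theorem quad_of_cube {γ : F} (hγ1 : γ ≠ 1) (hγ3 : γ * γ * γ = 1) : 1 + γ + γ * γ = 0 := by
  have h : (γ - 1) * (1 + γ + γ * γ) = 0 := by linear_combination hγ3
  rcases mul_eq_zero.mp h with h | h
  · exact absurd (sub_eq_zero.mp h) hγ1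
  · exact h

theorem mu3_cases {γ : F} (hγ1 : γ ≠ 1) (hγ3 : γ * γ * γ = 1) {x : F} (hx : x * x * x = 1) :
    x = 1 ∨ x = γ ∨ x = γ * γ := by
  have hq := quad_of_cube hγ1 hγ3
  have h : (x - 1) * ((x - γ) * (x - γ * γ)) = 0 := by
    linear_combination hx - hγ3 + (γ * x - x * x) * hq
  rcases mul_eq_zero.mp h with h | h
  · left; exact sub_eq_zero.mp h
  · rcases mul_eq_zero.mp h with h | h
    · right; left; exact sub_eq_zero.mp h
    · right; right; exact sub_eq_zero.mp h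

theorem exists_col {M e : Matrix (Fin 3) (Fin 3) F} {c : F} (he0 : e ≠ 0)
    (hMe : M * e = c • e) : ∃ w : Fin 3 → F, w ≠ 0 ∧ M *ᵥ w = c • w := by
  have hex : ∃ i j, e i j ≠ 0 := by
    by_contra hcon
    push Not at hcon
    apply he0
    ext i j
    exact hcon i j
  obtain ⟨i, j, hij⟩ := hex
  refine ⟨e *ᵥ Pi.single j 1, ?_, ?_⟩
  · intro h
    apply hij
    have h1 := congrFun h i
    rw [Matrix.mulVec_single_one, Matrix.col_apply] at h1
    exact h1
  · rw [Matrix.mulVec_mulVec, hMe, Matrix.smul_mulVec]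

theorem mul_of_cols {n : ℕ} (M : Matrix (Fin n) (Fin n) F) (w : Fin n → Fin n → F) :
    M * (Matrix.of fun i j => w j i) = Matrix.of fun i j => (M *ᵥ w j) i := by
  ext i j
  simp [Matrix.mul_apply, Matrix.mulVec, dotProduct]

theorem det_of_cols_ne_zero {n : ℕ} {w : Fin n → Fin n → F} (hli : LinearIndependent F w) :
    (Matrix.of fun i j => w j i : Matrix (Fin n) (Fin n) F).det ≠ 0 := by
  have hcol : (Matrix.of fun i j => w j i : Matrix (Fin n) (Fin n) F).col = w := by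
    funext j i; rfl
  have hu : IsUnit (Matrix.of fun i j => w j i : Matrix (Fin n) (Fin n) F) := by
    rw [← Matrix.linearIndependent_cols_iff_isUnit, hcol]; exact hli
  exact ((Matrix.isUnit_iff_isUnit_det _).1 hu).ne_zero

/-- simultaneous eigen-matrices summing to one give a diagonalisation -/
theorem exists_diag {n : ℕ} {x : Matrix (Fin n) (Fin n) F} {ι : Type*} [Fintype ι]
    (E : ι → Matrix (Fin n) (Fin n) F) (lam : ι → F)
    (hE : ∀ k, x * E k = lam k • E k) (hsum : ∑ k, E k = 1) :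
    ∃ (P : Matrix (Fin n) (Fin n) F) (d : Fin n → F), P.det ≠ 0 ∧
      x * P = P * Matrix.diagonal d ∧ ∀ j, ∃ k, d j = lam k := by
  classical
  obtain ⟨w, hwdef⟩ : ∃ w : ι × Fin n → (Fin n → F),
      ∀ kj, w kj = E kj.1 *ᵥ Pi.single kj.2 1 :=
    ⟨fun kj => E kj.1 *ᵥ Pi.single kj.2 1, fun _ => rfl⟩
  have hw : ∀ kj, x *ᵥ w kj = lam kj.1 • w kj := by
    intro kj
    rw [hwdef, Matrix.mulVec_mulVec, hE, Matrix.smul_mulVec]
  have hspan : ⊤ ≤ Submodule.span F (Set.range w) := by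
    intro v _
    have h2 : ∀ k, E k *ᵥ v = ∑ j, v j • w (k, j) := by
      intro k
      funext i
      simp only [hwdef, Finset.sum_apply, Pi.smul_apply, smul_eq_mul, Matrix.mulVec_single_one,
        Matrix.col_apply, Matrix.mulVec, dotProduct]
      exact Finset.sum_congr rfl (fun j _ => mul_comm _ _)
    have hv : v = ∑ k, ∑ j, v j • w (k, j) := by
      calc v = (∑ k, E k) *ᵥ v := by rw [hsum, Matrix.one_mulVec]
        _ = ∑ k, E k *ᵥ v := Matrix.sum_mulVec _ _ _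
        _ = _ := Finset.sum_congr rfl (fun k _ => h2 k)
    rw [hv]
    exact Submodule.sum_mem _ fun k _ => Submodule.sum_mem _ fun j _ =>
      Submodule.smul_mem _ _ (Submodule.subset_span ⟨(k, j), rfl⟩)
  have hsub : ∀ i, (Basis.ofSpan hspan) i ∈ Set.range w := fun i =>
    Basis.ofSpan_subset hspan ⟨i, rfl⟩
  obtain ⟨e⟩ := (⟨(Pi.basisFun F (Fin n)).indexEquiv (Basis.ofSpan hspan)⟩ : Nonempty _)
  have hli : LinearIndependent F (fun j => (Basis.ofSpan hspan) (e j)) :=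
    (Basis.ofSpan hspan).linearIndependent.comp e e.injective
  choose kj hkj using fun j => hsub (e j)
  refine ⟨Matrix.of fun i j => (Basis.ofSpan hspan) (e j) i, fun j => lam (kj j).1,
    det_of_cols_ne_zero hli, ?_, fun j => ⟨_, rfl⟩⟩
  rw [mul_of_cols]
  ext i j
  rw [Matrix.mul_diagonal, Matrix.of_apply, Matrix.of_apply, ← hkj j, hw, Pi.smul_apply,
    smul_eq_mul, mul_comm]

/-- two matrices diagonalised to the same diagonal are conjugate by a matrix of determinant 1 -/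
theorem conj_of_diag {x Φ P P' : Matrix (Fin 3) (Fin 3) F} {d : Fin 3 → F}
    (hPd : P.det ≠ 0) (hP : x * P = P * Matrix.diagonal d) (hPd' : P'.det ≠ 0)
    (hP' : Φ * P' = P' * Matrix.diagonal d) :
    ∃ G Gi : Matrix (Fin 3) (Fin 3) F, G * Gi = 1 ∧ Gi * G = 1 ∧ G.det = 1 ∧
      G * x = Φ * G := by
  obtain ⟨t, ht⟩ : ∃ t : F, t = P.det / P'.det := ⟨_, rfl⟩
  have ht0 : t ≠ 0 := by rw [ht]; exact div_ne_zero hPd hPd'
  obtain ⟨Dg, hDg⟩ : ∃ Dg : Matrix (Fin 3) (Fin 3) F,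
      Dg = Matrix.diagonal (fun j : Fin 3 => if j = 0 then t else 1) := ⟨_, rfl⟩
  have hDgdet : Dg.det = t := by
    rw [hDg, Matrix.det_diagonal, Fin.prod_univ_three]
    simp
  have hDgc : Dg * Matrix.diagonal d = Matrix.diagonal d * Dg := by
    rw [hDg, Matrix.diagonal_mul_diagonal, Matrix.diagonal_mul_diagonal]
    congr 1
    funext j
    exact mul_comm _ _
  obtain ⟨Q, hQ⟩ : ∃ Q : Matrix (Fin 3) (Fin 3) F, Q = P' * Dg := ⟨_, rfl⟩
  have hQdet : Q.det = P.det := by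
    rw [hQ, Matrix.det_mul, hDgdet, ht, mul_div_cancel₀ _ hPd']
  have hΦQ : Φ * Q = Q * Matrix.diagonal d := by
    rw [hQ, ← Matrix.mul_assoc, hP', Matrix.mul_assoc, ← hDgc, ← Matrix.mul_assoc]
  have hPu : IsUnit P.det := isUnit_iff_ne_zero.mpr hPd
  have hQu : IsUnit Q.det := by rw [hQdet]; exact hPu
  have hxP : P⁻¹ * x = Matrix.diagonal d * P⁻¹ := by
    calc P⁻¹ * x = P⁻¹ * (x * P) * P⁻¹ := by
          rw [Matrix.mul_assoc, Matrix.mul_assoc, Matrix.mul_nonsing_inv P hPu, Matrix.mul_one]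
      _ = Matrix.diagonal d * P⁻¹ := by
          rw [hP, ← Matrix.mul_assoc, Matrix.nonsing_inv_mul P hPu, Matrix.one_mul]
  refine ⟨Q * P⁻¹, P * Q⁻¹, ?_, ?_, ?_, ?_⟩
  · rw [Matrix.mul_assoc, ← Matrix.mul_assoc P⁻¹, Matrix.nonsing_inv_mul P hPu, Matrix.one_mul,
      Matrix.mul_nonsing_inv Q hQu]
  · rw [Matrix.mul_assoc, ← Matrix.mul_assoc Q⁻¹, Matrix.nonsing_inv_mul Q hQu, Matrix.one_mul,
      Matrix.mul_nonsing_inv P hPu]
  · rw [Matrix.det_mul, Matrix.det_nonsing_inv, Ring.inverse_eq_inv', hQdet,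
      mul_inv_cancel₀ hPd]
  · rw [Matrix.mul_assoc, hxP, ← Matrix.mul_assoc, ← hΦQ, Matrix.mul_assoc]

/-- a matrix commuting with a diagonal matrix with distinct entries and with the cyclic shift
is scalar -/
theorem schur {d : Fin 3 → F} (hd : Function.Injective d) {Y : Matrix (Fin 3) (Fin 3) F}
    (h1 : Y * Matrix.diagonal d = Matrix.diagonal d * Y) (h2 : Y * S3 F = S3 F * Y) :
    Y = (Y 0 0) • (1 : Matrix (Fin 3) (Fin 3) F) := by
  have hoff : ∀ i j, i ≠ j → Y i j = 0 := by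
    intro i j hij
    have h3 := congrFun (congrFun h1 i) j
    rw [Matrix.mul_diagonal, Matrix.diagonal_mul] at h3
    have h4 : (d j - d i) * Y i j = 0 := by linear_combination h3
    rcases mul_eq_zero.mp h4 with h | h
    · exact absurd (hd (sub_eq_zero.mp h)).symm hij
    · exact h
  have hdiag : ∀ i, Y (i + 1) (i + 1) = Y i i := by
    intro i
    have h3 := congrFun (congrFun h2 (i + 1)) i
    rw [mul_S3_apply, S3_mul_apply, add_sub_cancel_right] at h3
    exact h3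
  have h11 : Y 1 1 = Y 0 0 := hdiag 0
  have h22 : Y 2 2 = Y 0 0 := (hdiag 1).trans h11
  ext i j
  rw [Matrix.smul_apply, Matrix.one_apply, smul_eq_mul]
  by_cases hij : i = j
  · subst hij
    rw [if_pos rfl, mul_one]
    fin_cases i
    · rfl
    · exact h11
    · exact h22
  · rw [if_neg hij, mul_zero]; exact hoff i j hij

/-- an eigenvector of `A` inside an eigenspace of a commuting matrix -/
theorem exists_eig_in (h3 : (3 : F) ≠ 0) {ω : F} (hω1 : ω ≠ 1) (hω3 : ω * ω * ω = 1)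
    {A C : Matrix (Fin 3) (Fin 3) F} (hA : A * A * A = 1) (hCA : C * A = A * C) {γ : F}
    {w : Fin 3 → F} (hw0 : w ≠ 0) (hCw : C *ᵥ w = γ • w) :
    ∃ (α : F) (u : Fin 3 → F), α * α * α = 1 ∧ u ≠ 0 ∧ A *ᵥ u = α • u ∧ C *ᵥ u = γ • u := by
  have hω2 := quad_of_cube hω1 hω3
  have e4 : (ω * ω) * (ω * ω) = ω := by linear_combination ω * hω3
  have hCAA : C * (A * A) = A * A * C := by
    rw [← Matrix.mul_assoc, hCA, Matrix.mul_assoc, hCA, ← Matrix.mul_assoc]
  have key : ∀ mu : F, mu * mu * mu = 1 → (1 + mu • A + (mu * mu) • (A * A)) *ᵥ w ≠ 0 →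
      ∃ (α : F) (u : Fin 3 → F), α * α * α = 1 ∧ u ≠ 0 ∧ A *ᵥ u = α • u ∧
        C *ᵥ u = γ • u := by
    intro mu hmu hne
    refine ⟨mu * mu, _, by linear_combination (mu * mu * mu + 1) * hmu, hne, ?_, ?_⟩
    · rw [Matrix.mulVec_mulVec, proj_eig hA hmu, Matrix.smul_mulVec]
    · have hcomm : C * (1 + mu • A + (mu * mu) • (A * A)) =
          (1 + mu • A + (mu * mu) • (A * A)) * C := by
        rw [Matrix.mul_add, Matrix.mul_add, Matrix.add_mul, Matrix.add_mul, Matrix.mul_one,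
          Matrix.one_mul, Matrix.mul_smul, Matrix.mul_smul, Matrix.smul_mul, Matrix.smul_mul,
          hCA, hCAA]
      rw [Matrix.mulVec_mulVec, hcomm, ← Matrix.mulVec_mulVec, hCw, Matrix.mulVec_smul]
  by_cases h1 : (1 + (1 : F) • A + ((1 : F) * 1) • (A * A)) *ᵥ w = 0
  · by_cases h2 : (1 + ω • A + (ω * ω) • (A * A)) *ᵥ w = 0
    · by_cases h4 : (1 + (ω * ω) • A + ((ω * ω) * (ω * ω)) • (A * A)) *ᵥ w = 0
      · exfalso
        have hsum : (1 + (1 : F) • A + ((1 : F) * 1) • (A * A)) *ᵥ w +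
            (1 + ω • A + (ω * ω) • (A * A)) *ᵥ w +
            (1 + (ω * ω) • A + ((ω * ω) * (ω * ω)) • (A * A)) *ᵥ w =
            (3 : F) • w + (1 + ω + ω * ω) • (A *ᵥ w) +
              (1 + ω * ω + (ω * ω) * (ω * ω)) • ((A * A) *ᵥ w) := by
          simp only [Matrix.add_mulVec, Matrix.smul_mulVec, Matrix.one_mulVec]
          module
        rw [h1, h2, h4, e4, (by linear_combination hω2 : 1 + ω * ω + ω = 0), hω2] at hsum
        simp only [zero_smul, add_zero] at hsum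
        exact hw0 ((smul_eq_zero.mp hsum.symm).resolve_left h3)
      · exact key (ω * ω) (by linear_combination (ω * ω * ω + 1) * hω3) h4
    · exact key ω hω3 h2
  · exact key 1 (by ring) h1

/-- the normal form of a non-commuting pair in an extraspecial group of exponent 3 -/
theorem normal_form (h3 : (3 : F) ≠ 0) {ω : F} (hω1 : ω ≠ 1) (hω3 : ω * ω * ω = 1)
    {A B C : Matrix (Fin 3) (Fin 3) F} (hA : A * A * A = 1) (hB : B * B * B = 1)
    (hC : C * C * C = 1) (hCA : C * A = A * C) (hCB : C * B = B * C)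
    (hAB : A * B = C * B * A) (hC1 : C ≠ 1) :
    ∃ (Q Qi : Matrix (Fin 3) (Fin 3) F) (α γ : F), Q * Qi = 1 ∧ Qi * Q = 1 ∧ γ ≠ 1 ∧
      γ * γ * γ = 1 ∧ α * α * α = 1 ∧ A = Q * Matrix.diagonal ![α, α * γ, α * γ * γ] * Qi ∧
      B = Q * S3 F * Qi ∧ C = γ • (1 : Matrix (Fin 3) (Fin 3) F) := by
  have hω2 := quad_of_cube hω1 hω3
  have e4 : (ω * ω) * (ω * ω) = ω := by linear_combination ω * hω3
  have hωω3 : (ω * ω) * (ω * ω) * (ω * ω) = 1 := by
    linear_combination (ω * ω * ω + 1) * hω3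
  have hωω1 : ω * ω ≠ 1 := fun h => hω1 (by linear_combination hω3 - ω * h)
  obtain ⟨γ, w, hγ1, hγ3, hw0, hCw⟩ : ∃ (γ : F) (w : Fin 3 → F), γ ≠ 1 ∧ γ * γ * γ = 1 ∧
      w ≠ 0 ∧ C *ᵥ w = γ • w := by
    have hp1 := proj_eig hC hω3
    have hp2 := proj_eig hC hωω3
    rw [e4] at hp2
    by_cases he1 : (1 + ω • C + (ω * ω) • (C * C)) = 0
    · by_cases he2 : (1 + (ω * ω) • C + ω • (C * C)) = 0
      · exfalso
        have h5 : (ω - ω * ω) • (C - C * C) = 0 := by
          have h6 : (ω - ω * ω) • (C - C * C) = (1 + ω • C + (ω * ω) • (C * C)) -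
              (1 + (ω * ω) • C + ω • (C * C)) := by module
          rw [h6, he1, he2, sub_zero]
        have hne : ω - ω * ω ≠ 0 := by
          intro h
          have h7 : ω * (1 - ω) = 0 := by linear_combination h
          rcases mul_eq_zero.mp h7 with h' | h'
          · rw [h'] at hω3; simp at hω3
          · exact hω1 (sub_eq_zero.mp h').symm
        have h6 : C = C * C := sub_eq_zero.mp ((smul_eq_zero.mp h5).resolve_left hne)
        have h7 : C * C * C = C := by rw [← h6, ← h6]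
        rw [hC] at h7
        exact hC1 h7.symm
      · obtain ⟨w, hw0, hw⟩ := exists_col he2 hp2
        exact ⟨ω, w, hω1, hω3, hw0, hw⟩
    · obtain ⟨w, hw0, hw⟩ := exists_col he1 hp1
      exact ⟨ω * ω, w, hωω1, hωω3, hw0, hw⟩
  obtain ⟨α, u, hα3, hu0, hAu, hCu⟩ := exists_eig_in h3 hω1 hω3 hA hCA hw0 hCw
  have hα0 : α ≠ 0 := by
    intro h; rw [h] at hα3; simp at hα3
  have hγ0 : γ ≠ 0 := by
    intro h; rw [h] at hγ3; simp at hγ3
  have hγγ1 : γ * γ ≠ 1 := fun h => hγ1 (by linear_combination hγ3 - γ * h)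
  have hBinj : ∀ v : Fin 3 → F, B *ᵥ v = 0 → v = 0 := by
    intro v hv
    have h1 : (B * B * B) *ᵥ v = 0 := by
      rw [← Matrix.mulVec_mulVec, hv, Matrix.mulVec_zero]
    rw [hB, Matrix.one_mulVec] at h1
    exact h1
  have step : ∀ (a : F) (v : Fin 3 → F), A *ᵥ v = a • v → C *ᵥ v = γ • v →
      A *ᵥ (B *ᵥ v) = (a * γ) • (B *ᵥ v) ∧ C *ᵥ (B *ᵥ v) = γ • (B *ᵥ v) := by
    intro a v hAv hCv
    have hC' : C *ᵥ (B *ᵥ v) = γ • (B *ᵥ v) := by
      rw [Matrix.mulVec_mulVec, hCB, ← Matrix.mulVec_mulVec, hCv, Matrix.mulVec_smul]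
    refine ⟨?_, hC'⟩
    rw [Matrix.mulVec_mulVec, hAB, ← Matrix.mulVec_mulVec, hAv, Matrix.mulVec_smul,
      ← Matrix.mulVec_mulVec, hC', smul_smul]
  obtain ⟨h1a, h1c⟩ := step α u hAu hCu
  obtain ⟨h2a, h2c⟩ := step (α * γ) (B *ᵥ u) h1a h1c
  have hu1 : B *ᵥ u ≠ 0 := fun h => hu0 (hBinj u h)
  have hu2 : B *ᵥ (B *ᵥ u) ≠ 0 := fun h => hu1 (hBinj _ h)
  have hu3 : B *ᵥ (B *ᵥ (B *ᵥ u)) = u := by
    rw [Matrix.mulVec_mulVec, Matrix.mulVec_mulVec, hB, Matrix.one_mulVec]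
  obtain ⟨v, hv⟩ : ∃ v : Fin 3 → Fin 3 → F, v = ![u, B *ᵥ u, B *ᵥ (B *ᵥ u)] := ⟨_, rfl⟩
  obtain ⟨d, hd⟩ : ∃ d : Fin 3 → F, d = ![α, α * γ, α * γ * γ] := ⟨_, rfl⟩
  have hv0 : ∀ j, v j ≠ 0 := by
    intro j; rw [hv]; fin_cases j
    · exact hu0
    · exact hu1
    · exact hu2
  have hAv : ∀ j, A *ᵥ v j = d j • v j := by
    intro j; rw [hv, hd]; fin_cases j
    · exact hAu
    · exact h1a
    · exact h2a
  have hCv : ∀ j, C *ᵥ v j = γ • v j := by
    intro j; rw [hv]; fin_cases j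
    · exact hCu
    · exact h1c
    · exact h2c
  have hBv : ∀ j, B *ᵥ v j = v (j + 1) := by
    intro j; rw [hv]; fin_cases j
    · rfl
    · rfl
    · exact hu3
  have d01 : α ≠ α * γ := fun h =>
    hγ1 (mul_left_cancel₀ hα0 (by rw [mul_one]; exact h.symm))
  have d02 : α ≠ α * γ * γ := fun h =>
    hγγ1 (mul_left_cancel₀ hα0 (by rw [mul_one, ← mul_assoc]; exact h.symm))
  have d12 : α * γ ≠ α * γ * γ := fun h =>
    hγ1 (mul_left_cancel₀ (mul_ne_zero hα0 hγ0) (by rw [mul_one]; exact h.symm))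
  have hdinj : Function.Injective d := by
    intro i j hij
    rw [hd] at hij
    fin_cases i <;> fin_cases j <;>
      first
        | rfl
        | exact absurd hij d01
        | exact absurd hij.symm d01
        | exact absurd hij d02
        | exact absurd hij.symm d02
        | exact absurd hij d12
        | exact absurd hij.symm d12
  have hli : LinearIndependent F v :=
    Module.End.eigenvectors_linearIndependent' (Matrix.toLin' A) d hdinj v (fun j => by
      rw [Module.End.hasEigenvector_iff, Module.End.mem_eigenspace_iff, Matrix.toLin'_apply]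
      exact ⟨hAv j, hv0 j⟩)
  obtain ⟨Q, hQ⟩ : ∃ Q : Matrix (Fin 3) (Fin 3) F, Q = Matrix.of fun i j => v j i := ⟨_, rfl⟩
  have hQd : Q.det ≠ 0 := by rw [hQ]; exact det_of_cols_ne_zero hli
  have hQu : IsUnit Q.det := isUnit_iff_ne_zero.mpr hQd
  have hAQ : A * Q = Q * Matrix.diagonal d := by
    rw [hQ, mul_of_cols]
    ext i j
    rw [Matrix.mul_diagonal, Matrix.of_apply, Matrix.of_apply, hAv, Pi.smul_apply, smul_eq_mul,
      mul_comm]
  have hCQ : C * Q = γ • Q := by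
    rw [hQ, mul_of_cols]
    ext i j
    rw [Matrix.smul_apply, Matrix.of_apply, Matrix.of_apply, hCv, Pi.smul_apply]
  have hBQ : B * Q = Q * S3 F := by
    rw [hQ, mul_of_cols]
    ext i j
    rw [mul_S3_apply, Matrix.of_apply, Matrix.of_apply, hBv]
  obtain ⟨Qi, hQi⟩ : ∃ Qi : Matrix (Fin 3) (Fin 3) F, Qi = Q⁻¹ := ⟨_, rfl⟩
  have hQQi : Q * Qi = 1 := by rw [hQi]; exact Matrix.mul_nonsing_inv Q hQu
  have hQiQ : Qi * Q = 1 := by rw [hQi]; exact Matrix.nonsing_inv_mul Q hQu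
  refine ⟨Q, Qi, α, γ, hQQi, hQiQ, hγ1, hγ3, hα3, ?_, ?_, ?_⟩
  · rw [← hd, ← hAQ, Matrix.mul_assoc, hQQi, Matrix.mul_one]
  · rw [← hBQ, Matrix.mul_assoc, hQQi, Matrix.mul_one]
  · calc C = C * Q * Qi := by rw [Matrix.mul_assoc, hQQi, Matrix.mul_one]
      _ = γ • 1 := by rw [hCQ, Matrix.smul_mul, hQQi]

end Cfsg.Agent.Helper2.Extra3
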