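import Mathlib
import Cfsg.Prelude.Def_GeometricClasses
import Cfsg.Agent.Helper2.Extra3A
import Cfsg.Agent.Helper2.Extra3B

/-!
# The extraspecial group `3^{1+2}` in `GL_3` in coordinates (for S5998)
-/

set_option autoImplicit false

namespace Cfsg.Agent.Helper2.Extra3

open Matrix
open scoped MatrixGroups

variable {F : Type*} [Field F]

/-- the matrix `Q * M * Qi` belongs to (an element of) `R` -/
def InR (R : Subgroup (GL (Fin 3) F)) (Q Qi M : Matrix (Fin 3) (Fin 3) F) : Prop :=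
  ∃ h ∈ R, ((h : GL (Fin 3) F) : Matrix (Fin 3) (Fin 3) F) = Q * M * Qi

/-- coordinates in which `R` is the standard extraspecial group -/
structure Frame (R : Subgroup (GL (Fin 3) F)) (Q Qi : Matrix (Fin 3) (Fin 3) F) (γ : F) :
    Prop where
  hQ : Q * Qi = 1
  hQ' : Qi * Q = 1
  hγ1 : γ ≠ 1
  hγ3 : γ * γ * γ = 1
  hcard : Nat.card R = 27
  hc : InR R Q Qi (γ • (1 : Matrix (Fin 3) (Fin 3) F))
  hd : InR R Q Qi (Matrix.diagonal ![1, γ, γ * γ])
  hs : InR R Q Qi (S3 F)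

variable {R : Subgroup (GL (Fin 3) F)} {Q Qi : Matrix (Fin 3) (Fin 3) F} {γ : F}

theorem cancel_QiQ (hQ' : Qi * Q = 1) (W : Matrix (Fin 3) (Fin 3) F) : Qi * (Q * W) = W := by
  rw [← Matrix.mul_assoc, hQ', Matrix.one_mul]

theorem InR.mul (hQ' : Qi * Q = 1) {M M' : Matrix (Fin 3) (Fin 3) F} (h : InR R Q Qi M)
    (h' : InR R Q Qi M') : InR R Q Qi (M * M') := by
  obtain ⟨g, hg, hgm⟩ := h
  obtain ⟨g', hg', hgm'⟩ := h'
  refine ⟨g * g', R.mul_mem hg hg', ?_⟩
  rw [Units.val_mul, hgm, hgm']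
  simp only [Matrix.mul_assoc, cancel_QiQ hQ']

theorem scalar_mem (hQ : Q * Qi = 1) (hQ' : Qi * Q = 1) (hγ1 : γ ≠ 1) (hγ3 : γ * γ * γ = 1)
    (hc : InR R Q Qi (γ • (1 : Matrix (Fin 3) (Fin 3) F))) {t : F} (ht : t * t * t = 1) :
    InR R Q Qi (t • (1 : Matrix (Fin 3) (Fin 3) F)) := by
  rcases mu3_cases hγ1 hγ3 ht with h | h | h
  · rw [h, one_smul]
    exact ⟨1, R.one_mem, by rw [Units.val_one, Matrix.mul_one, hQ]⟩
  · rw [h]; exact hc
  · rw [h]
    have h2 := InR.mul hQ' hc hc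
    rw [Matrix.smul_mul, Matrix.one_mul, smul_smul] at h2
    exact h2

theorem Frame.scalar (hf : Frame R Q Qi γ) {t : F} (ht : t * t * t = 1) :
    InR R Q Qi (t • (1 : Matrix (Fin 3) (Fin 3) F)) :=
  scalar_mem hf.hQ hf.hQ' hf.hγ1 hf.hγ3 hf.hc ht

/-- diagonal matrices with cube roots of unity and determinant 1 belong to `R` -/
theorem Frame.diag (hf : Frame R Q Qi γ) {m : Fin 3 → F} (hm : ∀ i, m i * m i * m i = 1)
    (hprod : m 0 * m 1 * m 2 = 1) : InR R Q Qi (Matrix.diagonal m) := by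
  have hm0 := hm 0
  have hm1 := hm 1
  have hm00 : m 0 ≠ 0 := by intro h; rw [h] at hm0; simp at hm0
  have hm10 : m 1 ≠ 0 := by intro h; rw [h] at hm1; simp at hm1
  obtain ⟨t, ht⟩ : ∃ t : F, t = m 1 * m 0 * m 0 := ⟨_, rfl⟩
  have ht3 : t * t * t = 1 := by
    rw [ht]
    linear_combination (m 0 * m 0 * m 0 * m 0 * m 0 * m 0) * hm1 + (m 0 * m 0 * m 0 + 1) * hm0
  have hm1' : m 1 = t * m 0 := by rw [ht]; linear_combination (-(m 1)) * hm0
  have hm2' : m 2 = t * t * m 0 := by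
    have h01 : m 0 * m 1 ≠ 0 := mul_ne_zero hm00 hm10
    apply mul_left_cancel₀ h01
    rw [hprod, hm1']
    linear_combination (-(t * t * t)) * hm0 - ht3
  have hs := hf.scalar hm0
  rcases mu3_cases hf.hγ1 hf.hγ3 ht3 with h | h | h
  · have e : Matrix.diagonal m = m 0 • (1 : Matrix (Fin 3) (Fin 3) F) := by
      rw [Matrix.smul_one_eq_diagonal]
      congr 1
      funext i
      fin_cases i
      · rfl
      · show m 1 = m 0
        rw [hm1', h, one_mul]
      · show m 2 = m 0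
        rw [hm2', h, one_mul, one_mul]
    rw [e]; exact hs
  · have e : Matrix.diagonal m = (m 0 • (1 : Matrix (Fin 3) (Fin 3) F)) *
        Matrix.diagonal ![1, γ, γ * γ] := by
      rw [Matrix.smul_mul, Matrix.one_mul, ← Matrix.diagonal_smul]
      congr 1
      funext i
      fin_cases i
      · show m 0 = m 0 * 1
        rw [mul_one]
      · show m 1 = m 0 * γ
        rw [hm1', h, mul_comm]
      · show m 2 = m 0 * (γ * γ)
        rw [hm2', h, mul_comm]
    rw [e]; exact InR.mul hf.hQ' hs hf.hd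
  · have e : Matrix.diagonal m = (m 0 • (1 : Matrix (Fin 3) (Fin 3) F)) *
        (Matrix.diagonal ![1, γ, γ * γ] * Matrix.diagonal ![1, γ, γ * γ]) := by
      rw [Matrix.diagonal_mul_diagonal, Matrix.smul_mul, Matrix.one_mul, ← Matrix.diagonal_smul]
      congr 1
      funext i
      fin_cases i
      · show m 0 = m 0 * (1 * 1)
        rw [mul_one, mul_one]
      · show m 1 = m 0 * (γ * γ)
        rw [hm1', h, mul_comm]
      · show m 2 = m 0 * ((γ * γ) * (γ * γ))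
        rw [hm2', h, mul_comm]
    rw [e]; exact InR.mul hf.hQ' hs (InR.mul hf.hQ' hf.hd hf.hd)

theorem d_inj (hγ1 : γ ≠ 1) (hγ3 : γ * γ * γ = 1) :
    Function.Injective (![1, γ, γ * γ] : Fin 3 → F) := by
  have hγ0 : γ ≠ 0 := by intro h; rw [h] at hγ3; simp at hγ3
  have d01 : (1 : F) ≠ γ := fun h => hγ1 h.symm
  have d02 : (1 : F) ≠ γ * γ := fun h => hγ1 (by linear_combination hγ3 + γ * h)
  have d12 : γ ≠ γ * γ := fun h =>
    hγ1 (mul_left_cancel₀ hγ0 (by rw [mul_one]; exact h.symm))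
  intro i j hij
  fin_cases i <;> fin_cases j <;>
    first
      | rfl
      | exact absurd hij d01
      | exact absurd hij.symm d01
      | exact absurd hij d02
      | exact absurd hij.symm d02
      | exact absurd hij d12
      | exact absurd hij.symm d12

/-- generators of `R` -/
theorem Frame.gens (hf : Frame R Q Qi γ) : ∃ a b : GL (Fin 3) F, a ∈ R ∧ b ∈ R ∧
    (a : Matrix (Fin 3) (Fin 3) F) = Q * Matrix.diagonal ![1, γ, γ * γ] * Qi ∧
    (b : Matrix (Fin 3) (Fin 3) F) = Q * S3 F * Qi ∧ Subgroup.closure {a, b} = R := by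
  obtain ⟨a, haR, ha⟩ := hf.hd
  obtain ⟨b, hbR, hb⟩ := hf.hs
  refine ⟨a, b, haR, hbR, ha, hb, gen27 R hf.hcard haR hbR ?_⟩
  intro hab
  have h1 := congrArg (fun g : GL (Fin 3) F => (g : Matrix (Fin 3) (Fin 3) F)) hab
  simp only [Units.val_mul] at h1
  rw [ha, hb] at h1
  have h2 : Qi * (Q * Matrix.diagonal ![1, γ, γ * γ] * Qi * (Q * S3 F * Qi)) * Q =
      Qi * (Q * S3 F * Qi * (Q * Matrix.diagonal ![1, γ, γ * γ] * Qi)) * Q := by rw [h1]
  simp only [Matrix.mul_assoc, cancel_QiQ hf.hQ', hf.hQ', Matrix.mul_one] at h2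
  have h3 := congrFun (congrFun h2 1) 0
  rw [mul_S3_apply, S3_mul_apply] at h3
  simp at h3
  exact hf.hγ1 h3

theorem det_conj (hQ : Q * Qi = 1) (M : Matrix (Fin 3) (Fin 3) F) :
    (Q * M * Qi).det = M.det := by
  rw [Matrix.det_mul, Matrix.det_mul, mul_comm Q.det, mul_assoc, ← Matrix.det_mul, hQ,
    Matrix.det_one, mul_one]

theorem mem_SL_iff (x : GL (Fin 3) F) : x ∈ Cfsg.Geo.specialLinear (Fin 3) F ↔
    (x : Matrix (Fin 3) (Fin 3) F).det = 1 := by
  unfold Cfsg.Geo.specialLinear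
  rw [MonoidHom.mem_ker, Units.ext_iff]
  rfl

theorem det_S3 : (S3 F).det = 1 := by
  rw [Matrix.det_fin_three]
  simp [S3]

theorem Frame.le_SL (hf : Frame R Q Qi γ) : R ≤ Cfsg.Geo.specialLinear (Fin 3) F := by
  obtain ⟨a, b, haR, hbR, ha, hb, hcl⟩ := hf.gens
  rw [← hcl, Subgroup.closure_le]
  intro s hs
  rcases hs with h | h
  · rw [h]
    show a ∈ Cfsg.Geo.specialLinear (Fin 3) F
    rw [mem_SL_iff, ha, det_conj hf.hQ, Matrix.det_diagonal, Fin.prod_univ_three]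
    show 1 * γ * (γ * γ) = 1
    linear_combination hf.hγ3
  · rw [Set.mem_singleton_iff] at h
    rw [h]
    show b ∈ Cfsg.Geo.specialLinear (Fin 3) F
    rw [mem_SL_iff, hb, det_conj hf.hQ, det_S3]

/-- the criterion for normalising `R` -/
theorem Frame.normalizes (hf : Frame R Q Qi γ) {Y Yi : Matrix (Fin 3) (Fin 3) F}
    (hY : Y * Yi = 1) (h1 : InR R Q Qi (Y * Matrix.diagonal ![1, γ, γ * γ] * Yi))
    (h2 : InR R Q Qi (Y * S3 F * Yi)) {y : GL (Fin 3) F}
    (hy : (y : Matrix (Fin 3) (Fin 3) F) = Q * Y * Qi) :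
    y ∈ Cfsg.Geo.subgroupNormalizer R := by
  obtain ⟨a, b, haR, hbR, ha, hb, hcl⟩ := hf.gens
  have : Finite R := Nat.finite_of_card_ne_zero (by rw [hf.hcard]; norm_num)
  have hyinv : ((y⁻¹ : GL (Fin 3) F) : Matrix (Fin 3) (Fin 3) F) = Q * Yi * Qi := by
    have h3 : (y : Matrix (Fin 3) (Fin 3) F) * (Q * Yi * Qi) = 1 := by
      rw [hy]
      simp only [Matrix.mul_assoc, cancel_QiQ hf.hQ']
      rw [← Matrix.mul_assoc Y, hY, Matrix.one_mul, hf.hQ]
    calc ((y⁻¹ : GL (Fin 3) F) : Matrix (Fin 3) (Fin 3) F)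
        = ((y⁻¹ : GL (Fin 3) F) : Matrix (Fin 3) (Fin 3) F) *
          ((y : Matrix (Fin 3) (Fin 3) F) * (Q * Yi * Qi)) := by rw [h3, Matrix.mul_one]
      _ = Q * Yi * Qi := by
          rw [← Matrix.mul_assoc, ← Units.val_mul, inv_mul_cancel, Units.val_one, Matrix.one_mul]
  unfold Cfsg.Geo.subgroupNormalizer
  apply mem_normalizer_of_closure R hcl
  intro s hs
  rcases hs with h | h
  · rw [h]
    obtain ⟨k, hkR, hk⟩ := h1
    have h4 : y * a * y⁻¹ = k := by
      apply Units.ext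
      rw [Units.val_mul, Units.val_mul, hy, ha, hyinv, hk]
      simp only [Matrix.mul_assoc, cancel_QiQ hf.hQ']
    rw [h4]; exact hkR
  · rw [Set.mem_singleton_iff] at h
    rw [h]
    obtain ⟨k, hkR, hk⟩ := h2
    have h4 : y * b * y⁻¹ = k := by
      apply Units.ext
      rw [Units.val_mul, Units.val_mul, hy, hb, hyinv, hk]
      simp only [Matrix.mul_assoc, cancel_QiQ hf.hQ']
    rw [h4]; exact hkR

/-- a frame exists -/
theorem exists_frame (h3 : (3 : F) ≠ 0) {ω : F} (hω1 : ω ≠ 1) (hω3 : ω * ω * ω = 1)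
    (R : Subgroup (GL (Fin 3) F)) (hR : Nat.card R = 27) (hRe : Monoid.exponent R = 3)
    (hRna : ¬ IsMulCommutative R) :
    ∃ (Q Qi : Matrix (Fin 3) (Fin 3) F) (γ : F), Frame R Q Qi γ := by
  obtain ⟨a, b, hab⟩ : ∃ a b : R, a * b ≠ b * a := by
    by_contra hcon
    push Not at hcon
    exact hRna ⟨⟨hcon⟩⟩
  have hpow : ∀ g : R, g ^ 3 = 1 := fun g => by
    have h := Monoid.pow_exponent_eq_one g
    rw [hRe] at h
    exact h
  obtain ⟨c, hc⟩ : ∃ c : R, c = a * b * a⁻¹ * b⁻¹ := ⟨_, rfl⟩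
  have hcc : ∀ g : R, c * g = g * c := fun g => by rw [hc]; exact comm_central hR a b g
  have hab' : a * b = c * b * a := by rw [hc]; group
  have hc1 : c ≠ 1 := by
    intro h
    apply hab
    rw [hab', h, one_mul]
  have toM : ∀ g : R, ((g : GL (Fin 3) F) : Matrix (Fin 3) (Fin 3) F) * (g : GL (Fin 3) F) *
      (g : GL (Fin 3) F) = 1 := by
    intro g
    have h := congrArg (fun t : R => ((t : GL (Fin 3) F) : Matrix (Fin 3) (Fin 3) F)) (hpow g)
    simp only [Subgroup.coe_pow, Units.val_pow_eq_pow_val, Subgroup.coe_one, Units.val_one] at h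
    rw [← h, pow_succ, pow_two]
  have hCA : ((c : GL (Fin 3) F) : Matrix (Fin 3) (Fin 3) F) * (a : GL (Fin 3) F) =
      (a : GL (Fin 3) F) * (c : GL (Fin 3) F) := by
    have h := congrArg (fun t : R => ((t : GL (Fin 3) F) : Matrix (Fin 3) (Fin 3) F)) (hcc a)
    simpa only [Subgroup.coe_mul, Units.val_mul] using h
  have hCB : ((c : GL (Fin 3) F) : Matrix (Fin 3) (Fin 3) F) * (b : GL (Fin 3) F) =
      (b : GL (Fin 3) F) * (c : GL (Fin 3) F) := by
    have h := congrArg (fun t : R => ((t : GL (Fin 3) F) : Matrix (Fin 3) (Fin 3) F)) (hcc b)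
    simpa only [Subgroup.coe_mul, Units.val_mul] using h
  have hAB : ((a : GL (Fin 3) F) : Matrix (Fin 3) (Fin 3) F) * (b : GL (Fin 3) F) =
      (c : GL (Fin 3) F) * (b : GL (Fin 3) F) * (a : GL (Fin 3) F) := by
    have h := congrArg (fun t : R => ((t : GL (Fin 3) F) : Matrix (Fin 3) (Fin 3) F)) hab'
    simpa only [Subgroup.coe_mul, Units.val_mul] using h
  have hC1 : ((c : GL (Fin 3) F) : Matrix (Fin 3) (Fin 3) F) ≠ 1 := by
    intro h
    apply hc1
    apply Subtype.ext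
    apply Units.ext
    rw [h]
    rfl
  obtain ⟨Q, Qi, α, γ, hQ, hQ', hγ1, hγ3, hα3, hA, hB, hC⟩ :=
    normal_form h3 hω1 hω3 (toM a) (toM b) (toM c) hCA hCB hAB hC1
  have hcR : InR R Q Qi (γ • (1 : Matrix (Fin 3) (Fin 3) F)) :=
    ⟨c, c.2, by rw [hC, Matrix.mul_smul, Matrix.mul_one, Matrix.smul_mul, hQ]⟩
  have hsR : InR R Q Qi (S3 F) := ⟨b, b.2, hB⟩
  have haR : InR R Q Qi (Matrix.diagonal ![α, α * γ, α * γ * γ]) := ⟨a, a.2, hA⟩
  have hdR : InR R Q Qi (Matrix.diagonal ![1, γ, γ * γ]) := by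
    have hsc : InR R Q Qi ((α * α) • (1 : Matrix (Fin 3) (Fin 3) F)) :=
      scalar_mem hQ hQ' hγ1 hγ3 hcR (by linear_combination (α * α * α + 1) * hα3)
    have h4 := InR.mul hQ' hsc haR
    have e : ((α * α) • (1 : Matrix (Fin 3) (Fin 3) F)) *
        Matrix.diagonal ![α, α * γ, α * γ * γ] = Matrix.diagonal ![1, γ, γ * γ] := by
      rw [Matrix.smul_mul, Matrix.one_mul, ← Matrix.diagonal_smul]
      congr 1
      funext i
      fin_cases i
      · show α * α * α = 1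
        exact hα3
      · show α * α * (α * γ) = γ
        linear_combination γ * hα3
      · show α * α * (α * γ * γ) = γ * γ
        linear_combination (γ * γ) * hα3
    rw [e] at h4
    exact h4
  exact ⟨Q, Qi, γ, ⟨hQ, hQ', hγ1, hγ3, hR, hcR, hdR, hsR⟩⟩

end Cfsg.Agent.Helper2.Extra3
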