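import Mathlib
import Cfsg.Prelude.Def_GeometricClasses

/-!
# Field subalgebras of full degree (Singer-type), basic facts (for S5970)

`K` a field subalgebra of `M_n(F)` of dimension `n`: `F^n` is a one-dimensional `K`-space.
-/

set_option autoImplicit false

namespace Cfsg.Agent.Helper2.Singer

open Module Matrix

variable {F : Type*} [Field F] {n : ℕ}

theorem one_ne_zero' (hn : 1 ≤ n) : (1 : Matrix (Fin n) (Fin n) F) ≠ 0 := by
  intro h
  have := congrFun (congrFun h ⟨0, by omega⟩) ⟨0, by omega⟩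
  simp at this

theorem conj_cancel {Gm Gi a b : Matrix (Fin n) (Fin n) F} (h2 : Gi * Gm = 1)
    (h : Gm * a * Gi = Gm * b * Gi) : a = b := by
  have e : ∀ c : Matrix (Fin n) (Fin n) F, Gi * (Gm * c * Gi) * Gm = c := by
    intro c
    calc Gi * (Gm * c * Gi) * Gm = (Gi * Gm) * c * (Gi * Gm) := by
          simp only [Matrix.mul_assoc]
      _ = c := by rw [h2, Matrix.one_mul, Matrix.mul_one]
  rw [← e a, h, e b]

theorem ev_inj {k : ℕ} {K : Subalgebra F (Matrix (Fin n) (Fin n) F)}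
    (hK : Cfsg.Geo.IsFieldSubalgebra k K) {a : Matrix (Fin n) (Fin n) F} (ha : a ∈ K)
    {v : Fin n → F} (hv : v ≠ 0) (h : a *ᵥ v = 0) : a = 0 := by
  by_contra hne
  obtain ⟨b, hb, hab⟩ := hK.inv a ha hne
  have hba : b * a = 1 := by rw [← hK.comm a ha b hb]; exact hab
  apply hv
  have h1 : (b * a) *ᵥ v = v := by rw [hba, Matrix.one_mulVec]
  rw [← h1, ← Matrix.mulVec_mulVec, h, Matrix.mulVec_zero]

theorem ev_inj' {k : ℕ} {K : Subalgebra F (Matrix (Fin n) (Fin n) F)}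
    (hK : Cfsg.Geo.IsFieldSubalgebra k K) {a b : Matrix (Fin n) (Fin n) F} (ha : a ∈ K)
    (hb : b ∈ K) {v : Fin n → F} (hv : v ≠ 0) (h : a *ᵥ v = b *ᵥ v) : a = b := by
  have h1 := ev_inj hK (K.sub_mem ha hb) hv (by rw [Matrix.sub_mulVec, h, sub_self])
  exact sub_eq_zero.mp h1

theorem card_K [Fintype F] {k : ℕ} {K : Subalgebra F (Matrix (Fin n) (Fin n) F)}
    (hK : Cfsg.Geo.IsFieldSubalgebra k K) : Nat.card ↥K = Fintype.card F ^ k := by
  rw [Module.natCard_eq_pow_finrank (K := F) (V := ↥K), hK.finrank_eq, Nat.card_eq_fintype_card]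

theorem ev_surj [Fintype F] {K : Subalgebra F (Matrix (Fin n) (Fin n) F)}
    (hK : Cfsg.Geo.IsFieldSubalgebra n K) {v : Fin n → F} (hv : v ≠ 0) (w : Fin n → F) :
    ∃ a ∈ K, a *ᵥ v = w := by
  classical
  have hinj : Function.Injective (fun a : ↥K => (a : Matrix (Fin n) (Fin n) F) *ᵥ v) := by
    intro a b hab
    exact Subtype.ext (ev_inj' hK a.2 b.2 hv hab)
  have hcard : Nat.card (Fin n → F) ≤ Nat.card ↥K := by
    rw [card_K hK, Nat.card_eq_fintype_card, Fintype.card_fun, Fintype.card_fin]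
  obtain ⟨a, ha⟩ := (hinj.bijective_of_nat_card_le hcard).2 w
  exact ⟨a.1, a.2, ha⟩

/-- the unit group of a field subalgebra, as a subgroup of `GL` -/
def unitsSub {k : ℕ} (K : Subalgebra F (Matrix (Fin n) (Fin n) F))
    (hK : Cfsg.Geo.IsFieldSubalgebra k K) : Subgroup (GL (Fin n) F) where
  carrier := {g | (g : Matrix (Fin n) (Fin n) F) ∈ K}
  mul_mem' := fun {a b} ha hb => by
    show ((a * b : GL (Fin n) F) : Matrix (Fin n) (Fin n) F) ∈ K
    rw [Units.val_mul]; exact K.mul_mem ha hb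
  one_mem' := by
    show ((1 : GL (Fin n) F) : Matrix (Fin n) (Fin n) F) ∈ K
    rw [Units.val_one]; exact K.one_mem
  inv_mem' := fun {a} ha => by
    show ((a⁻¹ : GL (Fin n) F) : Matrix (Fin n) (Fin n) F) ∈ K
    have ha' : (a : Matrix (Fin n) (Fin n) F) ∈ K := ha
    by_cases h0 : (a : Matrix (Fin n) (Fin n) F) = 0
    · have h2 : ((a⁻¹ : GL (Fin n) F) : Matrix (Fin n) (Fin n) F) = 0 := by
        have h1 : ((a⁻¹ : GL (Fin n) F) : Matrix (Fin n) (Fin n) F) *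
            ((a : Matrix (Fin n) (Fin n) F) *
              ((a⁻¹ : GL (Fin n) F) : Matrix (Fin n) (Fin n) F)) =
            ((a⁻¹ : GL (Fin n) F) : Matrix (Fin n) (Fin n) F) := by
          rw [← Units.val_mul, mul_inv_cancel, Units.val_one, Matrix.mul_one]
        rw [← h1, h0, Matrix.zero_mul, Matrix.mul_zero]
      rw [h2]; exact K.zero_mem
    · obtain ⟨b, hb, hab⟩ := hK.inv _ ha' h0
      have h2 : ((a⁻¹ : GL (Fin n) F) : Matrix (Fin n) (Fin n) F) = b := by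
        have h1 : ((a⁻¹ : GL (Fin n) F) : Matrix (Fin n) (Fin n) F) *
            ((a : Matrix (Fin n) (Fin n) F) * b) = b := by
          rw [← Matrix.mul_assoc, ← Units.val_mul, inv_mul_cancel, Units.val_one,
            Matrix.one_mul]
        rw [← h1, hab, Matrix.mul_one]
      rw [h2]; exact hb

theorem mem_unitsSub {k : ℕ} {K : Subalgebra F (Matrix (Fin n) (Fin n) F)}
    (hK : Cfsg.Geo.IsFieldSubalgebra k K) (g : GL (Fin n) F) :
    g ∈ unitsSub K hK ↔ (g : Matrix (Fin n) (Fin n) F) ∈ K := Iff.rfl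

theorem unit_ne_zero (hn : 1 ≤ n) (g : GL (Fin n) F) : (g : Matrix (Fin n) (Fin n) F) ≠ 0 := by
  intro h0
  apply one_ne_zero' (F := F) hn
  have h1 : (g : Matrix (Fin n) (Fin n) F) *
      ((g⁻¹ : GL (Fin n) F) : Matrix (Fin n) (Fin n) F) = 1 := by
    rw [← Units.val_mul, mul_inv_cancel, Units.val_one]
  rw [← h1, h0, Matrix.zero_mul]

theorem card_unitsSub [Fintype F] (hn : 1 ≤ n) {k : ℕ}
    {K : Subalgebra F (Matrix (Fin n) (Fin n) F)} (hK : Cfsg.Geo.IsFieldSubalgebra k K) :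
    Nat.card ↥(unitsSub K hK) = Fintype.card F ^ k - 1 := by
  classical
  obtain ⟨f, hf⟩ : ∃ f : Option ↥(unitsSub K hK) → ↥K,
      f = fun o => Option.elim o 0 (fun g => ⟨(g.1 : Matrix (Fin n) (Fin n) F), g.2⟩) :=
    ⟨_, rfl⟩
  have hbij : Function.Bijective f := by
    constructor
    · intro a b hab
      rw [hf] at hab
      rcases a with _ | a <;> rcases b with _ | b
      · rfl
      · exfalso
        have h1 : (0 : Matrix (Fin n) (Fin n) F) = (b.1 : Matrix (Fin n) (Fin n) F) :=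
          congrArg Subtype.val hab
        exact unit_ne_zero hn b.1 h1.symm
      · exfalso
        have h1 : (a.1 : Matrix (Fin n) (Fin n) F) = (0 : Matrix (Fin n) (Fin n) F) :=
          congrArg Subtype.val hab
        exact unit_ne_zero hn a.1 h1
      · have h1 : (a.1 : Matrix (Fin n) (Fin n) F) = (b.1 : Matrix (Fin n) (Fin n) F) :=
          congrArg Subtype.val hab
        rw [Subtype.ext (Units.ext h1)]
    · intro a
      by_cases h0 : a = 0
      · exact ⟨none, by rw [hf, h0]; rfl⟩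
      · have h0' : a.1 ≠ 0 := fun h => h0 (Subtype.ext h)
        obtain ⟨b, hb, hab⟩ := hK.inv a.1 a.2 h0'
        have hba : b * a.1 = 1 := by rw [← hK.comm a.1 a.2 b hb]; exact hab
        refine ⟨some ⟨⟨a.1, b, hab, hba⟩, a.2⟩, ?_⟩
        rw [hf]
        rfl
  have h1 : Nat.card (Option ↥(unitsSub K hK)) = Nat.card ↥K :=
    Nat.card_congr (Equiv.ofBijective f hbij)
  rw [Finite.card_option, card_K hK] at h1
  omega

theorem dvd_of_pow_sub_one_dvd {q m n : ℕ} (hq : 2 ≤ q) (h : q ^ m - 1 ∣ q ^ n - 1) :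
    m ∣ n := by
  have h1 := Nat.pow_sub_one_gcd_pow_sub_one q m n
  rw [Nat.gcd_eq_left h] at h1
  have a1 : 1 ≤ q ^ m := Nat.one_le_pow _ _ (by omega)
  have a2 : 1 ≤ q ^ (m.gcd n) := Nat.one_le_pow _ _ (by omega)
  have h2 : q ^ m = q ^ (m.gcd n) := by omega
  have h3 : m = m.gcd n := Nat.pow_right_injective hq h2
  exact Nat.gcd_eq_left_iff_dvd.mp h3.symm

/-- a `GL` element that conjugates `K` into itself lies in the normaliser -/
theorem mem_normalizer [Fintype F] {K : Subalgebra F (Matrix (Fin n) (Fin n) F)}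
    (g : GL (Fin n) F)
    (h : ∀ k ∈ K, ∃ k' ∈ K, (g : Matrix (Fin n) (Fin n) F) * k =
      k' * (g : Matrix (Fin n) (Fin n) F)) :
    g ∈ Cfsg.Geo.subalgebraNormalizer K := by
  classical
  obtain ⟨Gm, hGm⟩ : ∃ Gm : Matrix (Fin n) (Fin n) F, Gm = (g : Matrix (Fin n) (Fin n) F) :=
    ⟨_, rfl⟩
  obtain ⟨Gi, hGi⟩ : ∃ Gi : Matrix (Fin n) (Fin n) F,
      Gi = ((g⁻¹ : GL (Fin n) F) : Matrix (Fin n) (Fin n) F) := ⟨_, rfl⟩
  have h1 : Gm * Gi = 1 := by rw [hGm, hGi, ← Units.val_mul, mul_inv_cancel, Units.val_one]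
  have h2 : Gi * Gm = 1 := by rw [hGm, hGi, ← Units.val_mul, inv_mul_cancel, Units.val_one]
  have hfw : ∀ k ∈ K, Gm * k * Gi ∈ K := by
    intro k hk
    obtain ⟨k', hk', he⟩ := h k hk
    rw [← hGm] at he
    rw [he, Matrix.mul_assoc, h1, Matrix.mul_one]; exact hk'
  have hsurj : Function.Surjective
      (fun k : ↥K => (⟨Gm * k.1 * Gi, hfw k.1 k.2⟩ : ↥K)) := by
    apply Finite.surjective_of_injective
    intro a b hab
    have h3 : Gm * a.1 * Gi = Gm * b.1 * Gi := congrArg Subtype.val hab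
    exact Subtype.ext (conj_cancel h2 h3)
  change ∀ k : Matrix (Fin n) (Fin n) F, k ∈ K ↔
    (g : Matrix (Fin n) (Fin n) F) * k * ((g⁻¹ : GL (Fin n) F) : Matrix (Fin n) (Fin n) F) ∈ K
  rw [← hGm, ← hGi]
  intro k
  constructor
  · exact hfw k
  · intro hk
    obtain ⟨a, ha⟩ := hsurj ⟨_, hk⟩
    have h3 : Gm * a.1 * Gi = Gm * k * Gi := congrArg Subtype.val ha
    rw [← conj_cancel h2 h3]; exact a.2

/-- an element of the normaliser of `K` (of prime degree `n`) with a two-dimensional fixed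
space is trivial -/
theorem fix_two [Fintype F] (hn : n.Prime) {K : Subalgebra F (Matrix (Fin n) (Fin n) F)}
    (hK : Cfsg.Geo.IsFieldSubalgebra n K) (g : GL (Fin n) F)
    (hg : g ∈ Cfsg.Geo.subalgebraNormalizer K) {u₁ u₂ : Fin n → F} (hu₁ : u₁ ≠ 0)
    (hf1 : (g : Matrix (Fin n) (Fin n) F) *ᵥ u₁ = u₁)
    (hf2 : (g : Matrix (Fin n) (Fin n) F) *ᵥ u₂ = u₂) (hind : ∀ c : F, u₂ ≠ c • u₁) :
    (g : Matrix (Fin n) (Fin n) F) = 1 := by
  classical
  have hn1 : 1 ≤ n := hn.one_lt.le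
  obtain ⟨Gm, hGm⟩ : ∃ Gm : Matrix (Fin n) (Fin n) F, Gm = (g : Matrix (Fin n) (Fin n) F) :=
    ⟨_, rfl⟩
  obtain ⟨Gi, hGi⟩ : ∃ Gi : Matrix (Fin n) (Fin n) F,
      Gi = ((g⁻¹ : GL (Fin n) F) : Matrix (Fin n) (Fin n) F) := ⟨_, rfl⟩
  have h12 : Gm * Gi = 1 := by rw [hGm, hGi, ← Units.val_mul, mul_inv_cancel, Units.val_one]
  have h21 : Gi * Gm = 1 := by rw [hGm, hGi, ← Units.val_mul, inv_mul_cancel, Units.val_one]
  have hgK : ∀ k : Matrix (Fin n) (Fin n) F, k ∈ K ↔ Gm * k * Gi ∈ K := by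
    rw [hGm, hGi]; exact hg
  rw [← hGm] at hf1 hf2 ⊢
  have hGi1 : Gi *ᵥ u₁ = u₁ := by
    conv_lhs => rw [← hf1]
    rw [Matrix.mulVec_mulVec, h21, Matrix.one_mulVec]
  obtain ⟨E, hE⟩ : ∃ E : Subalgebra F (Matrix (Fin n) (Fin n) F),
      E = K ⊓ Subalgebra.centralizer F {Gm} := ⟨_, rfl⟩
  have hEmem : ∀ x, x ∈ E ↔ x ∈ K ∧ Gm * x = x * Gm := by
    intro x
    rw [hE, Algebra.mem_inf, Subalgebra.mem_centralizer_iff]
    simp
  have hEK : Cfsg.Geo.IsFieldSubalgebra (finrank F ↥E) E := by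
    refine ⟨fun x hx y hy => hK.comm x ((hEmem x).1 hx).1 y ((hEmem y).1 hy).1, ?_, rfl⟩
    intro x hx hne
    obtain ⟨hxK, hxc⟩ := (hEmem x).1 hx
    obtain ⟨b, hb, hxb⟩ := hK.inv x hxK hne
    have hbx : b * x = 1 := by rw [← hK.comm x hxK b hb]; exact hxb
    refine ⟨b, (hEmem b).2 ⟨hb, ?_⟩, hxb⟩
    calc Gm * b = (b * x) * Gm * b := by rw [hbx, Matrix.one_mul]
      _ = b * (x * Gm) * b := by simp only [Matrix.mul_assoc]
      _ = b * (Gm * x) * b := by rw [hxc]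
      _ = b * Gm * (x * b) := by simp only [Matrix.mul_assoc]
      _ = b * Gm := by rw [hxb, Matrix.mul_one]
  have hle : unitsSub E hEK ≤ unitsSub K hK := fun y hy => ((hEmem _).1 hy).1
  have hdvd := Subgroup.card_dvd_of_le hle
  rw [card_unitsSub hn1 hEK, card_unitsSub hn1 hK] at hdvd
  have hmn : finrank F ↥E ∣ n := dvd_of_pow_sub_one_dvd Fintype.one_lt_card hdvd
  obtain ⟨b, hbK, hbu⟩ := ev_surj hK hu₁ u₂
  have hbE : Gm * b = b * Gm := by
    have hc : Gm * b * Gi ∈ K := (hgK b).1 hbK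
    have h3 : Gm * b * Gi = b := by
      apply ev_inj' hK hc hbK hu₁
      rw [← Matrix.mulVec_mulVec, hGi1, ← Matrix.mulVec_mulVec, hbu, hf2]
    calc Gm * b = Gm * b * (Gi * Gm) := by rw [h21, Matrix.mul_one]
      _ = (Gm * b * Gi) * Gm := by simp only [Matrix.mul_assoc]
      _ = b * Gm := by rw [h3]
  have hm1 : finrank F ↥E ≠ 1 := by
    intro hm1
    have hone : (1 : ↥E) ≠ 0 := fun h => one_ne_zero' (F := F) hn1 (congrArg Subtype.val h)
    obtain ⟨c, hc⟩ := (finrank_eq_one_iff_of_nonzero' (1 : ↥E) hone).1 hm1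
      ⟨b, (hEmem b).2 ⟨hbK, hbE⟩⟩
    have hc' : c • (1 : Matrix (Fin n) (Fin n) F) = b := congrArg Subtype.val hc
    apply hind c
    rw [← hbu, ← hc', Matrix.smul_mulVec, Matrix.one_mulVec]
  have hmn' : finrank F ↥E = n := (hn.eq_one_or_self_of_dvd _ hmn).resolve_left hm1
  have hEle : Subalgebra.toSubmodule E ≤ Subalgebra.toSubmodule K := fun x hx =>
    ((hEmem x).1 hx).1
  have hEeq : Subalgebra.toSubmodule E = Subalgebra.toSubmodule K := by
    apply Submodule.eq_of_le_of_finrank_eq hEle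
    rw [Subalgebra.finrank_toSubmodule, Subalgebra.finrank_toSubmodule, hK.finrank_eq, hmn']
  have hcomm : ∀ k ∈ K, Gm * k = k * Gm := by
    intro k hk
    have h3 : k ∈ Subalgebra.toSubmodule E := by rw [hEeq]; exact hk
    exact ((hEmem k).1 h3).2
  apply Matrix.mulVec_injective
  funext w
  obtain ⟨k, hk, rfl⟩ := ev_surj hK hu₁ w
  rw [Matrix.mulVec_mulVec, hcomm k hk, ← Matrix.mulVec_mulVec, hf1, Matrix.one_mulVec]

end Cfsg.Agent.Helper2.Singer
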