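import Mathlib
import Cfsg.Prelude.Def_GeometricClasses
import Cfsg.Agent.Helper2.SingerA

/-!
# The Frobenius element normalising a field subalgebra of full degree (for S5970)
-/

set_option autoImplicit false

namespace Cfsg.Agent.Helper2.Singer

open Module Matrix

variable {F : Type*} [Field F] [Fintype F] {n : ℕ}

theorem pow_card_pow_eq (hn : 1 ≤ n) {k : ℕ} {K : Subalgebra F (Matrix (Fin n) (Fin n) F)}
    (hK : Cfsg.Geo.IsFieldSubalgebra k K) {a : Matrix (Fin n) (Fin n) F} (ha : a ∈ K) :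
    a ^ (Fintype.card F ^ k) = a := by
  have hq1 : 1 ≤ Fintype.card F ^ k := Nat.one_le_pow _ _ Fintype.card_pos
  by_cases h0 : a = 0
  · rw [h0, zero_pow (by omega)]
  · obtain ⟨b, hb, hab⟩ := hK.inv a ha h0
    have hba : b * a = 1 := by rw [← hK.comm a ha b hb]; exact hab
    obtain ⟨g, hg⟩ : ∃ g : GL (Fin n) F, g = ⟨a, b, hab, hba⟩ := ⟨_, rfl⟩
    have hgK : g ∈ unitsSub K hK := by rw [mem_unitsSub, hg]; exact ha
    have h1 : (⟨g, hgK⟩ : ↥(unitsSub K hK)) ^ Nat.card ↥(unitsSub K hK) = 1 :=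
      pow_card_eq_one'
    rw [card_unitsSub hn hK] at h1
    have h2 : g ^ (Fintype.card F ^ k - 1) = 1 := by
      have := congrArg Subtype.val h1
      simpa using this
    have h3 : a ^ (Fintype.card F ^ k - 1) = 1 := by
      have := congrArg Units.val h2
      rw [Units.val_pow_eq_pow_val, Units.val_one, hg] at this
      exact this
    have h4 : Fintype.card F ^ k = (Fintype.card F ^ k - 1) + 1 := by omega
    rw [h4, pow_succ, h3, Matrix.one_mul]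

theorem exists_pow_ne (hn : 1 ≤ n) {k : ℕ} (hk : 2 ≤ k)
    {K : Subalgebra F (Matrix (Fin n) (Fin n) F)} (hK : Cfsg.Geo.IsFieldSubalgebra k K) :
    ∃ a ∈ K, a ^ Fintype.card F ≠ a := by
  classical
  by_contra hcon
  push Not at hcon
  letI : CommRing ↥K :=
    { (inferInstance : Ring ↥K) with
      mul_comm := fun a b => Subtype.ext (hK.comm a.1 a.2 b.1 b.2) }
  haveI : Nontrivial ↥K :=
    ⟨⟨0, 1, fun h => one_ne_zero' (F := F) hn (congrArg Subtype.val h).symm⟩⟩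
  haveI : NoZeroDivisors ↥K := ⟨fun {a b} hab => by
    by_contra hne
    push Not at hne
    obtain ⟨c, hc, hac⟩ := hK.inv a.1 a.2 (fun h => hne.1 (Subtype.ext h))
    have hca : c * a.1 = 1 := by rw [← hK.comm a.1 a.2 c hc]; exact hac
    have h1 : a.1 * b.1 = 0 := congrArg Subtype.val hab
    apply hne.2
    apply Subtype.ext
    show b.1 = 0
    calc b.1 = (c * a.1) * b.1 := by rw [hca, Matrix.one_mul]
      _ = 0 := by rw [Matrix.mul_assoc, h1, Matrix.mul_zero]⟩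
  haveI : IsDomain ↥K := NoZeroDivisors.to_isDomain _
  have hq : 1 < Fintype.card F := Fintype.one_lt_card
  obtain ⟨P, hP⟩ : ∃ P : Polynomial ↥K,
      P = Polynomial.X ^ Fintype.card F - Polynomial.X := ⟨_, rfl⟩
  have hdeg : P.natDegree = Fintype.card F := by
    rw [hP, Polynomial.natDegree_sub_eq_left_of_natDegree_lt, Polynomial.natDegree_X_pow]
    rw [Polynomial.natDegree_X_pow, Polynomial.natDegree_X]; exact hq
  have heval : ∀ a ∈ (Finset.univ : Finset ↥K), P.eval a = 0 := by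
    intro a _
    rw [hP, Polynomial.eval_sub, Polynomial.eval_pow, Polynomial.eval_X, sub_eq_zero]
    apply Subtype.ext
    exact hcon a.1 a.2
  have hcard : P.natDegree < (Finset.univ : Finset ↥K).card := by
    have hcK := card_K hK
    rw [Nat.card_eq_fintype_card] at hcK
    rw [hdeg, Finset.card_univ, hcK]
    calc Fintype.card F = Fintype.card F ^ 1 := (pow_one _).symm
      _ < Fintype.card F ^ k := Nat.pow_lt_pow_right hq (by omega)
  have h0 := Polynomial.eq_zero_of_natDegree_lt_card_of_eval_eq_zero' P Finset.univ heval hcard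
  rw [h0, Polynomial.natDegree_zero] at hdeg
  omega

/-- the Frobenius element `b u₀ ↦ b^q u₀` -/
theorem exists_frob' {p : ℕ} [Fact p.Prime] [CharP F p] (hn : 2 ≤ n)
    {K : Subalgebra F (Matrix (Fin n) (Fin n) F)} (hK : Cfsg.Geo.IsFieldSubalgebra n K) :
    ∃ (Φ : Matrix (Fin n) (Fin n) F) (u₀ : Fin n → F), Φ ^ n = 1 ∧ Φ ≠ 1 ∧
      (∀ a ∈ K, Φ * a = a ^ Fintype.card F * Φ) ∧ u₀ ≠ 0 ∧
      ∀ a ∈ K, Φ *ᵥ (a *ᵥ u₀) = a ^ Fintype.card F *ᵥ u₀ := by
  classical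
  haveI : NeZero n := ⟨by omega⟩
  obtain ⟨f, -, hqf⟩ := FiniteField.card F p
  obtain ⟨q, hq⟩ : ∃ q, q = Fintype.card F := ⟨_, rfl⟩
  rw [← hq] at hqf
  obtain ⟨u₀, hu₀⟩ : ∃ u : Fin n → F, u ≠ 0 :=
    ⟨Pi.single 0 1, by intro h; have := congrFun h 0; simp at this⟩
  choose sel hselK hsel using fun w => ev_surj hK hu₀ w
  have hsel_u : ∀ a ∈ K, ∀ w, a *ᵥ u₀ = w → sel w = a := fun a ha w h =>
    ev_inj' hK (hselK w) ha hu₀ (by rw [hsel, h])
  have hadd : ∀ a ∈ K, ∀ b ∈ K, (a + b) ^ q = a ^ q + b ^ q := by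
    intro a ha b hb
    rw [hqf]
    exact add_pow_char_pow_of_commute p f (show Commute a b from hK.comm a ha b hb)
  have hsmul : ∀ (c : F) (a : Matrix (Fin n) (Fin n) F), (c • a) ^ q = c • a ^ q := by
    intro c a
    rw [smul_pow, hq, FiniteField.pow_card]
  obtain ⟨φ, hφ⟩ : ∃ φ : (Fin n → F) →ₗ[F] (Fin n → F), ∀ w, φ w = (sel w) ^ q *ᵥ u₀ :=
    ⟨{ toFun := fun w => (sel w) ^ q *ᵥ u₀
       map_add' := fun w₁ w₂ => by
         have h1 : sel (w₁ + w₂) = sel w₁ + sel w₂ :=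
           hsel_u _ (K.add_mem (hselK _) (hselK _)) _ (by rw [Matrix.add_mulVec, hsel, hsel])
         show (sel (w₁ + w₂)) ^ q *ᵥ u₀ = (sel w₁) ^ q *ᵥ u₀ + (sel w₂) ^ q *ᵥ u₀
         rw [h1, hadd _ (hselK _) _ (hselK _), Matrix.add_mulVec]
       map_smul' := fun c w => by
         have h1 : sel (c • w) = c • sel w :=
           hsel_u _ (K.smul_mem (hselK _) c) _ (by rw [Matrix.smul_mulVec, hsel])
         show (sel (c • w)) ^ q *ᵥ u₀ = c • ((sel w) ^ q *ᵥ u₀)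
         rw [h1, hsmul, Matrix.smul_mulVec] }, fun w => rfl⟩
  obtain ⟨Φ, hΦ⟩ : ∃ Φ : Matrix (Fin n) (Fin n) F, Φ = LinearMap.toMatrix' φ := ⟨_, rfl⟩
  have hΦv : ∀ w, Φ *ᵥ w = φ w := fun w => by rw [hΦ, LinearMap.toMatrix'_mulVec]
  have hΦ1 : ∀ a ∈ K, Φ *ᵥ (a *ᵥ u₀) = a ^ q *ᵥ u₀ := fun a ha => by
    rw [hΦv, hφ, hsel_u a ha _ rfl]
  have hext : ∀ M N : Matrix (Fin n) (Fin n) F,
      (∀ a ∈ K, M *ᵥ (a *ᵥ u₀) = N *ᵥ (a *ᵥ u₀)) → M = N := by
    intro M N h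
    apply Matrix.mulVec_injective
    funext w
    obtain ⟨a, ha, rfl⟩ := ev_surj hK hu₀ w
    exact h a ha
  have hΦ2 : ∀ a ∈ K, Φ * a = a ^ q * Φ := by
    intro a ha
    apply hext
    intro b hb
    calc (Φ * a) *ᵥ (b *ᵥ u₀) = Φ *ᵥ ((a * b) *ᵥ u₀) := by
          rw [← Matrix.mulVec_mulVec, Matrix.mulVec_mulVec u₀ a b]
      _ = (a * b) ^ q *ᵥ u₀ := hΦ1 _ (K.mul_mem ha hb)
      _ = (a ^ q * b ^ q) *ᵥ u₀ := by
          rw [(show Commute a b from hK.comm a ha b hb).mul_pow]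
      _ = a ^ q *ᵥ (Φ *ᵥ (b *ᵥ u₀)) := by rw [hΦ1 b hb, Matrix.mulVec_mulVec]
      _ = (a ^ q * Φ) *ᵥ (b *ᵥ u₀) := by rw [Matrix.mulVec_mulVec]
  have hΦ3 : ∀ j : ℕ, ∀ a ∈ K, (Φ ^ j) *ᵥ (a *ᵥ u₀) = a ^ (q ^ j) *ᵥ u₀ := by
    intro j
    induction j with
    | zero => intro a ha; rw [pow_zero, pow_zero, pow_one, Matrix.one_mulVec]
    | succ j ih =>
      intro a ha
      have e1 : a ^ (q ^ (j + 1)) = (a ^ (q ^ j)) ^ q := by rw [← pow_mul, ← pow_succ]
      rw [pow_succ', ← Matrix.mulVec_mulVec, ih a ha, hΦ1 _ (K.pow_mem ha _), e1]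
  have hΦn : Φ ^ n = 1 := by
    apply hext
    intro a ha
    rw [hΦ3 n a ha, hq, pow_card_pow_eq (by omega) hK ha, Matrix.one_mulVec]
  have hΦne : Φ ≠ 1 := by
    intro h1
    obtain ⟨a, ha, hne⟩ := exists_pow_ne (by omega) hn hK
    apply hne
    apply ev_inj' hK (K.pow_mem ha _) ha hu₀
    rw [← hq, ← hΦ1 a ha, h1, Matrix.one_mulVec]
  subst hq
  exact ⟨Φ, u₀, hΦn, hΦne, hΦ2, hu₀, hΦ1⟩

theorem exists_frob {p : ℕ} [Fact p.Prime] [CharP F p] (hn : 2 ≤ n)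
    {K : Subalgebra F (Matrix (Fin n) (Fin n) F)} (hK : Cfsg.Geo.IsFieldSubalgebra n K) :
    ∃ Φ : Matrix (Fin n) (Fin n) F, Φ ^ n = 1 ∧ Φ ≠ 1 ∧
      ∀ a ∈ K, Φ * a = a ^ Fintype.card F * Φ := by
  obtain ⟨Φ, u₀, h1, h2, h3, -, -⟩ := exists_frob' (p := p) hn hK
  exact ⟨Φ, h1, h2, h3⟩

/-- Dedekind independence of `1, Frob, Frob²` on a field subalgebra of degree at least 3 -/
theorem exists_lin_frob_ne (hn : 1 ≤ n) {k : ℕ} (hk : 3 ≤ k)
    {K : Subalgebra F (Matrix (Fin n) (Fin n) F)} (hK : Cfsg.Geo.IsFieldSubalgebra k K)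
    (c₁ c₂ : F) :
    ∃ a ∈ K, a + c₁ • a ^ Fintype.card F + c₂ • a ^ (Fintype.card F ^ 2) ≠ 0 := by
  classical
  by_contra hcon
  push Not at hcon
  letI : CommRing ↥K :=
    { (inferInstance : Ring ↥K) with
      mul_comm := fun a b => Subtype.ext (hK.comm a.1 a.2 b.1 b.2) }
  haveI : Nontrivial ↥K :=
    ⟨⟨0, 1, fun h => one_ne_zero' (F := F) hn (congrArg Subtype.val h).symm⟩⟩
  haveI : NoZeroDivisors ↥K := ⟨fun {a b} hab => by
    by_contra hne
    push Not at hne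
    obtain ⟨c, hc, hac⟩ := hK.inv a.1 a.2 (fun h => hne.1 (Subtype.ext h))
    have hca : c * a.1 = 1 := by rw [← hK.comm a.1 a.2 c hc]; exact hac
    have h1 : a.1 * b.1 = 0 := congrArg Subtype.val hab
    apply hne.2
    apply Subtype.ext
    show b.1 = 0
    calc b.1 = (c * a.1) * b.1 := by rw [hca, Matrix.one_mul]
      _ = 0 := by rw [Matrix.mul_assoc, h1, Matrix.mul_zero]⟩
  haveI : IsDomain ↥K := NoZeroDivisors.to_isDomain _
  have hq : 1 < Fintype.card F := Fintype.one_lt_card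
  obtain ⟨q, hqd⟩ : ∃ q, q = Fintype.card F := ⟨_, rfl⟩
  rw [← hqd] at hq hcon
  have hq2 : q < q ^ 2 := by nlinarith
  obtain ⟨d₁, hd₁⟩ : ∃ d₁ : ↥K, d₁ = ⟨c₁ • 1, K.smul_mem K.one_mem c₁⟩ := ⟨_, rfl⟩
  obtain ⟨d₂, hd₂⟩ : ∃ d₂ : ↥K, d₂ = ⟨c₂ • 1, K.smul_mem K.one_mem c₂⟩ := ⟨_, rfl⟩
  obtain ⟨P, hP⟩ : ∃ P : Polynomial ↥K,
      P = Polynomial.X + Polynomial.C d₁ * Polynomial.X ^ q +
        Polynomial.C d₂ * Polynomial.X ^ (q ^ 2) := ⟨_, rfl⟩
  have hdeg : P.natDegree ≤ q ^ 2 := by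
    rw [hP]
    refine (Polynomial.natDegree_add_le _ _).trans (max_le
      ((Polynomial.natDegree_add_le _ _).trans (max_le ?_ ?_)) ?_)
    · rw [Polynomial.natDegree_X]; omega
    · exact (Polynomial.natDegree_C_mul_X_pow_le _ _).trans hq2.le
    · exact Polynomial.natDegree_C_mul_X_pow_le _ _
  have hcoeff : P.coeff 1 = 1 := by
    rw [hP, Polynomial.coeff_add, Polynomial.coeff_add, Polynomial.coeff_X_one,
      Polynomial.coeff_C_mul, Polynomial.coeff_C_mul, Polynomial.coeff_X_pow,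
      Polynomial.coeff_X_pow, if_neg (by omega), if_neg (by omega), mul_zero, mul_zero,
      add_zero, add_zero]
  have heval : ∀ a ∈ (Finset.univ : Finset ↥K), P.eval a = 0 := by
    intro a _
    rw [hP, Polynomial.eval_add, Polynomial.eval_add, Polynomial.eval_X, Polynomial.eval_mul,
      Polynomial.eval_mul, Polynomial.eval_C, Polynomial.eval_C, Polynomial.eval_pow,
      Polynomial.eval_pow, Polynomial.eval_X]
    apply Subtype.ext
    have h1 := hcon a.1 a.2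
    have h2 : ((a + d₁ * a ^ q + d₂ * a ^ (q ^ 2) : ↥K) : Matrix (Fin n) (Fin n) F) =
        a.1 + (c₁ • (1 : Matrix (Fin n) (Fin n) F)) * a.1 ^ q +
          (c₂ • (1 : Matrix (Fin n) (Fin n) F)) * a.1 ^ (q ^ 2) := by
      rw [hd₁, hd₂]; rfl
    rw [h2, Matrix.smul_mul, Matrix.smul_mul, Matrix.one_mul, Matrix.one_mul]
    exact h1
  have hcard : P.natDegree < (Finset.univ : Finset ↥K).card := by
    have hcK := card_K hK
    rw [Nat.card_eq_fintype_card, ← hqd] at hcK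
    rw [Finset.card_univ, hcK]
    calc P.natDegree ≤ q ^ 2 := hdeg
      _ < q ^ k := Nat.pow_lt_pow_right hq (by omega)
  have h0 := Polynomial.eq_zero_of_natDegree_lt_card_of_eval_eq_zero' P Finset.univ heval hcard
  rw [h0, Polynomial.coeff_zero] at hcoeff
  exact zero_ne_one hcoeff

end Cfsg.Agent.Helper2.Singer
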