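import Mathlib
import Cfsg.Prelude.Def_GeometricClasses
import Cfsg.Agent.Helper2.SingerA
import Cfsg.Agent.Helper2.SingerB
import Cfsg.Agent.Helper2.SingerF
import Cfsg.Agent.Helper2.SLCard

/-!
# Finite-field arithmetic and the Frobenius element for `n = 3` (for S5971)
-/

set_option autoImplicit false

namespace Cfsg.Agent.Helper2.Singer

open Module Matrix

variable {F : Type*} [Field F] [Fintype F]

theorem exists_omega (h3 : 3 ∣ Fintype.card F - 1) : ∃ ω : F, ω ≠ 1 ∧ ω * ω * ω = 1 := by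
  haveI : Fact (Nat.Prime 3) := ⟨Nat.prime_three⟩
  have h : 3 ∣ Nat.card Fˣ := by rw [Cfsg.Agent.Helper2.card_units_field]; exact h3
  obtain ⟨g, hg⟩ := exists_prime_orderOf_dvd_card' 3 h
  refine ⟨(g : F), ?_, ?_⟩
  · intro h1
    have h2 : g = 1 := Units.val_eq_one.mp h1
    rw [h2, orderOf_one] at hg
    omega
  · have h1 : g ^ 3 = 1 := by rw [← hg]; exact pow_orderOf_eq_one g
    have h2 := congrArg Units.val h1
    rw [Units.val_pow_eq_pow_val, Units.val_one] at h2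
    rw [← h2]; ring

theorem exists_eta (h9 : 9 ∣ Fintype.card F - 1) : ∃ η : F, η ^ 9 = 1 ∧ η ^ 3 ≠ 1 := by
  obtain ⟨g, hg⟩ := IsCyclic.exists_ofOrder_eq_natCard (α := Fˣ)
  rw [Cfsg.Agent.Helper2.card_units_field] at hg
  obtain ⟨m, hm⟩ := h9
  have hq : 1 < Fintype.card F := Fintype.one_lt_card
  have hm0 : 0 < m := by
    rcases Nat.eq_zero_or_pos m with h | h
    · rw [h] at hm; omega
    · exact h
  refine ⟨((g ^ m : Fˣ) : F), ?_, ?_⟩
  · rw [← Units.val_pow_eq_pow_val, ← pow_mul, mul_comm, ← hm, ← hg, pow_orderOf_eq_one,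
      Units.val_one]
  · rw [← Units.val_pow_eq_pow_val, ← pow_mul]
    intro h
    have h1 : g ^ (m * 3) = 1 := Units.val_eq_one.mp h
    exact pow_ne_one_of_lt_orderOf (by omega) (by rw [hg, hm]; omega) h1

theorem cube_of_pow_nine (h9 : ¬ 9 ∣ Fintype.card F - 1) (c : F) (hc : c ^ 9 = 1) :
    c ^ 3 = 1 := by
  have hc0 : c ≠ 0 := by
    intro h
    rw [h, zero_pow (by norm_num)] at hc
    exact zero_ne_one hc
  obtain ⟨u, hu⟩ : ∃ u : Fˣ, u = Units.mk0 c hc0 := ⟨_, rfl⟩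
  have hu9 : u ^ 9 = 1 := by
    apply Units.ext
    rw [Units.val_pow_eq_pow_val, hu, Units.val_mk0, hc, Units.val_one]
  have h1 : orderOf u ∣ 3 ^ 2 := by
    have := orderOf_dvd_of_pow_eq_one hu9
    norm_num
    exact this
  have h2 : orderOf u ∣ Fintype.card F - 1 := by
    rw [← Cfsg.Agent.Helper2.card_units_field]; exact orderOf_dvd_natCard u
  obtain ⟨j, hj, hj'⟩ := (Nat.dvd_prime_pow Nat.prime_three).1 h1
  have h3 : orderOf u ∣ 3 := by
    interval_cases j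
    · rw [hj']; norm_num
    · rw [hj']; norm_num
    · exfalso
      apply h9
      rw [hj'] at h2
      norm_num at h2
      exact h2
  have h4 : u ^ 3 = 1 := orderOf_dvd_iff_pow_eq_one.mp h3
  have h5 := congrArg Units.val h4
  rwa [Units.val_pow_eq_pow_val, Units.val_one, hu, Units.val_mk0] at h5

theorem cube_eq_one (h3 : ¬ 3 ∣ Fintype.card F - 1) (c : F) (hc : c ^ 3 = 1) : c = 1 := by
  have hc0 : c ≠ 0 := by
    intro h
    rw [h, zero_pow (by norm_num)] at hc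
    exact zero_ne_one hc
  obtain ⟨u, hu⟩ : ∃ u : Fˣ, u = Units.mk0 c hc0 := ⟨_, rfl⟩
  have hu3 : u ^ 3 = 1 := by
    apply Units.ext
    rw [Units.val_pow_eq_pow_val, hu, Units.val_mk0, hc, Units.val_one]
  have h1 : orderOf u ∣ 3 := orderOf_dvd_of_pow_eq_one hu3
  have h2 : orderOf u ∣ Fintype.card F - 1 := by
    rw [← Cfsg.Agent.Helper2.card_units_field]; exact orderOf_dvd_natCard u
  rcases (Nat.dvd_prime Nat.prime_three).1 h1 with h | h
  · have h4 : u = 1 := orderOf_eq_one_iff.mp h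
    have h5 := congrArg Units.val h4
    rwa [Units.val_one, hu, Units.val_mk0] at h5
  · exfalso; apply h3; rw [← h]; exact h2

/-- the Frobenius element for `n = 3`, with all cube roots of unity as eigenvalues -/
theorem exists_eig_frob {p : ℕ} [Fact p.Prime] [CharP F p]
    {K : Subalgebra F (Matrix (Fin 3) (Fin 3) F)} (hK : Cfsg.Geo.IsFieldSubalgebra 3 K) :
    ∃ Φ : Matrix (Fin 3) (Fin 3) F, Φ * Φ * Φ = 1 ∧ Φ ≠ 1 ∧
      (∀ a ∈ K, Φ * a = a ^ Fintype.card F * Φ) ∧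
      ∀ mu : F, mu * mu * mu = 1 → ∃ v : Fin 3 → F, v ≠ 0 ∧ Φ *ᵥ v = (mu * mu) • v := by
  obtain ⟨Φ, u₀, hΦ3, hΦ1, hΦK, hu₀, hΦu⟩ := exists_frob' (p := p) (by norm_num) hK
  have hΦ3' : Φ * Φ * Φ = 1 := by rw [← hΦ3, pow_succ, pow_two]
  refine ⟨Φ, hΦ3', hΦ1, hΦK, ?_⟩
  intro mu hmu
  obtain ⟨q, hq⟩ : ∃ q, q = Fintype.card F := ⟨_, rfl⟩
  rw [← hq] at hΦu
  obtain ⟨a, ha, hne⟩ := exists_lin_frob_ne (by norm_num) (le_refl 3) hK mu (mu * mu)
  rw [← hq] at hne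
  obtain ⟨e, he⟩ : ∃ e : Matrix (Fin 3) (Fin 3) F,
      e = 1 + mu • Φ + (mu * mu) • (Φ * Φ) := ⟨_, rfl⟩
  have hΦe : Φ * e = (mu * mu) • e := by rw [he]; exact proj_eig hΦ3' hmu
  have hev : e *ᵥ (a *ᵥ u₀) = (a + mu • a ^ q + (mu * mu) • a ^ (q ^ 2)) *ᵥ u₀ := by
    rw [he, Matrix.add_mulVec, Matrix.add_mulVec, Matrix.one_mulVec, Matrix.smul_mulVec,
      Matrix.smul_mulVec, ← Matrix.mulVec_mulVec, hΦu a ha, hΦu _ (K.pow_mem ha _), ← pow_mul,
      ← pow_two q, Matrix.add_mulVec, Matrix.add_mulVec, Matrix.smul_mulVec,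
      Matrix.smul_mulVec]
  refine ⟨e *ᵥ (a *ᵥ u₀), ?_, ?_⟩
  · rw [hev]
    intro h
    exact hne (ev_inj hK (K.add_mem (K.add_mem ha (K.smul_mem (K.pow_mem ha _) _))
      (K.smul_mem (K.pow_mem ha _) _)) hu₀ h)
  · rw [Matrix.mulVec_mulVec, hΦe, Matrix.smul_mulVec]

theorem not_nine_dvd_card_SL3 (hq : Fintype.card F % 9 = 2 ∨ Fintype.card F % 9 = 5) :
    ¬ 9 ∣ Nat.card (Matrix.SpecialLinearGroup (Fin 3) F) := by
  intro h
  have h1 : 9 ∣ Nat.card (GL (Fin 3) F) := by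
    rw [← Cfsg.Agent.Helper2.card_SL_mul_card_units]; exact Dvd.dvd.mul_right h _
  rw [Matrix.card_GL_field, Fin.prod_univ_three] at h1
  obtain ⟨q, hqd⟩ : ∃ q, q = Fintype.card F := ⟨_, rfl⟩
  rw [← hqd] at h1 hq
  have hq0 : 0 < q := by rw [hqd]; exact Fintype.card_pos
  have h1' : 9 ∣ (q ^ 3 - 1) * (q ^ 3 - q) * (q ^ 3 - q ^ 2) := by simpa using h1
  have h2 : (((q ^ 3 - 1) * (q ^ 3 - q) * (q ^ 3 - q ^ 2) : ℕ) : ZMod 9) = 0 :=
    (ZMod.natCast_eq_zero_iff _ _).mpr h1'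
  have e1 : ((q ^ 3 - 1 : ℕ) : ZMod 9) = (q : ZMod 9) ^ 3 - 1 := by
    rw [Nat.cast_sub (Nat.one_le_pow _ _ hq0), Nat.cast_pow, Nat.cast_one]
  have e2 : ((q ^ 3 - q : ℕ) : ZMod 9) = (q : ZMod 9) ^ 3 - q := by
    rw [Nat.cast_sub (Nat.le_self_pow (by norm_num) q), Nat.cast_pow]
  have e3 : ((q ^ 3 - q ^ 2 : ℕ) : ZMod 9) = (q : ZMod 9) ^ 3 - (q : ZMod 9) ^ 2 := by
    rw [Nat.cast_sub (Nat.pow_le_pow_right hq0 (by norm_num)), Nat.cast_pow, Nat.cast_pow]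
  rw [Nat.cast_mul, Nat.cast_mul, e1, e2, e3] at h2
  rcases hq with hq | hq
  · have h3 : (q : ZMod 9) = 2 := by
      have h4 := (ZMod.natCast_eq_natCast_iff' q 2 9).2 (by rw [hq])
      simpa using h4
    rw [h3] at h2
    revert h2
    decide
  · have h3 : (q : ZMod 9) = 5 := by
      have h4 := (ZMod.natCast_eq_natCast_iff' q 5 9).2 (by rw [hq])
      simpa using h4
    rw [h3] at h2
    revert h2
    decide

/-- the determinant-1 normaliser of `K` in `SL_3` contains an element of order 3 -/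
theorem three_dvd_card_normalizer {p : ℕ} [Fact p.Prime] [CharP F p]
    {K : Subalgebra F (Matrix (Fin 3) (Fin 3) F)} (hK : Cfsg.Geo.IsFieldSubalgebra 3 K)
    (h3 : ¬ 3 ∣ Fintype.card F - 1) :
    3 ∣ Nat.card ↥((Cfsg.Geo.subalgebraNormalizer K).comap
      (Matrix.SpecialLinearGroup.toGL :
        Matrix.SpecialLinearGroup (Fin 3) F →* GL (Fin 3) F)) := by
  haveI : Fact (Nat.Prime 3) := ⟨Nat.prime_three⟩
  obtain ⟨Φ, hΦ3, hΦ1, hΦK⟩ := exists_frob (p := p) (by norm_num) hK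
  have hdet : Φ.det = 1 := by
    apply cube_eq_one h3
    rw [← Matrix.det_pow, hΦ3, Matrix.det_one]
  obtain ⟨X, hX⟩ : ∃ X : Matrix.SpecialLinearGroup (Fin 3) F, X = ⟨Φ, hdet⟩ := ⟨_, rfl⟩
  have hXc : (X : Matrix (Fin 3) (Fin 3) F) = Φ := by rw [hX]
  have hmem : X ∈ (Cfsg.Geo.subalgebraNormalizer K).comap
      (Matrix.SpecialLinearGroup.toGL :
        Matrix.SpecialLinearGroup (Fin 3) F →* GL (Fin 3) F) := by
    rw [Subgroup.mem_comap]
    apply mem_normalizer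
    intro k hk
    refine ⟨k ^ Fintype.card F, K.pow_mem hk _, ?_⟩
    show (X : Matrix (Fin 3) (Fin 3) F) * k = k ^ Fintype.card F * (X : Matrix (Fin 3) (Fin 3) F)
    rw [hXc]
    exact hΦK k hk
  have hX3 : X ^ 3 = 1 := by
    apply Subtype.ext
    rw [Matrix.SpecialLinearGroup.coe_pow, hXc, hΦ3]
    rfl
  have hX1 : X ≠ 1 := by
    intro h
    apply hΦ1
    rw [← hXc, h]
    rfl
  have hord : orderOf (⟨X, hmem⟩ : ↥((Cfsg.Geo.subalgebraNormalizer K).comap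
      (Matrix.SpecialLinearGroup.toGL :
        Matrix.SpecialLinearGroup (Fin 3) F →* GL (Fin 3) F))) = 3 := by
    apply orderOf_eq_prime
    · apply Subtype.ext
      rw [Subgroup.coe_pow]
      exact hX3
    · intro h
      exact hX1 (congrArg Subtype.val h)
  have h4 := orderOf_dvd_natCard (⟨X, hmem⟩ : ↥((Cfsg.Geo.subalgebraNormalizer K).comap
      (Matrix.SpecialLinearGroup.toGL :
        Matrix.SpecialLinearGroup (Fin 3) F →* GL (Fin 3) F)))
  rw [hord] at h4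
  exact h4

end Cfsg.Agent.Helper2.Singer
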