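import Mathlib
import Cfsg.Prelude.Def_GeometricClasses
import Cfsg.Agent.Helper2.Extra3C
import Cfsg.Agent.Helper2.SLCard
import Cfsg.Agent.Helper2.SingerG

/-!
# Elements of prime order and the normaliser of `3^{1+2}` in `SL_3(p)` (for S5998)
-/

set_option autoImplicit false

namespace Cfsg.Agent.Helper2.Extra3

open Matrix
open scoped MatrixGroups

variable {F : Type*} [Field F]
variable {R : Subgroup (GL (Fin 3) F)} {Q Qi : Matrix (Fin 3) (Fin 3) F} {γ : F}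

set_option maxRecDepth 100000 in
theorem dec243 : ∀ x : ZMod 243, (x.val % 9 = 4 ∨ x.val % 9 = 7) →
    (x ^ 3 - 1) * (x ^ 3 - x) * (x ^ 3 - x ^ 2) ≠ 0 := by
  decide

theorem not_81_dvd [Fintype F] {p : ℕ} (hF : Fintype.card F = p)
    (hp9 : p % 9 = 4 ∨ p % 9 = 7) :
    ¬ 81 ∣ Nat.card (Cfsg.Geo.specialLinear (Fin 3) F) := by
  intro h
  have hmul : Nat.card (Cfsg.Geo.specialLinear (Fin 3) F) * Nat.card Fˣ =
      Nat.card (GL (Fin 3) F) := by
    unfold Cfsg.Geo.specialLinear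
    rw [← Cfsg.Agent.Helper2.card_SL_eq_card_ker_det]
    exact Cfsg.Agent.Helper2.card_SL_mul_card_units
  rw [Matrix.card_GL_field, Fin.prod_univ_three, Cfsg.Agent.Helper2.card_units_field, hF] at hmul
  have hp0 : 0 < p := by rw [← hF]; exact Fintype.card_pos
  have h3 : 3 ∣ p - 1 := by omega
  have h243 : 243 ∣ (p ^ 3 - 1) * (p ^ 3 - p) * (p ^ 3 - p ^ 2) := by
    have h4 : 81 * 3 ∣ Nat.card (Cfsg.Geo.specialLinear (Fin 3) F) * (p - 1) :=
      Nat.mul_dvd_mul h h3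
    rw [hmul] at h4
    simpa using h4
  have h2 : (((p ^ 3 - 1) * (p ^ 3 - p) * (p ^ 3 - p ^ 2) : ℕ) : ZMod 243) = 0 :=
    (ZMod.natCast_eq_zero_iff _ _).mpr h243
  have e1 : ((p ^ 3 - 1 : ℕ) : ZMod 243) = (p : ZMod 243) ^ 3 - 1 := by
    rw [Nat.cast_sub (Nat.one_le_pow _ _ hp0), Nat.cast_pow, Nat.cast_one]
  have e2 : ((p ^ 3 - p : ℕ) : ZMod 243) = (p : ZMod 243) ^ 3 - p := by
    rw [Nat.cast_sub (Nat.le_self_pow (by norm_num) p), Nat.cast_pow]
  have e3 : ((p ^ 3 - p ^ 2 : ℕ) : ZMod 243) = (p : ZMod 243) ^ 3 - (p : ZMod 243) ^ 2 := by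
    rw [Nat.cast_sub (Nat.pow_le_pow_right hp0 (by norm_num)), Nat.cast_pow, Nat.cast_pow]
  rw [Nat.cast_mul, Nat.cast_mul, e1, e2, e3] at h2
  refine dec243 (p : ZMod 243) ?_ h2
  rw [ZMod.val_natCast]
  have h5 : p % 243 % 9 = p % 9 := Nat.mod_mod_of_dvd p (by norm_num)
  rw [h5]; exact hp9

/-- for `p ≡ 4, 7 (mod 9)` the index of the normaliser is prime to 3 -/
theorem not_three_dvd [Fintype F] {p : ℕ} (hF : Fintype.card F = p)
    (hp9 : p % 9 = 4 ∨ p % 9 = 7) (hf : Frame R Q Qi γ) :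
    ¬ 3 ∣ (Cfsg.Geo.subgroupNormalizer R).relIndex (Cfsg.Geo.specialLinear (Fin 3) F) := by
  intro h3
  have hle : R ≤ Cfsg.Geo.subgroupNormalizer R ⊓ Cfsg.Geo.specialLinear (Fin 3) F :=
    le_inf Subgroup.le_normalizer hf.le_SL
  have h27 : 27 ∣ Nat.card
      (Cfsg.Geo.subgroupNormalizer R ⊓ Cfsg.Geo.specialLinear (Fin 3) F : Subgroup _) := by
    rw [← hf.hcard]; exact Subgroup.card_dvd_of_le hle
  have hmul : Nat.card
      (Cfsg.Geo.subgroupNormalizer R ⊓ Cfsg.Geo.specialLinear (Fin 3) F : Subgroup _) *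
      (Cfsg.Geo.subgroupNormalizer R).relIndex (Cfsg.Geo.specialLinear (Fin 3) F) =
      Nat.card (Cfsg.Geo.specialLinear (Fin 3) F) := by
    have h := Subgroup.relIndex_mul_relIndex (⊥ : Subgroup (GL (Fin 3) F))
      (Cfsg.Geo.subgroupNormalizer R ⊓ Cfsg.Geo.specialLinear (Fin 3) F)
      (Cfsg.Geo.specialLinear (Fin 3) F) bot_le inf_le_right
    rw [Subgroup.relIndex_bot_left, Subgroup.relIndex_bot_left,
      Subgroup.inf_relIndex_right] at h
    exact h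
  have h81 : 81 ∣ Nat.card (Cfsg.Geo.specialLinear (Fin 3) F) := by
    rw [← hmul]
    exact Nat.mul_dvd_mul h27 h3
  exact not_81_dvd hF hp9 h81

/-- elements of prime order at least 5 are derangements -/
theorem no_conj_of_ge_five [Fintype F] (hf : Frame R Q Qi γ) {r : ℕ} [Fact r.Prime]
    (hr : 5 ≤ r) (hdvd : r ∣ Nat.card (Cfsg.Geo.specialLinear (Fin 3) F))
    (hL : ∀ x ∈ Cfsg.Geo.specialLinear (Fin 3) F,
      (∃ z : F, ((x ^ r : GL (Fin 3) F) : Matrix (Fin 3) (Fin 3) F) =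
        z • (1 : Matrix (Fin 3) (Fin 3) F)) →
      (∀ z : F, (x : Matrix (Fin 3) (Fin 3) F) ≠ z • (1 : Matrix (Fin 3) (Fin 3) F)) →
      ∃ g ∈ Cfsg.Geo.specialLinear (Fin 3) F,
        g⁻¹ * x * g ∈ Cfsg.Geo.subgroupNormalizer R) : False := by
  classical
  have hrP : r.Prime := Fact.out
  obtain ⟨x', hx'⟩ :=
    exists_prime_orderOf_dvd_card' (G := Cfsg.Geo.specialLinear (Fin 3) F) r hdvd
  obtain ⟨x, hxe⟩ : ∃ x : GL (Fin 3) F, x = (x' : GL (Fin 3) F) := ⟨_, rfl⟩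
  have hxSL : x ∈ Cfsg.Geo.specialLinear (Fin 3) F := by rw [hxe]; exact x'.2
  have hxr : x ^ r = 1 := by
    have h := pow_orderOf_eq_one x'
    rw [hx'] at h
    rw [hxe, ← Subgroup.coe_pow, h]
    rfl
  have hx1 : x ≠ 1 := by
    intro h
    have h2 : x' = 1 := Subtype.ext (by rw [← hxe, h]; rfl)
    rw [h2, orderOf_one] at hx'
    exact hrP.one_lt.ne hx'
  have hxdet : (x : Matrix (Fin 3) (Fin 3) F).det = 1 := (mem_SL_iff x).mp hxSL
  have hns : ∀ z : F, (x : Matrix (Fin 3) (Fin 3) F) ≠ z • (1 : Matrix (Fin 3) (Fin 3) F) := by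
    intro z hz
    have hz3 : z ^ 3 = 1 := by
      have h := hxdet
      rw [hz, Matrix.det_smul, Matrix.det_one, mul_one, Fintype.card_fin] at h
      exact h
    have hzr : z ^ r = 1 := by
      have h1 := congrArg (fun g : GL (Fin 3) F => (g : Matrix (Fin 3) (Fin 3) F)) hxr
      simp only [Units.val_pow_eq_pow_val, Units.val_one] at h1
      rw [hz, smul_pow, one_pow] at h1
      have h2 := congrFun (congrFun h1 0) 0
      simpa using h2
    have hcop : Nat.Coprime r 3 := by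
      rw [Nat.coprime_primes hrP Nat.prime_three]; omega
    have hz1 : z = 1 := (pow_eq_one_iff_of_coprime hcop).mp ⟨hzr, hz3⟩
    apply hx1
    apply Units.ext
    rw [hz, hz1, one_smul]
    rfl
  obtain ⟨g, hg, hgN⟩ := hL x hxSL ⟨1, by rw [hxr, one_smul]; rfl⟩ hns
  obtain ⟨y, hy⟩ : ∃ y : GL (Fin 3) F, y = g⁻¹ * x * g := ⟨_, rfl⟩
  rw [← hy] at hgN
  have hyr : y ^ r = 1 := by
    have h1 : y = g⁻¹ * x * (g⁻¹)⁻¹ := by rw [hy, inv_inv]
    rw [h1, conj_pow, hxr, mul_one, mul_inv_cancel]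
  obtain ⟨c, hcR, hc⟩ := hf.hc
  have hcm : (c : Matrix (Fin 3) (Fin 3) F) = γ • (1 : Matrix (Fin 3) (Fin 3) F) := by
    rw [hc, Matrix.mul_smul, Matrix.mul_one, Matrix.smul_mul, hf.hQ]
  have hc1 : c ≠ 1 := by
    intro h
    rw [h] at hcm
    have h2 := congrFun (congrFun hcm 0) 0
    simp at h2
    exact hf.hγ1 h2.symm
  have hcy : y * c = c * y := by
    apply Units.ext
    rw [Units.val_mul, Units.val_mul, hcm, Matrix.mul_smul, Matrix.smul_mul, Matrix.mul_one,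
      Matrix.one_mul]
  have hcent := centralizes_of_ge_five R hf.hcard hgN hr hyr hcR hc1 hcy
  obtain ⟨a, b, haR, hbR, ha, hb, -⟩ := hf.gens
  have hya := hcent a haR
  have hyb := hcent b hbR
  obtain ⟨Y, hY⟩ : ∃ Y : Matrix (Fin 3) (Fin 3) F,
      Y = Qi * (y : Matrix (Fin 3) (Fin 3) F) * Q := ⟨_, rfl⟩
  have hyY : (y : Matrix (Fin 3) (Fin 3) F) = Q * Y * Qi := by
    rw [hY]
    simp only [Matrix.mul_assoc]
    rw [hf.hQ, Matrix.mul_one, ← Matrix.mul_assoc, hf.hQ, Matrix.one_mul]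
  have h1 : Y * Matrix.diagonal ![1, γ, γ * γ] = Matrix.diagonal ![1, γ, γ * γ] * Y := by
    have h := congrArg (fun t : GL (Fin 3) F => (t : Matrix (Fin 3) (Fin 3) F)) hya
    simp only [Units.val_mul] at h
    rw [ha, hyY] at h
    have h' : Qi * (Q * Y * Qi * (Q * Matrix.diagonal ![1, γ, γ * γ] * Qi)) * Q =
        Qi * (Q * Matrix.diagonal ![1, γ, γ * γ] * Qi * (Q * Y * Qi)) * Q := by rw [h]
    simp only [Matrix.mul_assoc, cancel_QiQ hf.hQ', hf.hQ', Matrix.mul_one] at h'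
    exact h'
  have h2 : Y * S3 F = S3 F * Y := by
    have h := congrArg (fun t : GL (Fin 3) F => (t : Matrix (Fin 3) (Fin 3) F)) hyb
    simp only [Units.val_mul] at h
    rw [hb, hyY] at h
    have h' : Qi * (Q * Y * Qi * (Q * S3 F * Qi)) * Q =
        Qi * (Q * S3 F * Qi * (Q * Y * Qi)) * Q := by rw [h]
    simp only [Matrix.mul_assoc, cancel_QiQ hf.hQ', hf.hQ', Matrix.mul_one] at h'
    exact h'
  obtain ⟨t, ht⟩ : ∃ t : F, Y = t • (1 : Matrix (Fin 3) (Fin 3) F) :=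
    ⟨_, schur (d_inj hf.hγ1 hf.hγ3) h1 h2⟩
  have hys : (y : Matrix (Fin 3) (Fin 3) F) = t • (1 : Matrix (Fin 3) (Fin 3) F) := by
    rw [hyY, ht, Matrix.mul_smul, Matrix.mul_one, Matrix.smul_mul, hf.hQ]
  have hxs : (x : Matrix (Fin 3) (Fin 3) F) = t • (1 : Matrix (Fin 3) (Fin 3) F) := by
    have hx2 : x = g * y * g⁻¹ := by rw [hy]; group
    rw [hx2, Units.val_mul, Units.val_mul, hys, Matrix.mul_smul, Matrix.mul_one,
      Matrix.smul_mul, ← Units.val_mul, mul_inv_cancel, Units.val_one]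
  exact hns t hxs

theorem J3_mul_J3 : J3 F * J3 F = 1 := by
  ext i j
  fin_cases i <;> fin_cases j <;> simp [Matrix.mul_apply, Fin.sum_univ_three, J3]

theorem J3_S3_J3 : J3 F * S3 F * J3 F = S3 F * S3 F := by
  ext i j
  fin_cases i <;> fin_cases j <;> simp [Matrix.mul_apply, Fin.sum_univ_three, J3, S3]

theorem J3_D_J3 (hγ3 : γ * γ * γ = 1) : J3 F * Matrix.diagonal ![1, γ, γ * γ] * J3 F =
    Matrix.diagonal ![1, γ, γ * γ] * Matrix.diagonal ![1, γ, γ * γ] := by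
  have e4 : (γ * γ) * (γ * γ) = γ := by linear_combination γ * hγ3
  rw [Matrix.diagonal_mul_diagonal]
  ext i j
  rw [Matrix.mul_apply]
  simp only [Matrix.mul_diagonal, Fin.sum_univ_three]
  fin_cases i <;> fin_cases j <;> simp [J3, e4]

theorem det_ne_zero_of_mul (hQ : Q * Qi = 1) : Q.det ≠ 0 := by
  intro h
  have h2 := congrArg Matrix.det hQ
  rw [Matrix.det_mul, h, zero_mul, Matrix.det_one] at h2
  exact zero_ne_one h2

/-- the three eigenbases of `μ • J3` -/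
theorem exists_J3_basis (h2 : (2 : F) ≠ 0) (μ : F) {d : Fin 3 → F}
    (hcase : (d 0 = μ ∧ d 1 = -μ ∧ d 2 = -μ) ∨ (d 0 = -μ ∧ d 1 = μ ∧ d 2 = -μ) ∨
      (d 0 = -μ ∧ d 1 = -μ ∧ d 2 = μ)) :
    ∃ P' : Matrix (Fin 3) (Fin 3) F, P'.det ≠ 0 ∧
      (μ • J3 F) * P' = P' * Matrix.diagonal d := by
  have hm2 : (-2 : F) ≠ 0 := neg_ne_zero.mpr h2
  rcases hcase with ⟨h0, h1, h2'⟩ | ⟨h0, h1, h2'⟩ | ⟨h0, h1, h2'⟩
  · have hdd : d = ![μ, -μ, -μ] := by
      funext i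
      fin_cases i
      · exact h0
      · exact h1
      · exact h2'
    refine ⟨!![0, 1, 0; 1, 0, 1; -1, 0, 1], ?_, ?_⟩
    · have e : (!![0, 1, 0; 1, 0, 1; -1, 0, 1] : Matrix (Fin 3) (Fin 3) F).det = -2 := by
        rw [Matrix.det_fin_three]
        simp
        ring
      rw [e]; exact hm2
    · rw [hdd]
      ext i j
      fin_cases i <;> fin_cases j <;>
        simp [Matrix.mul_apply, Fin.sum_univ_three, J3, Matrix.diagonal_apply]
  · have hdd : d = ![-μ, μ, -μ] := by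
      funext i
      fin_cases i
      · exact h0
      · exact h1
      · exact h2'
    refine ⟨!![1, 0, 0; 0, 1, 1; 0, -1, 1], ?_, ?_⟩
    · have e : (!![1, 0, 0; 0, 1, 1; 0, -1, 1] : Matrix (Fin 3) (Fin 3) F).det = 2 := by
        rw [Matrix.det_fin_three]
        simp
        ring
      rw [e]; exact h2
    · rw [hdd]
      ext i j
      fin_cases i <;> fin_cases j <;>
        simp [Matrix.mul_apply, Fin.sum_univ_three, J3, Matrix.diagonal_apply]
  · have hdd : d = ![-μ, -μ, μ] := by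
      funext i
      fin_cases i
      · exact h0
      · exact h1
      · exact h2'
    refine ⟨!![1, 0, 0; 0, 1, 1; 0, 1, -1], ?_, ?_⟩
    · have e : (!![1, 0, 0; 0, 1, 1; 0, 1, -1] : Matrix (Fin 3) (Fin 3) F).det = -2 := by
        rw [Matrix.det_fin_three]
        simp
        ring
      rw [e]; exact hm2
    · rw [hdd]
      ext i j
      fin_cases i <;> fin_cases j <;>
        simp [Matrix.mul_apply, Fin.sum_univ_three, J3, Matrix.diagonal_apply]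

/-- from a conjugating matrix to the conclusion -/
theorem finish (hf : Frame R Q Qi γ) {x : GL (Fin 3) F} {X Y Yi G Gi : Matrix (Fin 3) (Fin 3) F}
    (hX : X = (x : Matrix (Fin 3) (Fin 3) F)) (hGGi : G * Gi = 1) (hGiG : Gi * G = 1)
    (hGdet : G.det = 1) (hGX : G * X = Q * Y * Qi * G) (hY : Y * Yi = 1)
    (h1 : InR R Q Qi (Y * Matrix.diagonal ![1, γ, γ * γ] * Yi))
    (h2 : InR R Q Qi (Y * S3 F * Yi)) :
    ∃ g ∈ Cfsg.Geo.specialLinear (Fin 3) F,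
      g⁻¹ * x * g ∈ Cfsg.Geo.subgroupNormalizer R := by
  obtain ⟨g, hg⟩ : ∃ g : GL (Fin 3) F, g = ⟨Gi, G, hGiG, hGGi⟩ := ⟨_, rfl⟩
  have hgv : (g : Matrix (Fin 3) (Fin 3) F) = Gi := by rw [hg]
  have hgi : ((g⁻¹ : GL (Fin 3) F) : Matrix (Fin 3) (Fin 3) F) = G := by rw [hg]; rfl
  have hGidet : Gi.det = 1 := by
    have h := congrArg Matrix.det hGGi
    rw [Matrix.det_mul, hGdet, one_mul, Matrix.det_one] at h
    exact h
  refine ⟨g, (mem_SL_iff g).mpr (by rw [hgv]; exact hGidet), ?_⟩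
  apply hf.normalizes hY h1 h2
  rw [Units.val_mul, Units.val_mul, hgi, hgv, ← hX, hGX, Matrix.mul_assoc _ G Gi, hGGi,
    Matrix.mul_one]

/-- involutions of `PSL_3` are conjugate into the normaliser -/
theorem conj_two (h2 : (2 : F) ≠ 0) (hf : Frame R Q Qi γ) {x : GL (Fin 3) F}
    (hx : x ∈ Cfsg.Geo.specialLinear (Fin 3) F) {z : F}
    (hz : ((x ^ 2 : GL (Fin 3) F) : Matrix (Fin 3) (Fin 3) F) =
      z • (1 : Matrix (Fin 3) (Fin 3) F))
    (hns : ∀ z : F, (x : Matrix (Fin 3) (Fin 3) F) ≠ z • (1 : Matrix (Fin 3) (Fin 3) F)) :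
    ∃ g ∈ Cfsg.Geo.specialLinear (Fin 3) F,
      g⁻¹ * x * g ∈ Cfsg.Geo.subgroupNormalizer R := by
  obtain ⟨X, hX⟩ : ∃ X : Matrix (Fin 3) (Fin 3) F,
      X = (x : Matrix (Fin 3) (Fin 3) F) := ⟨_, rfl⟩
  have hdet : X.det = 1 := by rw [hX]; exact (mem_SL_iff x).mp hx
  have hXX : X * X = z • (1 : Matrix (Fin 3) (Fin 3) F) := by
    rw [hX, ← hz, Units.val_pow_eq_pow_val, pow_two]
  have hz3 : z * z * z = 1 := by
    have h := congrArg Matrix.det hXX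
    rw [Matrix.det_mul, hdet, one_mul, Matrix.det_smul, Matrix.det_one, mul_one,
      Fintype.card_fin, pow_succ, pow_two] at h
    exact h.symm
  obtain ⟨μ, hμ⟩ : ∃ μ : F, μ = z * z := ⟨_, rfl⟩
  have hμμ : μ * μ = z := by rw [hμ]; linear_combination z * hz3
  have hμ3 : μ * μ * μ = 1 := by rw [hμ]; linear_combination (z * z * z + 1) * hz3
  have hμ0 : μ ≠ 0 := by intro h; rw [h] at hμ3; simp at hμ3
  have h2μ : (2 * μ : F) ≠ 0 := mul_ne_zero h2 hμ0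
  obtain ⟨E, hE⟩ : ∃ E : Fin 2 → Matrix (Fin 3) (Fin 3) F,
      E = ![(2 * μ)⁻¹ • (X + μ • (1 : Matrix (Fin 3) (Fin 3) F)),
        (2 * μ)⁻¹ • (μ • (1 : Matrix (Fin 3) (Fin 3) F) - X)] := ⟨_, rfl⟩
  obtain ⟨lam, hlam⟩ : ∃ lam : Fin 2 → F, lam = ![μ, -μ] := ⟨_, rfl⟩
  have hEe : ∀ k, X * E k = lam k • E k := by
    intro k
    rw [hE, hlam]
    fin_cases k
    · show X * ((2 * μ)⁻¹ • (X + μ • (1 : Matrix (Fin 3) (Fin 3) F))) =
        μ • ((2 * μ)⁻¹ • (X + μ • (1 : Matrix (Fin 3) (Fin 3) F)))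
      rw [Matrix.mul_smul, Matrix.mul_add, hXX, Matrix.mul_smul, Matrix.mul_one, ← hμμ]
      module
    · show X * ((2 * μ)⁻¹ • (μ • (1 : Matrix (Fin 3) (Fin 3) F) - X)) =
        (-μ) • ((2 * μ)⁻¹ • (μ • (1 : Matrix (Fin 3) (Fin 3) F) - X))
      rw [Matrix.mul_smul, Matrix.mul_sub, hXX, Matrix.mul_smul, Matrix.mul_one, ← hμμ]
      module
  have hsum : ∑ k, E k = 1 := by
    rw [Fin.sum_univ_two, hE]
    show (2 * μ)⁻¹ • (X + μ • (1 : Matrix (Fin 3) (Fin 3) F)) +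
      (2 * μ)⁻¹ • (μ • (1 : Matrix (Fin 3) (Fin 3) F) - X) = 1
    have h5 : (2 * μ)⁻¹ • (X + μ • (1 : Matrix (Fin 3) (Fin 3) F)) +
        (2 * μ)⁻¹ • (μ • (1 : Matrix (Fin 3) (Fin 3) F) - X) =
        ((2 * μ)⁻¹ * (2 * μ)) • (1 : Matrix (Fin 3) (Fin 3) F) := by module
    rw [h5, inv_mul_cancel₀ h2μ, one_smul]
  obtain ⟨P, d, hPd, hXP, hd⟩ := exists_diag E lam hEe hsum
  have hd' : ∀ j, d j = μ ∨ d j = -μ := by
    intro j
    obtain ⟨k, hk⟩ := hd j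
    rw [hlam] at hk
    fin_cases k
    · left; exact hk
    · right; exact hk
  have hprod : d 0 * d 1 * d 2 = 1 := by
    have h := congrArg Matrix.det hXP
    rw [Matrix.det_mul, Matrix.det_mul, Matrix.det_diagonal, Fin.prod_univ_three, hdet,
      one_mul] at h
    have h5 : P.det * (d 0 * d 1 * d 2) = P.det * 1 := by rw [mul_one]; exact h.symm
    exact mul_left_cancel₀ hPd h5
  have hscal : ¬ (d 0 = μ ∧ d 1 = μ ∧ d 2 = μ) := by
    rintro ⟨h0, h1, h2'⟩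
    apply hns μ
    have hdd : Matrix.diagonal d = μ • (1 : Matrix (Fin 3) (Fin 3) F) := by
      rw [Matrix.smul_one_eq_diagonal]
      congr 1
      funext i
      fin_cases i
      · exact h0
      · exact h1
      · exact h2'
    rw [hdd, Matrix.mul_smul, Matrix.mul_one] at hXP
    have hPu : IsUnit P.det := isUnit_iff_ne_zero.mpr hPd
    rw [← hX]
    calc X = X * P * P⁻¹ := by
          rw [Matrix.mul_assoc, Matrix.mul_nonsing_inv P hPu, Matrix.mul_one]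
      _ = μ • (1 : Matrix (Fin 3) (Fin 3) F) := by
          rw [hXP, Matrix.smul_mul, Matrix.mul_nonsing_inv P hPu]
  have hcase : (d 0 = μ ∧ d 1 = -μ ∧ d 2 = -μ) ∨ (d 0 = -μ ∧ d 1 = μ ∧ d 2 = -μ) ∨
      (d 0 = -μ ∧ d 1 = -μ ∧ d 2 = μ) := by
    rcases hd' 0 with h0 | h0 <;> rcases hd' 1 with h1 | h1 <;> rcases hd' 2 with h2' | h2' <;>
      first
        | exact Or.inl ⟨h0, h1, h2'⟩
        | exact Or.inr (Or.inl ⟨h0, h1, h2'⟩)
        | exact Or.inr (Or.inr ⟨h0, h1, h2'⟩)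
        | (exfalso
           rw [h0, h1, h2'] at hprod
           exact h2 (by linear_combination (-1 : F) * hμ3 - hprod))
        | exact absurd ⟨h0, h1, h2'⟩ hscal
  obtain ⟨P', hPd', hJP'⟩ := exists_J3_basis h2 μ hcase
  have hΦ : (Q * (μ • J3 F) * Qi) * (Q * P') = (Q * P') * Matrix.diagonal d := by
    simp only [Matrix.mul_assoc, cancel_QiQ hf.hQ']
    rw [hJP']
  have hQP : (Q * P').det ≠ 0 := by
    rw [Matrix.det_mul]; exact mul_ne_zero (det_ne_zero_of_mul hf.hQ) hPd'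
  obtain ⟨G, Gi, hGGi, hGiG, hGdet, hGX⟩ := conj_of_diag hPd hXP hQP hΦ
  have hJJ : (μ • J3 F) * (μ⁻¹ • J3 F) = 1 := by
    rw [Matrix.smul_mul, Matrix.mul_smul, smul_smul, mul_inv_cancel₀ hμ0, one_smul, J3_mul_J3]
  refine finish hf hX hGGi hGiG hGdet hGX hJJ ?_ ?_
  · have e : (μ • J3 F) * Matrix.diagonal ![1, γ, γ * γ] * (μ⁻¹ • J3 F) =
        Matrix.diagonal ![1, γ, γ * γ] * Matrix.diagonal ![1, γ, γ * γ] := by
      rw [Matrix.smul_mul, Matrix.smul_mul, Matrix.mul_smul, smul_smul, mul_inv_cancel₀ hμ0,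
        one_smul, J3_D_J3 hf.hγ3]
    rw [e]; exact InR.mul hf.hQ' hf.hd hf.hd
  · have e : (μ • J3 F) * S3 F * (μ⁻¹ • J3 F) = S3 F * S3 F := by
      rw [Matrix.smul_mul, Matrix.smul_mul, Matrix.mul_smul, smul_smul, mul_inv_cancel₀ hμ0,
        one_smul, J3_S3_J3]
    rw [e]; exact InR.mul hf.hQ' hf.hs hf.hs

/-- elements of order 3 of `PSL_3(p)`, `p ≡ 1 (mod 9)`, are conjugate into the normaliser -/
theorem conj_three [Fintype F] (h3 : (3 : F) ≠ 0) (h9 : 9 ∣ Fintype.card F - 1)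
    (hf : Frame R Q Qi γ) {x : GL (Fin 3) F}
    (hx : x ∈ Cfsg.Geo.specialLinear (Fin 3) F) {z : F}
    (hz : ((x ^ 3 : GL (Fin 3) F) : Matrix (Fin 3) (Fin 3) F) =
      z • (1 : Matrix (Fin 3) (Fin 3) F)) :
    ∃ g ∈ Cfsg.Geo.specialLinear (Fin 3) F,
      g⁻¹ * x * g ∈ Cfsg.Geo.subgroupNormalizer R := by
  obtain ⟨X, hX⟩ : ∃ X : Matrix (Fin 3) (Fin 3) F,
      X = (x : Matrix (Fin 3) (Fin 3) F) := ⟨_, rfl⟩
  have hdet : X.det = 1 := by rw [hX]; exact (mem_SL_iff x).mp hx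
  have hXXX : X * X * X = z • (1 : Matrix (Fin 3) (Fin 3) F) := by
    rw [hX, ← hz, Units.val_pow_eq_pow_val, pow_succ, pow_two]
  have hz3 : z * z * z = 1 := by
    have h := congrArg Matrix.det hXXX
    rw [Matrix.det_mul, Matrix.det_mul, hdet, one_mul, one_mul, Matrix.det_smul, Matrix.det_one,
      mul_one, Fintype.card_fin, pow_succ, pow_two] at h
    exact h.symm
  obtain ⟨η, hη9, hη3⟩ := Cfsg.Agent.Helper2.Singer.exists_eta h9
  obtain ⟨e, he⟩ : ∃ e : F, e * e * e = z := by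
    have hζ3 : η ^ 3 * η ^ 3 * η ^ 3 = 1 := by rw [← hη9]; ring
    rcases mu3_cases hη3 hζ3 hz3 with h | h | h
    · exact ⟨1, by rw [h]; ring⟩
    · exact ⟨η, by rw [h]; ring⟩
    · exact ⟨η * η, by rw [h]; ring⟩
  have he0 : e ≠ 0 := by
    intro h
    have hz0 : z = 0 := by rw [← he, h]; ring
    rw [hz0] at hz3
    simp at hz3
  obtain ⟨X1, hX1⟩ : ∃ X1 : Matrix (Fin 3) (Fin 3) F, X1 = e⁻¹ • X := ⟨_, rfl⟩
  have hX1c : X1 * X1 * X1 = 1 := by
    rw [hX1]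
    simp only [Matrix.smul_mul, Matrix.mul_smul, smul_smul]
    rw [hXXX, smul_smul]
    convert one_smul F (1 : Matrix (Fin 3) (Fin 3) F) using 2
    rw [← he]
    field_simp
  have hXe : X = e • X1 := by rw [hX1, smul_smul, mul_inv_cancel₀ he0, one_smul]
  obtain ⟨mu, hmu⟩ : ∃ mu : Fin 3 → F, mu = ![1, γ, γ * γ] := ⟨_, rfl⟩
  have hmu3 : ∀ k, mu k * mu k * mu k = 1 := by
    intro k
    rw [hmu]
    fin_cases k
    · show (1 : F) * 1 * 1 = 1
      ring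
    · exact hf.hγ3
    · show (γ * γ) * (γ * γ) * (γ * γ) = 1
      linear_combination (γ * γ * γ + 1) * hf.hγ3
  obtain ⟨E, hE⟩ : ∃ E : Fin 3 → Matrix (Fin 3) (Fin 3) F, E = fun k =>
      (3 : F)⁻¹ • (1 + mu k • X1 + (mu k * mu k) • (X1 * X1)) := ⟨_, rfl⟩
  have hEe : ∀ k, X * E k = (e * (mu k * mu k)) • E k := by
    intro k
    rw [hE]
    show X * ((3 : F)⁻¹ • (1 + mu k • X1 + (mu k * mu k) • (X1 * X1))) =
      (e * (mu k * mu k)) • ((3 : F)⁻¹ • (1 + mu k • X1 + (mu k * mu k) • (X1 * X1)))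
    rw [Matrix.mul_smul, hXe, Matrix.smul_mul,
      Cfsg.Agent.Helper2.Singer.proj_eig hX1c (hmu3 k)]
    simp only [smul_smul]
    congr 1
    ring
  have hq := quad_of_cube hf.hγ1 hf.hγ3
  have hsum : ∑ k, E k = 1 := by
    rw [Fin.sum_univ_three, hE, hmu]
    show (3 : F)⁻¹ • (1 + (1 : F) • X1 + ((1 : F) * 1) • (X1 * X1)) +
      (3 : F)⁻¹ • (1 + γ • X1 + (γ * γ) • (X1 * X1)) +
      (3 : F)⁻¹ • (1 + (γ * γ) • X1 + ((γ * γ) * (γ * γ)) • (X1 * X1)) = 1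
    have e4 : (γ * γ) * (γ * γ) = γ := by linear_combination γ * hf.hγ3
    rw [e4]
    have h5 : (3 : F)⁻¹ • (1 + (1 : F) • X1 + ((1 : F) * 1) • (X1 * X1)) +
        (3 : F)⁻¹ • (1 + γ • X1 + (γ * γ) • (X1 * X1)) +
        (3 : F)⁻¹ • (1 + (γ * γ) • X1 + γ • (X1 * X1)) =
        ((3 : F)⁻¹ * 3) • (1 : Matrix (Fin 3) (Fin 3) F) +
          ((3 : F)⁻¹ * (1 + γ + γ * γ)) • X1 + ((3 : F)⁻¹ * (1 + γ + γ * γ)) • (X1 * X1) := by
      module
    rw [h5, hq, mul_zero, zero_smul, zero_smul, add_zero, add_zero, inv_mul_cancel₀ h3,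
      one_smul]
  obtain ⟨P, d, hPd, hXP, hd⟩ := exists_diag E (fun k => e * (mu k * mu k)) hEe hsum
  have hd3 : ∀ j, d j * d j * d j = z := by
    intro j
    obtain ⟨k, hk⟩ := hd j
    rw [hk, ← he]
    linear_combination (e * e * e) * (mu k * mu k * mu k + 1) * hmu3 k
  have hz0 : z ≠ 0 := by intro h; rw [h] at hz3; simp at hz3
  have hd0 : ∀ j, d j ≠ 0 := by
    intro j h
    have h4 := hd3 j
    rw [h] at h4
    apply hz0
    rw [← h4]; ring
  have hprod : d 0 * d 1 * d 2 = 1 := by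
    have h := congrArg Matrix.det hXP
    rw [Matrix.det_mul, Matrix.det_mul, Matrix.det_diagonal, Fin.prod_univ_three, hdet,
      one_mul] at h
    have h5 : P.det * (d 0 * d 1 * d 2) = P.det * 1 := by rw [mul_one]; exact h.symm
    exact mul_left_cancel₀ hPd h5
  have hΦ : (Q * Matrix.diagonal d * Qi) * Q = Q * Matrix.diagonal d := by
    rw [Matrix.mul_assoc _ Qi Q, hf.hQ', Matrix.mul_one]
  obtain ⟨G, Gi, hGGi, hGiG, hGdet, hGX⟩ :=
    conj_of_diag hPd hXP (det_ne_zero_of_mul hf.hQ) hΦ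
  have hY : Matrix.diagonal d * Matrix.diagonal (fun j => (d j)⁻¹) = 1 := by
    rw [Matrix.diagonal_mul_diagonal, ← Matrix.diagonal_one]
    congr 1
    funext j
    exact mul_inv_cancel₀ (hd0 j)
  have hcube : ∀ i j, (d i * (d j)⁻¹) * (d i * (d j)⁻¹) * (d i * (d j)⁻¹) = 1 := by
    intro i j
    have hj := hd0 j
    field_simp
    linear_combination hd3 i - hd3 j
  refine finish hf hX hGGi hGiG hGdet hGX hY ?_ ?_
  · have e1 : Matrix.diagonal d * Matrix.diagonal ![1, γ, γ * γ] *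
        Matrix.diagonal (fun j => (d j)⁻¹) = Matrix.diagonal ![1, γ, γ * γ] := by
      rw [Matrix.diagonal_mul_diagonal, Matrix.diagonal_mul_diagonal]
      congr 1
      funext j
      rw [mul_comm (d j), mul_assoc, mul_inv_cancel₀ (hd0 j), mul_one]
    rw [e1]; exact hf.hd
  · have e2 : Matrix.diagonal d * S3 F * Matrix.diagonal (fun j => (d j)⁻¹) =
        Matrix.diagonal ![d 0 * (d 2)⁻¹, d 1 * (d 0)⁻¹, d 2 * (d 1)⁻¹] * S3 F := by
      ext i j
      rw [Matrix.mul_diagonal, Matrix.diagonal_mul, Matrix.diagonal_mul]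
      fin_cases i <;> fin_cases j <;> simp [S3]
    rw [e2]
    refine InR.mul hf.hQ' (hf.diag ?_ ?_) hf.hs
    · intro i
      fin_cases i
      · exact hcube 0 2
      · exact hcube 1 0
      · exact hcube 2 1
    · show d 0 * (d 2)⁻¹ * (d 1 * (d 0)⁻¹) * (d 2 * (d 1)⁻¹) = 1
      have h0 := hd0 0
      have h1 := hd0 1
      have h2 := hd0 2
      field_simp

end Cfsg.Agent.Helper2.Extra3
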