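import Mathlib
import Cfsg.Prelude.Def_GeometricClasses
import Cfsg.Agent.Helper2.UnitaryGU
import Cfsg.Agent.Helper2.UnitarySU
import Cfsg.Agent.Helper2.Extra3C

/-!
# Unitary diagonalisation and unitary frames (for S5999)
-/

set_option autoImplicit false

namespace Cfsg.Agent.Helper2.Extra3

open Matrix Cfsg.Agent.Helper2.Herm
open scoped MatrixGroups

section general

variable {F : Type*} [Field F] [Fintype F] {q n : ℕ}

theorem exists_norm_eq (hF : Fintype.card F = q ^ 2) {a : F} (ha0 : a ≠ 0) (haK : a ^ q = a) :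
    ∃ s : F, s ^ (q + 1) = a := by
  have hq := two_le_q hF
  have hmem : Units.mk0 a ha0 ∈ (powMonoidHom (q - 1) : Fˣ →* Fˣ).ker := by
    rw [MonoidHom.mem_ker, powMonoidHom_apply]
    apply Units.ext
    rw [Units.val_pow_eq_pow_val, Units.val_mk0, Units.val_one]
    have h1 : a * a ^ (q - 1) = a * 1 := by
      rw [← pow_succ', Nat.sub_add_cancel (by omega), haK, mul_one]
    exact mul_left_cancel₀ ha0 h1
  rw [← range_norm hF] at hmem
  obtain ⟨u, hu⟩ := hmem
  refine ⟨(u : F), ?_⟩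
  have h1 := congrArg Units.val hu
  simpa using h1

theorem hf_single_right' (hF : Fintype.card F = q ^ 2) (w : Fin n → F) (i : Fin n) :
    Cfsg.hermForm n F q w (Pi.single i 1) = w i := by
  have hq := two_le_q hF
  unfold Cfsg.hermForm
  rw [Finset.sum_eq_single i]
  · simp
  · intro j _ hji
    rw [Pi.single_eq_of_ne hji, zero_pow (by omega), mul_zero]
  · intro h; exact absurd (Finset.mem_univ i) h

theorem orth_of_ne (hF : Fintype.card F = q ^ 2) {X : Matrix (Fin n) (Fin n) F}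
    (hX : ∀ u v, Cfsg.hermForm n F q (X *ᵥ u) (X *ᵥ v) = Cfsg.hermForm n F q u v)
    {u v : Fin n → F} {a b : F} (hu : X *ᵥ u = a • u) (hv : X *ᵥ v = b • v)
    (hb : b ^ (q + 1) = 1) (hab : a ≠ b) : Cfsg.hermForm n F q u v = 0 := by
  have h1 := hX u v
  rw [hu, hv, hf_smul_left, hf_smul_right hF, cj_apply] at h1
  by_contra hne
  apply hab
  have h2 : a * b ^ q = 1 := by
    have h3 : (a * b ^ q) * Cfsg.hermForm n F q u v = 1 * Cfsg.hermForm n F q u v := by
      rw [one_mul, mul_assoc]; exact h1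
    exact mul_right_cancel₀ hne h3
  calc a = a * b ^ (q + 1) := by rw [hb, mul_one]
    _ = (a * b ^ q) * b := by rw [pow_succ]; ring
    _ = b := by rw [h2, one_mul]

/-- extending an orthonormal frame of eigenvectors by one more -/
theorem ON_eigen_step (hF : Fintype.card F = q ^ 2) (h2 : (2 : F) ≠ 0)
    {X : Matrix (Fin n) (Fin n) F}
    (hX : ∀ u v, Cfsg.hermForm n F q (X *ᵥ u) (X *ᵥ v) = Cfsg.hermForm n F q u v)
    {ι : Type*} [Fintype ι] (E : ι → Matrix (Fin n) (Fin n) F) (lam : ι → F)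
    (hE : ∀ k, X * E k = lam k • E k) (hsum : ∑ k, E k = 1)
    (hlam : Function.Injective lam) (hnorm : ∀ k, lam k ^ (q + 1) = 1)
    {k : ℕ} (hk : k < n) (c : Fin k → (Fin n → F)) (hc : IsON q c)
    (hce : ∀ j, ∃ i, X *ᵥ c j = lam i • c j) :
    ∃ v : Fin n → F, v ∈ Perp q c ∧ Cfsg.hermForm n F q v v = 1 ∧
      ∃ i, X *ᵥ v = lam i • v := by
  classical
  have hq := two_le_q hF
  have hcomp : ∀ w : Fin n → F, w = ∑ i, E i *ᵥ w := by
    intro w
    rw [← Matrix.sum_mulVec, hsum, Matrix.one_mulVec]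
  have heig : ∀ (i : ι) (w : Fin n → F), X *ᵥ (E i *ᵥ w) = lam i • (E i *ᵥ w) := by
    intro i w
    rw [Matrix.mulVec_mulVec, hE, Matrix.smul_mulVec]
  have hperp : ∀ w ∈ Perp q c, ∀ i, E i *ᵥ w ∈ Perp q c := by
    intro w hw i j
    obtain ⟨ij, hij⟩ := hce j
    by_cases hi : i = ij
    · subst hi
      have h1 : Cfsg.hermForm n F q w (c j) =
          ∑ l, Cfsg.hermForm n F q (E l *ᵥ w) (c j) := by
        have h3 := congrArg (fun t => Cfsg.hermForm n F q t (c j)) (hcomp w)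
        rw [h3, hf_sum_left]
      rw [hw j, Finset.sum_eq_single i] at h1
      · exact h1.symm
      · intro l _ hli
        exact orth_of_ne hF hX (heig l w) hij (hnorm i) (fun h => hli (hlam h))
      · intro h; exact absurd (Finset.mem_univ i) h
    · exact orth_of_ne hF hX (heig i w) hij (hnorm ij) (fun h => hi (hlam h))
  obtain ⟨w, hw0, hwP⟩ : ∃ w : Fin n → F, w ≠ 0 ∧ w ∈ Perp q c := by
    obtain ⟨φ, hφ⟩ : ∃ φ : (Fin n → F) →ₗ[F] (Fin k → F),
        ∀ v j, φ v j = Cfsg.hermForm n F q v (c j) :=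
      ⟨{ toFun := fun v j => Cfsg.hermForm n F q v (c j)
         map_add' := by intro u v; funext j; exact hf_add_left u v (c j)
         map_smul' := by intro a v; funext j; exact hf_smul_left a v (c j) }, fun v j => rfl⟩
    have hlt : Module.finrank F (Fin k → F) < Module.finrank F (Fin n → F) := by
      rw [Module.finrank_fin_fun, Module.finrank_fin_fun]; exact hk
    obtain ⟨w, hwker, hw0⟩ :=
      Submodule.exists_mem_ne_zero_of_ne_bot (LinearMap.ker_ne_bot_of_finrank_lt (f := φ) hlt)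
    refine ⟨w, hw0, ?_⟩
    intro j
    rw [← hφ, LinearMap.mem_ker.mp hwker]
    rfl
  obtain ⟨w', hw'P, hww'⟩ : ∃ w' ∈ Perp q c, Cfsg.hermForm n F q w w' ≠ 0 := by
    by_contra hcon
    push Not at hcon
    apply hw0
    funext i
    have h1 : Cfsg.hermForm n F q w (Pi.single i 1) = 0 := by
      have hdec := sub_comb_mem_perp c hc (Pi.single i (1 : F))
      have h3 : (Pi.single i (1 : F) : Fin n → F) =
          ∑ j, Cfsg.hermForm n F q (Pi.single i 1) (c j) • c j +
            (Pi.single i 1 - ∑ j, Cfsg.hermForm n F q (Pi.single i 1) (c j) • c j) := by abel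
      rw [h3, hf_add_right hF, hcon _ hdec, add_zero, hf_sum_right hF]
      apply Finset.sum_eq_zero
      intro j _
      rw [hf_smul_right hF, hwP j, mul_zero]
    rw [hf_single_right' hF] at h1
    exact h1
  have hsum2 : Cfsg.hermForm n F q w w' =
      ∑ i, Cfsg.hermForm n F q (E i *ᵥ w) (E i *ᵥ w') := by
    have h1 : Cfsg.hermForm n F q w w' =
        ∑ i, ∑ l, Cfsg.hermForm n F q (E i *ᵥ w) (E l *ᵥ w') := by
      have h3 := congrArg (fun t => Cfsg.hermForm n F q t w') (hcomp w)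
      rw [h3, hf_sum_left]
      apply Finset.sum_congr rfl
      intro i _
      have h4 := congrArg (fun t => Cfsg.hermForm n F q (E i *ᵥ w) t) (hcomp w')
      rw [h4, hf_sum_right hF]
    rw [h1]
    apply Finset.sum_congr rfl
    intro i _
    rw [Finset.sum_eq_single i]
    · intro l _ hli
      exact orth_of_ne hF hX (heig i w) (heig l w') (hnorm l) (fun h => hli (hlam h).symm)
    · intro h; exact absurd (Finset.mem_univ i) h
  obtain ⟨i, hi⟩ : ∃ i, Cfsg.hermForm n F q (E i *ᵥ w) (E i *ᵥ w') ≠ 0 := by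
    by_contra hcon
    push Not at hcon
    apply hww'
    rw [hsum2]
    exact Finset.sum_eq_zero (fun i _ => hcon i)
  obtain ⟨u, hu⟩ : ∃ u : Fin n → F, u = E i *ᵥ w := ⟨_, rfl⟩
  obtain ⟨u', hu'⟩ : ∃ u' : Fin n → F, u' = E i *ᵥ w' := ⟨_, rfl⟩
  have huP : u ∈ Perp q c := by rw [hu]; exact hperp w hwP i
  have hu'P : u' ∈ Perp q c := by rw [hu']; exact hperp w' hw'P i
  have hXu : X *ᵥ u = lam i • u := by rw [hu]; exact heig i w
  have hXu' : X *ᵥ u' = lam i • u' := by rw [hu']; exact heig i w'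
  rw [← hu, ← hu'] at hi
  obtain ⟨v, hvP, hvX, hvv⟩ : ∃ v : Fin n → F, v ∈ Perp q c ∧ X *ᵥ v = lam i • v ∧
      Cfsg.hermForm n F q v v ≠ 0 := by
    by_cases h1 : Cfsg.hermForm n F q u u ≠ 0
    · exact ⟨u, huP, hXu, h1⟩
    by_cases h1' : Cfsg.hermForm n F q u' u' ≠ 0
    · exact ⟨u', hu'P, hXu', h1'⟩
    push Not at h1 h1'
    have hu'u : Cfsg.hermForm n F q u' u ≠ 0 := by
      intro h
      apply hi
      exact hf_eq_zero_of_symm hF h
    obtain ⟨t, ht⟩ : ∃ t : F, t = (Cfsg.hermForm n F q u' u)⁻¹ := ⟨_, rfl⟩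
    refine ⟨u + t • u', ?_, ?_, ?_⟩
    · intro j
      rw [hf_add_left, hf_smul_left, huP j, hu'P j, mul_zero, add_zero]
    · rw [Matrix.mulVec_add, Matrix.mulVec_smul, hXu, hXu', smul_add, smul_comm]
    · have e1 : Cfsg.hermForm n F q u (t • u') = cj hF t * Cfsg.hermForm n F q u u' :=
        hf_smul_right hF t u u'
      have e2 : Cfsg.hermForm n F q (t • u') u = t * Cfsg.hermForm n F q u' u :=
        hf_smul_left t u' u
      have e3 : Cfsg.hermForm n F q (t • u') (t • u') =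
          t * (cj hF t * Cfsg.hermForm n F q u' u') := by
        rw [hf_smul_left, hf_smul_right hF]
      have e4 : cj hF t * Cfsg.hermForm n F q u u' = 1 := by
        rw [← hf_symm hF u' u, ← map_mul, ht, inv_mul_cancel₀ hu'u, map_one]
      have e5 : t * Cfsg.hermForm n F q u' u = 1 := by
        rw [ht, inv_mul_cancel₀ hu'u]
      rw [hf_add_left, hf_add_right hF, hf_add_right hF, e1, e2, e3, e4, e5, h1, h1']
      intro h
      apply h2
      linear_combination h
  have hvK : Cfsg.hermForm n F q v v ∈ K hF := hf_self_mem_K hF v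
  obtain ⟨s, hs⟩ := exists_norm_eq hF (inv_ne_zero hvv)
    (by rw [inv_pow, (mem_K hF).mp hvK])
  refine ⟨s • v, ?_, ?_, i, ?_⟩
  · intro j
    rw [hf_smul_left, hvP j, mul_zero]
  · rw [hf_smul_left, hf_smul_right hF, cj_apply, ← mul_assoc, ← pow_succ', hs,
      inv_mul_cancel₀ hvv]
  · rw [Matrix.mulVec_smul, hvX, smul_comm]

theorem exists_ON_eigen (hF : Fintype.card F = q ^ 2) (h2 : (2 : F) ≠ 0)
    {X : Matrix (Fin n) (Fin n) F}
    (hX : ∀ u v, Cfsg.hermForm n F q (X *ᵥ u) (X *ᵥ v) = Cfsg.hermForm n F q u v)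
    {ι : Type*} [Fintype ι] (E : ι → Matrix (Fin n) (Fin n) F) (lam : ι → F)
    (hE : ∀ k, X * E k = lam k • E k) (hsum : ∑ k, E k = 1)
    (hlam : Function.Injective lam) (hnorm : ∀ k, lam k ^ (q + 1) = 1) :
    ∀ k, k ≤ n → ∃ c : Fin k → (Fin n → F), IsON q c ∧
      ∀ j, ∃ i, X *ᵥ c j = lam i • c j := by
  intro k
  induction k with
  | zero =>
    intro _
    exact ⟨fun j => Fin.elim0 j, fun i => Fin.elim0 i, fun j => Fin.elim0 j⟩
  | succ k ih =>
    intro hk
    obtain ⟨c, hc, hce⟩ := ih (by omega)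
    obtain ⟨v, hvP, hvv, i, hvX⟩ :=
      ON_eigen_step hF h2 hX E lam hE hsum hlam hnorm (by omega) c hc hce
    refine ⟨(Fin.cons v c : Fin (k + 1) → (Fin n → F)),
      (isON_cons hF c v).mpr ⟨hc, hvP, hvv⟩, ?_⟩
    intro j
    refine Fin.cases ?_ (fun j' => ?_) j
    · exact ⟨i, by simpa using hvX⟩
    · simpa using hce j'

/-- unitary diagonalisation -/
theorem exists_udiag (hF : Fintype.card F = q ^ 2) (h2 : (2 : F) ≠ 0)
    {X : Matrix (Fin n) (Fin n) F}
    (hX : ∀ u v, Cfsg.hermForm n F q (X *ᵥ u) (X *ᵥ v) = Cfsg.hermForm n F q u v)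
    {ι : Type*} [Fintype ι] (E : ι → Matrix (Fin n) (Fin n) F) (lam : ι → F)
    (hE : ∀ k, X * E k = lam k • E k) (hsum : ∑ k, E k = 1)
    (hlam : Function.Injective lam) (hnorm : ∀ k, lam k ^ (q + 1) = 1) :
    ∃ (P : GL (Fin n) F) (d : Fin n → F), P ∈ Cfsg.GU n F q ∧
      X * (P : Matrix (Fin n) (Fin n) F) = (P : Matrix (Fin n) (Fin n) F) * Matrix.diagonal d ∧
      ∀ j, ∃ i, d j = lam i := by
  obtain ⟨c, hc, hce⟩ := exists_ON_eigen hF h2 hX E lam hE hsum hlam hnorm n le_rfl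
  obtain ⟨g, hg⟩ := exists_unit_of_isON hF hc
  choose ix hix using hce
  refine ⟨g, fun j => lam (ix j), (mem_GU_iff hF g).mpr (by rw [hg]; exact hc), ?_,
    fun j => ⟨_, rfl⟩⟩
  ext a j
  rw [Matrix.mul_diagonal]
  have h1 : (X * (g : Matrix (Fin n) (Fin n) F)) a j = (X *ᵥ c j) a := by
    rw [← hg]
    simp [Matrix.mul_apply, Matrix.mulVec, dotProduct, cols]
  have h3 : (g : Matrix (Fin n) (Fin n) F) a j = c j a := by
    rw [← hg]; rfl
  rw [h1, hix j, Pi.smul_apply, smul_eq_mul, mul_comm, h3]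

/-- the conjugate transpose -/
def cjM (hF : Fintype.card F = q ^ 2) (A : Matrix (Fin n) (Fin n) F) :
    Matrix (Fin n) (Fin n) F := (A.map (cj hF)).transpose

theorem cjM_mul (hF : Fintype.card F = q ^ 2) (A B : Matrix (Fin n) (Fin n) F) :
    cjM hF (A * B) = cjM hF B * cjM hF A := by
  unfold cjM
  rw [Matrix.map_mul, Matrix.transpose_mul]

theorem cjM_smul (hF : Fintype.card F = q ^ 2) (s : F) (A : Matrix (Fin n) (Fin n) F) :
    cjM hF (s • A) = (s ^ q) • cjM hF A := by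
  unfold cjM
  ext i j
  simp [cj_apply, mul_pow]

theorem cjM_diagonal (hF : Fintype.card F = q ^ 2) (d : Fin n → F) :
    cjM hF (Matrix.diagonal d) = Matrix.diagonal (fun i => d i ^ q) := by
  unfold cjM
  ext i j
  by_cases hij : i = j
  · subst hij
    simp [cj_apply]
  · have hq := two_le_q hF
    simp [Matrix.diagonal_apply_ne _ hij, Matrix.diagonal_apply_ne _ (Ne.symm hij), cj_apply,
      zero_pow (by omega : q ≠ 0)]

theorem cjM_mul_self_of_mem (hF : Fintype.card F = q ^ 2) {g : GL (Fin n) F}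
    (hg : g ∈ Cfsg.GU n F q) :
    cjM hF (g : Matrix (Fin n) (Fin n) F) * (g : Matrix (Fin n) (Fin n) F) = 1 :=
  conjTranspose_mul_self hF ((mem_GU_iff hF g).mp hg)

theorem isON_of_cjM_mul_self (hF : Fintype.card F = q ^ 2) {M : Matrix (Fin n) (Fin n) F}
    (h : cjM hF M * M = 1) : IsON q (cols M) := by
  intro j k
  have h1 := congrFun (congrFun h k) j
  rw [Matrix.mul_apply, Matrix.one_apply] at h1
  unfold Cfsg.hermForm
  have e : ∑ i, cols M j i * cols M k i ^ q = ∑ i, cjM hF M k i * M i j := by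
    apply Finset.sum_congr rfl
    intro i _
    unfold cjM cols
    rw [Matrix.transpose_apply, Matrix.map_apply, cj_apply, mul_comm]
  rw [e, h1]
  by_cases hjk : j = k
  · rw [if_pos hjk, if_pos hjk.symm]
  · rw [if_neg hjk, if_neg (Ne.symm hjk)]

end general

end Cfsg.Agent.Helper2.Extra3
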