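import Mathlib
import Cfsg.Prelude.Def_GeometricClasses
import Cfsg.Agent.Helper2.Extra3D
import Cfsg.Agent.Helper2.Extra3E

/-!
# Elements of prime order and the normaliser of `3^{1+2}` in `SU_3(p)` (for S5999)
-/

set_option autoImplicit false

namespace Cfsg.Agent.Helper2.Extra3

open Matrix Cfsg.Agent.Helper2.Herm
open scoped MatrixGroups

variable {F : Type*} [Field F] [Fintype F] {q : ℕ}
variable {R : Subgroup (GL (Fin 3) F)} {Q Qi : Matrix (Fin 3) (Fin 3) F} {γ : F}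

theorem pow_norm_of_cube {t : F} (ht : t * t * t = 1) (h3q : 3 ∣ q + 1) : t ^ (q + 1) = 1 := by
  obtain ⟨m, hm⟩ := h3q
  rw [hm, pow_mul, pow_succ, pow_two, ht, one_pow]

theorem inR_scale {s : F} (hs0 : s ≠ 0) {M : Matrix (Fin 3) (Fin 3) F}
    (h : InR R Q Qi M) : InR R (s • Q) (s⁻¹ • Qi) M := by
  obtain ⟨g, hg, hm⟩ := h
  refine ⟨g, hg, ?_⟩
  rw [hm, Matrix.smul_mul, Matrix.smul_mul, Matrix.mul_smul, smul_smul, mul_inv_cancel₀ hs0,
    one_smul]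

theorem gram_inv (hF : Fintype.card F = q ^ 2) {g : GL (Fin 3) F} (hg : g ∈ Cfsg.GU 3 F q)
    {A0 : Matrix (Fin 3) (Fin 3) F}
    (hgm : (g : Matrix (Fin 3) (Fin 3) F) = Q * A0 * Qi) (hQ' : Qi * Q = 1) :
    cjM hF A0 * (cjM hF Q * Q) * A0 = cjM hF Q * Q := by
  have e : (g : Matrix (Fin 3) (Fin 3) F) * Q = Q * A0 := by
    rw [hgm, Matrix.mul_assoc, hQ', Matrix.mul_one]
  calc cjM hF A0 * (cjM hF Q * Q) * A0 = cjM hF (Q * A0) * (Q * A0) := by
        rw [cjM_mul]; simp only [Matrix.mul_assoc]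
    _ = cjM hF ((g : Matrix (Fin 3) (Fin 3) F) * Q) * ((g : Matrix (Fin 3) (Fin 3) F) * Q) := by
        rw [e]
    _ = cjM hF Q * (cjM hF (g : Matrix (Fin 3) (Fin 3) F) * (g : Matrix (Fin 3) (Fin 3) F)) * Q := by
        rw [cjM_mul]; simp only [Matrix.mul_assoc]
    _ = cjM hF Q * Q := by rw [cjM_mul_self_of_mem hF hg, Matrix.mul_one]

theorem D_mul_cjM (hF : Fintype.card F = q ^ 2) (h3q : 3 ∣ q + 1) (hγ3 : γ * γ * γ = 1) :
    Matrix.diagonal ![1, γ, γ * γ] * cjM hF (Matrix.diagonal ![1, γ, γ * γ]) = 1 := by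
  rw [cjM_diagonal, Matrix.diagonal_mul_diagonal, ← Matrix.diagonal_one]
  congr 1
  funext i
  fin_cases i
  · show (1 : F) * 1 ^ q = 1
    rw [one_pow, one_mul]
  · show γ * γ ^ q = 1
    rw [← pow_succ']
    exact pow_norm_of_cube hγ3 h3q
  · show (γ * γ) * (γ * γ) ^ q = 1
    rw [← pow_succ']
    exact pow_norm_of_cube (by linear_combination (γ * γ * γ + 1) * hγ3) h3q

theorem S_mul_cjM (hF : Fintype.card F = q ^ 2) : S3 F * cjM hF (S3 F) = 1 := by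
  have e : cjM hF (S3 F) = (S3 F).transpose := by
    unfold cjM
    ext i j
    fin_cases i <;> fin_cases j <;> simp [S3]
  rw [e]
  ext i j
  fin_cases i <;> fin_cases j <;> simp [Matrix.mul_apply, Fin.sum_univ_three, S3]

/-- the frame can be chosen unitary -/
theorem exists_uframe (hF : Fintype.card F = q ^ 2) (h3q : 3 ∣ q + 1)
    (hRU : R ≤ Cfsg.GU 3 F q) (hf : Frame R Q Qi γ) :
    ∃ (Q' Qi' : Matrix (Fin 3) (Fin 3) F) (qg : GL (Fin 3) F), Frame R Q' Qi' γ ∧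
      qg ∈ Cfsg.GU 3 F q ∧ (qg : Matrix (Fin 3) (Fin 3) F) = Q' := by
  obtain ⟨a, b, haR, hbR, ha, hb, -⟩ := hf.gens
  obtain ⟨M, hM⟩ : ∃ M : Matrix (Fin 3) (Fin 3) F, M = cjM hF Q * Q := ⟨_, rfl⟩
  have hMD := gram_inv hF (hRU haR) ha hf.hQ'
  have hMS := gram_inv hF (hRU hbR) hb hf.hQ'
  rw [← hM] at hMD hMS
  have hDD := D_mul_cjM hF h3q hf.hγ3
  have hSS := S_mul_cjM (F := F) hF
  have h1 : M * Matrix.diagonal ![1, γ, γ * γ] = Matrix.diagonal ![1, γ, γ * γ] * M := by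
    calc M * Matrix.diagonal ![1, γ, γ * γ]
        = (Matrix.diagonal ![1, γ, γ * γ] * cjM hF (Matrix.diagonal ![1, γ, γ * γ])) * M *
          Matrix.diagonal ![1, γ, γ * γ] := by rw [hDD, Matrix.one_mul]
      _ = Matrix.diagonal ![1, γ, γ * γ] * (cjM hF (Matrix.diagonal ![1, γ, γ * γ]) * M *
          Matrix.diagonal ![1, γ, γ * γ]) := by simp only [Matrix.mul_assoc]
      _ = Matrix.diagonal ![1, γ, γ * γ] * M := by rw [hMD]
  have h2 : M * S3 F = S3 F * M := by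
    calc M * S3 F = (S3 F * cjM hF (S3 F)) * M * S3 F := by rw [hSS, Matrix.one_mul]
      _ = S3 F * (cjM hF (S3 F) * M * S3 F) := by simp only [Matrix.mul_assoc]
      _ = S3 F * M := by rw [hMS]
  have hsch := schur (d_inj hf.hγ1 hf.hγ3) h1 h2
  obtain ⟨c, hc⟩ : ∃ c : F, c = M 0 0 := ⟨_, rfl⟩
  rw [← hc] at hsch
  have hQd : Q.det ≠ 0 := det_ne_zero_of_mul hf.hQ
  have hc0 : c ≠ 0 := by
    intro h
    rw [h, zero_smul] at hsch
    have h3 := congrArg Matrix.det hM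
    rw [hsch, Matrix.det_mul] at h3
    have h4 : (cjM hF Q).det = cj hF Q.det := by
      unfold cjM
      rw [Matrix.det_transpose, RingHom.map_det]
      rfl
    rw [h4, cj_apply, Matrix.det_zero] at h3
    exact mul_ne_zero (pow_ne_zero q hQd) hQd h3.symm
  have hcK : c ^ q = c := by
    have h3 : cj hF (M 0 0) = M 0 0 := by
      rw [hM, Matrix.mul_apply, map_sum]
      apply Finset.sum_congr rfl
      intro i _
      rw [map_mul]
      unfold cjM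
      rw [Matrix.transpose_apply, Matrix.map_apply, cj_cj, mul_comm]
    rw [← hc, cj_apply] at h3
    exact h3
  obtain ⟨s, hs⟩ := exists_norm_eq hF (inv_ne_zero hc0) (by rw [inv_pow, hcK])
  have hs0 : s ≠ 0 := by
    intro h
    rw [h, zero_pow (by omega)] at hs
    exact inv_ne_zero hc0 hs.symm
  have hU : cjM hF (s • Q) * (s • Q) = 1 := by
    rw [cjM_smul, Matrix.smul_mul, Matrix.mul_smul, smul_smul, ← hM, hsch, smul_smul,
      ← pow_succ, hs, inv_mul_cancel₀ hc0, one_smul]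
  have hON := isON_of_cjM_mul_self hF hU
  obtain ⟨qg, hqg⟩ := exists_unit_of_isON hF hON
  have hqgm : (qg : Matrix (Fin 3) (Fin 3) F) = s • Q := by
    ext i j
    exact congrFun (congrFun hqg j) i
  refine ⟨s • Q, s⁻¹ • Qi, qg, ?_, (mem_GU_iff hF qg).mpr (by rw [hqg]; exact hON), hqgm⟩
  exact
    { hQ := by
        rw [Matrix.smul_mul, Matrix.mul_smul, smul_smul, mul_inv_cancel₀ hs0, one_smul, hf.hQ]
      hQ' := by
        rw [Matrix.smul_mul, Matrix.mul_smul, smul_smul, inv_mul_cancel₀ hs0, one_smul, hf.hQ']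
      hγ1 := hf.hγ1
      hγ3 := hf.hγ3
      hcard := hf.hcard
      hc := inR_scale hs0 hf.hc
      hd := inR_scale hs0 hf.hd
      hs := inR_scale hs0 hf.hs }

/-! ### the order of `SU_3` and the index -/

theorem card_GU_inf_SL (n : ℕ) :
    Nat.card (Cfsg.GU n F q ⊓ Cfsg.Geo.specialLinear (Fin n) F : Subgroup (GL (Fin n) F)) =
      Nat.card (Cfsg.SU n F q) := by
  rw [← card_ker_detGU]
  have e : (detGU F q n).ker = (Cfsg.Geo.specialLinear (Fin n) F).subgroupOf (Cfsg.GU n F q) := by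
    ext g
    rw [MonoidHom.mem_ker, Subgroup.mem_subgroupOf]
    unfold Cfsg.Geo.specialLinear
    rw [MonoidHom.mem_ker]
    rfl
  rw [e, ← Subgroup.inf_subgroupOf_left]
  exact (Nat.card_congr (Subgroup.subgroupOfEquivOfLe inf_le_left).toEquiv).symm

set_option maxRecDepth 100000 in
theorem dec243U : ∀ x : ZMod 243, (x.val % 9 = 2 ∨ x.val % 9 = 5) →
    x ^ 3 * ((x + 1) * (x ^ 2 - 1) * (x ^ 3 + 1)) ≠ 0 := by
  decide

theorem not_81_dvd_U (hF : Fintype.card F = q ^ 2) (hq9 : q % 9 = 2 ∨ q % 9 = 5) :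
    ¬ 81 ∣ Nat.card
      (Cfsg.GU 3 F q ⊓ Cfsg.Geo.specialLinear (Fin 3) F : Subgroup (GL (Fin 3) F)) := by
  intro h
  rw [card_GU_inf_SL] at h
  have hmul := card_SU_closed hF 3 (by norm_num)
  have hq0 : 0 < q := by have := two_le_q hF; omega
  have e0 : q ^ (3 * (3 - 1) / 2) *
      ∏ i ∈ Finset.range 3, (if Even i then q ^ (i + 1) + 1 else q ^ (i + 1) - 1) =
      q ^ 3 * ((q + 1) * (q ^ 2 - 1) * (q ^ 3 + 1)) := by
    rw [Finset.prod_range_succ, Finset.prod_range_succ, Finset.prod_range_succ,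
      Finset.prod_range_zero]
    simp
  rw [e0] at hmul
  have h3 : 3 ∣ q + 1 := by omega
  have h243 : 243 ∣ q ^ 3 * ((q + 1) * (q ^ 2 - 1) * (q ^ 3 + 1)) := by
    rw [← hmul]
    exact Nat.mul_dvd_mul h3 h
  have h2 : ((q ^ 3 * ((q + 1) * (q ^ 2 - 1) * (q ^ 3 + 1)) : ℕ) : ZMod 243) = 0 :=
    (ZMod.natCast_eq_zero_iff _ _).mpr h243
  have e2 : ((q ^ 2 - 1 : ℕ) : ZMod 243) = (q : ZMod 243) ^ 2 - 1 := by
    rw [Nat.cast_sub (Nat.one_le_pow _ _ hq0), Nat.cast_pow, Nat.cast_one]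
  rw [Nat.cast_mul, Nat.cast_mul, Nat.cast_mul, e2, Nat.cast_pow, Nat.cast_add, Nat.cast_add,
    Nat.cast_pow, Nat.cast_one] at h2
  refine dec243U (q : ZMod 243) ?_ h2
  rw [ZMod.val_natCast]
  have h5 : q % 243 % 9 = q % 9 := Nat.mod_mod_of_dvd q (by norm_num)
  rw [h5]; exact hq9

theorem not_three_dvd_U (hF : Fintype.card F = q ^ 2) (hq9 : q % 9 = 2 ∨ q % 9 = 5)
    (hRU : R ≤ Cfsg.GU 3 F q) (hf : Frame R Q Qi γ) :
    ¬ 3 ∣ (Cfsg.Geo.subgroupNormalizer R).relIndex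
      (Cfsg.GU 3 F q ⊓ Cfsg.Geo.specialLinear (Fin 3) F) := by
  intro h3
  have hle : R ≤ Cfsg.Geo.subgroupNormalizer R ⊓
      (Cfsg.GU 3 F q ⊓ Cfsg.Geo.specialLinear (Fin 3) F) :=
    le_inf Subgroup.le_normalizer (le_inf hRU hf.le_SL)
  have h27 : 27 ∣ Nat.card (Cfsg.Geo.subgroupNormalizer R ⊓
      (Cfsg.GU 3 F q ⊓ Cfsg.Geo.specialLinear (Fin 3) F) : Subgroup _) := by
    rw [← hf.hcard]; exact Subgroup.card_dvd_of_le hle
  have hmul : Nat.card (Cfsg.Geo.subgroupNormalizer R ⊓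
      (Cfsg.GU 3 F q ⊓ Cfsg.Geo.specialLinear (Fin 3) F) : Subgroup _) *
      (Cfsg.Geo.subgroupNormalizer R).relIndex
        (Cfsg.GU 3 F q ⊓ Cfsg.Geo.specialLinear (Fin 3) F) =
      Nat.card (Cfsg.GU 3 F q ⊓ Cfsg.Geo.specialLinear (Fin 3) F : Subgroup _) := by
    have h := Subgroup.relIndex_mul_relIndex (⊥ : Subgroup (GL (Fin 3) F))
      (Cfsg.Geo.subgroupNormalizer R ⊓ (Cfsg.GU 3 F q ⊓ Cfsg.Geo.specialLinear (Fin 3) F))
      (Cfsg.GU 3 F q ⊓ Cfsg.Geo.specialLinear (Fin 3) F) bot_le inf_le_right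
    rw [Subgroup.relIndex_bot_left, Subgroup.relIndex_bot_left,
      Subgroup.inf_relIndex_right] at h
    exact h
  have h81 : 81 ∣ Nat.card
      (Cfsg.GU 3 F q ⊓ Cfsg.Geo.specialLinear (Fin 3) F : Subgroup _) := by
    rw [← hmul]
    exact Nat.mul_dvd_mul h27 h3
  exact not_81_dvd_U hF hq9 h81

/-- elements of prime order at least 5 are derangements (in any subgroup of `SL_3`) -/
theorem no_conj_of_ge_five_gen (hf : Frame R Q Qi γ) (K : Subgroup (GL (Fin 3) F))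
    (hK : K ≤ Cfsg.Geo.specialLinear (Fin 3) F) {r : ℕ} [Fact r.Prime]
    (hr : 5 ≤ r) (hdvd : r ∣ Nat.card K)
    (hL : ∀ x ∈ K,
      (∃ z : F, ((x ^ r : GL (Fin 3) F) : Matrix (Fin 3) (Fin 3) F) =
        z • (1 : Matrix (Fin 3) (Fin 3) F)) →
      (∀ z : F, (x : Matrix (Fin 3) (Fin 3) F) ≠ z • (1 : Matrix (Fin 3) (Fin 3) F)) →
      ∃ g ∈ K, g⁻¹ * x * g ∈ Cfsg.Geo.subgroupNormalizer R) : False := by
  classical
  have hrP : r.Prime := Fact.out
  obtain ⟨x', hx'⟩ := exists_prime_orderOf_dvd_card' (G := K) r hdvd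
  obtain ⟨x, hxe⟩ : ∃ x : GL (Fin 3) F, x = (x' : GL (Fin 3) F) := ⟨_, rfl⟩
  have hxK : x ∈ K := by rw [hxe]; exact x'.2
  have hxSL : x ∈ Cfsg.Geo.specialLinear (Fin 3) F := hK hxK
  have hxr : x ^ r = 1 := by
    have h := pow_orderOf_eq_one x'
    rw [hx'] at h
    rw [hxe, ← Subgroup.coe_pow, h]
    rfl
  have hx1 : x ≠ 1 := by
    intro h
    have h2 : x' = 1 := Subtype.ext (by rw [← hxe, h]; rfl)
    rw [h2, orderOf_one] at hx'
    exact hrP.one_lt.ne hx'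
  have hxdet : (x : Matrix (Fin 3) (Fin 3) F).det = 1 := (mem_SL_iff x).mp hxSL
  have hns : ∀ z : F, (x : Matrix (Fin 3) (Fin 3) F) ≠ z • (1 : Matrix (Fin 3) (Fin 3) F) := by
    intro z hz
    have hz3 : z ^ 3 = 1 := by
      have h := hxdet
      rw [hz, Matrix.det_smul, Matrix.det_one, mul_one, Fintype.card_fin] at h
      exact h
    have hzr : z ^ r = 1 := by
      have h1 := congrArg (fun g : GL (Fin 3) F => (g : Matrix (Fin 3) (Fin 3) F)) hxr
      simp only [Units.val_pow_eq_pow_val, Units.val_one] at h1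
      rw [hz, smul_pow, one_pow] at h1
      have h2 := congrFun (congrFun h1 0) 0
      simpa using h2
    have hcop : Nat.Coprime r 3 := by
      rw [Nat.coprime_primes hrP Nat.prime_three]; omega
    have hz1 : z = 1 := (pow_eq_one_iff_of_coprime hcop).mp ⟨hzr, hz3⟩
    apply hx1
    apply Units.ext
    rw [hz, hz1, one_smul]
    rfl
  obtain ⟨g, hg, hgN⟩ := hL x hxK ⟨1, by rw [hxr, one_smul]; rfl⟩ hns
  obtain ⟨y, hy⟩ : ∃ y : GL (Fin 3) F, y = g⁻¹ * x * g := ⟨_, rfl⟩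
  rw [← hy] at hgN
  have hyr : y ^ r = 1 := by
    have h1 : y = g⁻¹ * x * (g⁻¹)⁻¹ := by rw [hy, inv_inv]
    rw [h1, conj_pow, hxr, mul_one, mul_inv_cancel]
  obtain ⟨c, hcR, hc⟩ := hf.hc
  have hcm : (c : Matrix (Fin 3) (Fin 3) F) = γ • (1 : Matrix (Fin 3) (Fin 3) F) := by
    rw [hc, Matrix.mul_smul, Matrix.mul_one, Matrix.smul_mul, hf.hQ]
  have hc1 : c ≠ 1 := by
    intro h
    rw [h] at hcm
    have h2 := congrFun (congrFun hcm 0) 0
    simp at h2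
    exact hf.hγ1 h2.symm
  have hcy : y * c = c * y := by
    apply Units.ext
    rw [Units.val_mul, Units.val_mul, hcm, Matrix.mul_smul, Matrix.smul_mul, Matrix.mul_one,
      Matrix.one_mul]
  have hcent := centralizes_of_ge_five R hf.hcard hgN hr hyr hcR hc1 hcy
  obtain ⟨a, b, haR, hbR, ha, hb, -⟩ := hf.gens
  have hya := hcent a haR
  have hyb := hcent b hbR
  obtain ⟨Y, hY⟩ : ∃ Y : Matrix (Fin 3) (Fin 3) F,
      Y = Qi * (y : Matrix (Fin 3) (Fin 3) F) * Q := ⟨_, rfl⟩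
  have hyY : (y : Matrix (Fin 3) (Fin 3) F) = Q * Y * Qi := by
    rw [hY]
    simp only [Matrix.mul_assoc]
    rw [hf.hQ, Matrix.mul_one, ← Matrix.mul_assoc, hf.hQ, Matrix.one_mul]
  have h1 : Y * Matrix.diagonal ![1, γ, γ * γ] = Matrix.diagonal ![1, γ, γ * γ] * Y := by
    have h := congrArg (fun t : GL (Fin 3) F => (t : Matrix (Fin 3) (Fin 3) F)) hya
    simp only [Units.val_mul] at h
    rw [ha, hyY] at h
    have h' : Qi * (Q * Y * Qi * (Q * Matrix.diagonal ![1, γ, γ * γ] * Qi)) * Q =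
        Qi * (Q * Matrix.diagonal ![1, γ, γ * γ] * Qi * (Q * Y * Qi)) * Q := by rw [h]
    simp only [Matrix.mul_assoc, cancel_QiQ hf.hQ', hf.hQ', Matrix.mul_one] at h'
    exact h'
  have h2 : Y * S3 F = S3 F * Y := by
    have h := congrArg (fun t : GL (Fin 3) F => (t : Matrix (Fin 3) (Fin 3) F)) hyb
    simp only [Units.val_mul] at h
    rw [hb, hyY] at h
    have h' : Qi * (Q * Y * Qi * (Q * S3 F * Qi)) * Q =
        Qi * (Q * S3 F * Qi * (Q * Y * Qi)) * Q := by rw [h]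
    simp only [Matrix.mul_assoc, cancel_QiQ hf.hQ', hf.hQ', Matrix.mul_one] at h'
    exact h'
  obtain ⟨t, ht⟩ : ∃ t : F, Y = t • (1 : Matrix (Fin 3) (Fin 3) F) :=
    ⟨_, schur (d_inj hf.hγ1 hf.hγ3) h1 h2⟩
  have hys : (y : Matrix (Fin 3) (Fin 3) F) = t • (1 : Matrix (Fin 3) (Fin 3) F) := by
    rw [hyY, ht, Matrix.mul_smul, Matrix.mul_one, Matrix.smul_mul, hf.hQ]
  have hxs : (x : Matrix (Fin 3) (Fin 3) F) = t • (1 : Matrix (Fin 3) (Fin 3) F) := by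
    have hx2 : x = g * y * g⁻¹ := by rw [hy]; group
    rw [hx2, Units.val_mul, Units.val_mul, hys, Matrix.mul_smul, Matrix.mul_one,
      Matrix.smul_mul, ← Units.val_mul, mul_inv_cancel, Units.val_one]
  exact hns t hxs

/-! ### unitary conjugation -/

/-- two unitarily diagonalised matrices with the same diagonal are conjugate in `SU` -/
theorem uconj (hF : Fintype.card F = q ^ 2) {X Φ : Matrix (Fin 3) (Fin 3) F} {d : Fin 3 → F}
    {P P' : GL (Fin 3) F} (hP : P ∈ Cfsg.GU 3 F q)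
    (hXP : X * (P : Matrix (Fin 3) (Fin 3) F) = (P : Matrix (Fin 3) (Fin 3) F) * Matrix.diagonal d)
    (hP' : P' ∈ Cfsg.GU 3 F q)
    (hΦ : Φ * (P' : Matrix (Fin 3) (Fin 3) F) =
      (P' : Matrix (Fin 3) (Fin 3) F) * Matrix.diagonal d) :
    ∃ G : GL (Fin 3) F, G ∈ Cfsg.GU 3 F q ∧ (G : Matrix (Fin 3) (Fin 3) F).det = 1 ∧
      (G : Matrix (Fin 3) (Fin 3) F) * X = Φ * (G : Matrix (Fin 3) (Fin 3) F) := by
  obtain ⟨τ, hτ⟩ : ∃ τ : Fˣ, τ = Matrix.GeneralLinearGroup.det P *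
      (Matrix.GeneralLinearGroup.det P')⁻¹ := ⟨_, rfl⟩
  have hτn : τ ^ (q + 1) = 1 := by
    rw [hτ, mul_pow, inv_pow, det_pow_eq_one hF hP, det_pow_eq_one hF hP', inv_one, one_mul]
  obtain ⟨dd, hdd⟩ : ∃ dd : Fin 3 → Fˣ, dd = fun j => if j = 0 then τ else 1 := ⟨_, rfl⟩
  have hddn : ∀ i, (dd i) ^ (q + 1) = 1 := by
    intro i
    rw [hdd]
    by_cases hi : i = 0
    · simp only [if_pos hi]; exact hτn
    · simp only [if_neg hi]; exact one_pow _
  have htU : diagGL dd ∈ Cfsg.GU 3 F q := diagGL_mem hF dd hddn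
  have htdet : Matrix.GeneralLinearGroup.det (diagGL dd) = τ := by
    rw [det_diagGL, Fin.prod_univ_three, hdd]
    simp
  refine ⟨P' * diagGL dd * P⁻¹, ?_, ?_, ?_⟩
  · exact (Cfsg.GU 3 F q).mul_mem ((Cfsg.GU 3 F q).mul_mem hP' htU) ((Cfsg.GU 3 F q).inv_mem hP)
  · have h1 : Matrix.GeneralLinearGroup.det (P' * diagGL dd * P⁻¹) = 1 := by
      rw [map_mul, map_mul, map_inv, htdet, hτ]
      rw [mul_comm (Matrix.GeneralLinearGroup.det P), ← mul_assoc, mul_inv_cancel, one_mul,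
        mul_inv_cancel]
    have h2 := congrArg Units.val h1
    rw [Matrix.GeneralLinearGroup.val_det_apply] at h2
    exact h2
  · have hPinv : ((P⁻¹ : GL (Fin 3) F) : Matrix (Fin 3) (Fin 3) F) * X =
        Matrix.diagonal d * ((P⁻¹ : GL (Fin 3) F) : Matrix (Fin 3) (Fin 3) F) := by
      have e1 : ((P⁻¹ : GL (Fin 3) F) : Matrix (Fin 3) (Fin 3) F) *
          (P : Matrix (Fin 3) (Fin 3) F) = 1 := by
        rw [← Units.val_mul, inv_mul_cancel, Units.val_one]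
      have e2 : (P : Matrix (Fin 3) (Fin 3) F) *
          ((P⁻¹ : GL (Fin 3) F) : Matrix (Fin 3) (Fin 3) F) = 1 := by
        rw [← Units.val_mul, mul_inv_cancel, Units.val_one]
      calc ((P⁻¹ : GL (Fin 3) F) : Matrix (Fin 3) (Fin 3) F) * X
          = ((P⁻¹ : GL (Fin 3) F) : Matrix (Fin 3) (Fin 3) F) *
            (X * (P : Matrix (Fin 3) (Fin 3) F)) *
            ((P⁻¹ : GL (Fin 3) F) : Matrix (Fin 3) (Fin 3) F) := by
            rw [Matrix.mul_assoc, Matrix.mul_assoc, e2, Matrix.mul_one]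
        _ = Matrix.diagonal d * ((P⁻¹ : GL (Fin 3) F) : Matrix (Fin 3) (Fin 3) F) := by
            rw [hXP, ← Matrix.mul_assoc, e1, Matrix.one_mul]
    have hT : ((diagGL dd : GL (Fin 3) F) : Matrix (Fin 3) (Fin 3) F) * Matrix.diagonal d =
        Matrix.diagonal d * ((diagGL dd : GL (Fin 3) F) : Matrix (Fin 3) (Fin 3) F) := by
      show Matrix.diagonal (fun i => ((dd i : Fˣ) : F)) * Matrix.diagonal d =
        Matrix.diagonal d * Matrix.diagonal (fun i => ((dd i : Fˣ) : F))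
      rw [Matrix.diagonal_mul_diagonal, Matrix.diagonal_mul_diagonal]
      congr 1
      funext j
      exact mul_comm _ _
    rw [Units.val_mul, Units.val_mul, Matrix.mul_assoc, hPinv, ← Matrix.mul_assoc,
      Matrix.mul_assoc (P' : Matrix (Fin 3) (Fin 3) F), hT, ← Matrix.mul_assoc, ← hΦ]
    simp only [Matrix.mul_assoc]

theorem finishU (hf : Frame R Q Qi γ) {x G : GL (Fin 3) F} {Y Yi : Matrix (Fin 3) (Fin 3) F}
    (hG : G ∈ Cfsg.GU 3 F q) (hGdet : (G : Matrix (Fin 3) (Fin 3) F).det = 1)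
    (hGX : (G : Matrix (Fin 3) (Fin 3) F) * (x : Matrix (Fin 3) (Fin 3) F) =
      Q * Y * Qi * (G : Matrix (Fin 3) (Fin 3) F)) (hY : Y * Yi = 1)
    (h1 : InR R Q Qi (Y * Matrix.diagonal ![1, γ, γ * γ] * Yi))
    (h2 : InR R Q Qi (Y * S3 F * Yi)) :
    ∃ g ∈ Cfsg.GU 3 F q ⊓ Cfsg.Geo.specialLinear (Fin 3) F,
      g⁻¹ * x * g ∈ Cfsg.Geo.subgroupNormalizer R := by
  refine ⟨G⁻¹, Subgroup.mem_inf.mpr ⟨(Cfsg.GU 3 F q).inv_mem hG,
    (Cfsg.Geo.specialLinear (Fin 3) F).inv_mem ((mem_SL_iff G).mpr hGdet)⟩, ?_⟩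
  rw [inv_inv]
  apply hf.normalizes hY h1 h2
  rw [Units.val_mul, Units.val_mul, hGX, Matrix.mul_assoc _ (G : Matrix (Fin 3) (Fin 3) F),
    ← Units.val_mul, mul_inv_cancel, Units.val_one, Matrix.mul_one]

end Cfsg.Agent.Helper2.Extra3
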