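import Mathlib
import Cfsg.Prelude.Def_GeometricClasses
import Cfsg.Agent.Helper2.Extra3F
import Cfsg.Agent.Helper2.SingerG

/-!
# Involutions and elements of order 3 of `PSU_3(p)` and the normaliser of `3^{1+2}` (for S5999)
-/

set_option autoImplicit false

namespace Cfsg.Agent.Helper2.Extra3

open Matrix Cfsg.Agent.Helper2.Herm
open scoped MatrixGroups

variable {F : Type*} [Field F] [Fintype F] {q : ℕ}
variable {R : Subgroup (GL (Fin 3) F)} {Q Qi : Matrix (Fin 3) (Fin 3) F} {γ : F}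

theorem exists_unitary_of_cjM (hF : Fintype.card F = q ^ 2) {M : Matrix (Fin 3) (Fin 3) F}
    (h : cjM hF M * M = 1) : ∃ g : GL (Fin 3) F, g ∈ Cfsg.GU 3 F q ∧
      (g : Matrix (Fin 3) (Fin 3) F) = M := by
  have hON := isON_of_cjM_mul_self hF h
  obtain ⟨g, hg⟩ := exists_unit_of_isON hF hON
  refine ⟨g, (mem_GU_iff hF g).mpr (by rw [hg]; exact hON), ?_⟩
  ext i j
  exact congrFun (congrFun hg j) i

/-- the three unitary eigenbases of `μ • J3` -/
theorem exists_J3_ubasis (hF : Fintype.card F = q ^ 2) (h2 : (2 : F) ≠ 0) (μ : F)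
    {d : Fin 3 → F}
    (hcase : (d 0 = μ ∧ d 1 = -μ ∧ d 2 = -μ) ∨ (d 0 = -μ ∧ d 1 = μ ∧ d 2 = -μ) ∨
      (d 0 = -μ ∧ d 1 = -μ ∧ d 2 = μ)) :
    ∃ P' : GL (Fin 3) F, P' ∈ Cfsg.GU 3 F q ∧
      (μ • J3 F) * (P' : Matrix (Fin 3) (Fin 3) F) =
        (P' : Matrix (Fin 3) (Fin 3) F) * Matrix.diagonal d := by
  have h2q : (2 : F) ^ q = 2 := by
    have e : (2 : F) = 1 + 1 := by norm_num
    rw [e, add_pow_q hF, one_pow]
  obtain ⟨s, hs⟩ := exists_norm_eq hF (inv_ne_zero h2) (by rw [inv_pow, h2q])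
  have hss : cj hF s * s = 2⁻¹ := by rw [cj_apply, ← pow_succ, hs]
  have h2inv : (2 : F) * 2⁻¹ = 1 := mul_inv_cancel₀ h2
  rcases hcase with ⟨h0, h1, h2'⟩ | ⟨h0, h1, h2'⟩ | ⟨h0, h1, h2'⟩
  · have hdd : d = ![μ, -μ, -μ] := by
      funext i
      fin_cases i
      · exact h0
      · exact h1
      · exact h2'
    have hU : cjM hF (!![0, 1, 0; s, 0, s; -s, 0, s] : Matrix (Fin 3) (Fin 3) F) *
        !![0, 1, 0; s, 0, s; -s, 0, s] = 1 := by
      ext i j
      fin_cases i <;> fin_cases j <;>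
        simp [cjM, Matrix.mul_apply, Fin.sum_univ_three] <;>
        first
          | linear_combination (2 : F) * hss + h2inv
          | ring
    obtain ⟨g, hgU, hgm⟩ := exists_unitary_of_cjM hF hU
    refine ⟨g, hgU, ?_⟩
    rw [hgm, hdd]
    ext i j
    fin_cases i <;> fin_cases j <;>
      simp [Matrix.mul_apply, Fin.sum_univ_three, J3, Matrix.diagonal_apply] <;>
      ring
  · have hdd : d = ![-μ, μ, -μ] := by
      funext i
      fin_cases i
      · exact h0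
      · exact h1
      · exact h2'
    have hU : cjM hF (!![1, 0, 0; 0, s, s; 0, -s, s] : Matrix (Fin 3) (Fin 3) F) *
        !![1, 0, 0; 0, s, s; 0, -s, s] = 1 := by
      ext i j
      fin_cases i <;> fin_cases j <;>
        simp [cjM, Matrix.mul_apply, Fin.sum_univ_three] <;>
        first
          | linear_combination (2 : F) * hss + h2inv
          | ring
    obtain ⟨g, hgU, hgm⟩ := exists_unitary_of_cjM hF hU
    refine ⟨g, hgU, ?_⟩
    rw [hgm, hdd]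
    ext i j
    fin_cases i <;> fin_cases j <;>
      simp [Matrix.mul_apply, Fin.sum_univ_three, J3, Matrix.diagonal_apply] <;>
      ring
  · have hdd : d = ![-μ, -μ, μ] := by
      funext i
      fin_cases i
      · exact h0
      · exact h1
      · exact h2'
    have hU : cjM hF (!![1, 0, 0; 0, s, s; 0, s, -s] : Matrix (Fin 3) (Fin 3) F) *
        !![1, 0, 0; 0, s, s; 0, s, -s] = 1 := by
      ext i j
      fin_cases i <;> fin_cases j <;>
        simp [cjM, Matrix.mul_apply, Fin.sum_univ_three] <;>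
        first
          | linear_combination (2 : F) * hss + h2inv
          | ring
    obtain ⟨g, hgU, hgm⟩ := exists_unitary_of_cjM hF hU
    refine ⟨g, hgU, ?_⟩
    rw [hgm, hdd]
    ext i j
    fin_cases i <;> fin_cases j <;>
      simp [Matrix.mul_apply, Fin.sum_univ_three, J3, Matrix.diagonal_apply] <;>
      ring

theorem det_GL_ne_zero (P : GL (Fin 3) F) : (P : Matrix (Fin 3) (Fin 3) F).det ≠ 0 := by
  apply det_ne_zero_of_mul (Qi := ((P⁻¹ : GL (Fin 3) F) : Matrix (Fin 3) (Fin 3) F))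
  rw [← Units.val_mul, mul_inv_cancel, Units.val_one]

/-- involutions of `PSU_3` are conjugate into the normaliser -/
theorem conj_two_U (hF : Fintype.card F = q ^ 2) (h2 : (2 : F) ≠ 0) (h3q : 3 ∣ q + 1)
    (hqodd : Odd q) (hf : Frame R Q Qi γ) {qg : GL (Fin 3) F} (hqg : qg ∈ Cfsg.GU 3 F q)
    (hqgm : (qg : Matrix (Fin 3) (Fin 3) F) = Q) {x : GL (Fin 3) F}
    (hx : x ∈ Cfsg.GU 3 F q ⊓ Cfsg.Geo.specialLinear (Fin 3) F) {z : F}
    (hz : ((x ^ 2 : GL (Fin 3) F) : Matrix (Fin 3) (Fin 3) F) =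
      z • (1 : Matrix (Fin 3) (Fin 3) F))
    (hns : ∀ z : F, (x : Matrix (Fin 3) (Fin 3) F) ≠ z • (1 : Matrix (Fin 3) (Fin 3) F)) :
    ∃ g ∈ Cfsg.GU 3 F q ⊓ Cfsg.Geo.specialLinear (Fin 3) F,
      g⁻¹ * x * g ∈ Cfsg.Geo.subgroupNormalizer R := by
  have hxU : x ∈ Cfsg.GU 3 F q := (Subgroup.mem_inf.mp hx).1
  have hxS : x ∈ Cfsg.Geo.specialLinear (Fin 3) F := (Subgroup.mem_inf.mp hx).2
  obtain ⟨X, hX⟩ : ∃ X : Matrix (Fin 3) (Fin 3) F,
      X = (x : Matrix (Fin 3) (Fin 3) F) := ⟨_, rfl⟩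
  have hXu : ∀ u v, Cfsg.hermForm 3 F q (X *ᵥ u) (X *ᵥ v) = Cfsg.hermForm 3 F q u v := by
    intro u v
    rw [hX]
    exact hxU u v
  have hdet : X.det = 1 := by rw [hX]; exact (mem_SL_iff x).mp hxS
  have hXX : X * X = z • (1 : Matrix (Fin 3) (Fin 3) F) := by
    rw [hX, ← hz, Units.val_pow_eq_pow_val, pow_two]
  have hz3 : z * z * z = 1 := by
    have h := congrArg Matrix.det hXX
    rw [Matrix.det_mul, hdet, one_mul, Matrix.det_smul, Matrix.det_one, mul_one,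
      Fintype.card_fin, pow_succ, pow_two] at h
    exact h.symm
  obtain ⟨μ, hμ⟩ : ∃ μ : F, μ = z * z := ⟨_, rfl⟩
  have hμμ : μ * μ = z := by rw [hμ]; linear_combination z * hz3
  have hμ3 : μ * μ * μ = 1 := by rw [hμ]; linear_combination (z * z * z + 1) * hz3
  have hμ0 : μ ≠ 0 := by intro h; rw [h] at hμ3; simp at hμ3
  have h2μ : (2 * μ : F) ≠ 0 := mul_ne_zero h2 hμ0
  obtain ⟨E, hE⟩ : ∃ E : Fin 2 → Matrix (Fin 3) (Fin 3) F,
      E = ![(2 * μ)⁻¹ • (X + μ • (1 : Matrix (Fin 3) (Fin 3) F)),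
        (2 * μ)⁻¹ • (μ • (1 : Matrix (Fin 3) (Fin 3) F) - X)] := ⟨_, rfl⟩
  obtain ⟨lam, hlam⟩ : ∃ lam : Fin 2 → F, lam = ![μ, -μ] := ⟨_, rfl⟩
  have hEe : ∀ k, X * E k = lam k • E k := by
    intro k
    rw [hE, hlam]
    fin_cases k
    · show X * ((2 * μ)⁻¹ • (X + μ • (1 : Matrix (Fin 3) (Fin 3) F))) =
        μ • ((2 * μ)⁻¹ • (X + μ • (1 : Matrix (Fin 3) (Fin 3) F)))
      rw [Matrix.mul_smul, Matrix.mul_add, hXX, Matrix.mul_smul, Matrix.mul_one, ← hμμ]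
      module
    · show X * ((2 * μ)⁻¹ • (μ • (1 : Matrix (Fin 3) (Fin 3) F) - X)) =
        (-μ) • ((2 * μ)⁻¹ • (μ • (1 : Matrix (Fin 3) (Fin 3) F) - X))
      rw [Matrix.mul_smul, Matrix.mul_sub, hXX, Matrix.mul_smul, Matrix.mul_one, ← hμμ]
      module
  have hsum : ∑ k, E k = 1 := by
    rw [Fin.sum_univ_two, hE]
    show (2 * μ)⁻¹ • (X + μ • (1 : Matrix (Fin 3) (Fin 3) F)) +
      (2 * μ)⁻¹ • (μ • (1 : Matrix (Fin 3) (Fin 3) F) - X) = 1
    have h5 : (2 * μ)⁻¹ • (X + μ • (1 : Matrix (Fin 3) (Fin 3) F)) +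
        (2 * μ)⁻¹ • (μ • (1 : Matrix (Fin 3) (Fin 3) F) - X) =
        ((2 * μ)⁻¹ * (2 * μ)) • (1 : Matrix (Fin 3) (Fin 3) F) := by module
    rw [h5, inv_mul_cancel₀ h2μ, one_smul]
  have hμn : μ ^ (q + 1) = 1 := pow_norm_of_cube hμ3 h3q
  have hlamI : Function.Injective lam := by
    have hne : μ ≠ -μ := by
      intro h
      apply h2μ
      linear_combination h
    intro i j hij
    rw [hlam] at hij
    fin_cases i <;> fin_cases j <;>
      first
        | rfl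
        | exact absurd hij hne
        | exact absurd hij.symm hne
  have hlamN : ∀ k, lam k ^ (q + 1) = 1 := by
    intro k
    rw [hlam]
    fin_cases k
    · exact hμn
    · show (-μ) ^ (q + 1) = 1
      rw [Even.neg_pow (Odd.add_one hqodd), hμn]
  obtain ⟨P, d, hP, hXP, hd⟩ := exists_udiag hF h2 hXu E lam hEe hsum hlamI hlamN
  have hPd : (P : Matrix (Fin 3) (Fin 3) F).det ≠ 0 := det_GL_ne_zero P
  have hd' : ∀ j, d j = μ ∨ d j = -μ := by
    intro j
    obtain ⟨k, hk⟩ := hd j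
    rw [hlam] at hk
    fin_cases k
    · left; exact hk
    · right; exact hk
  have hprod : d 0 * d 1 * d 2 = 1 := by
    have h := congrArg Matrix.det hXP
    rw [Matrix.det_mul, Matrix.det_mul, Matrix.det_diagonal, Fin.prod_univ_three, hdet,
      one_mul] at h
    have h5 : (P : Matrix (Fin 3) (Fin 3) F).det * (d 0 * d 1 * d 2) =
        (P : Matrix (Fin 3) (Fin 3) F).det * 1 := by rw [mul_one]; exact h.symm
    exact mul_left_cancel₀ hPd h5
  have hscal : ¬ (d 0 = μ ∧ d 1 = μ ∧ d 2 = μ) := by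
    rintro ⟨h0, h1, h2'⟩
    apply hns μ
    have hdd : Matrix.diagonal d = μ • (1 : Matrix (Fin 3) (Fin 3) F) := by
      rw [Matrix.smul_one_eq_diagonal]
      congr 1
      funext i
      fin_cases i
      · exact h0
      · exact h1
      · exact h2'
    rw [hdd, Matrix.mul_smul, Matrix.mul_one] at hXP
    have e2 : (P : Matrix (Fin 3) (Fin 3) F) *
        ((P⁻¹ : GL (Fin 3) F) : Matrix (Fin 3) (Fin 3) F) = 1 := by
      rw [← Units.val_mul, mul_inv_cancel, Units.val_one]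
    rw [← hX]
    calc X = X * (P : Matrix (Fin 3) (Fin 3) F) *
          ((P⁻¹ : GL (Fin 3) F) : Matrix (Fin 3) (Fin 3) F) := by
          rw [Matrix.mul_assoc, e2, Matrix.mul_one]
      _ = μ • (1 : Matrix (Fin 3) (Fin 3) F) := by
          rw [hXP, Matrix.smul_mul, e2]
  have hcase : (d 0 = μ ∧ d 1 = -μ ∧ d 2 = -μ) ∨ (d 0 = -μ ∧ d 1 = μ ∧ d 2 = -μ) ∨
      (d 0 = -μ ∧ d 1 = -μ ∧ d 2 = μ) := by
    rcases hd' 0 with h0 | h0 <;> rcases hd' 1 with h1 | h1 <;> rcases hd' 2 with h2' | h2' <;>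
      first
        | exact Or.inl ⟨h0, h1, h2'⟩
        | exact Or.inr (Or.inl ⟨h0, h1, h2'⟩)
        | exact Or.inr (Or.inr ⟨h0, h1, h2'⟩)
        | (exfalso
           rw [h0, h1, h2'] at hprod
           exact h2 (by linear_combination (-1 : F) * hμ3 - hprod))
        | exact absurd ⟨h0, h1, h2'⟩ hscal
  obtain ⟨P', hP'U, hJP'⟩ := exists_J3_ubasis hF h2 μ hcase
  have hΦ : (Q * (μ • J3 F) * Qi) * ((qg * P' : GL (Fin 3) F) : Matrix (Fin 3) (Fin 3) F) =
      ((qg * P' : GL (Fin 3) F) : Matrix (Fin 3) (Fin 3) F) * Matrix.diagonal d := by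
    rw [Units.val_mul, hqgm]
    simp only [Matrix.mul_assoc, cancel_QiQ hf.hQ']
    rw [hJP']
  obtain ⟨G, hGU, hGdet, hGX⟩ :=
    uconj hF hP hXP ((Cfsg.GU 3 F q).mul_mem hqg hP'U) hΦ
  have hJJ : (μ • J3 F) * (μ⁻¹ • J3 F) = 1 := by
    rw [Matrix.smul_mul, Matrix.mul_smul, smul_smul, mul_inv_cancel₀ hμ0, one_smul, J3_mul_J3]
  rw [hX] at hGX
  refine finishU hf hGU hGdet hGX hJJ ?_ ?_
  · have e : (μ • J3 F) * Matrix.diagonal ![1, γ, γ * γ] * (μ⁻¹ • J3 F) =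
        Matrix.diagonal ![1, γ, γ * γ] * Matrix.diagonal ![1, γ, γ * γ] := by
      rw [Matrix.smul_mul, Matrix.smul_mul, Matrix.mul_smul, smul_smul, mul_inv_cancel₀ hμ0,
        one_smul, J3_D_J3 hf.hγ3]
    rw [e]; exact InR.mul hf.hQ' hf.hd hf.hd
  · have e : (μ • J3 F) * S3 F * (μ⁻¹ • J3 F) = S3 F * S3 F := by
      rw [Matrix.smul_mul, Matrix.smul_mul, Matrix.mul_smul, smul_smul, mul_inv_cancel₀ hμ0,
        one_smul, J3_S3_J3]
    rw [e]; exact InR.mul hf.hQ' hf.hs hf.hs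

/-- elements of order 3 of `PSU_3(p)`, `p ≡ 8 (mod 9)`, are conjugate into the normaliser -/
theorem conj_three_U (hF : Fintype.card F = q ^ 2) (h2 : (2 : F) ≠ 0) (h3 : (3 : F) ≠ 0)
    (h9q : 9 ∣ q + 1) (h9 : 9 ∣ Fintype.card F - 1)
    (hf : Frame R Q Qi γ) {qg : GL (Fin 3) F} (hqg : qg ∈ Cfsg.GU 3 F q)
    (hqgm : (qg : Matrix (Fin 3) (Fin 3) F) = Q) {x : GL (Fin 3) F}
    (hx : x ∈ Cfsg.GU 3 F q ⊓ Cfsg.Geo.specialLinear (Fin 3) F) {z : F}
    (hz : ((x ^ 3 : GL (Fin 3) F) : Matrix (Fin 3) (Fin 3) F) =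
      z • (1 : Matrix (Fin 3) (Fin 3) F)) :
    ∃ g ∈ Cfsg.GU 3 F q ⊓ Cfsg.Geo.specialLinear (Fin 3) F,
      g⁻¹ * x * g ∈ Cfsg.Geo.subgroupNormalizer R := by
  have hxU : x ∈ Cfsg.GU 3 F q := (Subgroup.mem_inf.mp hx).1
  have hxS : x ∈ Cfsg.Geo.specialLinear (Fin 3) F := (Subgroup.mem_inf.mp hx).2
  have h3q : 3 ∣ q + 1 := dvd_trans (by norm_num) h9q
  obtain ⟨X, hX⟩ : ∃ X : Matrix (Fin 3) (Fin 3) F,
      X = (x : Matrix (Fin 3) (Fin 3) F) := ⟨_, rfl⟩
  have hXu : ∀ u v, Cfsg.hermForm 3 F q (X *ᵥ u) (X *ᵥ v) = Cfsg.hermForm 3 F q u v := by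
    intro u v
    rw [hX]
    exact hxU u v
  have hdet : X.det = 1 := by rw [hX]; exact (mem_SL_iff x).mp hxS
  have hXXX : X * X * X = z • (1 : Matrix (Fin 3) (Fin 3) F) := by
    rw [hX, ← hz, Units.val_pow_eq_pow_val, pow_succ, pow_two]
  have hz3 : z * z * z = 1 := by
    have h := congrArg Matrix.det hXXX
    rw [Matrix.det_mul, Matrix.det_mul, hdet, one_mul, one_mul, Matrix.det_smul, Matrix.det_one,
      mul_one, Fintype.card_fin, pow_succ, pow_two] at h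
    exact h.symm
  obtain ⟨η, hη9, hη3⟩ := Cfsg.Agent.Helper2.Singer.exists_eta h9
  have hηn : η ^ (q + 1) = 1 := by
    obtain ⟨m, hm⟩ := h9q
    rw [hm, pow_mul, hη9, one_pow]
  obtain ⟨e, he, hen⟩ : ∃ e : F, e * e * e = z ∧ e ^ (q + 1) = 1 := by
    have hζ3 : η ^ 3 * η ^ 3 * η ^ 3 = 1 := by rw [← hη9]; ring
    rcases mu3_cases hη3 hζ3 hz3 with h | h | h
    · exact ⟨1, by rw [h]; ring, one_pow _⟩
    · exact ⟨η, by rw [h]; ring, hηn⟩
    · exact ⟨η * η, by rw [h]; ring, by rw [mul_pow, hηn, one_mul]⟩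
  have he0 : e ≠ 0 := by
    intro h
    have hz0 : z = 0 := by rw [← he, h]; ring
    rw [hz0] at hz3
    simp at hz3
  obtain ⟨X1, hX1⟩ : ∃ X1 : Matrix (Fin 3) (Fin 3) F, X1 = e⁻¹ • X := ⟨_, rfl⟩
  have hX1c : X1 * X1 * X1 = 1 := by
    rw [hX1]
    simp only [Matrix.smul_mul, Matrix.mul_smul, smul_smul]
    rw [hXXX, smul_smul]
    convert one_smul F (1 : Matrix (Fin 3) (Fin 3) F) using 2
    rw [← he]
    field_simp
  have hXe : X = e • X1 := by rw [hX1, smul_smul, mul_inv_cancel₀ he0, one_smul]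
  obtain ⟨mu, hmu⟩ : ∃ mu : Fin 3 → F, mu = ![1, γ, γ * γ] := ⟨_, rfl⟩
  have hmu3 : ∀ k, mu k * mu k * mu k = 1 := by
    intro k
    rw [hmu]
    fin_cases k
    · show (1 : F) * 1 * 1 = 1
      ring
    · exact hf.hγ3
    · show (γ * γ) * (γ * γ) * (γ * γ) = 1
      linear_combination (γ * γ * γ + 1) * hf.hγ3
  obtain ⟨E, hE⟩ : ∃ E : Fin 3 → Matrix (Fin 3) (Fin 3) F, E = fun k =>
      (3 : F)⁻¹ • (1 + mu k • X1 + (mu k * mu k) • (X1 * X1)) := ⟨_, rfl⟩
  have hEe : ∀ k, X * E k = (e * (mu k * mu k)) • E k := by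
    intro k
    rw [hE]
    show X * ((3 : F)⁻¹ • (1 + mu k • X1 + (mu k * mu k) • (X1 * X1))) =
      (e * (mu k * mu k)) • ((3 : F)⁻¹ • (1 + mu k • X1 + (mu k * mu k) • (X1 * X1)))
    rw [Matrix.mul_smul, hXe, Matrix.smul_mul,
      Cfsg.Agent.Helper2.Singer.proj_eig hX1c (hmu3 k)]
    simp only [smul_smul]
    congr 1
    ring
  have hq := quad_of_cube hf.hγ1 hf.hγ3
  have e4 : (γ * γ) * (γ * γ) = γ := by linear_combination γ * hf.hγ3
  have hsum : ∑ k, E k = 1 := by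
    rw [Fin.sum_univ_three, hE, hmu]
    show (3 : F)⁻¹ • (1 + (1 : F) • X1 + ((1 : F) * 1) • (X1 * X1)) +
      (3 : F)⁻¹ • (1 + γ • X1 + (γ * γ) • (X1 * X1)) +
      (3 : F)⁻¹ • (1 + (γ * γ) • X1 + ((γ * γ) * (γ * γ)) • (X1 * X1)) = 1
    rw [e4]
    have h5 : (3 : F)⁻¹ • (1 + (1 : F) • X1 + ((1 : F) * 1) • (X1 * X1)) +
        (3 : F)⁻¹ • (1 + γ • X1 + (γ * γ) • (X1 * X1)) +
        (3 : F)⁻¹ • (1 + (γ * γ) • X1 + γ • (X1 * X1)) =
        ((3 : F)⁻¹ * 3) • (1 : Matrix (Fin 3) (Fin 3) F) +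
          ((3 : F)⁻¹ * (1 + γ + γ * γ)) • X1 + ((3 : F)⁻¹ * (1 + γ + γ * γ)) • (X1 * X1) := by
      module
    rw [h5, hq, mul_zero, zero_smul, zero_smul, add_zero, add_zero, inv_mul_cancel₀ h3,
      one_smul]
  have hlamI : Function.Injective (fun k => e * (mu k * mu k)) := by
    have hν : (fun k => mu k * mu k) = ![1, γ * γ, γ] := by
      funext k
      rw [hmu]
      fin_cases k
      · show (1 : F) * 1 = 1
        ring
      · rfl
      · exact e4
    have hγ0 : γ ≠ 0 := by intro h; have := hf.hγ3; rw [h] at this; simp at this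
    have d01 : (1 : F) ≠ γ * γ := fun h => hf.hγ1 (by linear_combination hf.hγ3 + γ * h)
    have d02 : (1 : F) ≠ γ := fun h => hf.hγ1 h.symm
    have d12 : γ * γ ≠ γ := fun h =>
      hf.hγ1 (mul_left_cancel₀ hγ0 (by rw [mul_one]; exact h))
    intro i j hij
    have h' : (fun k => mu k * mu k) i = (fun k => mu k * mu k) j := mul_left_cancel₀ he0 hij
    rw [hν] at h'
    fin_cases i <;> fin_cases j <;>
      first
        | rfl
        | exact absurd h' d01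
        | exact absurd h'.symm d01
        | exact absurd h' d02
        | exact absurd h'.symm d02
        | exact absurd h' d12
        | exact absurd h'.symm d12
  have hlamN : ∀ k, (fun k => e * (mu k * mu k)) k ^ (q + 1) = 1 := by
    intro k
    show (e * (mu k * mu k)) ^ (q + 1) = 1
    rw [mul_pow, mul_pow, hen, pow_norm_of_cube (hmu3 k) h3q, one_mul, one_mul]
  obtain ⟨P, d, hP, hXP, hd⟩ :=
    exists_udiag hF h2 hXu E (fun k => e * (mu k * mu k)) hEe hsum hlamI hlamN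
  have hPd : (P : Matrix (Fin 3) (Fin 3) F).det ≠ 0 := det_GL_ne_zero P
  have hd3 : ∀ j, d j * d j * d j = z := by
    intro j
    obtain ⟨k, hk⟩ := hd j
    rw [hk, ← he]
    linear_combination (e * e * e) * (mu k * mu k * mu k + 1) * hmu3 k
  have hz0 : z ≠ 0 := by intro h; rw [h] at hz3; simp at hz3
  have hd0 : ∀ j, d j ≠ 0 := by
    intro j h
    have h4 := hd3 j
    rw [h] at h4
    apply hz0
    rw [← h4]; ring
  have hprod : d 0 * d 1 * d 2 = 1 := by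
    have h := congrArg Matrix.det hXP
    rw [Matrix.det_mul, Matrix.det_mul, Matrix.det_diagonal, Fin.prod_univ_three, hdet,
      one_mul] at h
    have h5 : (P : Matrix (Fin 3) (Fin 3) F).det * (d 0 * d 1 * d 2) =
        (P : Matrix (Fin 3) (Fin 3) F).det * 1 := by rw [mul_one]; exact h.symm
    exact mul_left_cancel₀ hPd h5
  have hΦ : (Q * Matrix.diagonal d * Qi) * (qg : Matrix (Fin 3) (Fin 3) F) =
      (qg : Matrix (Fin 3) (Fin 3) F) * Matrix.diagonal d := by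
    rw [hqgm, Matrix.mul_assoc _ Qi Q, hf.hQ', Matrix.mul_one]
  obtain ⟨G, hGU, hGdet, hGX⟩ := uconj hF hP hXP hqg hΦ
  have hY : Matrix.diagonal d * Matrix.diagonal (fun j => (d j)⁻¹) = 1 := by
    rw [Matrix.diagonal_mul_diagonal, ← Matrix.diagonal_one]
    congr 1
    funext j
    exact mul_inv_cancel₀ (hd0 j)
  have hcube : ∀ i j, (d i * (d j)⁻¹) * (d i * (d j)⁻¹) * (d i * (d j)⁻¹) = 1 := by
    intro i j
    have hj := hd0 j
    field_simp
    linear_combination hd3 i - hd3 j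
  rw [hX] at hGX
  refine finishU hf hGU hGdet hGX hY ?_ ?_
  · have e1 : Matrix.diagonal d * Matrix.diagonal ![1, γ, γ * γ] *
        Matrix.diagonal (fun j => (d j)⁻¹) = Matrix.diagonal ![1, γ, γ * γ] := by
      rw [Matrix.diagonal_mul_diagonal, Matrix.diagonal_mul_diagonal]
      congr 1
      funext j
      rw [mul_comm (d j), mul_assoc, mul_inv_cancel₀ (hd0 j), mul_one]
    rw [e1]; exact hf.hd
  · have e2 : Matrix.diagonal d * S3 F * Matrix.diagonal (fun j => (d j)⁻¹) =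
        Matrix.diagonal ![d 0 * (d 2)⁻¹, d 1 * (d 0)⁻¹, d 2 * (d 1)⁻¹] * S3 F := by
      ext i j
      rw [Matrix.mul_diagonal, Matrix.diagonal_mul, Matrix.diagonal_mul]
      fin_cases i <;> fin_cases j <;> simp [S3]
    rw [e2]
    refine InR.mul hf.hQ' (hf.diag ?_ ?_) hf.hs
    · intro i
      fin_cases i
      · exact hcube 0 2
      · exact hcube 1 0
      · exact hcube 2 1
    · show d 0 * (d 2)⁻¹ * (d 1 * (d 0)⁻¹) * (d 2 * (d 1)⁻¹) = 1
      have h0 := hd0 0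
      have h1 := hd0 1
      have h2 := hd0 2
      field_simp

end Cfsg.Agent.Helper2.Extra3
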