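import Mathlib
import Cfsg.Prelude.Def_Classical
import Cfsg.Prelude.Def_KGroupFacts
import Cfsg.Agent.Helper3.ES2Iso
import Cfsg.Agent.Helper3.ES2Rank
import Cfsg.Agent.Helper9.PlA

set_option autoImplicit false

namespace Cfsg.Agent.Helper2.ExM

open Cfsg.Agent.Helper3
open Matrix

variable {ι : Type} [Fintype ι] [DecidableEq ι]

/-- bilinear forms on `ι → ZMod 2` -/
abbrev BF (ι : Type) := (ι → ZMod 2) →ₗ[ZMod 2] (ι → ZMod 2) →ₗ[ZMod 2] ZMod 2

/-- the model group `W × ZMod 2` with cocycle `β` -/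
@[ext] structure MG (β : BF ι) where
  v : ι → ZMod 2
  a : ZMod 2

variable (β : BF ι)

instance : Mul (MG β) := ⟨fun x y => ⟨x.v + y.v, x.a + y.a + β x.v y.v⟩⟩
instance : One (MG β) := ⟨⟨0, 0⟩⟩
instance : Inv (MG β) := ⟨fun x => ⟨-x.v, -x.a + β x.v x.v⟩⟩

instance : Group (MG β) where
  mul_assoc x y z := by
    apply MG.ext
    · show x.v + y.v + z.v = x.v + (y.v + z.v)
      exact add_assoc _ _ _
    · show x.a + y.a + β x.v y.v + z.a + β (x.v + y.v) z.v =
        x.a + (y.a + z.a + β y.v z.v) + β x.v (y.v + z.v)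
      rw [map_add, LinearMap.add_apply, map_add]; ring
  one_mul x := by
    apply MG.ext
    · show 0 + x.v = x.v
      exact zero_add _
    · show 0 + x.a + β 0 x.v = x.a
      rw [map_zero, LinearMap.zero_apply]; ring
  mul_one x := by
    apply MG.ext
    · show x.v + 0 = x.v
      exact add_zero _
    · show x.a + 0 + β x.v 0 = x.a
      rw [map_zero]; ring
  inv_mul_cancel x := by
    apply MG.ext
    · show -x.v + x.v = 0
      exact neg_add_cancel _
    · show -x.a + β x.v x.v + x.a + β (-x.v) x.v = 0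
      rw [map_neg, LinearMap.neg_apply]; ring

@[simp] theorem mul_v (x y : MG β) : (x * y).v = x.v + y.v := rfl
@[simp] theorem mul_a (x y : MG β) : (x * y).a = x.a + y.a + β x.v y.v := rfl
@[simp] theorem one_v : (1 : MG β).v = 0 := rfl
@[simp] theorem one_a : (1 : MG β).a = 0 := rfl
@[simp] theorem inv_v (x : MG β) : (x⁻¹).v = -x.v := rfl
@[simp] theorem inv_a (x : MG β) : (x⁻¹).a = -x.a + β x.v x.v := rfl

def equivProd : MG β ≃ (ι → ZMod 2) × ZMod 2 where
  toFun x := (x.v, x.a)
  invFun p := ⟨p.1, p.2⟩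
  left_inv _ := rfl
  right_inv _ := rfl

instance : Finite (MG β) := Finite.of_equiv _ (equivProd β).symm

theorem card_MG : Nat.card (MG β) = 2 ^ (Fintype.card ι + 1) := by
  rw [Nat.card_congr (equivProd β), Nat.card_prod, Nat.card_eq_fintype_card,
    Nat.card_eq_fintype_card, Fintype.card_fun, ZMod.card, pow_succ]

theorem z2_cases : ∀ a : ZMod 2, a = 0 ∨ a = 1 := by decide
theorem z2_two : (2 : ZMod 2) = 0 := by decide
theorem z2_add_self (a : ZMod 2) : a + a = 0 := by
  rcases z2_cases a with rfl | rfl <;> decide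
theorem z2_eq_of_add {a b : ZMod 2} (h : a + b = 0) : a = b := by
  rcases z2_cases a with rfl | rfl <;> rcases z2_cases b with rfl | rfl <;> revert h <;> decide
theorem z2_neg (a : ZMod 2) : -a = a := by
  rcases z2_cases a with rfl | rfl <;> decide
theorem vec_add_self (v : ι → ZMod 2) : v + v = 0 := by
  funext i; exact z2_add_self _
theorem vec_neg (v : ι → ZMod 2) : -v = v := by
  funext i; exact z2_neg _

/-- the central element -/
def cz (a : ZMod 2) : MG β := ⟨0, a⟩
def zz : MG β := cz β 1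

theorem cz_zero : cz β 0 = 1 := rfl

theorem sq_eq (x : MG β) : x ^ 2 = cz β (β x.v x.v) := by
  rw [pow_two]
  apply MG.ext
  · show x.v + x.v = 0
    exact vec_add_self _
  · show x.a + x.a + β x.v x.v = β x.v x.v
    rw [z2_add_self, zero_add]

theorem decomp (x : MG β) : x = (⟨x.v, 0⟩ : MG β) * cz β x.a := by
  apply MG.ext
  · show x.v = x.v + 0
    rw [add_zero]
  · show x.a = 0 + x.a + β x.v 0
    rw [map_zero]; ring

/-- nondegeneracy of the polar form -/
def Nondeg (β : BF ι) : Prop := ∀ v : ι → ZMod 2, v ≠ 0 → ∃ w, β v w + β w v ≠ 0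

theorem es2 (hnd : Nondeg β) (hne : ∃ v : ι → ZMod 2, v ≠ 0) : ES2 (MG β) (zz β) where
  ne_one := by
    intro h
    have h1 : (1 : ZMod 2) = 0 := congrArg MG.a h
    exact absurd h1 (by decide)
  central g := by
    apply MG.ext
    · show g.v + 0 = 0 + g.v
      rw [add_zero, zero_add]
    · show g.a + 1 + β g.v 0 = 1 + g.a + β 0 g.v
      rw [map_zero, map_zero, LinearMap.zero_apply]; ring
  center_sub g hg := by
    have hv : g.v = 0 := by
      by_contra hne'
      obtain ⟨w, hw⟩ := hnd g.v hne'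
      have h1 := congrArg MG.a (hg ⟨w, 0⟩)
      simp only [mul_a] at h1
      apply hw
      have h2 : β g.v w = β w g.v := by linear_combination h1
      rw [h2]; exact z2_add_self _
    rcases z2_cases g.a with ha | ha
    · left
      apply MG.ext
      · exact hv
      · exact ha
    · right
      apply MG.ext
      · exact hv
      · exact ha
  sq x := by
    rw [sq_eq]
    rcases z2_cases (β x.v x.v) with h | h
    · left; rw [h]; rfl
    · right; rw [h]; rfl
  comm x y := by
    rcases z2_cases (β x.v y.v + β y.v x.v) with h | h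
    · left
      apply MG.ext
      · show x.v + y.v = y.v + x.v
        exact add_comm _ _
      · show x.a + y.a + β x.v y.v = y.a + x.a + β y.v x.v
        have := z2_eq_of_add h
        rw [this]; ring
    · right
      apply MG.ext
      · show x.v + y.v = y.v + x.v + 0
        rw [add_zero, add_comm]
      · show x.a + y.a + β x.v y.v = y.a + x.a + β y.v x.v + 1 + β (y.v + x.v) 0
        rw [map_zero]
        have h2 : β x.v y.v = 1 + β y.v x.v := by
          have h3 := z2_add_self (β y.v x.v)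
          linear_combination h - h3
        rw [h2]; ring
  nonab := by
    obtain ⟨v, hv⟩ := hne
    obtain ⟨w, hw⟩ := hnd v hv
    refine ⟨⟨v, 0⟩, ⟨w, 0⟩, ?_⟩
    intro h
    have h1 := congrArg MG.a h
    simp only [mul_a] at h1
    apply hw
    have h2 : β v w = β w v := by linear_combination h1
    rw [h2]; exact z2_add_self _

theorem jj_MG : ES2.jj (MG β) = 2 * Nat.card {v : ι → ZMod 2 // β v v = 0} := by
  unfold ES2.jj
  have e : {u : MG β // u ^ 2 = 1} ≃ {v : ι → ZMod 2 // β v v = 0} × ZMod 2 :=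
    { toFun := fun u => (⟨u.1.v, by
        have := u.2
        rw [sq_eq] at this
        exact congrArg MG.a this⟩, u.1.a)
      invFun := fun p => ⟨⟨p.1.1, p.2⟩, by
        rw [sq_eq]
        apply MG.ext
        · rfl
        · exact p.1.2⟩
      left_inv := fun u => rfl
      right_inv := fun p => rfl }
  rw [Nat.card_congr e, Nat.card_prod, Nat.card_eq_fintype_card (α := ZMod 2), ZMod.card, mul_comm]

/-! ### automorphisms -/

section aut
variable {β}
variable (hES : ES2 (MG β) (zz β))
include hES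

theorem aut_cz (φ : MulAut (MG β)) (a : ZMod 2) : φ (cz β a) = cz β a := by
  rcases z2_cases a with rfl | rfl
  · rw [cz_zero, map_one]
  · exact hES.map_z hES φ

theorem aut_v (φ : MulAut (MG β)) (x : MG β) : (φ x).v = (φ ⟨x.v, 0⟩).v := by
  conv_lhs => rw [decomp β x, map_mul, aut_cz hES]
  show (φ ⟨x.v, 0⟩).v + 0 = _
  rw [add_zero]

theorem aut_a (φ : MulAut (MG β)) (x : MG β) : (φ x).a = (φ ⟨x.v, 0⟩).a + x.a := by
  conv_lhs => rw [decomp β x, map_mul, aut_cz hES]
  show (φ ⟨x.v, 0⟩).a + x.a + β (φ ⟨x.v, 0⟩).v 0 = _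
  rw [map_zero, add_zero]

theorem aut_add (φ : MulAut (MG β)) (v w : ι → ZMod 2) :
    (φ ⟨v + w, 0⟩).v = (φ ⟨v, 0⟩).v + (φ ⟨w, 0⟩).v := by
  have h1 : (φ ((⟨v, 0⟩ : MG β) * ⟨w, 0⟩)).v = (φ ⟨v, 0⟩).v + (φ ⟨w, 0⟩).v := by
    rw [map_mul]; rfl
  rw [aut_v hES] at h1
  exact h1

/-- the linear map induced on `W` -/
noncomputable def linOf (φ : MulAut (MG β)) : (ι → ZMod 2) →ₗ[ZMod 2] (ι → ZMod 2) :=
  (AddMonoidHom.mk' (fun v => (φ ⟨v, 0⟩).v) (aut_add hES φ)).toZModLinearMap 2

theorem linOf_apply (φ : MulAut (MG β)) (v : ι → ZMod 2) : linOf hES φ v = (φ ⟨v, 0⟩).v := rfl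

theorem linOf_one : linOf hES (1 : MulAut (MG β)) = LinearMap.id := by
  apply LinearMap.ext
  intro v
  rw [linOf_apply]; rfl

theorem linOf_mul (φ ψ : MulAut (MG β)) :
    linOf hES (φ * ψ) = (linOf hES φ).comp (linOf hES ψ) := by
  apply LinearMap.ext
  intro v
  rw [LinearMap.comp_apply, linOf_apply, linOf_apply, linOf_apply, MulAut.mul_apply,
    aut_v hES φ]

theorem linOf_pres (φ : MulAut (MG β)) (v : ι → ZMod 2) :
    β (linOf hES φ v) (linOf hES φ v) = β v v := by
  have h1 : φ ((⟨v, 0⟩ : MG β) ^ 2) = (φ ⟨v, 0⟩) ^ 2 := map_pow φ _ 2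
  rw [sq_eq, sq_eq, aut_cz hES] at h1
  have h2 := congrArg MG.a h1
  exact h2.symm

/-- the matrix of an automorphism -/
noncomputable def matHom : MulAut (MG β) →* Matrix ι ι (ZMod 2) where
  toFun φ := LinearMap.toMatrix' (linOf hES φ)
  map_one' := by rw [linOf_one]; exact LinearMap.toMatrix'_id
  map_mul' φ ψ := by rw [linOf_mul]; exact LinearMap.toMatrix'_comp _ _

noncomputable def glHom : MulAut (MG β) →* Matrix.GeneralLinearGroup ι (ZMod 2) :=
  (matHom hES).toHomUnits

theorem glHom_coe (φ : MulAut (MG β)) :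
    ((glHom hES φ : Matrix.GeneralLinearGroup ι (ZMod 2)) : Matrix ι ι (ZMod 2)) =
      LinearMap.toMatrix' (linOf hES φ) := rfl

end aut

theorem mem_iso_iff (Q : (ι → ZMod 2) → ZMod 2) (g : Matrix.GeneralLinearGroup ι (ZMod 2)) :
    g ∈ Cfsg.isometryGroup (ZMod 2) Q ↔
      ∀ u, Q ((g : Matrix ι ι (ZMod 2)) *ᵥ u) = Q u := by
  constructor
  · intro h u; exact h u u
  · intro h u _; exact h u

section main
variable {β}
variable (hES : ES2 (MG β) (zz β))
  (Q : (ι → ZMod 2) → ZMod 2) (hQ : ∀ v, Q v = β v v)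
include hES hQ

/-- the hom to the isometry group -/
noncomputable def isoHom : MulAut (MG β) →* Cfsg.isometryGroup (ZMod 2) Q :=
  (glHom hES).codRestrict _ (fun φ => by
    rw [mem_iso_iff]
    intro u
    rw [glHom_coe, LinearMap.toMatrix'_mulVec, hQ, hQ, linOf_pres])

theorem isoHom_eq_one_iff (φ : MulAut (MG β)) :
    isoHom hES Q hQ φ = 1 ↔ linOf hES φ = LinearMap.id := by
  constructor
  · intro h
    have h1 : ((isoHom hES Q hQ φ : Cfsg.isometryGroup (ZMod 2) Q) :
        Matrix.GeneralLinearGroup ι (ZMod 2)) = 1 := by rw [h]; rfl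
    have h2 : LinearMap.toMatrix' (linOf hES φ) = 1 := by
      have := congrArg (fun g : Matrix.GeneralLinearGroup ι (ZMod 2) =>
        (g : Matrix ι ι (ZMod 2))) h1
      exact this
    apply LinearMap.toMatrix'.injective
    rw [h2, LinearMap.toMatrix'_id]
  · intro h
    apply Subtype.ext
    apply Units.ext
    show LinearMap.toMatrix' (linOf hES φ) = 1
    rw [h, LinearMap.toMatrix'_id]

theorem ker_eq_inn (hnd : Nondeg β) : (isoHom hES Q hQ).ker = Cfsg.Inn (MG β) := by
  ext φ
  rw [MonoidHom.mem_ker, isoHom_eq_one_iff]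
  constructor
  · intro h
    have hv : ∀ v, (φ ⟨v, 0⟩).v = v := by
      intro v
      have := LinearMap.congr_fun h v
      rwa [linOf_apply] at this
    -- the additive functional
    have hadd : ∀ v w : ι → ZMod 2, (φ ⟨v + w, 0⟩).a = (φ ⟨v, 0⟩).a + (φ ⟨w, 0⟩).a := by
      intro v w
      have h1 : (φ ((⟨v, 0⟩ : MG β) * ⟨w, 0⟩)).a =
          (φ ⟨v, 0⟩).a + (φ ⟨w, 0⟩).a + β (φ ⟨v, 0⟩).v (φ ⟨w, 0⟩).v := by
        rw [map_mul]; rfl
      rw [aut_a hES, hv, hv] at h1
      have h2 : ((⟨v, 0⟩ : MG β) * ⟨w, 0⟩).v = v + w := rfl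
      have h3 : ((⟨v, 0⟩ : MG β) * ⟨w, 0⟩).a = β v w := by
        show (0 : ZMod 2) + 0 + β v w = β v w
        ring
      rw [h2, h3] at h1
      linear_combination h1
    let lam : (ι → ZMod 2) →ₗ[ZMod 2] ZMod 2 :=
      (AddMonoidHom.mk' (fun v => (φ ⟨v, 0⟩).a) hadd).toZModLinearMap 2
    let Bmap : (ι → ZMod 2) →ₗ[ZMod 2] Module.Dual (ZMod 2) (ι → ZMod 2) := β.flip + β
    have hinj : Function.Injective Bmap := by
      rw [← LinearMap.ker_eq_bot, LinearMap.ker_eq_bot']
      intro w hw
      by_contra hne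
      obtain ⟨u, hu⟩ := hnd w hne
      apply hu
      have := LinearMap.congr_fun hw u
      have h4 : Bmap w u = β u w + β w u := rfl
      rw [h4] at this
      rw [add_comm]; exact this
    have hsurj : Function.Surjective Bmap :=
      (LinearMap.injective_iff_surjective_of_finrank_eq_finrank
        (Subspace.dual_finrank_eq).symm).mp hinj
    obtain ⟨w₀, hw₀⟩ := hsurj lam
    have hlam : ∀ v, (φ ⟨v, 0⟩).a = β v w₀ + β w₀ v := by
      intro v
      have := LinearMap.congr_fun hw₀ v
      have h4 : Bmap w₀ v = β v w₀ + β w₀ v := rfl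
      rw [h4] at this
      exact this.symm
    refine ⟨⟨w₀, 0⟩, ?_⟩
    apply MulEquiv.ext
    intro x
    rw [MulAut.conj_apply]
    apply MG.ext
    · rw [aut_v hES, hv]
      show w₀ + x.v + -w₀ = x.v
      abel
    · rw [aut_a hES, hlam]
      show (0 : ZMod 2) + x.a + β w₀ x.v + (-0 + β w₀ w₀) + β (w₀ + x.v) (-w₀) = _
      rw [map_neg, map_add, LinearMap.add_apply]
      have h5 := z2_add_self (β x.v w₀)
      linear_combination -h5
  · rintro ⟨g, rfl⟩
    apply LinearMap.ext
    intro v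
    rw [linOf_apply, MulAut.conj_apply]
    show g.v + v + -g.v = v
    abel

theorem isoHom_surjective : Function.Surjective (isoHom hES Q hQ) := by
  classical
  rintro ⟨g, hg⟩
  rw [mem_iso_iff] at hg
  let L : (ι → ZMod 2) →ₗ[ZMod 2] (ι → ZMod 2) := Matrix.toLin' (g : Matrix ι ι (ZMod 2))
  have hL : ∀ u, L u = (g : Matrix ι ι (ZMod 2)) *ᵥ u := fun u => Matrix.toLin'_apply _ _
  have hLQ : ∀ u, β (L u) (L u) = β u u := by
    intro u
    rw [hL, ← hQ, ← hQ]; exact hg u
  have hLinj : Function.Injective L := by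
    intro u w huw
    have h1 : ((g⁻¹ : Matrix.GeneralLinearGroup ι (ZMod 2)) : Matrix ι ι (ZMod 2)) *ᵥ (L u) =
        ((g⁻¹ : Matrix.GeneralLinearGroup ι (ZMod 2)) : Matrix ι ι (ZMod 2)) *ᵥ (L w) := by
      rw [huw]
    rw [hL, hL, Matrix.mulVec_mulVec, Matrix.mulVec_mulVec] at h1
    have h2 : ((g⁻¹ : Matrix.GeneralLinearGroup ι (ZMod 2)) : Matrix ι ι (ZMod 2)) *
        (g : Matrix ι ι (ZMod 2)) = 1 := by
      rw [← Units.val_mul, inv_mul_cancel]; rfl
    rw [h2, Matrix.one_mulVec, Matrix.one_mulVec] at h1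
    exact h1
  -- the correction term
  let δ : BF ι := (β.compl₁₂ L L) + β
  have hδ : ∀ u v, δ u v = β (L u) (L v) + β u v := fun u v => rfl
  have hδ0 : ∀ u, δ u u = 0 := by
    intro u
    rw [hδ, hLQ]; exact z2_add_self _
  let _ : LinearOrder ι := LinearOrder.lift' (Fintype.equivFin ι) (Fintype.equivFin ι).injective
  obtain ⟨s, hs⟩ := Cfsg.Agent.Helper9.Pl.exists_quad δ hδ0
  have hs' : ∀ u v, s (u + v) + s u + s v = β (L u) (L v) + β u v := by
    intro u v; rw [hs, hδ]
  -- the automorphism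
  let f : MG β →* MG β :=
    { toFun := fun x => ⟨L x.v, x.a + s x.v⟩
      map_one' := by
        apply MG.ext
        · show L 0 = 0
          exact map_zero L
        · show (0 : ZMod 2) + s 0 = 0
          have h1 := hs' 0 0
          simp only [add_zero, map_zero, LinearMap.zero_apply] at h1
          have h2 := z2_add_self (s 0)
          linear_combination h1 - h2
      map_mul' := by
        intro x y
        apply MG.ext
        · show L (x.v + y.v) = L x.v + L y.v
          exact map_add L _ _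
        · show x.a + y.a + β x.v y.v + s (x.v + y.v) =
            x.a + s x.v + (y.a + s y.v) + β (L x.v) (L y.v)
          have h1 := hs' x.v y.v
          have h2 := z2_add_self (s x.v)
          have h3 := z2_add_self (s y.v)
          have h4 := z2_add_self (β x.v y.v)
          linear_combination h1 - h2 - h3 + h4 }
  have hfinj : Function.Injective f := by
    intro x y hxy
    have h1 : L x.v = L y.v := congrArg MG.v hxy
    have h2 : x.a + s x.v = y.a + s y.v := congrArg MG.a hxy
    have h3 := hLinj h1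
    apply MG.ext
    · exact h3
    · rw [h3] at h2
      exact add_right_cancel h2
  have hfbij : Function.Bijective f := Finite.injective_iff_bijective.mp hfinj
  let φ : MulAut (MG β) := MulEquiv.ofBijective f hfbij
  refine ⟨φ, ?_⟩
  apply Subtype.ext
  apply Units.ext
  show LinearMap.toMatrix' (linOf hES φ) = (g : Matrix ι ι (ZMod 2))
  have h1 : linOf hES φ = L := by
    apply LinearMap.ext
    intro v
    rw [linOf_apply]
    rfl
  rw [h1]
  exact LinearMap.toMatrix'_toLin' _

/-- `Out` of the model group is the isometry group. -/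
theorem out_equiv (hnd : Nondeg β) : Nonempty (Cfsg.Out (MG β) ≃* Cfsg.isometryGroup (ZMod 2) Q) := by
  have e1 := QuotientGroup.quotientKerEquivOfSurjective (isoHom hES Q hQ)
    (isoHom_surjective hES Q hQ)
  have e2 := QuotientGroup.quotientMulEquivOfEq (ker_eq_inn hES Q hQ hnd)
  exact ⟨e2.symm.trans e1⟩

end main

/-- transport of `Out` along an isomorphism -/
theorem out_congr {G H : Type*} [Group G] [Group H] (e : G ≃* H) :
    Nonempty (Cfsg.Out G ≃* Cfsg.Out H) := by
  refine ⟨QuotientGroup.congr (Cfsg.Inn G) (Cfsg.Inn H) (MulAut.congr e) ?_⟩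
  ext ψ
  constructor
  · rintro ⟨φ, ⟨g, rfl⟩, rfl⟩
    refine ⟨e g, ?_⟩
    apply MulEquiv.ext
    intro x
    simp [MulAut.congr, MulAut.conj_apply]
  · rintro ⟨h, rfl⟩
    refine ⟨MulAut.conj (e.symm h), ⟨e.symm h, rfl⟩, ?_⟩
    apply MulEquiv.ext
    intro x
    simp [MulAut.congr, MulAut.conj_apply]

end Cfsg.Agent.Helper2.ExM
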