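import Cfsg.Agent.Helper2.ExtraModel

set_option autoImplicit false

namespace Cfsg.Agent.Helper2.ExM

open Cfsg.Agent.Helper3
open Matrix

/-! ### the plus form -/

/-- the bilinear form `Σ x_i y_i'` -/
noncomputable def βp (n : ℕ) : BF (Fin n ⊕ Fin n) :=
  LinearMap.mk₂ (ZMod 2) (fun v w => ∑ i : Fin n, v (.inl i) * w (.inr i))
    (by intro v v' w; simp [add_mul, Finset.sum_add_distrib])
    (by intro c v w; simp [Finset.mul_sum, mul_assoc])
    (by intro v w w'; simp [mul_add, Finset.sum_add_distrib])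
    (by intro c v w; simp [Finset.mul_sum, mul_left_comm])

theorem βp_apply (n : ℕ) (v w : Fin n ⊕ Fin n → ZMod 2) :
    βp n v w = ∑ i : Fin n, v (.inl i) * w (.inr i) := rfl

theorem quadPlus_eq (n : ℕ) (v : Fin n ⊕ Fin n → ZMod 2) :
    Cfsg.quadFormPlus n (ZMod 2) v = βp n v v := rfl

theorem nondeg_βp (n : ℕ) : Nondeg (βp n) := by
  intro v hv
  obtain ⟨j, hj⟩ := Function.ne_iff.mp hv
  rcases j with i | i
  · refine ⟨Pi.single (.inr i) 1, ?_⟩
    have h1 : βp n v (Pi.single (.inr i) 1) = v (.inl i) := by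
      rw [βp_apply, Finset.sum_eq_single i]
      · simp
      · intro k _ hk
        simp [Pi.single_apply, hk]
      · intro h; exact absurd (Finset.mem_univ i) h
    have h2 : βp n (Pi.single (.inr i) 1) v = 0 := by
      rw [βp_apply]
      apply Finset.sum_eq_zero
      intro k _
      simp [Pi.single_apply]
    rw [h1, h2, add_zero]
    exact hj
  · refine ⟨Pi.single (.inl i) 1, ?_⟩
    have h1 : βp n v (Pi.single (.inl i) 1) = 0 := by
      rw [βp_apply]
      apply Finset.sum_eq_zero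
      intro k _
      simp [Pi.single_apply]
    have h2 : βp n (Pi.single (.inl i) 1) v = v (.inr i) := by
      rw [βp_apply, Finset.sum_eq_single i]
      · simp
      · intro k _ hk
        simp [Pi.single_apply, hk]
      · intro h; exact absurd (Finset.mem_univ i) h
    rw [h1, h2, zero_add]
    exact hj

theorem exists_ne_zero_plus (n : ℕ) (hn : 1 ≤ n) : ∃ v : Fin n ⊕ Fin n → ZMod 2, v ≠ 0 := by
  refine ⟨Pi.single (.inl ⟨0, hn⟩) 1, ?_⟩
  intro h
  have := congrFun h (.inl ⟨0, hn⟩)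
  simp at this

theorem es2_plus (n : ℕ) (hn : 1 ≤ n) : ES2 (MG (βp n)) (zz (βp n)) :=
  es2 (βp n) (nondeg_βp n) (exists_ne_zero_plus n hn)

theorem card_plus (n : ℕ) : Nat.card (MG (βp n)) = 2 ^ (2 * n + 1) := by
  rw [card_MG, Fintype.card_sum, Fintype.card_fin, two_mul]

/-- the large elementary abelian subgroup of the plus model -/
def bigEA (n : ℕ) : Subgroup (MG (βp n)) where
  carrier := {x | ∀ i, x.v (.inr i) = 0}
  mul_mem' := by
    intro a b ha hb i
    show a.v (.inr i) + b.v (.inr i) = 0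
    rw [ha i, hb i, add_zero]
  one_mem' := fun i => rfl
  inv_mem' := by
    intro a ha i
    show -a.v (.inr i) = 0
    rw [ha i, neg_zero]

theorem βp_zero_of_mem (n : ℕ) (v w : Fin n ⊕ Fin n → ZMod 2) (hw : ∀ i, w (.inr i) = 0) :
    βp n v w = 0 := by
  rw [βp_apply]
  apply Finset.sum_eq_zero
  intro i _
  rw [hw i, mul_zero]

theorem bigEA_EA (n : ℕ) : ES2.EA (bigEA n) := by
  constructor
  · intro a ha b hb
    apply MG.ext
    · show a.v + b.v = b.v + a.v
      exact add_comm _ _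
    · show a.a + b.a + βp n a.v b.v = b.a + a.a + βp n b.v a.v
      rw [βp_zero_of_mem n _ _ hb, βp_zero_of_mem n _ _ ha]; ring
  · intro a ha
    apply MG.ext
    · show a.v + a.v = 0
      exact vec_add_self _
    · show a.a + a.a + βp n a.v a.v = 0
      rw [βp_zero_of_mem n _ _ ha, z2_add_self, add_zero]

theorem card_bigEA (n : ℕ) : Nat.card (bigEA n) = 2 ^ (n + 1) := by
  have e : bigEA n ≃ (Fin n → ZMod 2) × ZMod 2 :=
    { toFun := fun x => (fun i => x.1.v (.inl i), x.1.a)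
      invFun := fun p => ⟨⟨Sum.elim p.1 0, p.2⟩, fun i => rfl⟩
      left_inv := by
        rintro ⟨x, hx⟩
        apply Subtype.ext
        apply MG.ext
        · funext j
          rcases j with i | i
          · rfl
          · exact (hx i).symm
        · rfl
      right_inv := fun p => rfl }
  rw [Nat.card_congr e, Nat.card_prod, Nat.card_eq_fintype_card, Nat.card_eq_fintype_card,
    Fintype.card_fun, ZMod.card, Fintype.card_fin, pow_succ]

theorem jj_plus (n : ℕ) (hn : 1 ≤ n) : ES2.jj (MG (βp n)) = 2 ^ (2 * n) + 2 ^ n := by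
  have h := ES2.jj_of_large_ea (es2_plus n hn) (bigEA n) (bigEA_EA n) (by
    rw [card_bigEA, card_plus]; ring)
  rw [card_bigEA, card_plus] at h
  have h2 : (2 : ℤ) * (ES2.jj (MG (βp n)) : ℤ) = 2 * ((2 ^ (2 * n) + 2 ^ n : ℕ) : ℤ) := by
    push_cast
    have e1 : (2 : ℤ) ^ (2 * n + 1) = 2 * 2 ^ (2 * n) := by ring
    have e2 : (2 : ℤ) ^ (n + 1) = 2 * 2 ^ n := by ring
    push_cast at h
    linarith
  have h3 : (ES2.jj (MG (βp n)) : ℤ) = ((2 ^ (2 * n) + 2 ^ n : ℕ) : ℤ) := by linarith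
  exact_mod_cast h3

/-- number of zeros of the plus form -/
theorem zeros_plus (m : ℕ) :
    2 * Nat.card {u : Fin m ⊕ Fin m → ZMod 2 // βp m u u = 0} = 2 ^ (2 * m) + 2 ^ m := by
  rcases Nat.eq_zero_or_pos m with rfl | hm
  · have : Nat.card {u : Fin 0 ⊕ Fin 0 → ZMod 2 // βp 0 u u = 0} = 1 := by
      rw [Nat.card_eq_one_iff_unique]
      constructor
      · constructor
        rintro ⟨u, hu⟩ ⟨w, hw⟩
        apply Subtype.ext
        funext j
        rcases j with i | i <;> exact i.elim0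
      · exact ⟨⟨0, by rw [βp_apply]; simp⟩⟩
    rw [this]; norm_num
  · rw [← jj_MG, jj_plus m hm]

/-! ### the minus form -/

/-- the binary anisotropic part -/
def N2 (a b : ZMod 2) : ZMod 2 := a * a + a * b + b * b

/-- the bilinear form of the minus type -/
noncomputable def βm (m : ℕ) : BF ((Fin m ⊕ Fin m) ⊕ Fin 2) :=
  LinearMap.mk₂ (ZMod 2) (fun v w => (∑ i : Fin m, v (.inl (.inl i)) * w (.inl (.inr i))) +
      (v (.inr 0) * w (.inr 0) + v (.inr 0) * w (.inr 1) + v (.inr 1) * w (.inr 1)))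
    (by intro v v' w; simp [add_mul, Finset.sum_add_distrib]; ring)
    (by intro c v w
        simp only [Pi.smul_apply, smul_eq_mul, mul_add, Finset.mul_sum]
        congr 1
        · apply Finset.sum_congr rfl; intro i _; ring
        · ring)
    (by intro v w w'; simp [mul_add, Finset.sum_add_distrib]; ring)
    (by intro c v w
        simp only [Pi.smul_apply, smul_eq_mul, mul_add, Finset.mul_sum]
        congr 1
        · apply Finset.sum_congr rfl; intro i _; ring
        · ring)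

theorem βm_apply (m : ℕ) (v w : (Fin m ⊕ Fin m) ⊕ Fin 2 → ZMod 2) :
    βm m v w = (∑ i : Fin m, v (.inl (.inl i)) * w (.inl (.inr i))) +
      (v (.inr 0) * w (.inr 0) + v (.inr 0) * w (.inr 1) + v (.inr 1) * w (.inr 1)) := rfl

theorem βm_split (m : ℕ) (v : (Fin m ⊕ Fin m) ⊕ Fin 2 → ZMod 2) :
    βm m v v = βp m (v ∘ Sum.inl) (v ∘ Sum.inl) + N2 (v (.inr 0)) (v (.inr 1)) := rfl

theorem quadMinus_eq (m : ℕ) (v : (Fin m ⊕ Fin m) ⊕ Fin 2 → ZMod 2) :
    Cfsg.quadFormMinus m (ZMod 2) 1 1 v = βm m v v := by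
  rw [βm_apply]
  unfold Cfsg.quadFormMinus
  ring

theorem nondeg_βm (m : ℕ) : Nondeg (βm m) := by
  intro v hv
  obtain ⟨j, hj⟩ := Function.ne_iff.mp hv
  rcases j with (i | i) | j
  · refine ⟨Pi.single (.inl (.inr i)) 1, ?_⟩
    have h1 : βm m v (Pi.single (.inl (.inr i)) 1) = v (.inl (.inl i)) := by
      rw [βm_apply, Finset.sum_eq_single i]
      · simp
      · intro k _ hk
        simp [Pi.single_apply, hk]
      · intro h; exact absurd (Finset.mem_univ i) h
    have h2 : βm m (Pi.single (.inl (.inr i)) 1) v = 0 := by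
      rw [βm_apply]
      have : ∑ k : Fin m, (Pi.single (Sum.inl (Sum.inr i)) (1 : ZMod 2) :
          (Fin m ⊕ Fin m) ⊕ Fin 2 → ZMod 2) (.inl (.inl k)) * v (.inl (.inr k)) = 0 := by
        apply Finset.sum_eq_zero
        intro k _
        simp [Pi.single_apply]
      rw [this]
      simp [Pi.single_apply]
    rw [h1, h2, add_zero]
    exact hj
  · refine ⟨Pi.single (.inl (.inl i)) 1, ?_⟩
    have h1 : βm m v (Pi.single (.inl (.inl i)) 1) = 0 := by
      rw [βm_apply]
      have : ∑ k : Fin m, v (.inl (.inl k)) * (Pi.single (Sum.inl (Sum.inl i)) (1 : ZMod 2) :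
          (Fin m ⊕ Fin m) ⊕ Fin 2 → ZMod 2) (.inl (.inr k)) = 0 := by
        apply Finset.sum_eq_zero
        intro k _
        simp [Pi.single_apply]
      rw [this]
      simp [Pi.single_apply]
    have h2 : βm m (Pi.single (.inl (.inl i)) 1) v = v (.inl (.inr i)) := by
      rw [βm_apply, Finset.sum_eq_single i]
      · simp [Pi.single_apply]
      · intro k _ hk
        simp [Pi.single_apply, hk]
      · intro h; exact absurd (Finset.mem_univ i) h
    rw [h1, h2, zero_add]
    exact hj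
  · have hsum1 : ∀ (j' : Fin 2), ∑ k : Fin m, v (.inl (.inl k)) *
        (Pi.single (Sum.inr j') (1 : ZMod 2) : (Fin m ⊕ Fin m) ⊕ Fin 2 → ZMod 2)
          (.inl (.inr k)) = 0 := by
      intro j'
      apply Finset.sum_eq_zero
      intro k _
      simp [Pi.single_apply]
    have hsum2 : ∀ (j' : Fin 2), ∑ k : Fin m,
        (Pi.single (Sum.inr j') (1 : ZMod 2) : (Fin m ⊕ Fin m) ⊕ Fin 2 → ZMod 2)
          (.inl (.inl k)) * v (.inl (.inr k)) = 0 := by
      intro j'
      apply Finset.sum_eq_zero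
      intro k _
      simp [Pi.single_apply]
    fin_cases j
    · refine ⟨Pi.single (.inr 1) 1, ?_⟩
      rw [βm_apply, βm_apply, hsum1, hsum2]
      simp only [Pi.single_apply]
      simp
      have h5 := z2_add_self (v (.inr 1))
      intro h
      apply hj
      show v (.inr 0) = 0
      linear_combination h - h5
    · refine ⟨Pi.single (.inr 0) 1, ?_⟩
      rw [βm_apply, βm_apply, hsum1, hsum2]
      simp only [Pi.single_apply]
      simp
      have h5 := z2_add_self (v (.inr 0))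
      intro h
      apply hj
      show v (.inr 1) = 0
      linear_combination h - h5

theorem exists_ne_zero_minus (m : ℕ) : ∃ v : (Fin m ⊕ Fin m) ⊕ Fin 2 → ZMod 2, v ≠ 0 := by
  refine ⟨Pi.single (.inr 0) 1, ?_⟩
  intro h
  have := congrFun h (.inr 0)
  simp at this

theorem es2_minus (m : ℕ) : ES2 (MG (βm m)) (zz (βm m)) :=
  es2 (βm m) (nondeg_βm m) (exists_ne_zero_minus m)

theorem card_minus (m : ℕ) : Nat.card (MG (βm m)) = 2 ^ (2 * (m + 1) + 1) := by
  rw [card_MG, Fintype.card_sum, Fintype.card_sum, Fintype.card_fin, Fintype.card_fin]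
  congr 1; ring

theorem N2_vals : N2 0 0 = 0 ∧ N2 0 1 = 1 ∧ N2 1 0 = 1 ∧ N2 1 1 = 1 := by decide

theorem sum_z2 (f : ZMod 2 → ℕ) : ∑ a : ZMod 2, f a = f 0 + f 1 := Fin.sum_univ_two f

theorem card_ones_plus (m : ℕ) :
    Nat.card {u : Fin m ⊕ Fin m → ZMod 2 // βp m u u = 0} +
      Nat.card {u : Fin m ⊕ Fin m → ZMod 2 // βp m u u = 1} = 2 ^ (2 * m) := by
  classical
  have e1 : {u : Fin m ⊕ Fin m → ZMod 2 // ¬ βp m u u = 0} ≃
      {u : Fin m ⊕ Fin m → ZMod 2 // βp m u u = 1} :=
    Equiv.subtypeEquivRight (fun u => by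
      rcases z2_cases (βp m u u) with h | h <;> rw [h] <;> decide)
  have e2 := Equiv.sumCompl (fun u : Fin m ⊕ Fin m → ZMod 2 => βp m u u = 0)
  have h1 := Nat.card_congr e2
  rw [Nat.card_sum, Nat.card_congr e1] at h1
  rw [h1, Nat.card_eq_fintype_card, Fintype.card_fun, ZMod.card, Fintype.card_sum,
    Fintype.card_fin, two_mul]

theorem zeros_minus (m : ℕ) :
    Nat.card {v : (Fin m ⊕ Fin m) ⊕ Fin 2 → ZMod 2 // βm m v v = 0} =
      Nat.card {u : Fin m ⊕ Fin m → ZMod 2 // βp m u u = 0} +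
        3 * Nat.card {u : Fin m ⊕ Fin m → ZMod 2 // βp m u u = 1} := by
  have e : {v : (Fin m ⊕ Fin m) ⊕ Fin 2 → ZMod 2 // βm m v v = 0} ≃
      Σ ab : ZMod 2 × ZMod 2, {u : Fin m ⊕ Fin m → ZMod 2 // βp m u u = N2 ab.1 ab.2} :=
    { toFun := fun v => ⟨(v.1 (.inr 0), v.1 (.inr 1)), ⟨v.1 ∘ Sum.inl, by
        have h := v.2
        rw [βm_split] at h
        exact z2_eq_of_add h⟩⟩
      invFun := fun p => ⟨Sum.elim p.2.1 ![p.1.1, p.1.2], by
        rw [βm_split]
        have h := p.2.2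
        show βp m p.2.1 p.2.1 + N2 p.1.1 p.1.2 = 0
        rw [h]; exact z2_add_self _⟩
      left_inv := by
        rintro ⟨v, hv⟩
        apply Subtype.ext
        funext j
        rcases j with j | j
        · rfl
        · fin_cases j <;> rfl
      right_inv := by
        rintro ⟨⟨a, b⟩, u, hu⟩
        rfl }
  rw [Nat.card_congr e, Nat.card_sigma, Fintype.sum_prod_type, sum_z2]
  rw [sum_z2 (fun b => Nat.card {u : Fin m ⊕ Fin m → ZMod 2 // βp m u u = N2 (0, b).1 (0, b).2}),
    sum_z2 (fun b => Nat.card {u : Fin m ⊕ Fin m → ZMod 2 // βp m u u = N2 (1, b).1 (1, b).2})]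
  obtain ⟨h00, h01, h10, h11⟩ := N2_vals
  simp only [h00, h01, h10, h11]
  ring

theorem jj_minus (m : ℕ) : ES2.jj (MG (βm m)) + 2 ^ (m + 1) = 2 ^ (2 * (m + 1)) := by
  rw [jj_MG, zeros_minus]
  have h1 := zeros_plus m
  have h2 := card_ones_plus m
  have e1 : 2 ^ (2 * (m + 1)) = 4 * 2 ^ (2 * m) := by ring
  have e2 : 2 ^ (m + 1) = 2 * 2 ^ m := by ring
  rw [e1, e2]
  omega

end Cfsg.Agent.Helper2.ExM
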