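import Mathlib
import Cfsg.Prelude.Def_GeometricClasses
import Cfsg.Agent.Helper2.FieldSubA

/-!
# Rank-one perturbations of scalars do not normalise a quadratic field subalgebra (for S5969)
-/

set_option autoImplicit false

namespace Cfsg.Agent.Helper2.FSub

open Module Matrix

variable {F : Type*} [Field F] {n : ℕ}

theorem vmv_mulVec (u r w : Fin n → F) : Matrix.vecMulVec u r *ᵥ w = (r ⬝ᵥ w) • u := by
  rw [Matrix.vecMulVec_mulVec, op_smul_eq_smul]

variable {K : Subalgebra F (Matrix (Fin n) (Fin n) F)} {ω : Matrix (Fin n) (Fin n) F} {p t : F}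

theorem Gen.not_mem_of_rank_one (hG : Gen K ω p t) (hn : 3 ≤ n) (g : GL (Fin n) F)
    {c : F} {u r : Fin n → F} (hc : c ≠ 0) (hu : u ≠ 0) (hr : r ≠ 0)
    (hg : (g : Matrix (Fin n) (Fin n) F) =
      c • (1 : Matrix (Fin n) (Fin n) F) + Matrix.vecMulVec u r) :
    g ∉ Cfsg.Geo.subalgebraNormalizer K := by
  intro hmem
  have hmem' : ∀ k : Matrix (Fin n) (Fin n) F, k ∈ K ↔
    (g : Matrix (Fin n) (Fin n) F) * k * ((g⁻¹ : GL (Fin n) F) : Matrix (Fin n) (Fin n) F) ∈ K :=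
    hmem
  obtain ⟨Gm, hGm⟩ : ∃ Gm : Matrix (Fin n) (Fin n) F, Gm = (g : Matrix (Fin n) (Fin n) F) :=
    ⟨_, rfl⟩
  obtain ⟨Gi, hGi⟩ : ∃ Gi : Matrix (Fin n) (Fin n) F,
      Gi = ((g⁻¹ : GL (Fin n) F) : Matrix (Fin n) (Fin n) F) := ⟨_, rfl⟩
  have h1 : Gm * Gi = 1 := by rw [hGm, hGi, ← Units.val_mul, mul_inv_cancel, Units.val_one]
  have h2 : Gi * Gm = 1 := by rw [hGm, hGi, ← Units.val_mul, inv_mul_cancel, Units.val_one]
  rw [← hGm, ← hGi] at hmem'
  have hconj : Gm * ω * Gi ∈ K := (hmem' ω).mp hG.mem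
  rw [← hGm] at hg
  obtain ⟨N, hN⟩ : ∃ N : Matrix (Fin n) (Fin n) F, N = Matrix.vecMulVec u r := ⟨_, rfl⟩
  rw [← hN] at hg
  have hsq : (Gm * ω * Gi) * (Gm * ω * Gi) =
      p • (1 : Matrix (Fin n) (Fin n) F) + t • (Gm * ω * Gi) := by
    rw [conj_mul h2, hG.sq, Matrix.mul_add, Matrix.add_mul, Matrix.mul_smul, Matrix.mul_smul,
      Matrix.smul_mul, Matrix.smul_mul, Matrix.mul_one, h1]
  obtain ⟨j0, hj0⟩ : ∃ j, r j ≠ 0 := by
    by_contra hcon
    push Not at hcon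
    exact hr (funext hcon)
  have e1 : Gm * ω = c • ω + N * ω := by
    rw [hg, Matrix.add_mul, Matrix.smul_mul, Matrix.one_mul]
  -- the commuting case
  have hcommcase : Gm * ω = ω * Gm → False := by
    intro hrel
    have e2 : ω * Gm = c • ω + ω * N := by
      rw [hg, Matrix.mul_add, Matrix.mul_smul, Matrix.mul_one]
    rw [e1, e2] at hrel
    have hNω : N * ω = ω * N := add_left_cancel hrel
    rw [hN, Matrix.vecMulVec_mul, Matrix.mul_vecMulVec] at hNω
    obtain ⟨μ, hμdef⟩ : ∃ μ : F, μ = (r ᵥ* ω) j0 * (r j0)⁻¹ := ⟨_, rfl⟩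
    have hμ : ω *ᵥ u = μ • u := by
      funext i
      have h3 := congrFun (congrFun hNω i) j0
      rw [Matrix.vecMulVec_apply, Matrix.vecMulVec_apply] at h3
      rw [Pi.smul_apply, smul_eq_mul, hμdef]
      calc (ω *ᵥ u) i = (ω *ᵥ u) i * r j0 * (r j0)⁻¹ := by rw [mul_inv_cancel_right₀ hj0]
        _ = (r ᵥ* ω) j0 * (r j0)⁻¹ * u i := by rw [← h3]; ring
    have h4 : (ω * ω) *ᵥ u = (μ * μ) • u := by
      rw [← Matrix.mulVec_mulVec, hμ, Matrix.mulVec_smul, hμ, smul_smul]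
    rw [hG.sq, Matrix.add_mulVec, Matrix.smul_mulVec, Matrix.smul_mulVec, Matrix.one_mulVec, hμ,
      smul_smul] at h4
    have h5 : (μ * μ - t * μ - p) • u = 0 := by
      rw [sub_smul, sub_smul, ← h4]
      abel
    rcases smul_eq_zero.mp h5 with h6 | h6
    · exact hG.irred μ h6
    · exact hu h6
  obtain ⟨ω'', hω''⟩ : ∃ ω'' : Matrix (Fin n) (Fin n) F, ω'' = Gm * ω * Gi := ⟨_, rfl⟩
  have hrel : Gm * ω = ω'' * Gm := by rw [hω'', Matrix.mul_assoc, h2, Matrix.mul_one]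
  rcases hG.root_cases (ω' := ω'') (by rw [hω'']; exact hconj) (by rw [hω'']; exact hsq)
    with hcase | hcase
  · rw [hcase] at hrel
    exact hcommcase hrel
  · by_cases hsame : t • (1 : Matrix (Fin n) (Fin n) F) - ω = ω
    · rw [hcase, hsame] at hrel
      exact hcommcase hrel
    · obtain ⟨ωb, hωb⟩ : ∃ ωb : Matrix (Fin n) (Fin n) F,
          ωb = t • (1 : Matrix (Fin n) (Fin n) F) - ω := ⟨_, rfl⟩
      rw [← hωb] at hcase hsame
      have hωbK : ωb ∈ K := by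
        rw [hωb]; exact K.sub_mem (K.smul_mem K.one_mem t) hG.mem
      have hD0 : ω - ωb ≠ 0 := fun h => hsame (sub_eq_zero.mp h).symm
      obtain ⟨D', hD'K, hDD'⟩ := hG.inv _ (K.sub_mem hG.mem hωbK) hD0
      have hD'D : D' * (ω - ωb) = 1 := by
        rw [hG.comm D' hD'K _ (K.sub_mem hG.mem hωbK), hDD']
      rw [hcase] at hrel
      have e3 : ωb * Gm = c • ωb + ωb * N := by
        rw [hg, Matrix.mul_add, Matrix.mul_smul, Matrix.mul_one]
      rw [e1, e3] at hrel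
      obtain ⟨M2, hM2⟩ : ∃ M2 : Matrix (Fin 2) (Fin n) F, M2 = Matrix.of ![r, r ᵥ* ω] :=
        ⟨_, rfl⟩
      have hninj : ¬ Function.Injective (Matrix.toLin' M2) := by
        intro hinj
        have h3 := LinearMap.finrank_le_finrank_of_injective hinj
        rw [Module.finrank_fin_fun, Module.finrank_fin_fun] at h3
        omega
      rw [← LinearMap.ker_eq_bot] at hninj
      obtain ⟨v, hvker, hv0⟩ := Submodule.exists_mem_ne_zero_of_ne_bot hninj
      rw [LinearMap.mem_ker, Matrix.toLin'_apply] at hvker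
      have hv1 : r ⬝ᵥ v = 0 := by
        have h3 := congrFun hvker 0
        rw [hM2] at h3
        exact h3
      have hv2 : (r ᵥ* ω) ⬝ᵥ v = 0 := by
        have h3 := congrFun hvker 1
        rw [hM2] at h3
        exact h3
      have hNωv : (N * ω) *ᵥ v = 0 := by
        rw [hN, Matrix.vecMulVec_mul, vmv_mulVec, hv2, zero_smul]
      have hωbNv : (ωb * N) *ᵥ v = 0 := by
        rw [← Matrix.mulVec_mulVec, hN, vmv_mulVec, hv1, zero_smul, Matrix.mulVec_zero]
      have h6 := congrArg (fun M => M *ᵥ v) hrel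
      simp only [Matrix.add_mulVec, Matrix.smul_mulVec, hNωv, hωbNv, add_zero] at h6
      have h7 : ω *ᵥ v = ωb *ᵥ v := by
        have h8 := congrArg (fun w => c⁻¹ • w) h6
        simp only [smul_smul, inv_mul_cancel₀ hc, one_smul] at h8
        exact h8
      have h8 : (ω - ωb) *ᵥ v = 0 := by rw [Matrix.sub_mulVec, h7, sub_self]
      apply hv0
      calc v = (D' * (ω - ωb)) *ᵥ v := by rw [hD'D, Matrix.one_mulVec]
        _ = 0 := by rw [← Matrix.mulVec_mulVec, h8, Matrix.mulVec_zero]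

theorem Gen.derange (hG : Gen K ω p t) (hn : 3 ≤ n) {c : F} {a b : Fin n → F} (hc : c ≠ 0)
    (ha : a ≠ 0) (hb : b ≠ 0) (x : Matrix.SpecialLinearGroup (Fin n) F)
    (hx : (x : Matrix (Fin n) (Fin n) F) =
      c • (1 : Matrix (Fin n) (Fin n) F) + Matrix.vecMulVec a b) :
    ¬ ∃ P : Matrix.SpecialLinearGroup (Fin n) F, P⁻¹ * x * P ∈
      ((Cfsg.Geo.subalgebraNormalizer K).comap (Matrix.SpecialLinearGroup.toGL :
        Matrix.SpecialLinearGroup (Fin n) F →* GL (Fin n) F)) := by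
  rintro ⟨P, hP⟩
  rw [Subgroup.mem_comap] at hP
  obtain ⟨Pm, hPm⟩ : ∃ Pm : Matrix (Fin n) (Fin n) F, Pm = (P : Matrix (Fin n) (Fin n) F) :=
    ⟨_, rfl⟩
  obtain ⟨Qm, hQm⟩ : ∃ Qm : Matrix (Fin n) (Fin n) F,
      Qm = ((P⁻¹ : Matrix.SpecialLinearGroup (Fin n) F) : Matrix (Fin n) (Fin n) F) := ⟨_, rfl⟩
  have hPQ : Pm * Qm = 1 := by
    rw [hPm, hQm, ← Matrix.SpecialLinearGroup.coe_mul, mul_inv_cancel]
    rfl
  have hQP : Qm * Pm = 1 := by
    rw [hPm, hQm, ← Matrix.SpecialLinearGroup.coe_mul, inv_mul_cancel]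
    rfl
  have hcoe : ((Matrix.SpecialLinearGroup.toGL (P⁻¹ * x * P) : GL (Fin n) F) :
      Matrix (Fin n) (Fin n) F) =
      c • (1 : Matrix (Fin n) (Fin n) F) + Matrix.vecMulVec (Qm *ᵥ a) (b ᵥ* Pm) := by
    rw [Matrix.SpecialLinearGroup.coe_GL_coe_matrix, Matrix.SpecialLinearGroup.coe_mul,
      Matrix.SpecialLinearGroup.coe_mul, hx, ← hPm, ← hQm, Matrix.mul_add, Matrix.add_mul,
      Matrix.mul_smul, Matrix.smul_mul, Matrix.mul_one, hQP, Matrix.mul_vecMulVec,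
      Matrix.vecMulVec_mul]
  refine hG.not_mem_of_rank_one hn _ hc ?_ ?_ hcoe hP
  · intro h
    apply ha
    calc a = Pm *ᵥ (Qm *ᵥ a) := by rw [Matrix.mulVec_mulVec, hPQ, Matrix.one_mulVec]
      _ = 0 := by rw [h, Matrix.mulVec_zero]
  · intro h
    apply hb
    calc b = (b ᵥ* Pm) ᵥ* Qm := by rw [Matrix.vecMul_vecMul, hPQ, Matrix.vecMul_one]
      _ = 0 := by rw [h, Matrix.zero_vecMul]

/-- the general derangement: `c + a bᵀ` with `c^n = -1` and `b·a = -2c`. -/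
theorem Gen.exists_derange (hG : Gen K ω p t) (hn : 3 ≤ n) {c : F} (hcn : c ^ n = -1)
    {a b : Fin n → F} (hab : b ⬝ᵥ a = -(2 * c))
    (hns : ∀ z : F, c • (1 : Matrix (Fin n) (Fin n) F) + Matrix.vecMulVec a b ≠
      z • (1 : Matrix (Fin n) (Fin n) F)) :
    ∃ x : Matrix.SpecialLinearGroup (Fin n) F,
      (∃ z : F, ((x ^ 2 : Matrix.SpecialLinearGroup (Fin n) F) : Matrix (Fin n) (Fin n) F) =
        z • (1 : Matrix (Fin n) (Fin n) F)) ∧
      (∀ z : F, (x : Matrix (Fin n) (Fin n) F) ≠ z • (1 : Matrix (Fin n) (Fin n) F)) ∧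
      ¬ ∃ P : Matrix.SpecialLinearGroup (Fin n) F, P⁻¹ * x * P ∈
        ((Cfsg.Geo.subalgebraNormalizer K).comap (Matrix.SpecialLinearGroup.toGL :
          Matrix.SpecialLinearGroup (Fin n) F →* GL (Fin n) F)) := by
  classical
  have hc : c ≠ 0 := by
    rintro rfl
    rw [zero_pow (by omega)] at hcn
    have : (1 : F) = 0 := by linear_combination hcn
    exact one_ne_zero this
  have ha : a ≠ 0 := by
    rintro rfl
    apply hns c
    rw [Matrix.vecMulVec_eq_zero.mpr (Or.inl rfl), add_zero]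
  have hb : b ≠ 0 := by
    rintro rfl
    apply hns c
    rw [Matrix.vecMulVec_eq_zero.mpr (Or.inr rfl), add_zero]
  obtain ⟨N, hN⟩ : ∃ N : Matrix (Fin n) (Fin n) F, N = Matrix.vecMulVec a b := ⟨_, rfl⟩
  obtain ⟨M, hM⟩ : ∃ M : Matrix (Fin n) (Fin n) F,
      M = c • (1 : Matrix (Fin n) (Fin n) F) + N := ⟨_, rfl⟩
  have hdet : M.det = 1 := by
    have hM' : M = c • ((1 : Matrix (Fin n) (Fin n) F) + Matrix.vecMulVec (c⁻¹ • a) b) := by
      rw [hM, hN, smul_add, Matrix.smul_vecMulVec, smul_smul, mul_inv_cancel₀ hc, one_smul]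
    rw [hM', Matrix.det_smul, Fintype.card_fin, Matrix.vecMulVec_eq Unit,
      Matrix.det_one_add_replicateCol_mul_replicateRow, dotProduct_smul, hab, hcn, smul_eq_mul]
    field_simp
    ring
  have hNN : N * N = (-(2 * c)) • N := by
    rw [hN, Matrix.vecMulVec_mul_vecMulVec, hab, Matrix.vecMulVec_smul]
  have hMM : M * M = (c * c) • (1 : Matrix (Fin n) (Fin n) F) := by
    rw [hM]
    simp only [add_mul, mul_add, Matrix.smul_mul, Matrix.mul_smul, Matrix.one_mul,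
      Matrix.mul_one, hNN]
    module
  obtain ⟨x, hx⟩ : ∃ x : Matrix.SpecialLinearGroup (Fin n) F, x = ⟨M, hdet⟩ := ⟨_, rfl⟩
  have hxM : (x : Matrix (Fin n) (Fin n) F) = M := by rw [hx]
  refine ⟨x, ⟨c * c, ?_⟩, ?_, ?_⟩
  · rw [Matrix.SpecialLinearGroup.coe_pow, hxM, pow_two, hMM]
  · intro z hz
    rw [hxM, hM, hN] at hz
    exact hns z hz
  · exact hG.derange hn hc ha hb x (by rw [hxM, hM, hN])

theorem Gen.exists_derange_odd (hG : Gen K ω p t) (hn : 3 ≤ n) {c : F} (hcn : c ^ n = -1)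
    (h2 : (2 : F) ≠ 0) :
    ∃ x : Matrix.SpecialLinearGroup (Fin n) F,
      (∃ z : F, ((x ^ 2 : Matrix.SpecialLinearGroup (Fin n) F) : Matrix (Fin n) (Fin n) F) =
        z • (1 : Matrix (Fin n) (Fin n) F)) ∧
      (∀ z : F, (x : Matrix (Fin n) (Fin n) F) ≠ z • (1 : Matrix (Fin n) (Fin n) F)) ∧
      ¬ ∃ P : Matrix.SpecialLinearGroup (Fin n) F, P⁻¹ * x * P ∈
        ((Cfsg.Geo.subalgebraNormalizer K).comap (Matrix.SpecialLinearGroup.toGL :
          Matrix.SpecialLinearGroup (Fin n) F →* GL (Fin n) F)) := by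
  classical
  have hc : c ≠ 0 := by
    rintro rfl
    rw [zero_pow (by omega)] at hcn
    have : (1 : F) = 0 := by linear_combination hcn
    exact one_ne_zero this
  obtain ⟨i0, hi0⟩ : ∃ i0 : Fin n, i0 = ⟨0, by omega⟩ := ⟨_, rfl⟩
  obtain ⟨i1, hi1⟩ : ∃ i1 : Fin n, i1 = ⟨1, by omega⟩ := ⟨_, rfl⟩
  have h10 : i1 ≠ i0 := by rw [hi1, hi0]; intro h; simpa using congrArg Fin.val h
  refine hG.exists_derange hn hcn (a := Pi.single i0 (-(2 * c))) (b := Pi.single i0 1) ?_ ?_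
  · rw [single_dotProduct, Pi.single_eq_same, one_mul]
  · intro z hz
    have h3 := congrFun (congrFun hz i1) i1
    have h4 := congrFun (congrFun hz i0) i0
    rw [Matrix.add_apply, Matrix.smul_apply, Matrix.smul_apply, Matrix.one_apply_eq,
      Matrix.vecMulVec_apply, Pi.single_eq_of_ne h10, zero_mul, add_zero] at h3
    rw [Matrix.add_apply, Matrix.smul_apply, Matrix.smul_apply, Matrix.one_apply_eq,
      Matrix.vecMulVec_apply, Pi.single_eq_same, Pi.single_eq_same, mul_one] at h4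
    have h5 : (2 : F) * c = 0 := by
      rw [smul_eq_mul, mul_one] at h3 h4
      linear_combination h3 - h4
    rcases mul_eq_zero.mp h5 with h | h
    · exact h2 h
    · exact hc h

theorem Gen.exists_derange_even (hG : Gen K ω p t) (hn : 3 ≤ n) (h2 : (2 : F) = 0) :
    ∃ x : Matrix.SpecialLinearGroup (Fin n) F,
      (∃ z : F, ((x ^ 2 : Matrix.SpecialLinearGroup (Fin n) F) : Matrix (Fin n) (Fin n) F) =
        z • (1 : Matrix (Fin n) (Fin n) F)) ∧
      (∀ z : F, (x : Matrix (Fin n) (Fin n) F) ≠ z • (1 : Matrix (Fin n) (Fin n) F)) ∧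
      ¬ ∃ P : Matrix.SpecialLinearGroup (Fin n) F, P⁻¹ * x * P ∈
        ((Cfsg.Geo.subalgebraNormalizer K).comap (Matrix.SpecialLinearGroup.toGL :
          Matrix.SpecialLinearGroup (Fin n) F →* GL (Fin n) F)) := by
  classical
  obtain ⟨i0, hi0⟩ : ∃ i0 : Fin n, i0 = ⟨0, by omega⟩ := ⟨_, rfl⟩
  obtain ⟨i1, hi1⟩ : ∃ i1 : Fin n, i1 = ⟨1, by omega⟩ := ⟨_, rfl⟩
  have h10 : i1 ≠ i0 := by rw [hi1, hi0]; intro h; simpa using congrArg Fin.val h
  have hcn : (1 : F) ^ n = -1 := by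
    rw [one_pow]
    linear_combination h2
  refine hG.exists_derange hn hcn (a := Pi.single i0 1) (b := Pi.single i1 1) ?_ ?_
  · rw [single_dotProduct, Pi.single_eq_of_ne h10, mul_zero]
    linear_combination h2
  · intro z hz
    have h3 := congrFun (congrFun hz i0) i1
    rw [Matrix.add_apply, Matrix.smul_apply, Matrix.smul_apply, Matrix.one_apply_ne (Ne.symm h10),
      Matrix.vecMulVec_apply, Pi.single_eq_same, Pi.single_eq_same, smul_zero, smul_zero,
      zero_add, mul_one] at h3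
    exact one_ne_zero h3

end Cfsg.Agent.Helper2.FSub
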