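import Mathlib
import Cfsg.Prelude.Def_GeometricClasses
import Cfsg.Agent.Helper2.FieldSubA

/-!
# The case `n = 2` of S5969: every involution of `PSL₂(q)` normalises a conjugate of `K`.
-/

set_option autoImplicit false

namespace Cfsg.Agent.Helper2.FSub

open Module Matrix

variable {F : Type*} [Field F]

theorem mk2_ext {a b c d a' b' c' d' : F} (h1 : a = a') (h2 : b = b') (h3 : c = c')
    (h4 : d = d') : (!![a, b; c, d] : Matrix (Fin 2) (Fin 2) F) = !![a', b'; c', d'] := by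
  subst h1 h2 h3 h4; rfl

theorem mk2_inj {a b c d a' b' c' d' : F}
    (h : (!![a, b; c, d] : Matrix (Fin 2) (Fin 2) F) = !![a', b'; c', d']) :
    a = a' ∧ b = b' ∧ c = c' ∧ d = d' :=
  ⟨congrFun (congrFun h 0) 0, congrFun (congrFun h 0) 1, congrFun (congrFun h 1) 0,
    congrFun (congrFun h 1) 1⟩

theorem smul_one2 (z : F) : z • (1 : Matrix (Fin 2) (Fin 2) F) = !![z, 0; 0, z] := by
  ext i j; fin_cases i <;> fin_cases j <;> simp

theorem lin2 (α β a b c d : F) :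
    α • (1 : Matrix (Fin 2) (Fin 2) F) + β • !![a, b; c, d] =
      !![α + β * a, β * b; β * c, α + β * d] := by
  ext i j; fin_cases i <;> fin_cases j <;> simp

theorem sub2 (t a b c d : F) :
    t • (1 : Matrix (Fin 2) (Fin 2) F) - !![a, b; c, d] = !![t - a, -b; -c, t - d] := by
  ext i j; fin_cases i <;> fin_cases j <;> simp

theorem exists_companion (y : Matrix (Fin 2) (Fin 2) F)
    (hy : ∀ c : F, y ≠ c • (1 : Matrix (Fin 2) (Fin 2) F)) :
    ∃ C : Matrix (Fin 2) (Fin 2) F, C.det ≠ 0 ∧ y * C = C * !![0, -y.det; 1, y.trace] := by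
  obtain ⟨a, b, c, d, rfl⟩ : ∃ a b c d : F, y = !![a, b; c, d] :=
    ⟨y 0 0, y 0 1, y 1 0, y 1 1, Matrix.eta_fin_two y⟩
  rw [Matrix.det_fin_two_of, Matrix.trace_fin_two_of]
  by_cases hc : c = 0
  · by_cases hb : b = 0
    · have had : a ≠ d := by
        intro had
        apply hy a
        rw [smul_one2, hc, hb, had]
      subst hc hb
      refine ⟨!![1, a; 1, d], ?_, ?_⟩
      · rw [Matrix.det_fin_two_of]
        intro h
        apply had
        linear_combination -h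
      · rw [Matrix.mul_fin_two, Matrix.mul_fin_two]
        apply mk2_ext <;> ring
    · refine ⟨!![0, b; 1, d], ?_, ?_⟩
      · rw [Matrix.det_fin_two_of]
        intro h
        apply hb
        linear_combination -h
      · rw [Matrix.mul_fin_two, Matrix.mul_fin_two]
        apply mk2_ext <;> ring
  · refine ⟨!![1, a; 0, c], ?_, ?_⟩
    · rw [Matrix.det_fin_two_of]
      intro h
      apply hc
      linear_combination h
    · rw [Matrix.mul_fin_two, Matrix.mul_fin_two]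
      apply mk2_ext <;> ring

theorem conj_two [Fintype F] {K : Subalgebra F (Matrix (Fin 2) (Fin 2) F)}
    {ω : Matrix (Fin 2) (Fin 2) F} {p t : F} (hG : Gen K ω p t)
    (x : Matrix.SpecialLinearGroup (Fin 2) F)
    (hx1 : ∃ z : F, ((x ^ 2 : Matrix.SpecialLinearGroup (Fin 2) F) : Matrix (Fin 2) (Fin 2) F) =
      z • (1 : Matrix (Fin 2) (Fin 2) F))
    (hx2 : ∀ z : F, (x : Matrix (Fin 2) (Fin 2) F) ≠ z • (1 : Matrix (Fin 2) (Fin 2) F)) :
    ∃ P : Matrix.SpecialLinearGroup (Fin 2) F, P⁻¹ * x * P ∈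
      ((Cfsg.Geo.subalgebraNormalizer K).comap (Matrix.SpecialLinearGroup.toGL :
        Matrix.SpecialLinearGroup (Fin 2) F →* GL (Fin 2) F)) := by
  classical
  obtain ⟨z, hz⟩ := hx1
  obtain ⟨xm, hxm⟩ : ∃ xm : Matrix (Fin 2) (Fin 2) F, xm = (x : Matrix (Fin 2) (Fin 2) F) :=
    ⟨_, rfl⟩
  have hxx : xm * xm = z • (1 : Matrix (Fin 2) (Fin 2) F) := by
    rw [hxm, ← hz, pow_two]; rfl
  have hxdet : xm.det = 1 := by rw [hxm]; exact x.2
  rw [← hxm] at hx2
  -- trace zero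
  have hxtr : xm.trace = 0 := by
    obtain ⟨x0, x1, x2, x3, hx⟩ : ∃ a b c d : F, xm = !![a, b; c, d] :=
      ⟨_, _, _, _, Matrix.eta_fin_two xm⟩
    rw [hx] at hxx hx2 ⊢
    rw [Matrix.trace_fin_two_of]
    rw [Matrix.mul_fin_two, smul_one2] at hxx
    obtain ⟨e00, e01, e10, e11⟩ := mk2_inj hxx
    by_contra hne
    have h1 : x1 = 0 := by
      have h : x1 * (x0 + x3) = 0 := by linear_combination e01
      rcases mul_eq_zero.mp h with h | h
      · exact h
      · exact absurd h hne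
    have h2 : x2 = 0 := by
      have h : x2 * (x0 + x3) = 0 := by linear_combination e10
      rcases mul_eq_zero.mp h with h | h
      · exact h
      · exact absurd h hne
    have h3 : x0 = x3 := by
      have h : (x0 - x3) * (x0 + x3) = 0 := by linear_combination e00 - e11
      rcases mul_eq_zero.mp h with h | h
      · exact sub_eq_zero.mp h
      · exact absurd h hne
    apply hx2 x0
    rw [smul_one2, h1, h2, ← h3]
  -- companion for x
  obtain ⟨Cm, hCdet, hxC⟩ := exists_companion xm hx2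
  rw [hxdet, hxtr] at hxC
  -- ω entries
  obtain ⟨a, b, c, d, hω⟩ : ∃ a b c d : F, ω = !![a, b; c, d] :=
    ⟨_, _, _, _, Matrix.eta_fin_two ω⟩
  have hsq := hG.sq
  rw [hω, Matrix.mul_fin_two, lin2] at hsq
  obtain ⟨e00, e01, e10, e11⟩ := mk2_inj hsq
  have htr : a + d = t := by
    by_cases hc0 : c = 0
    · by_cases hb0 : b = 0
      · exfalso
        apply hG.irred a
        rw [hb0] at e00
        linear_combination e00
      · have h : b * (a + d - t) = 0 := by linear_combination e01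
        rcases mul_eq_zero.mp h with h | h
        · exact absurd h hb0
        · linear_combination h
    · have h : c * (a + d - t) = 0 := by linear_combination e10
      rcases mul_eq_zero.mp h with h | h
      · exact absurd h hc0
      · linear_combination h
  have hdetω : a * d - b * c = -p := by linear_combination a * htr - e00
  have hωtr : ω.trace = t := by rw [hω, Matrix.trace_fin_two_of, htr]
  have hωdet : ω.det = -p := by rw [hω, Matrix.det_fin_two_of, hdetω]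
  obtain ⟨Bm, hBdet, hωB⟩ := exists_companion ω hG.nonscalar
  rw [hωdet, hωtr, neg_neg] at hωB
  obtain ⟨W, hW⟩ : ∃ W : Matrix (Fin 2) (Fin 2) F, W = !![0, p; 1, t] := ⟨_, rfl⟩
  rw [← hW] at hωB
  -- the semilinear element in coordinates
  obtain ⟨α, β, hαβ⟩ := hG.norm_surj (c := -1) (neg_ne_zero.mpr one_ne_zero)
  obtain ⟨T0, hT0⟩ : ∃ T0 : Matrix (Fin 2) (Fin 2) F, T0 = !![α, t * α - β * p; β, -α] :=
    ⟨_, rfl⟩
  have hT0W : T0 * W = (t • (1 : Matrix (Fin 2) (Fin 2) F) - W) * T0 := by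
    rw [hT0, hW, sub2, Matrix.mul_fin_two, Matrix.mul_fin_two]
    apply mk2_ext <;> ring
  have hT0det : T0.det = 1 := by
    rw [hT0, Matrix.det_fin_two_of]
    linear_combination -hαβ
  have hT0tr : T0.trace = 0 := by
    rw [hT0, Matrix.trace_fin_two_of]
    ring
  obtain ⟨Bg, hBg⟩ : ∃ Bg : GL (Fin 2) F, (Bg : Matrix (Fin 2) (Fin 2) F) = Bm :=
    ⟨Matrix.GeneralLinearGroup.mkOfDetNeZero Bm hBdet, rfl⟩
  obtain ⟨Bi, hBi⟩ : ∃ Bi : Matrix (Fin 2) (Fin 2) F,
      Bi = ((Bg⁻¹ : GL (Fin 2) F) : Matrix (Fin 2) (Fin 2) F) := ⟨_, rfl⟩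
  have hBB : Bm * Bi = 1 := by
    rw [← hBg, hBi, ← Units.val_mul, mul_inv_cancel, Units.val_one]
  have hBiB : Bi * Bm = 1 := by
    rw [← hBg, hBi, ← Units.val_mul, inv_mul_cancel, Units.val_one]
  obtain ⟨tgm, htgm⟩ : ∃ tgm : Matrix (Fin 2) (Fin 2) F, tgm = Bm * T0 * Bi := ⟨_, rfl⟩
  have hBiω : Bi * ω = W * Bi := by
    calc Bi * ω = Bi * ω * (Bm * Bi) := by rw [hBB, Matrix.mul_one]
      _ = Bi * (ω * Bm) * Bi := by simp only [Matrix.mul_assoc]
      _ = Bi * (Bm * W) * Bi := by rw [hωB]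
      _ = (Bi * Bm) * W * Bi := by simp only [Matrix.mul_assoc]
      _ = W * Bi := by rw [hBiB, Matrix.one_mul]
  have h1 : (t • (1 : Matrix (Fin 2) (Fin 2) F) - ω) * Bm =
      Bm * (t • (1 : Matrix (Fin 2) (Fin 2) F) - W) := by
    rw [Matrix.sub_mul, Matrix.mul_sub, Matrix.smul_mul, Matrix.mul_smul, Matrix.one_mul,
      Matrix.mul_one, hωB]
  have htω : tgm * ω = (t • (1 : Matrix (Fin 2) (Fin 2) F) - ω) * tgm := by
    rw [htgm]
    calc Bm * T0 * Bi * ω = Bm * T0 * (Bi * ω) := by simp only [Matrix.mul_assoc]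
      _ = Bm * (T0 * W) * Bi := by rw [hBiω]; simp only [Matrix.mul_assoc]
      _ = Bm * ((t • (1 : Matrix (Fin 2) (Fin 2) F) - W) * T0) * Bi := by rw [hT0W]
      _ = (Bm * (t • (1 : Matrix (Fin 2) (Fin 2) F) - W)) * T0 * Bi := by
          simp only [Matrix.mul_assoc]
      _ = (t • (1 : Matrix (Fin 2) (Fin 2) F) - ω) * (Bm * T0 * Bi) := by
          rw [← h1]; simp only [Matrix.mul_assoc]
  have htdet : tgm.det = 1 := by
    rw [htgm, Matrix.det_mul, Matrix.det_mul, hT0det]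
    have h : Bm.det * Bi.det = 1 := by rw [← Matrix.det_mul, hBB, Matrix.det_one]
    linear_combination h
  have httr : tgm.trace = 0 := by
    rw [htgm, Matrix.trace_mul_comm, ← Matrix.mul_assoc, hBiB, Matrix.one_mul, hT0tr]
  have htns : ∀ s : F, tgm ≠ s • (1 : Matrix (Fin 2) (Fin 2) F) := by
    intro s hs
    rw [hs] at htω htdet
    rw [Matrix.smul_mul, Matrix.one_mul, Matrix.mul_smul, Matrix.mul_one] at htω
    have hs0 : s ≠ 0 := by
      rintro rfl
      rw [zero_smul, Matrix.det_zero] at htdet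
      exact zero_ne_one htdet
    apply hG.sep (by norm_num)
    have h := congrArg (fun M => s⁻¹ • M) htω
    simp only [smul_smul, inv_mul_cancel₀ hs0, one_smul] at h
    exact h
  obtain ⟨Dm, hDdet, htD⟩ := exists_companion tgm htns
  rw [htdet, httr] at htD
  obtain ⟨W', hW'⟩ : ∃ W' : Matrix (Fin 2) (Fin 2) F, W' = !![0, -1; 1, 0] := ⟨_, rfl⟩
  rw [← hW'] at hxC htD
  have hW'det : W'.det ≠ 0 := by
    rw [hW', Matrix.det_fin_two_of]
    norm_num
  obtain ⟨Cg, hCg⟩ : ∃ Cg : GL (Fin 2) F, (Cg : Matrix (Fin 2) (Fin 2) F) = Cm :=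
    ⟨Matrix.GeneralLinearGroup.mkOfDetNeZero Cm hCdet, rfl⟩
  obtain ⟨Dg, hDg⟩ : ∃ Dg : GL (Fin 2) F, (Dg : Matrix (Fin 2) (Fin 2) F) = Dm :=
    ⟨Matrix.GeneralLinearGroup.mkOfDetNeZero Dm hDdet, rfl⟩
  obtain ⟨Wg, hWg⟩ : ∃ Wg : GL (Fin 2) F, (Wg : Matrix (Fin 2) (Fin 2) F) = W' :=
    ⟨Matrix.GeneralLinearGroup.mkOfDetNeZero W' hW'det, rfl⟩
  obtain ⟨tg, htg⟩ : ∃ tg : GL (Fin 2) F, (tg : Matrix (Fin 2) (Fin 2) F) = tgm :=
    ⟨Matrix.GeneralLinearGroup.mkOfDetNeZero tgm (by rw [htdet]; exact one_ne_zero), rfl⟩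
  obtain ⟨xg, hxg⟩ : ∃ xg : GL (Fin 2) F, xg = Matrix.SpecialLinearGroup.toGL x := ⟨_, rfl⟩
  have hxgm : (xg : Matrix (Fin 2) (Fin 2) F) = xm := by rw [hxg, hxm]; rfl
  have hrelx : xg * Cg = Cg * Wg := by
    apply Units.ext
    rw [Units.val_mul, Units.val_mul, hxgm, hCg, hWg]
    exact hxC
  have hrelt : tg * Dg = Dg * Wg := by
    apply Units.ext
    rw [Units.val_mul, Units.val_mul, htg, hDg, hWg]
    exact htD
  obtain ⟨c0, hc0⟩ : ∃ c0 : F, c0 = Dm.det * (Cm.det)⁻¹ := ⟨_, rfl⟩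
  have hc0ne : c0 ≠ 0 := by rw [hc0]; exact mul_ne_zero hDdet (inv_ne_zero hCdet)
  obtain ⟨α', β', hαβ'⟩ := hG.norm_surj hc0ne
  obtain ⟨hm, hhm⟩ : ∃ hm : Matrix (Fin 2) (Fin 2) F,
      hm = α' • (1 : Matrix (Fin 2) (Fin 2) F) + β' • ω := ⟨_, rfl⟩
  have hhmK : hm ∈ K := by
    rw [hhm]; exact K.add_mem (K.smul_mem K.one_mem _) (K.smul_mem hG.mem _)
  have hhmdet : hm.det = c0 := by
    rw [hhm, hω, lin2, Matrix.det_fin_two_of]
    linear_combination hαβ' + (α' * β') * htr + (β' * β') * hdetω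
  obtain ⟨hg, hhg⟩ : ∃ hg : GL (Fin 2) F, (hg : Matrix (Fin 2) (Fin 2) F) = hm :=
    ⟨Matrix.GeneralLinearGroup.mkOfDetNeZero hm (by rw [hhmdet]; exact hc0ne), rfl⟩
  have htgN : tg ∈ Cfsg.Geo.subalgebraNormalizer K :=
    hG.mem_normalizer tg (Or.inr (by rw [htg]; exact htω))
  have hhgN : hg ∈ Cfsg.Geo.subalgebraNormalizer K :=
    hG.mem_normalizer hg (Or.inl (by rw [hhg]; exact hG.comm hm hhmK ω hG.mem))
  obtain ⟨Pg, hPg⟩ : ∃ Pg : GL (Fin 2) F, Pg = Cg * Dg⁻¹ * hg := ⟨_, rfl⟩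
  have hconj : Pg⁻¹ * xg * Pg = hg⁻¹ * tg * hg := by
    have hx' : xg = Cg * Wg * Cg⁻¹ := by rw [← hrelx]; group
    have ht' : tg = Dg * Wg * Dg⁻¹ := by rw [← hrelt]; group
    rw [hPg, hx', ht']
    group
  have hPdet : (Pg : Matrix (Fin 2) (Fin 2) F).det = 1 := by
    rw [hPg, Units.val_mul, Units.val_mul, Matrix.det_mul, Matrix.det_mul, hCg, hhg, hhmdet,
      hc0]
    have e1 : Dm.det * ((Dg⁻¹ : GL (Fin 2) F) : Matrix (Fin 2) (Fin 2) F).det = 1 := by
      rw [← hDg, ← Matrix.det_mul, ← Units.val_mul, mul_inv_cancel, Units.val_one,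
        Matrix.det_one]
    have e2 : Cm.det * (Cm.det)⁻¹ = 1 := mul_inv_cancel₀ hCdet
    linear_combination
      (Dm.det * ((Dg⁻¹ : GL (Fin 2) F) : Matrix (Fin 2) (Fin 2) F).det) * e2 + e1
  apply exists_sl_conj _ x Pg hPdet
  rw [← hxg, hconj]
  exact Subgroup.mul_mem _ (Subgroup.mul_mem _ (Subgroup.inv_mem _ hhgN) htgN) hhgN

end Cfsg.Agent.Helper2.FSub
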