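import Mathlib
import Cfsg.Prelude.Def_GeometricClasses
import Cfsg.Agent.Helper28.SympFrame

/-!
# Plane systems and similarities of alternating forms (for S5967)

A linear map `X` *has planes with determinant `lam`* if `V` has a basis `a i, b i` such that each
plane `⟨a i, b i⟩` is `X`-invariant and `X` has determinant `lam` on it.  Such an `X` is conjugate,
by a map of determinant one, to a similarity (with multiplier `lam`) of any given nondegenerate
alternating form.
-/

set_option autoImplicit false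

namespace Cfsg.Agent.Helper2.SimInv

open Module Matrix

variable {F : Type*} [Field F] {V : Type*} [AddCommGroup V] [Module F V]

/-- `V` has a basis of `X`-invariant planes on each of which `X` has determinant `lam`. -/
def HasPlanes (X : V →ₗ[F] V) (lam : F) : Prop :=
  ∃ (ι : Type) (_ : Fintype ι) (_ : DecidableEq ι) (bas : Basis (ι ⊕ ι) F V) (α β γ δ : ι → F),
    (∀ i, X (bas (.inl i)) = α i • bas (.inl i) + γ i • bas (.inr i)) ∧
    (∀ i, X (bas (.inr i)) = β i • bas (.inl i) + δ i • bas (.inr i)) ∧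
    (∀ i, α i * δ i - β i * γ i = lam)

theorem exists_equiv_of_planes [FiniteDimensional F V] (B : LinearMap.BilinForm F V) (hA : B.IsAlt)
    (hnd : ∀ u, (∀ v, B u v = 0) → u = 0) {X : V →ₗ[F] V} {lam : F}
    (h : HasPlanes X lam) (hdim : 1 ≤ finrank F V) :
    ∃ g : V ≃ₗ[F] V, LinearMap.det (g : V →ₗ[F] V) = 1 ∧
      ∀ u v, B (g (X (g.symm u))) (g (X (g.symm v))) = lam * B u v := by
  classical
  obtain ⟨ι, _, _, bas, α, β, γ, δ, h1, h2, hd⟩ := h
  have hcard : finrank F V = Fintype.card (ι ⊕ ι) := finrank_eq_card_basis bas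
  rw [Fintype.card_sum] at hcard
  obtain ⟨m, hm⟩ : ∃ m, m = Fintype.card ι := ⟨_, rfl⟩
  have hne : Nonempty ι := by
    rw [← Fintype.card_pos_iff]
    omega
  obtain ⟨i0⟩ := hne
  obtain ⟨e, f', -, -, hee, hff, hef⟩ := Cfsg.Agent.Helper28.SympFrame.exists_alt_frame B hA m ⊤
    (by rw [finrank_top, hcard, hm]; ring)
    (fun u _ hu => hnd u (fun v => hu v Submodule.mem_top))
  have hfe : ∀ i i', B (f' i) (e i') = if i = i' then -1 else 0 := by
    intro i i'
    have h3 : B (f' i) (e i') = - B (e i') (f' i) := by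
      have h4 := hA (f' i + e i')
      simp only [map_add, LinearMap.add_apply, hA (f' i), hA (e i')] at h4
      linear_combination h4
    rw [h3, hef]
    by_cases hii : i = i'
    · rw [if_pos hii, if_pos hii.symm]
    · rw [if_neg hii, if_neg (Ne.symm hii), neg_zero]
  have eι : ι ≃ Fin m := (Fintype.equivFin ι).trans (finCongr hm.symm)
  obtain ⟨E, hE⟩ : ∃ E : ι ⊕ ι → V, E = Sum.elim (e ∘ eι) (f' ∘ eι) := ⟨_, rfl⟩
  have hE1 : ∀ i, E (.inl i) = e (eι i) := fun i => by rw [hE]; rfl
  have hE2 : ∀ i, E (.inr i) = f' (eι i) := fun i => by rw [hE]; rfl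
  -- Gram matrix of `E`
  have hG11 : ∀ i j, B (E (.inl i)) (E (.inl j)) = 0 := fun i j => by rw [hE1, hE1, hee]
  have hG22 : ∀ i j, B (E (.inr i)) (E (.inr j)) = 0 := fun i j => by rw [hE2, hE2, hff]
  have hG12 : ∀ i j, B (E (.inl i)) (E (.inr j)) = if i = j then 1 else 0 := fun i j => by
    rw [hE1, hE2, hef]
    by_cases hij : i = j
    · rw [if_pos hij, if_pos (by rw [hij])]
    · rw [if_neg hij, if_neg (fun h => hij (eι.injective h))]
  have hG21 : ∀ i j, B (E (.inr i)) (E (.inl j)) = if i = j then -1 else 0 := fun i j => by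
    rw [hE1, hE2, hfe]
    by_cases hij : i = j
    · rw [if_pos hij, if_pos (by rw [hij])]
    · rw [if_neg hij, if_neg (fun h => hij (eι.injective h))]
  have hLI : LinearIndependent F E := by
    rw [Fintype.linearIndependent_iff]
    intro c hc
    have key : ∀ l, ∑ k, c k * B (E k) (E l) = 0 := by
      intro l
      have h3 := congrArg (fun v => B v (E l)) hc
      simp only [map_sum, map_smul, LinearMap.sum_apply, LinearMap.smul_apply, smul_eq_mul,
        LinearMap.zero_apply, map_zero] at h3
      exact h3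
    rintro (j | j)
    · have h3 := key (.inr j)
      rw [Fintype.sum_sum_type] at h3
      simp only [hG12, hG22, mul_zero, Finset.sum_const_zero, add_zero, mul_ite, mul_one,
        Finset.sum_ite_eq', Finset.mem_univ, if_true] at h3
      exact h3
    · have h3 := key (.inl j)
      rw [Fintype.sum_sum_type] at h3
      simp only [hG11, hG21, mul_zero, Finset.sum_const_zero, zero_add, mul_ite, mul_neg, mul_one,
        Finset.sum_ite_eq', Finset.mem_univ, if_true] at h3
      exact neg_eq_zero.mp h3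
  have hcardE : Fintype.card (ι ⊕ ι) = finrank F V := by rw [Fintype.card_sum, hcard]
  have : Nonempty (ι ⊕ ι) := ⟨.inl i0⟩
  obtain ⟨bE, hbE⟩ : ∃ bE : Basis (ι ⊕ ι) F V, ⇑bE = E :=
    ⟨basisOfLinearIndependentOfCardEqFinrank hLI hcardE,
      coe_basisOfLinearIndependentOfCardEqFinrank hLI hcardE⟩
  -- rescale to get determinant one
  have hunit : IsUnit (bas.det bE) := bas.isUnit_det bE
  obtain ⟨t, ht⟩ : ∃ t : Fˣ, (t : F) * bas.det bE = 1 :=
    ⟨hunit.unit⁻¹, by rw [Units.val_inv_eq_inv_val, IsUnit.unit_spec]; exact inv_mul_cancel₀ hunit.ne_zero⟩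
  obtain ⟨w, hw⟩ : ∃ w : ι ⊕ ι → Fˣ, w = fun k => if k = .inl i0 then t else 1 := ⟨_, rfl⟩
  have hwr : ∀ i, w (.inr i) = 1 := fun i => by rw [hw]; simp
  obtain ⟨bS, hbS⟩ : ∃ bS : Basis (ι ⊕ ι) F V, bS = bE.unitsSMul w := ⟨_, rfl⟩
  have hbSk : ∀ k, bS k = (w k : F) • E k := fun k => by
    rw [hbS, Basis.unitsSMul_apply, hbE, Units.smul_def]
  obtain ⟨g, hg⟩ : ∃ g : V ≃ₗ[F] V, g = bas.equiv bS (Equiv.refl _) := ⟨_, rfl⟩
  have hgb : ∀ k, g (bas k) = bS k := fun k => by rw [hg, Basis.equiv_apply]; rfl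
  have hgs : ∀ k, g.symm (bS k) = bas k := fun k => by rw [LinearEquiv.symm_apply_eq, hgb]
  have hdet : LinearMap.det (g : V →ₗ[F] V) = 1 := by
    have h3 := bas.det_comp (g : V →ₗ[F] V) bas
    rw [Basis.det_self, mul_one] at h3
    rw [← h3]
    have h4 : (⇑(g : V →ₗ[F] V) ∘ ⇑bas) = fun k => (w k : F) • bE k := by
      funext k
      show g (bas k) = _
      rw [hgb, hbSk, hbE]
    rw [h4]
    have h5 := (bas.det).toMultilinearMap.map_smul_univ (fun k => (w k : F)) bE
    have h6 : (bas.det fun k => (w k : F) • bE k) = (∏ k, (w k : F)) • bas.det bE := h5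
    rw [h6, smul_eq_mul]
    have h7 : ∏ k, (w k : F) = t := by
      rw [hw]
      have : ∀ k : ι ⊕ ι, (((if k = .inl i0 then t else 1 : Fˣ) : Fˣ) : F) =
          if k = .inl i0 then (t : F) else 1 := by
        intro k
        split_ifs <;> simp
      simp only [this]
      rw [Finset.prod_ite_eq' Finset.univ (Sum.inl i0) (fun _ => (t : F))]
      simp
    rw [h7, ht]
  refine ⟨g, hdet, ?_⟩
  -- the conjugate of `X`
  obtain ⟨Y, hY⟩ : ∃ Y : V →ₗ[F] V, Y = (g : V →ₗ[F] V) ∘ₗ X ∘ₗ (g.symm : V →ₗ[F] V) := ⟨_, rfl⟩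
  have hYa : ∀ v, Y v = g (X (g.symm v)) := fun v => by rw [hY]; rfl
  obtain ⟨d, hd'⟩ : ∃ d : ι → F, d = fun i => (w (.inl i) : F) := ⟨_, rfl⟩
  have hS1 : ∀ i, bS (.inl i) = d i • E (.inl i) := fun i => by rw [hbSk, hd']
  have hS2 : ∀ i, bS (.inr i) = E (.inr i) := fun i => by
    rw [hbSk, hwr, Units.val_one, one_smul]
  have hY1 : ∀ i, Y (bS (.inl i)) = α i • bS (.inl i) + γ i • bS (.inr i) := fun i => by
    rw [hYa, hgs, h1, map_add, map_smul, map_smul, hgb, hgb]
  have hY2 : ∀ i, Y (bS (.inr i)) = β i • bS (.inl i) + δ i • bS (.inr i) := fun i => by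
    rw [hYa, hgs, h2, map_add, map_smul, map_smul, hgb, hgb]
  have hmain : B.compl₁₂ Y Y = lam • B := by
    apply LinearMap.ext_basis bS bS
    rintro (i | i) (j | j)
    · rw [LinearMap.compl₁₂_apply, hY1, hY1, LinearMap.smul_apply, LinearMap.smul_apply, hS1, hS1,
        hS2, hS2]
      simp only [map_add, map_smul, LinearMap.add_apply, LinearMap.smul_apply, smul_eq_mul,
        hG11, hG12, hG21, hG22]
      by_cases hij : i = j
      · subst hij
        simp only [if_true]
        ring
      · simp only [if_neg hij]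
        ring
    · rw [LinearMap.compl₁₂_apply, hY1, hY2, LinearMap.smul_apply, LinearMap.smul_apply, hS1, hS1,
        hS2, hS2]
      simp only [map_add, map_smul, LinearMap.add_apply, LinearMap.smul_apply, smul_eq_mul,
        hG11, hG12, hG21, hG22]
      by_cases hij : i = j
      · subst hij
        simp only [if_true]
        linear_combination (d i) * hd i
      · simp only [if_neg hij]
        ring
    · rw [LinearMap.compl₁₂_apply, hY2, hY1, LinearMap.smul_apply, LinearMap.smul_apply, hS1, hS1,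
        hS2, hS2]
      simp only [map_add, map_smul, LinearMap.add_apply, LinearMap.smul_apply, smul_eq_mul,
        hG11, hG12, hG21, hG22]
      by_cases hij : i = j
      · subst hij
        simp only [if_true]
        linear_combination (-(d i)) * hd i
      · simp only [if_neg hij]
        ring
    · rw [LinearMap.compl₁₂_apply, hY2, hY2, LinearMap.smul_apply, LinearMap.smul_apply, hS1, hS1,
        hS2, hS2]
      simp only [map_add, map_smul, LinearMap.add_apply, LinearMap.smul_apply, smul_eq_mul,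
        hG11, hG12, hG21, hG22]
      by_cases hij : i = j
      · subst hij
        simp only [if_true]
        ring
      · simp only [if_neg hij]
        ring
  intro u v
  have h3 := congrArg (fun L : LinearMap.BilinForm F V => L u v) hmain
  simp only [LinearMap.compl₁₂_apply, LinearMap.smul_apply, smul_eq_mul] at h3
  rw [← hYa, ← hYa]
  exact h3

end Cfsg.Agent.Helper2.SimInv
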