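import Mathlib
import Cfsg.Prelude.Def_GeometricClasses
import Cfsg.Agent.Helper2.SimInvA
import Cfsg.Agent.Helper2.InvolDecomp

/-!
# Matrix version of the plane transport, and plane systems for `X² = z` (for S5967)
-/

set_option autoImplicit false

namespace Cfsg.Agent.Helper2.SimInv

open Module Matrix Cfsg.Agent.Helper2.InvolDecomp

variable {F : Type*} [Field F]

section transport

variable {n : ℕ}

/-- the bilinear form of a symplectic form -/
noncomputable def bilOf {f : (Fin n → F) → (Fin n → F) → F} (hf : Cfsg.Geo.IsSymplecticForm f) :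
    LinearMap.BilinForm F (Fin n → F) :=
  LinearMap.mk₂ F f hf.bilinear.add_left hf.bilinear.smul_left hf.bilinear.add_right
    hf.bilinear.smul_right

theorem bilOf_apply {f : (Fin n → F) → (Fin n → F) → F} (hf : Cfsg.Geo.IsSymplecticForm f)
    (u v : Fin n → F) : bilOf hf u v = f u v := rfl

theorem exists_conj_of_planes {f : (Fin n → F) → (Fin n → F) → F}
    (hf : Cfsg.Geo.IsSymplecticForm f) (hn : 1 ≤ n) (x : Matrix.SpecialLinearGroup (Fin n) F)
    {lam : F} (hlam : lam ≠ 0)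
    (h : HasPlanes (Matrix.toLin' (x : Matrix (Fin n) (Fin n) F)) lam) :
    ∃ P : Matrix.SpecialLinearGroup (Fin n) F, P⁻¹ * x * P ∈
      ((Cfsg.Geo.similarityGroup f).comap (Matrix.SpecialLinearGroup.toGL :
        Matrix.SpecialLinearGroup (Fin n) F →* GL (Fin n) F)) := by
  classical
  have hA : (bilOf hf).IsAlt := fun v => hf.alternating v
  have hnd : ∀ u, (∀ v, bilOf hf u v = 0) → u = 0 := by
    intro u hu
    by_contra hne
    obtain ⟨-, y, hy⟩ := hf.nondegenerate u hne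
    exact hy (hu y)
  obtain ⟨g, hdet, hsim⟩ := exists_equiv_of_planes (bilOf hf) hA hnd h
    (by rw [Module.finrank_fintype_fun_eq_card, Fintype.card_fin]; exact hn)
  obtain ⟨Pm, hPm⟩ : ∃ Pm : Matrix (Fin n) (Fin n) F,
      Pm = LinearMap.toMatrix' (g.symm : (Fin n → F) →ₗ[F] (Fin n → F)) := ⟨_, rfl⟩
  obtain ⟨Qm, hQm⟩ : ∃ Qm : Matrix (Fin n) (Fin n) F,
      Qm = LinearMap.toMatrix' (g : (Fin n → F) →ₗ[F] (Fin n → F)) := ⟨_, rfl⟩
  have hdetQ : Qm.det = 1 := by rw [hQm, LinearMap.det_toMatrix', hdet]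
  have hdetP : Pm.det = 1 := by
    rw [hPm, LinearMap.det_toMatrix']
    have := LinearEquiv.det_mul_det_symm g
    rw [hdet, one_mul] at this
    exact this
  have hPQ : Pm * Qm = 1 := by
    rw [hPm, hQm, ← LinearMap.toMatrix'_comp]
    have : (g.symm : (Fin n → F) →ₗ[F] (Fin n → F)) ∘ₗ (g : (Fin n → F) →ₗ[F] (Fin n → F)) =
        LinearMap.id := by
      ext v
      simp
    rw [this, LinearMap.toMatrix'_id]
  obtain ⟨P, hP⟩ : ∃ P : Matrix.SpecialLinearGroup (Fin n) F, P = ⟨Pm, hdetP⟩ := ⟨_, rfl⟩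
  obtain ⟨Q, hQ⟩ : ∃ Q : Matrix.SpecialLinearGroup (Fin n) F, Q = ⟨Qm, hdetQ⟩ := ⟨_, rfl⟩
  have hinv : P⁻¹ = Q := by
    apply inv_eq_of_mul_eq_one_right
    apply Subtype.ext
    rw [Matrix.SpecialLinearGroup.coe_mul, hP, hQ]
    exact hPQ
  refine ⟨P, ?_⟩
  rw [hinv, Subgroup.mem_comap]
  refine ⟨Units.mk0 lam hlam, ?_⟩
  intro u v
  have hcoe : ((Matrix.SpecialLinearGroup.toGL (Q * x * P) : GL (Fin n) F) :
      Matrix (Fin n) (Fin n) F) = Qm * (x : Matrix (Fin n) (Fin n) F) * Pm := by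
    rw [Matrix.SpecialLinearGroup.coe_GL_coe_matrix, Matrix.SpecialLinearGroup.coe_mul,
      Matrix.SpecialLinearGroup.coe_mul, hP, hQ]
  have hact : ∀ y : Fin n → F, (Qm * (x : Matrix (Fin n) (Fin n) F) * Pm) *ᵥ y =
      g (Matrix.toLin' (x : Matrix (Fin n) (Fin n) F) (g.symm y)) := by
    intro y
    rw [← Matrix.mulVec_mulVec, ← Matrix.mulVec_mulVec, hPm, hQm, LinearMap.toMatrix'_mulVec,
      LinearMap.toMatrix'_mulVec, Matrix.toLin'_apply]
    rfl
  rw [hcoe, hact, hact, Units.val_mk0]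
  exact hsim u v

end transport

/-! ### plane systems from `X² = z` -/

section planes

variable {V : Type*} [AddCommGroup V] [Module F V] [FiniteDimensional F V]
variable {X : V →ₗ[F] V} {z : F}

/-- `z` not a square: planes `⟨w, X w⟩`. -/
theorem hasPlanes_nonsquare (hz : z ≠ 0) (hXX : ∀ v, X (X v) = z • v) (hns : ¬ IsSquare z) :
    HasPlanes X (-z) := by
  classical
  obtain ⟨s, f', w, u, hli, hsp, hu⟩ := exists_PS_top hz hXX (V := V)
  have hempty : IsEmpty (Fin f') := by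
    constructor
    intro k
    obtain ⟨c, hc⟩ := hu k
    apply hns
    refine ⟨c, ?_⟩
    have hne : u k ≠ 0 := by
      have := hli.ne_zero (Sum.inr k)
      exact this
    have h1 := hXX (u k)
    rw [hc, map_smul, hc, smul_smul] at h1
    have h2 : (c * c - z) • u k = 0 := by rw [sub_smul, h1, sub_self]
    rcases smul_eq_zero.mp h2 with h3 | h3
    · exact (sub_eq_zero.mp h3).symm
    · exact absurd h3 hne
  obtain ⟨b0, hb0⟩ : ∃ b0 : Basis ((Fin s ⊕ Fin s) ⊕ Fin f') F V, ⇑b0 = fam X w u :=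
    ⟨Basis.mk hli (by rw [hsp]), Basis.coe_mk hli _⟩
  refine ⟨Fin s, inferInstance, inferInstance, b0.reindex (Equiv.sumEmpty _ _),
    fun _ => 0, fun _ => z, fun _ => 1, fun _ => 0, ?_, ?_, ?_⟩
  · intro i
    rw [Basis.reindex_apply, Basis.reindex_apply, hb0]
    show X (w i) = (0 : F) • w i + (1 : F) • X (w i)
    rw [zero_smul, one_smul, zero_add]
  · intro i
    rw [Basis.reindex_apply, Basis.reindex_apply, hb0]
    show X (X (w i)) = z • w i + (0 : F) • X (w i)
    rw [zero_smul, add_zero, hXX]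
  · intro i
    ring

/-- characteristic two, `z = c²`. -/
theorem hasPlanes_char_two (h2 : (2 : F) = 0) {c : F} (hc : c ≠ 0) (hXX : ∀ v, X (X v) = (c * c) • v)
    (heven : Even (finrank F V)) : HasPlanes X (c * c) := by
  classical
  have hz : c * c ≠ 0 := mul_ne_zero hc hc
  obtain ⟨s, f', w, u, hli, hsp, hu⟩ := exists_PS_top hz hXX (V := V)
  have hu' : ∀ k, X (u k) = c • u k := by
    intro k
    obtain ⟨c', hc'⟩ := hu k
    have hne : u k ≠ 0 := hli.ne_zero (Sum.inr k)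
    have h1 := hXX (u k)
    rw [hc', map_smul, hc', smul_smul] at h1
    have h3 : (c' * c' - c * c) • u k = 0 := by rw [sub_smul, h1, sub_self]
    have h4 : c' * c' - c * c = 0 := by
      rcases smul_eq_zero.mp h3 with h5 | h5
      · exact h5
      · exact absurd h5 hne
    have h5 : (c' - c) * (c' - c) = 0 := by linear_combination h4 + (c * c - c' * c) * h2
    have h6 : c' - c = 0 := by
      rcases mul_self_eq_zero.mp h5 with h7
      exact h7
    rw [hc', sub_eq_zero.mp h6]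
  obtain ⟨b0, hb0⟩ : ∃ b0 : Basis ((Fin s ⊕ Fin s) ⊕ Fin f') F V, ⇑b0 = fam X w u :=
    ⟨Basis.mk hli (by rw [hsp]), Basis.coe_mk hli _⟩
  have hcard : finrank F V = (s + s) + f' := by
    rw [finrank_eq_card_basis b0]
    simp
  obtain ⟨h, hh⟩ : ∃ h, f' = h + h := by
    obtain ⟨r, hr⟩ := heven
    exact ⟨r - s, by omega⟩
  obtain ⟨σ, hσ⟩ : ∃ σ : (Fin s ⊕ Fin h) ⊕ (Fin s ⊕ Fin h) ≃ (Fin s ⊕ Fin s) ⊕ Fin f',
      σ = (Equiv.sumSumSumComm _ _ _ _).trans
        (Equiv.sumCongr (Equiv.refl _) (finSumFinEquiv.trans (finCongr hh.symm))) := ⟨_, rfl⟩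
  have hσ1 : ∀ i, σ (.inl (.inl i)) = .inl (.inl i) := fun i => by rw [hσ]; rfl
  have hσ2 : ∀ i, σ (.inr (.inl i)) = .inl (.inr i) := fun i => by rw [hσ]; rfl
  have hσ3 : ∀ j, ∃ k, σ (.inl (.inr j)) = .inr k := fun j => by rw [hσ]; exact ⟨_, rfl⟩
  have hσ4 : ∀ j, ∃ k, σ (.inr (.inr j)) = .inr k := fun j => by rw [hσ]; exact ⟨_, rfl⟩
  have hneg : -(c * c) = c * c := by linear_combination (-(c * c)) * h2
  refine ⟨Fin s ⊕ Fin h, inferInstance, inferInstance, b0.reindex σ.symm,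
    Sum.elim (fun _ => 0) (fun _ => c), Sum.elim (fun _ => c * c) (fun _ => 0),
    Sum.elim (fun _ => 1) (fun _ => 0), Sum.elim (fun _ => 0) (fun _ => c), ?_, ?_, ?_⟩
  · rintro (i | j)
    · rw [Basis.reindex_apply, Basis.reindex_apply, Equiv.symm_symm, hσ1, hσ2, hb0]
      show X (w i) = (0 : F) • w i + (1 : F) • X (w i)
      rw [zero_smul, one_smul, zero_add]
    · obtain ⟨k, hk⟩ := hσ3 j
      rw [Basis.reindex_apply, Basis.reindex_apply, Equiv.symm_symm, hk, hb0]
      show X (u k) = c • u k + (0 : F) • _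
      rw [zero_smul, add_zero, hu']
  · rintro (i | j)
    · rw [Basis.reindex_apply, Basis.reindex_apply, Equiv.symm_symm, hσ1, hσ2, hb0]
      show X (X (w i)) = (c * c) • w i + (0 : F) • X (w i)
      rw [zero_smul, add_zero, hXX]
    · obtain ⟨k, hk⟩ := hσ4 j
      rw [Basis.reindex_apply, Basis.reindex_apply, Equiv.symm_symm, hk, hb0]
      show X (u k) = (0 : F) • _ + c • u k
      rw [zero_smul, zero_add, hu']
  · rintro (i | j)
    · show (0 : F) * 0 - c * c * 1 = c * c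
      rw [zero_mul, mul_one, zero_sub, hneg]
    · show c * c - (0 : F) * 0 = c * c
      ring

end planes

end Cfsg.Agent.Helper2.SimInv
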