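import Mathlib
import Cfsg.Prelude.Def_GeometricClasses
import Cfsg.Agent.Helper2.SimInvB

/-!
# Odd characteristic eigenbases, arithmetic and the derangement (for S5967)
-/

set_option autoImplicit false

namespace Cfsg.Agent.Helper2.SimInv

open Module Matrix

variable {F : Type*} [Field F]

section eigen

variable {V : Type*} [AddCommGroup V] [Module F V] [FiniteDimensional F V]
variable {X : V →ₗ[F] V}

theorem exists_eigenbasis (h2 : (2 : F) ≠ 0) {c : F} (hc : c ≠ 0)
    (hXX : ∀ v, X (X v) = (c * c) • v) :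
    ∃ (a b : ℕ) (bE : Basis (Fin a ⊕ Fin b) F V), (∀ i, X (bE (.inl i)) = c • bE (.inl i)) ∧
      (∀ j, X (bE (.inr j)) = (-c) • bE (.inr j)) := by
  obtain ⟨Ep, hEp⟩ : ∃ Ep : Submodule F V, Ep = LinearMap.ker (X - c • LinearMap.id) := ⟨_, rfl⟩
  obtain ⟨Em, hEm⟩ : ∃ Em : Submodule F V, Em = LinearMap.ker (X + c • LinearMap.id) := ⟨_, rfl⟩
  have memp : ∀ v, v ∈ Ep ↔ X v = c • v := by
    intro v
    rw [hEp, LinearMap.mem_ker, LinearMap.sub_apply, LinearMap.smul_apply, LinearMap.id_apply,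
      sub_eq_zero]
  have memm : ∀ v, v ∈ Em ↔ X v = (-c) • v := by
    intro v
    rw [hEm, LinearMap.mem_ker, LinearMap.add_apply, LinearMap.smul_apply, LinearMap.id_apply,
      neg_smul, add_eq_zero_iff_eq_neg]
  have h2c : (2 * c : F) ≠ 0 := mul_ne_zero h2 hc
  have hcompl : IsCompl Ep Em := by
    constructor
    · rw [Submodule.disjoint_def]
      intro v hp hm
      rw [memp] at hp
      rw [memm] at hm
      have h3 : (2 * c) • v = 0 := by
        have h4 : c • v = (-c) • v := by rw [← hp, hm]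
        rw [neg_smul] at h4
        rw [two_mul, add_smul]
        nth_rewrite 1 [h4]
        rw [neg_add_cancel]
      rcases smul_eq_zero.mp h3 with h | h
      · exact absurd h h2c
      · exact h
    · rw [codisjoint_iff, eq_top_iff]
      intro v _
      have hp : X v + c • v ∈ Ep := by
        rw [memp, map_add, map_smul, hXX, smul_add, smul_smul, add_comm]
      have hm : X v - c • v ∈ Em := by
        rw [memm, map_sub, map_smul, hXX]
        module
      have hv : v = (2 * c)⁻¹ • (X v + c • v) + (-(2 * c)⁻¹) • (X v - c • v) := by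
        rw [neg_smul, ← sub_eq_add_neg, ← smul_sub]
        have h3 : X v + c • v - (X v - c • v) = (2 * c) • v := by
          rw [two_mul, add_smul]
          abel
        rw [h3, smul_smul, inv_mul_cancel₀ h2c, one_smul]
      rw [hv]
      exact Submodule.add_mem_sup (Ep.smul_mem _ hp) (Em.smul_mem _ hm)
  refine ⟨finrank F Ep, finrank F Em,
    ((finBasis F Ep).prod (finBasis F Em)).map (Ep.prodEquivOfIsCompl Em hcompl), ?_, ?_⟩
  · intro i
    have h3 : (((finBasis F Ep).prod (finBasis F Em)).map (Ep.prodEquivOfIsCompl Em hcompl))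
        (.inl i) = ((finBasis F Ep i : Ep) : V) := by
      rw [Basis.map_apply, Basis.prod_apply, Submodule.coe_prodEquivOfIsCompl']
      simp
    rw [h3]
    exact (memp _).mp (finBasis F Ep i).2
  · intro j
    have h3 : (((finBasis F Ep).prod (finBasis F Em)).map (Ep.prodEquivOfIsCompl Em hcompl))
        (.inr j) = ((finBasis F Em j : Em) : V) := by
      rw [Basis.map_apply, Basis.prod_apply, Submodule.coe_prodEquivOfIsCompl']
      simp
    rw [h3]
    exact (memm _).mp (finBasis F Em j).2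

theorem det_of_eigenbasis {a b : ℕ} (bE : Basis (Fin a ⊕ Fin b) F V) {c : F}
    (h1 : ∀ i, X (bE (.inl i)) = c • bE (.inl i))
    (h2 : ∀ j, X (bE (.inr j)) = (-c) • bE (.inr j)) :
    LinearMap.det X = c ^ a * (-c) ^ b := by
  classical
  rw [← LinearMap.det_toMatrix bE]
  have h3 : LinearMap.toMatrix bE bE X =
      Matrix.diagonal (Sum.elim (fun _ => c) (fun _ => -c)) := by
    ext k l
    rw [LinearMap.toMatrix_apply, Matrix.diagonal_apply]
    rcases l with l | l
    · rw [h1, map_smul, Basis.repr_self, Finsupp.smul_apply, Finsupp.single_apply, smul_eq_mul]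
      by_cases hkl : k = Sum.inl l
      · subst hkl
        simp
      · rw [if_neg hkl, if_neg (Ne.symm hkl), mul_zero]
    · rw [h2, map_smul, Basis.repr_self, Finsupp.smul_apply, Finsupp.single_apply, smul_eq_mul]
      by_cases hkl : k = Sum.inr l
      · subst hkl
        simp
      · rw [if_neg hkl, if_neg (Ne.symm hkl), mul_zero]
  rw [h3, Matrix.det_diagonal, Fintype.prod_sum_type]
  simp

theorem hasPlanes_of_eigenbasis {a' b' : ℕ} (bE : Basis (Fin (a' + a') ⊕ Fin (b' + b')) F V)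
    {c : F} (h1 : ∀ i, X (bE (.inl i)) = c • bE (.inl i))
    (h2 : ∀ j, X (bE (.inr j)) = (-c) • bE (.inr j)) : HasPlanes X (c * c) := by
  classical
  obtain ⟨σ, hσ⟩ : ∃ σ : (Fin a' ⊕ Fin b') ⊕ (Fin a' ⊕ Fin b') ≃ Fin (a' + a') ⊕ Fin (b' + b'),
      σ = (Equiv.sumSumSumComm _ _ _ _).trans
        (Equiv.sumCongr finSumFinEquiv finSumFinEquiv) := ⟨_, rfl⟩
  have hσ1 : ∀ i, ∃ k, σ (.inl (.inl i)) = .inl k := fun i => by rw [hσ]; exact ⟨_, rfl⟩
  have hσ2 : ∀ i, ∃ k, σ (.inr (.inl i)) = .inl k := fun i => by rw [hσ]; exact ⟨_, rfl⟩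
  have hσ3 : ∀ j, ∃ k, σ (.inl (.inr j)) = .inr k := fun j => by rw [hσ]; exact ⟨_, rfl⟩
  have hσ4 : ∀ j, ∃ k, σ (.inr (.inr j)) = .inr k := fun j => by rw [hσ]; exact ⟨_, rfl⟩
  refine ⟨Fin a' ⊕ Fin b', inferInstance, inferInstance, bE.reindex σ.symm,
    Sum.elim (fun _ => c) (fun _ => -c), fun _ => 0, fun _ => 0,
    Sum.elim (fun _ => c) (fun _ => -c), ?_, ?_, ?_⟩
  · rintro (i | j)
    · obtain ⟨k, hk⟩ := hσ1 i
      rw [Basis.reindex_apply, Basis.reindex_apply, Equiv.symm_symm, hk, h1]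
      show c • bE (Sum.inl k) = c • bE (Sum.inl k) + (0 : F) • _
      rw [zero_smul, add_zero]
    · obtain ⟨k, hk⟩ := hσ3 j
      rw [Basis.reindex_apply, Basis.reindex_apply, Equiv.symm_symm, hk, h2]
      show (-c) • bE (Sum.inr k) = (-c) • bE (Sum.inr k) + (0 : F) • _
      rw [zero_smul, add_zero]
  · rintro (i | j)
    · obtain ⟨k, hk⟩ := hσ2 i
      rw [Basis.reindex_apply, Basis.reindex_apply, Equiv.symm_symm, hk, h1]
      show c • bE (Sum.inl k) = (0 : F) • _ + c • bE (Sum.inl k)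
      rw [zero_smul, zero_add]
    · obtain ⟨k, hk⟩ := hσ4 j
      rw [Basis.reindex_apply, Basis.reindex_apply, Equiv.symm_symm, hk, h2]
      show (-c) • bE (Sum.inr k) = (0 : F) • _ + (-c) • bE (Sum.inr k)
      rw [zero_smul, zero_add]
  · rintro (i | j)
    · show c * c - (0 : F) * 0 = c * c
      ring
    · show (-c) * (-c) - (0 : F) * 0 = c * c
      ring

end eigen

/-! ### arithmetic -/

section arith

variable [Fintype F]

theorem no_neg_one_pow {q n : ℕ} (hq : Fintype.card F = q) (h2 : (2 : F) ≠ 0) (hn : n ≠ 0)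
    (hv : padicValNat 2 (q - 1) ≤ padicValNat 2 n) (c : F) (hc : c ^ n = -1) : False := by
  have hc0 : c ≠ 0 := by
    rintro rfl
    rw [zero_pow hn] at hc
    have : (1 : F) = 0 := by linear_combination hc
    exact one_ne_zero this
  have hq2 : 2 ≤ q := by rw [← hq]; exact Fintype.one_lt_card
  have hq1 : q - 1 ≠ 0 := by omega
  obtain ⟨e, t, ht, hqt⟩ := Nat.exists_eq_pow_mul_and_not_dvd hq1 2 (by norm_num)
  have ht0 : t ≠ 0 := by
    rintro rfl
    exact ht (dvd_zero 2)
  have hve : padicValNat 2 (q - 1) = e := by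
    rw [hqt, padicValNat.mul (pow_ne_zero _ (by norm_num)) ht0, padicValNat.prime_pow,
      padicValNat.eq_zero_of_not_dvd ht, add_zero]
  have hdvd : 2 ^ e ∣ n := (padicValNat_dvd_iff_le hn).mpr (by rw [← hve]; exact hv)
  obtain ⟨n', hn'⟩ := hdvd
  have htodd : Odd t := by
    rw [← Nat.not_even_iff_odd, even_iff_two_dvd]
    exact ht
  have h3 : c ^ (n * t) = -1 := by
    rw [pow_mul, hc, htodd.neg_one_pow]
  have h4 : c ^ (n * t) = 1 := by
    have h5 : n * t = (q - 1) * n' := by rw [hn', hqt]; ring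
    rw [h5, pow_mul, ← hq, FiniteField.pow_card_sub_one_eq_one c hc0, one_pow]
  rw [h4] at h3
  apply h2
  linear_combination h3

theorem exists_pow_eq_neg_one {q n : ℕ} (hq : Fintype.card F = q) (hn : n ≠ 0)
    (hv : padicValNat 2 n < padicValNat 2 (q - 1)) : ∃ c : F, c ^ n = -1 ∧ (2 : F) ≠ 0 := by
  classical
  have hq2 : 2 ≤ q := by rw [← hq]; exact Fintype.one_lt_card
  have hq1 : q - 1 ≠ 0 := by omega
  have hcardU : Nat.card Fˣ = q - 1 := by
    rw [Nat.card_eq_fintype_card, Fintype.card_units, hq]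
  have hR := IsCyclic.card_powMonoidHom_range Fˣ n
  rw [hcardU] at hR
  obtain ⟨g, hg⟩ : ∃ g, g = (q - 1).gcd n := ⟨_, rfl⟩
  rw [← hg] at hR
  have hg0 : g ≠ 0 := by
    rw [hg]
    exact Nat.gcd_ne_zero_left hq1
  have hgq : g ∣ q - 1 := by rw [hg]; exact Nat.gcd_dvd_left _ _
  have hgn : g ∣ n := by rw [hg]; exact Nat.gcd_dvd_right _ _
  obtain ⟨k, hk⟩ := hgq
  have hk0 : k ≠ 0 := by
    rintro rfl
    rw [mul_zero] at hk
    exact hq1 hk
  have hkdiv : (q - 1) / g = k := by
    rw [hk, Nat.mul_div_cancel_left _ (Nat.pos_of_ne_zero hg0)]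
  rw [hkdiv] at hR
  have hvg : padicValNat 2 g ≤ padicValNat 2 n :=
    (padicValNat_dvd_iff_le hn).mp (dvd_trans pow_padicValNat_dvd hgn)
  have hkeven : 2 ∣ k := by
    by_contra hodd
    have h3 : padicValNat 2 (q - 1) = padicValNat 2 g := by
      rw [hk, padicValNat.mul hg0 hk0, padicValNat.eq_zero_of_not_dvd hodd, add_zero]
    omega
  have hdvd : 2 ∣ Nat.card ↥(powMonoidHom n : Fˣ →* Fˣ).range := by rw [hR]; exact hkeven
  obtain ⟨a, ha⟩ := exists_prime_orderOf_dvd_card' 2 hdvd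
  obtain ⟨b, hb⟩ := a.2
  have ha1 : a ≠ 1 := by
    intro h
    rw [h, orderOf_one] at ha
    omega
  have ha2 : a ^ 2 = 1 := by rw [← ha]; exact pow_orderOf_eq_one a
  obtain ⟨y, hy⟩ : ∃ y : F, y = ((a : Fˣ) : F) := ⟨_, rfl⟩
  have hy1 : y ≠ 1 := by
    intro h
    apply ha1
    apply Subtype.ext
    apply Units.ext
    rw [← hy, h]
    rfl
  have hy2 : y * y = 1 := by
    have h3 := congrArg (fun u : ↥(powMonoidHom n : Fˣ →* Fˣ).range => ((u : Fˣ) : F)) ha2
    simp only [Subgroup.coe_pow, Units.val_pow_eq_pow_val, Subgroup.coe_one, Units.val_one] at h3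
    rw [← hy, pow_two] at h3
    exact h3
  have hy3 : (y - 1) * (y + 1) = 0 := by linear_combination hy2
  have hy4 : y = -1 := by
    rcases mul_eq_zero.mp hy3 with h | h
    · exact absurd (sub_eq_zero.mp h) hy1
    · exact eq_neg_of_add_eq_zero_left h
  refine ⟨(b : F), ?_, ?_⟩
  · have h3 : ((b ^ n : Fˣ) : F) = y := by
      rw [hy, ← hb]
      rfl
    rw [← hy4, ← h3, Units.val_pow_eq_pow_val]
  · intro h2
    apply hy1
    rw [hy4]
    linear_combination -h2

end arith

end Cfsg.Agent.Helper2.SimInv
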