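import Mathlib
import Cfsg.Prelude.Def_GeometricClasses
import Cfsg.Agent.Helper2.InvolDecomp
import Cfsg.Agent.Helper2.SimInvC

/-!
# Conjugacy of maps with the same irreducible square, by a map of determinant one (for S5969)
-/

set_option autoImplicit false

namespace Cfsg.Agent.Helper2.FSub

open Module Matrix Cfsg.Agent.Helper2.InvolDecomp

variable {F : Type*} [Field F] {V : Type*} [AddCommGroup V] [Module F V]

theorem det_plane_local {ι : Type*} [Fintype ι] [DecidableEq ι] (b : Basis ι F V)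
    (h : V →ₗ[F] V) {k1 k2 : ι} (hk : k1 ≠ k2) {a1 a2 c1 c2 : F}
    (h1 : h (b k1) = a1 • b k1 + a2 • b k2) (h2 : h (b k2) = c1 • b k1 + c2 • b k2)
    (h3 : ∀ k, k ≠ k1 → k ≠ k2 → h (b k) = b k) : LinearMap.det h = a1 * c2 - a2 * c1 := by
  obtain ⟨y1, hy1⟩ : ∃ y1 : V, y1 = a1 • b k1 + a2 • b k2 := ⟨_, rfl⟩
  have hcomp : (⇑h ∘ ⇑b) =
      Function.update (Function.update (⇑b) k1 y1) k2 (c1 • b k1 + c2 • b k2) := by
    funext k
    rw [Function.comp_apply]
    by_cases hk2 : k = k2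
    · rw [hk2, Function.update_self, h2]
    · rw [Function.update_of_ne hk2]
      by_cases hk1 : k = k1
      · rw [hk1, Function.update_self, h1, hy1]
      · rw [Function.update_of_ne hk1, h3 k hk1 hk2]
  have hdet := b.det_comp h b
  rw [Basis.det_self, mul_one] at hdet
  rw [← hdet, hcomp, AlternatingMap.map_update_add, AlternatingMap.map_update_smul,
    AlternatingMap.map_update_smul]
  have hA : Function.update (Function.update (⇑b) k1 y1) k2 (b k1) =
      Function.update (Function.update (⇑b) k2 (b k1)) k1 y1 :=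
    Function.update_comm hk y1 (b k1) ⇑b
  have hB : Function.update (Function.update (⇑b) k1 y1) k2 (b k2) =
      Function.update (⇑b) k1 y1 := by
    funext k
    by_cases hk2 : k = k2
    · rw [hk2, Function.update_self, Function.update_of_ne (Ne.symm hk)]
    · rw [Function.update_of_ne hk2]
  rw [hA, hB, hy1, AlternatingMap.map_update_add, AlternatingMap.map_update_smul,
    AlternatingMap.map_update_smul, AlternatingMap.map_update_add, AlternatingMap.map_update_smul,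
    AlternatingMap.map_update_smul]
  have hT1 : b.det (Function.update (Function.update (⇑b) k2 (b k1)) k1 (b k1)) = 0 := by
    refine (b.det).map_eq_zero_of_eq _ (i := k1) (j := k2) ?_ hk
    rw [Function.update_self, Function.update_of_ne (Ne.symm hk), Function.update_self]
  have hT2 : b.det (Function.update (Function.update (⇑b) k2 (b k1)) k1 (b k2)) = -1 := by
    have e : Function.update (Function.update (⇑b) k2 (b k1)) k1 (b k2) =
        ⇑b ∘ Equiv.swap k1 k2 := by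
      funext k
      rw [Function.comp_apply]
      by_cases hk1 : k = k1
      · rw [hk1, Function.update_self, Equiv.swap_apply_left]
      · rw [Function.update_of_ne hk1]
        by_cases hk2 : k = k2
        · rw [hk2, Function.update_self, Equiv.swap_apply_right]
        · rw [Function.update_of_ne hk2, Equiv.swap_apply_of_ne_of_ne hk1 hk2]
    rw [e, AlternatingMap.map_swap _ _ hk, Basis.det_self]
  have hT3 : b.det (Function.update (⇑b) k1 (b k1)) = 1 := by
    rw [Function.update_eq_self, Basis.det_self]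
  have hT4 : b.det (Function.update (⇑b) k1 (b k2)) = 0 := by
    refine (b.det).map_eq_zero_of_eq _ (i := k1) (j := k2) ?_ hk
    rw [Function.update_self, Function.update_of_ne (Ne.symm hk)]
  rw [hT1, hT2, hT3, hT4]
  simp only [smul_eq_mul]
  ring

theorem exists_cyclic_basis [FiniteDimensional F V] {X : V →ₗ[F] V} {η : F} (hη : η ≠ 0)
    (hXX : ∀ v, X (X v) = η • v) (hns : ¬ IsSquare η) :
    ∃ (s : ℕ) (bas : Basis (Fin s ⊕ Fin s) F V), (∀ i, X (bas (.inl i)) = bas (.inr i)) ∧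
      (∀ i, X (bas (.inr i)) = η • bas (.inl i)) := by
  classical
  obtain ⟨s, f', w, u, hli, hsp, hu⟩ := exists_PS_top hη hXX (V := V)
  have hempty : IsEmpty (Fin f') := by
    constructor
    intro k
    obtain ⟨c, hc⟩ := hu k
    apply hns
    refine ⟨c, ?_⟩
    have hne : u k ≠ 0 := by
      have := hli.ne_zero (Sum.inr k)
      exact this
    have h1 := hXX (u k)
    rw [hc, map_smul, hc, smul_smul] at h1
    have h2 : (c * c - η) • u k = 0 := by rw [sub_smul, h1, sub_self]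
    rcases smul_eq_zero.mp h2 with h3 | h3
    · exact (sub_eq_zero.mp h3).symm
    · exact absurd h3 hne
  obtain ⟨b0, hb0⟩ : ∃ b0 : Basis ((Fin s ⊕ Fin s) ⊕ Fin f') F V, ⇑b0 = fam X w u :=
    ⟨Basis.mk hli (by rw [hsp]), Basis.coe_mk hli _⟩
  refine ⟨s, b0.reindex (Equiv.sumEmpty _ _), ?_, ?_⟩
  · intro i
    rw [Basis.reindex_apply, Basis.reindex_apply, hb0]
    rfl
  · intro i
    rw [Basis.reindex_apply, Basis.reindex_apply, hb0]
    show X (X (w i)) = η • w i
    rw [hXX]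

theorem exists_conj_cyclic [FiniteDimensional F V] {η : F} (hη : η ≠ 0) (hns : ¬ IsSquare η)
    (hnorm : ∀ c : F, c ≠ 0 → ∃ a b : F, a * a - η * b * b = c)
    {J Ω : V →ₗ[F] V} (hJ : ∀ v, J (J v) = η • v) (hΩ : ∀ v, Ω (Ω v) = η • v)
    (hdim : 1 ≤ finrank F V) :
    ∃ G : V →ₗ[F] V, LinearMap.det G = 1 ∧ ∀ v, G (J v) = Ω (G v) := by
  classical
  obtain ⟨s, 𝔸, hA1, hA2⟩ := exists_cyclic_basis hη hJ hns
  obtain ⟨s', 𝔹, hB1, hB2⟩ := exists_cyclic_basis hη hΩ hns
  have hs1 : finrank F V = s + s := by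
    rw [finrank_eq_card_basis 𝔸, Fintype.card_sum, Fintype.card_fin]
  have hs2 : finrank F V = s' + s' := by
    rw [finrank_eq_card_basis 𝔹, Fintype.card_sum, Fintype.card_fin]
  have hspos : 0 < s := by omega
  obtain ⟨i0⟩ : Nonempty (Fin s) := ⟨⟨0, hspos⟩⟩
  have hss : s' = s := by omega
  subst hss
  obtain ⟨G0, hG0⟩ : ∃ G0 : V →ₗ[F] V, G0 = 𝔸.constr F ⇑𝔹 := ⟨_, rfl⟩
  have hG0b : ∀ k, G0 (𝔸 k) = 𝔹 k := fun k => by rw [hG0, Basis.constr_basis]
  have hdet0 : LinearMap.det G0 = 𝔸.det 𝔹 := by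
    have h3 := 𝔸.det_comp G0 𝔸
    rw [Basis.det_self, mul_one] at h3
    rw [← h3]
    congr 1
    funext k
    exact hG0b k
  have hd0 : LinearMap.det G0 ≠ 0 := by
    rw [hdet0]; exact (𝔸.isUnit_det 𝔹).ne_zero
  obtain ⟨a, b, hab⟩ := hnorm (LinearMap.det G0)⁻¹ (inv_ne_zero hd0)
  obtain ⟨h, hh⟩ : ∃ h : V →ₗ[F] V, h = 𝔹.constr F (fun k =>
      if k = Sum.inl i0 then a • 𝔹 (.inl i0) + b • 𝔹 (.inr i0)
      else if k = Sum.inr i0 then (η * b) • 𝔹 (.inl i0) + a • 𝔹 (.inr i0) else 𝔹 k) :=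
    ⟨_, rfl⟩
  have hh1 : h (𝔹 (.inl i0)) = a • 𝔹 (.inl i0) + b • 𝔹 (.inr i0) := by
    rw [hh, Basis.constr_basis, if_pos rfl]
  have hh2 : h (𝔹 (.inr i0)) = (η * b) • 𝔹 (.inl i0) + a • 𝔹 (.inr i0) := by
    rw [hh, Basis.constr_basis, if_neg (by simp), if_pos rfl]
  have hh3 : ∀ k, k ≠ Sum.inl i0 → k ≠ Sum.inr i0 → h (𝔹 k) = 𝔹 k := by
    intro k h1 h2
    rw [hh, Basis.constr_basis, if_neg h1, if_neg h2]
  have hdeth : LinearMap.det h = a * a - b * (η * b) :=
    det_plane_local 𝔹 h (by simp) hh1 hh2 hh3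
  have hG0J : ∀ v, G0 (J v) = Ω (G0 v) := by
    have h3 : G0 ∘ₗ J = Ω ∘ₗ G0 := by
      apply 𝔸.ext
      rintro (i | i)
      · simp only [LinearMap.comp_apply]
        rw [hA1, hG0b, hG0b, hB1]
      · simp only [LinearMap.comp_apply]
        rw [hA2, map_smul, hG0b, hG0b, hB2]
    exact fun v => LinearMap.congr_fun h3 v
  have hhΩ : h ∘ₗ Ω = Ω ∘ₗ h := by
    apply 𝔹.ext
    rintro (i | i)
    · by_cases hi : i = i0
      · rw [hi]
        simp only [LinearMap.comp_apply]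
        rw [hB1, hh2, hh1, map_add, map_smul, map_smul, hB1, hB2]
        module
      · have e1 : (Sum.inl i : Fin s' ⊕ Fin s') ≠ Sum.inl i0 := fun h => hi (Sum.inl_injective h)
        have e2 : (Sum.inl i : Fin s' ⊕ Fin s') ≠ Sum.inr i0 := Sum.inl_ne_inr
        have e3 : (Sum.inr i : Fin s' ⊕ Fin s') ≠ Sum.inl i0 := Sum.inr_ne_inl
        have e4 : (Sum.inr i : Fin s' ⊕ Fin s') ≠ Sum.inr i0 := fun h => hi (Sum.inr_injective h)
        simp only [LinearMap.comp_apply]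
        rw [hB1, hh3 _ e3 e4, hh3 _ e1 e2, hB1]
    · by_cases hi : i = i0
      · rw [hi]
        simp only [LinearMap.comp_apply]
        rw [hB2, map_smul, hh1, hh2, map_add, map_smul, map_smul, hB1, hB2]
        module
      · have e1 : (Sum.inl i : Fin s' ⊕ Fin s') ≠ Sum.inl i0 := fun h => hi (Sum.inl_injective h)
        have e2 : (Sum.inl i : Fin s' ⊕ Fin s') ≠ Sum.inr i0 := Sum.inl_ne_inr
        have e3 : (Sum.inr i : Fin s' ⊕ Fin s') ≠ Sum.inl i0 := Sum.inr_ne_inl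
        have e4 : (Sum.inr i : Fin s' ⊕ Fin s') ≠ Sum.inr i0 := fun h => hi (Sum.inr_injective h)
        simp only [LinearMap.comp_apply]
        rw [hB2, map_smul, hh3 _ e1 e2, hh3 _ e3 e4, hB2]
  refine ⟨h ∘ₗ G0, ?_, ?_⟩
  · rw [LinearMap.det_comp, hdeth]
    have h3 : a * a - b * (η * b) = (LinearMap.det G0)⁻¹ := by rw [← hab]; ring
    rw [h3, inv_mul_cancel₀ hd0]
  · intro v
    show h (G0 (J v)) = Ω (h (G0 v))
    rw [hG0J v]
    exact LinearMap.congr_fun hhΩ (G0 v)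

theorem nonsq_ratio [Fintype F] (h2 : (2 : F) ≠ 0) {z η : F} (hz : z ≠ 0) (hη : η ≠ 0)
    (hzn : ¬ IsSquare z) (hηn : ¬ IsSquare η) : ∃ s : F, s ≠ 0 ∧ z = η * (s * s) := by
  have hF : ringChar F ≠ 2 := by
    intro h
    apply h2
    have h3 := ringChar.Nat.cast_ringChar (R := F)
    rw [h] at h3
    exact_mod_cast h3
  have h1 := (FiniteField.pow_dichotomy hF hz).resolve_left
    (fun h => hzn ((FiniteField.isSquare_iff hF hz).mpr h))
  have h3 := (FiniteField.pow_dichotomy hF hη).resolve_left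
    (fun h => hηn ((FiniteField.isSquare_iff hF hη).mpr h))
  have h4 : IsSquare (z / η) := by
    rw [FiniteField.isSquare_iff hF (div_ne_zero hz hη), div_pow, h1, h3]
    exact div_self (neg_ne_zero.mpr one_ne_zero)
  obtain ⟨s, hs⟩ := h4
  refine ⟨s, ?_, ?_⟩
  · rintro rfl
    rw [mul_zero] at hs
    exact div_ne_zero hz hη hs
  · rw [← hs]
    field_simp

theorem exists_J_of_eigenbasis {X : V →ₗ[F] V} {a' b' : ℕ}
    (bE : Basis (Fin (a' + a') ⊕ Fin (b' + b')) F V) {c : F}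
    (h1 : ∀ i, X (bE (.inl i)) = c • bE (.inl i))
    (h2 : ∀ j, X (bE (.inr j)) = (-c) • bE (.inr j)) (η : F) :
    ∃ J : V →ₗ[F] V, (∀ v, J (J v) = η • v) ∧ (∀ v, J (X v) = X (J v)) := by
  classical
  obtain ⟨σ, hσ⟩ : ∃ σ : (Fin a' ⊕ Fin b') ⊕ (Fin a' ⊕ Fin b') ≃ Fin (a' + a') ⊕ Fin (b' + b'),
      σ = (Equiv.sumSumSumComm _ _ _ _).trans
        (Equiv.sumCongr finSumFinEquiv finSumFinEquiv) := ⟨_, rfl⟩
  have hσ1 : ∀ i, ∃ k, σ (.inl (.inl i)) = .inl k := fun i => by rw [hσ]; exact ⟨_, rfl⟩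
  have hσ2 : ∀ i, ∃ k, σ (.inr (.inl i)) = .inl k := fun i => by rw [hσ]; exact ⟨_, rfl⟩
  have hσ3 : ∀ j, ∃ k, σ (.inl (.inr j)) = .inr k := fun j => by rw [hσ]; exact ⟨_, rfl⟩
  have hσ4 : ∀ j, ∃ k, σ (.inr (.inr j)) = .inr k := fun j => by rw [hσ]; exact ⟨_, rfl⟩
  obtain ⟨bas, hbas⟩ : ∃ bas : Basis ((Fin a' ⊕ Fin b') ⊕ (Fin a' ⊕ Fin b')) F V,
      bas = bE.reindex σ.symm := ⟨_, rfl⟩
  obtain ⟨ε, hε⟩ : ∃ ε : Fin a' ⊕ Fin b' → F, ε = Sum.elim (fun _ => c) (fun _ => -c) :=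
    ⟨_, rfl⟩
  have hX1 : ∀ k, X (bas (.inl k)) = ε k • bas (.inl k) := by
    rintro (i | j)
    · obtain ⟨k, hk⟩ := hσ1 i
      rw [hbas, Basis.reindex_apply, Equiv.symm_symm, hk, h1, hε]
      rfl
    · obtain ⟨k, hk⟩ := hσ3 j
      rw [hbas, Basis.reindex_apply, Equiv.symm_symm, hk, h2, hε]
      rfl
  have hX2 : ∀ k, X (bas (.inr k)) = ε k • bas (.inr k) := by
    rintro (i | j)
    · obtain ⟨k, hk⟩ := hσ2 i
      rw [hbas, Basis.reindex_apply, Equiv.symm_symm, hk, h1, hε]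
      rfl
    · obtain ⟨k, hk⟩ := hσ4 j
      rw [hbas, Basis.reindex_apply, Equiv.symm_symm, hk, h2, hε]
      rfl
  obtain ⟨J, hJ⟩ : ∃ J : V →ₗ[F] V, J = bas.constr F
      (Sum.elim (fun k => bas (.inr k)) (fun k => η • bas (.inl k))) := ⟨_, rfl⟩
  have hJ1 : ∀ k, J (bas (.inl k)) = bas (.inr k) := fun k => by
    rw [hJ, Basis.constr_basis]; rfl
  have hJ2 : ∀ k, J (bas (.inr k)) = η • bas (.inl k) := fun k => by
    rw [hJ, Basis.constr_basis]; rfl
  have hJJ : J ∘ₗ J = η • LinearMap.id := by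
    apply bas.ext
    rintro (k | k)
    · simp only [LinearMap.comp_apply, LinearMap.smul_apply, LinearMap.id_apply]
      rw [hJ1, hJ2]
    · simp only [LinearMap.comp_apply, LinearMap.smul_apply, LinearMap.id_apply]
      rw [hJ2, map_smul, hJ1]
  have hJX : J ∘ₗ X = X ∘ₗ J := by
    apply bas.ext
    rintro (k | k)
    · simp only [LinearMap.comp_apply]
      rw [hX1, map_smul, hJ1, hX2]
    · simp only [LinearMap.comp_apply]
      rw [hX2, map_smul, hJ2, map_smul, hX1, smul_comm]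
  exact ⟨J, fun v => LinearMap.congr_fun hJJ v, fun v => LinearMap.congr_fun hJX v⟩

end Cfsg.Agent.Helper2.FSub
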