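import Mathlib
import Cfsg.Prelude.Def_GeometricClasses
import Cfsg.Agent.Helper2.FieldSubB
import Cfsg.Agent.Helper2.FieldSubC
import Cfsg.Agent.Helper2.FieldSubD

/-!
# Involutions of `PSL_n(q)` and extension-field subgroups of degree two (S5969)
-/

set_option autoImplicit false

namespace Cfsg.Agent.Helper2.FSub

open Module Matrix

variable {F : Type*} [Field F]

theorem conj_odd [Fintype F] {n : ℕ} {q : ℕ} (hq : Fintype.card F = q) (hn : 1 ≤ n)
    (he : Even n) {K : Subalgebra F (Matrix (Fin n) (Fin n) F)}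
    {ω : Matrix (Fin n) (Fin n) F} {p t : F} (hG : Gen K ω p t) (h2 : (2 : F) ≠ 0)
    (hv : padicValNat 2 (q - 1) ≤ padicValNat 2 n)
    (x : Matrix.SpecialLinearGroup (Fin n) F)
    (hx1 : ∃ z : F, ((x ^ 2 : Matrix.SpecialLinearGroup (Fin n) F) : Matrix (Fin n) (Fin n) F) =
      z • (1 : Matrix (Fin n) (Fin n) F)) :
    ∃ P : Matrix.SpecialLinearGroup (Fin n) F, P⁻¹ * x * P ∈
      ((Cfsg.Geo.subalgebraNormalizer K).comap (Matrix.SpecialLinearGroup.toGL :
        Matrix.SpecialLinearGroup (Fin n) F →* GL (Fin n) F)) := by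
  classical
  have hn0 : n ≠ 0 := by omega
  obtain ⟨z, hz⟩ := hx1
  obtain ⟨xm, hxm⟩ : ∃ xm : Matrix (Fin n) (Fin n) F, xm = (x : Matrix (Fin n) (Fin n) F) :=
    ⟨_, rfl⟩
  have hmul : xm * xm = z • (1 : Matrix (Fin n) (Fin n) F) := by
    rw [hxm, ← hz, pow_two]; rfl
  have hxdet : xm.det = 1 := by rw [hxm]; exact x.2
  have hz0 : z ≠ 0 := by
    rintro rfl
    have : Nonempty (Fin n) := ⟨⟨0, by omega⟩⟩
    have h1 := congrArg Matrix.det hmul
    rw [Matrix.det_mul, hxdet, zero_smul, Matrix.det_zero] at h1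
    simp at h1
  -- normalise `ω`
  obtain ⟨s, hs⟩ : ∃ s : F, s = 2⁻¹ * t := ⟨_, rfl⟩
  have hs2 : 2 * s = t := by rw [hs, ← mul_assoc, mul_inv_cancel₀ h2, one_mul]
  obtain ⟨η, hη⟩ : ∃ η : F, η = p + s * s := ⟨_, rfl⟩
  obtain ⟨ω0, hω0⟩ : ∃ ω0 : Matrix (Fin n) (Fin n) F,
      ω0 = ω - s • (1 : Matrix (Fin n) (Fin n) F) := ⟨_, rfl⟩
  have hω0sq : ω0 * ω0 = η • (1 : Matrix (Fin n) (Fin n) F) := by
    rw [hω0]
    simp only [sub_mul, mul_sub, Matrix.smul_mul, Matrix.mul_smul, Matrix.one_mul,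
      Matrix.mul_one]
    rw [hG.sq, hη, ← hs2]
    module
  have hηns : ¬ IsSquare η := by
    rintro ⟨r, hr⟩
    apply hG.irred (r + s)
    linear_combination (r + s) * hs2 - hr + hη
  have hη0 : η ≠ 0 := by
    intro h0
    apply hηns
    rw [h0]
    exact ⟨0, by ring⟩
  have hnorm : ∀ c : F, c ≠ 0 → ∃ a b : F, a * a - η * b * b = c := by
    intro c hc
    obtain ⟨a, b, hab⟩ := hG.norm_surj hc
    refine ⟨a + b * s, b, ?_⟩
    rw [hη]
    linear_combination hab + (a * b) * hs2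
  -- linear maps
  obtain ⟨X, hX⟩ : ∃ X : (Fin n → F) →ₗ[F] (Fin n → F), X = Matrix.toLin' xm := ⟨_, rfl⟩
  have hXX : ∀ v, X (X v) = z • v := by
    intro v
    rw [hX, Matrix.toLin'_apply, Matrix.toLin'_apply, Matrix.mulVec_mulVec, hmul,
      Matrix.smul_mulVec, Matrix.one_mulVec]
  obtain ⟨Ω0, hΩ0⟩ : ∃ Ω0 : (Fin n → F) →ₗ[F] (Fin n → F), Ω0 = Matrix.toLin' ω0 := ⟨_, rfl⟩
  have hΩΩ : ∀ v, Ω0 (Ω0 v) = η • v := by
    intro v
    rw [hΩ0, Matrix.toLin'_apply, Matrix.toLin'_apply, Matrix.mulVec_mulVec, hω0sq,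
      Matrix.smul_mulVec, Matrix.one_mulVec]
  have hfr : finrank F (Fin n → F) = n := by
    rw [Module.finrank_fintype_fun_eq_card, Fintype.card_fin]
  have hdetX : LinearMap.det X = 1 := by rw [hX, LinearMap.det_toLin', hxdet]
  -- the field structure commuting with `X`
  have hJex : ∃ J : (Fin n → F) →ₗ[F] (Fin n → F), (∀ v, J (J v) = η • v) ∧
      (∀ v, J (X v) = X (J v)) := by
    by_cases hsq : IsSquare z
    · obtain ⟨c, hc⟩ := hsq
      have hc0 : c ≠ 0 := by
        rintro rfl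
        rw [mul_zero] at hc
        exact hz0 hc
      rw [hc] at hXX
      obtain ⟨a, b, bE, h1, h2'⟩ := Cfsg.Agent.Helper2.SimInv.exists_eigenbasis h2 hc0 hXX
      have hdet := Cfsg.Agent.Helper2.SimInv.det_of_eigenbasis bE h1 h2'
      rw [hdetX] at hdet
      have hab : a + b = n := by
        have := finrank_eq_card_basis bE
        rw [hfr, Fintype.card_sum, Fintype.card_fin, Fintype.card_fin] at this
        exact this.symm
      have hbeven : Even b := by
        by_contra hodd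
        rw [Nat.not_even_iff_odd] at hodd
        apply Cfsg.Agent.Helper2.SimInv.no_neg_one_pow hq h2 hn0 hv c
        rw [hodd.neg_pow] at hdet
        rw [← hab, pow_add]
        linear_combination hdet
      have haeven : Even a := by
        rcases Nat.even_or_odd a with h | h
        · exact h
        · exfalso
          have : Odd (a + b) := h.add_even hbeven
          rw [hab] at this
          exact (Nat.not_even_iff_odd.mpr this) he
      obtain ⟨a', rfl⟩ := haeven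
      obtain ⟨b', rfl⟩ := hbeven
      exact exists_J_of_eigenbasis bE h1 h2' η
    · obtain ⟨s1, hs10, hs1⟩ := nonsq_ratio h2 hz0 hη0 hsq hηns
      refine ⟨s1⁻¹ • X, ?_, ?_⟩
      · intro v
        rw [LinearMap.smul_apply, LinearMap.smul_apply, map_smul, hXX, smul_smul, smul_smul, hs1]
        congr 1
        field_simp
      · intro v
        rw [LinearMap.smul_apply, LinearMap.smul_apply, map_smul]
  obtain ⟨J, hJJ, hJX⟩ := hJex
  obtain ⟨G, hGdet, hGJ⟩ := exists_conj_cyclic hη0 hηns hnorm hJJ hΩΩ (by rw [hfr]; exact hn)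
  -- matrices
  obtain ⟨Qm, hQm⟩ : ∃ Qm : Matrix (Fin n) (Fin n) F, Qm = LinearMap.toMatrix' G := ⟨_, rfl⟩
  obtain ⟨Jm, hJm⟩ : ∃ Jm : Matrix (Fin n) (Fin n) F, Jm = LinearMap.toMatrix' J := ⟨_, rfl⟩
  have hQdet : Qm.det = 1 := by rw [hQm, LinearMap.det_toMatrix', hGdet]
  have hQJ : Qm * Jm = ω0 * Qm := by
    rw [hQm, hJm, ← LinearMap.toMatrix'_comp]
    have h3 : G ∘ₗ J = Ω0 ∘ₗ G := LinearMap.ext hGJ
    rw [h3, LinearMap.toMatrix'_comp, hΩ0, LinearMap.toMatrix'_toLin']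
  have hxJ : xm * Jm = Jm * xm := by
    have h3 : X ∘ₗ J = J ∘ₗ X := LinearMap.ext (fun v => (hJX v).symm)
    have h4 := congrArg LinearMap.toMatrix' h3
    rw [LinearMap.toMatrix'_comp, LinearMap.toMatrix'_comp, hX, LinearMap.toMatrix'_toLin',
      ← hJm] at h4
    exact h4
  obtain ⟨Qg, hQg⟩ : ∃ Qg : GL (Fin n) F, (Qg : Matrix (Fin n) (Fin n) F) = Qm :=
    ⟨Matrix.GeneralLinearGroup.mkOfDetNeZero Qm (by rw [hQdet]; exact one_ne_zero), rfl⟩
  obtain ⟨Qi, hQi⟩ : ∃ Qi : Matrix (Fin n) (Fin n) F,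
      Qi = ((Qg⁻¹ : GL (Fin n) F) : Matrix (Fin n) (Fin n) F) := ⟨_, rfl⟩
  have hQQi : Qm * Qi = 1 := by
    rw [← hQg, hQi, ← Units.val_mul, mul_inv_cancel, Units.val_one]
  have hQiQ : Qi * Qm = 1 := by
    rw [← hQg, hQi, ← Units.val_mul, inv_mul_cancel, Units.val_one]
  have hcomm0 : (Qm * xm * Qi) * ω0 = ω0 * (Qm * xm * Qi) := by
    calc (Qm * xm * Qi) * ω0 = Qm * xm * Qi * ω0 * (Qm * Qi) := by rw [hQQi, Matrix.mul_one]
      _ = Qm * xm * Qi * (ω0 * Qm) * Qi := by simp only [Matrix.mul_assoc]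
      _ = Qm * xm * Qi * (Qm * Jm) * Qi := by rw [hQJ]
      _ = Qm * xm * (Qi * Qm) * Jm * Qi := by simp only [Matrix.mul_assoc]
      _ = Qm * (xm * Jm) * Qi := by rw [hQiQ, Matrix.mul_one]; simp only [Matrix.mul_assoc]
      _ = Qm * (Jm * xm) * Qi := by rw [hxJ]
      _ = (Qm * Jm) * xm * Qi := by simp only [Matrix.mul_assoc]
      _ = ω0 * (Qm * xm * Qi) := by rw [hQJ]; simp only [Matrix.mul_assoc]
  have hcomm : (Qm * xm * Qi) * ω = ω * (Qm * xm * Qi) := by
    have hω' : ω = ω0 + s • (1 : Matrix (Fin n) (Fin n) F) := by rw [hω0]; abel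
    rw [hω', Matrix.mul_add, Matrix.add_mul, hcomm0, Matrix.mul_smul, Matrix.smul_mul,
      Matrix.mul_one, Matrix.one_mul]
  obtain ⟨xg, hxg⟩ : ∃ xg : GL (Fin n) F, xg = Matrix.SpecialLinearGroup.toGL x := ⟨_, rfl⟩
  have hxgm : (xg : Matrix (Fin n) (Fin n) F) = xm := by rw [hxg, hxm]; rfl
  apply exists_sl_conj _ x Qg⁻¹ ?_ ?_
  · have h3 : Qm.det * Qi.det = 1 := by rw [← Matrix.det_mul, hQQi, Matrix.det_one]
    rw [hQdet, one_mul] at h3
    rw [← hQi]
    exact h3
  · rw [inv_inv, ← hxg]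
    apply hG.mem_normalizer _ (Or.inl ?_)
    rw [Units.val_mul, Units.val_mul, hQg, hxgm, ← hQi]
    exact hcomm

theorem main [Fintype F] {q : ℕ} (hq : Fintype.card F = q) (n : ℕ) (hn : 2 ≤ n) (hkn : 2 ∣ n)
    (K : Subalgebra F (Matrix (Fin n) (Fin n) F)) (hK : Cfsg.Geo.IsFieldSubalgebra 2 K) :
    (∀ x : Matrix.SpecialLinearGroup (Fin n) F,
      (∃ z : F, ((x ^ 2 : Matrix.SpecialLinearGroup (Fin n) F) : Matrix (Fin n) (Fin n) F) =
        z • (1 : Matrix (Fin n) (Fin n) F)) →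
      (∀ z : F, (x : Matrix (Fin n) (Fin n) F) ≠ z • (1 : Matrix (Fin n) (Fin n) F)) →
      ∃ P : Matrix.SpecialLinearGroup (Fin n) F, P⁻¹ * x * P ∈
        ((Cfsg.Geo.subalgebraNormalizer K).comap (Matrix.SpecialLinearGroup.toGL :
          Matrix.SpecialLinearGroup (Fin n) F →* GL (Fin n) F))) ↔
    (n = 2 ∨ (Odd q ∧ padicValNat 2 (q - 1) ≤ padicValNat 2 n)) := by
  classical
  obtain ⟨ω, p, t, hG⟩ := exists_gen (by omega) K hK
  have hn0 : n ≠ 0 := by omega
  constructor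
  · intro hall
    by_cases hn2 : n = 2
    · exact Or.inl hn2
    · right
      have hn3 : 3 ≤ n := by omega
      by_cases h2 : (2 : F) = 0
      · exfalso
        obtain ⟨x, hx1, hx2, hx3⟩ := hG.exists_derange_even hn3 h2
        exact hx3 (hall x hx1 hx2)
      · have hodd : Odd q := by
          rw [← Nat.not_even_iff_odd]
          intro hev
          apply h2
          have hchar : ringChar F = 2 :=
            FiniteField.even_card_iff_char_two.mpr (by rw [hq]; exact Nat.even_iff.mp hev)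
          have h3 := ringChar.Nat.cast_ringChar (R := F)
          rw [hchar] at h3
          exact_mod_cast h3
        refine ⟨hodd, ?_⟩
        by_contra hlt
        push Not at hlt
        obtain ⟨c, hc, -⟩ := Cfsg.Agent.Helper2.SimInv.exists_pow_eq_neg_one hq hn0 hlt
        obtain ⟨x, hx1, hx2, hx3⟩ := hG.exists_derange_odd hn3 hc h2
        exact hx3 (hall x hx1 hx2)
  · rintro (hn2 | ⟨hodd, hv⟩) x hx1 hx2
    · subst hn2
      exact conj_two hG x hx1 hx2
    · have h2 : (2 : F) ≠ 0 := by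
        intro h2
        have hchar : ringChar F = 2 :=
          CharP.ringChar_of_prime_eq_zero Nat.prime_two (by exact_mod_cast h2)
        have h3 := FiniteField.even_card_iff_char_two.mp hchar
        rw [hq] at h3
        rcases hodd with ⟨m, hm⟩
        omega
      exact conj_odd hq (by omega) (even_iff_two_dvd.mpr hkn) hG h2 hv x hx1

end Cfsg.Agent.Helper2.FSub
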