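import Mathlib

/-! Sylow `p`-subgroups of `GL₂(q)` in the defining characteristic. -/

namespace Cfsg.Agent.Helper2.GL2

open Matrix

variable {F : Type*} [Field F]

/-- the upper unitriangular matrix `[[1, x], [0, 1]]` as an element of `GL₂`. -/
noncomputable def u (x : F) : GL (Fin 2) F :=
  Matrix.GeneralLinearGroup.mkOfDetNeZero !![1, x; 0, 1] (by simp [Matrix.det_fin_two_of])

theorem u_val (x : F) : ((u x : GL (Fin 2) F) : Matrix (Fin 2) (Fin 2) F) = !![1, x; 0, 1] := rfl

theorem gl_ext {g h : GL (Fin 2) F} (h00 : g 0 0 = h 0 0) (h01 : g 0 1 = h 0 1)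
    (h10 : g 1 0 = h 1 0) (h11 : g 1 1 = h 1 1) : g = h := by
  apply Units.ext
  ext i j
  fin_cases i <;> fin_cases j <;> assumption

theorem mul_apply' (g h : GL (Fin 2) F) (i j : Fin 2) :
    (g * h) i j = g i 0 * h 0 j + g i 1 * h 1 j := by
  rw [Matrix.GeneralLinearGroup.coe_mul, Matrix.mul_apply, Fin.sum_univ_two]

@[simp] theorem u_00 (x : F) : (u x) 0 0 = 1 := rfl
@[simp] theorem u_01 (x : F) : (u x) 0 1 = x := rfl
@[simp] theorem u_10 (x : F) : (u x) 1 0 = 0 := rfl
@[simp] theorem u_11 (x : F) : (u x) 1 1 = 1 := rfl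

theorem u_add (x y : F) : u (x + y) = u x * u y := by
  apply gl_ext <;> simp [mul_apply']
  ring

theorem u_zero : u (0 : F) = 1 := by
  apply gl_ext <;> simp

theorem u_injective : Function.Injective (u : F → GL (Fin 2) F) := by
  intro x y h
  have := congrArg (fun g : GL (Fin 2) F => g 0 1) h
  simpa using this

/-- `u` as a homomorphism -/
noncomputable def uHom : Multiplicative F →* GL (Fin 2) F where
  toFun x := u (Multiplicative.toAdd x)
  map_one' := u_zero
  map_mul' _ _ := u_add _ _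

/-- the upper unitriangular subgroup -/
noncomputable def U : Subgroup (GL (Fin 2) F) := (uHom : Multiplicative F →* GL (Fin 2) F).range

theorem mem_U_iff {g : GL (Fin 2) F} : g ∈ U (F := F) ↔ ∃ x : F, u x = g := by
  constructor
  · rintro ⟨x, rfl⟩; exact ⟨Multiplicative.toAdd x, rfl⟩
  · rintro ⟨x, rfl⟩; exact ⟨Multiplicative.ofAdd x, rfl⟩

theorem u_mem_U (x : F) : u x ∈ U (F := F) := mem_U_iff.mpr ⟨x, rfl⟩

theorem card_U [Finite F] : Nat.card (U (F := F)) = Nat.card F := by
  have hinj : Function.Injective (uHom : Multiplicative F →* GL (Fin 2) F) :=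
    fun x y h => Multiplicative.toAdd.injective
      (u_injective (F := F) (a₁ := Multiplicative.toAdd x) (a₂ := Multiplicative.toAdd y) h)
  exact (Nat.card_congr (MonoidHom.ofInjective hinj).toEquiv).symm

theorem det_eq (g : GL (Fin 2) F) : (g : Matrix (Fin 2) (Fin 2) F).det = g 0 0 * g 1 1 - g 0 1 * g 1 0 :=
  Matrix.det_fin_two _

theorem det_ne_zero' (g : GL (Fin 2) F) : g 0 0 * g 1 1 - g 0 1 * g 1 0 ≠ 0 := by
  rw [← det_eq]
  exact (Matrix.GeneralLinearGroup.det g).ne_zero

theorem diag_ne_zero {g : GL (Fin 2) F} (h : g 1 0 = 0) : g 0 0 ≠ 0 ∧ g 1 1 ≠ 0 := by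
  have := det_ne_zero' g
  rw [h, mul_zero, sub_zero] at this
  exact ⟨left_ne_zero_of_mul this, right_ne_zero_of_mul this⟩

/-- (C2) upper triangular matrices normalise `U` -/
theorem mul_u_of_tri {g : GL (Fin 2) F} (h : g 1 0 = 0) (y : F) :
    g * u y = u (g 0 0 * y / g 1 1) * g := by
  obtain ⟨ha, hd⟩ := diag_ne_zero h
  apply gl_ext <;> simp [mul_apply', h]
  field_simp
  ring

/-- (C3) -/
theorem tri_of_u_mul {g : GL (Fin 2) F} {x y : F} (hx : x ≠ 0) (h : u x * g = g * u y) :
    g 1 0 = 0 := by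
  have := congrArg (fun g : GL (Fin 2) F => g 0 0) h
  simp [mul_apply'] at this
  exact this.resolve_left hx

/-- (C4) -/
theorem comm_u_iff {g : GL (Fin 2) F} {x : F} (hx : x ≠ 0) :
    g * u x = u x * g ↔ g 1 0 = 0 ∧ g 0 0 = g 1 1 := by
  constructor
  · intro h
    have h10 := tri_of_u_mul hx h.symm
    refine ⟨h10, ?_⟩
    have := congrArg (fun g : GL (Fin 2) F => g 0 1) h
    simp [mul_apply'] at this
    have h2 : g 0 0 * x = x * g 1 1 := by linear_combination this
    rw [mul_comm] at h2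
    exact mul_left_cancel₀ hx h2
  · rintro ⟨h10, h00⟩
    apply gl_ext <;> simp [mul_apply', h10, h00]
    ring


/-- (C3') -/
theorem tri_of_u_mul' {g : GL (Fin 2) F} {x y : F} (hy : y ≠ 0) (h : u x * g = g * u y) :
    g 1 0 = 0 := by
  have := congrArg (fun g : GL (Fin 2) F => g 1 1) h
  simp [mul_apply'] at this
  exact this.resolve_right hy

theorem one_10 : (1 : GL (Fin 2) F) 1 0 = 0 := by simp

theorem u_ne_one {x : F} (hx : x ≠ 0) : u x ≠ 1 := by
  intro h
  have := congrArg (fun g : GL (Fin 2) F => g 0 1) h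
  simp at this
  exact hx this

theorem mem_normalizer_U_iff {g : GL (Fin 2) F} :
    g ∈ Subgroup.normalizer ((U : Subgroup (GL (Fin 2) F)) : Set (GL (Fin 2) F)) ↔ g 1 0 = 0 := by
  rw [Subgroup.mem_normalizer_iff]
  constructor
  · intro h
    obtain ⟨z, hz⟩ := mem_U_iff.mp ((h (u 1)).mp (u_mem_U 1))
    have h1 : u z * g = g * u 1 := by rw [hz]; group
    exact tri_of_u_mul' one_ne_zero h1
  · intro h10 h
    obtain ⟨ha, hd⟩ := diag_ne_zero h10
    constructor
    · intro hh
      obtain ⟨y, rfl⟩ := mem_U_iff.mp hh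
      rw [mul_u_of_tri h10, mul_inv_cancel_right]
      exact u_mem_U _
    · intro hh
      obtain ⟨z, hz⟩ := mem_U_iff.mp hh
      have h1 := mul_u_of_tri h10 (z * g 1 1 / g 0 0)
      have e : g 0 0 * (z * g 1 1 / g 0 0) / g 1 1 = z := by field_simp
      rw [e, hz] at h1
      have h2 : h = u (z * g 1 1 / g 0 0) := by
        have : g * u (z * g 1 1 / g 0 0) = g * h := by rw [h1]; group
        exact (mul_left_cancel this).symm
      rw [h2]; exact u_mem_U _

section Card

variable [Fintype F]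

/-- the Borel subgroup as a subtype is equivalent to `Fˣ × Fˣ × F` -/
noncomputable def borelEquiv : {g : GL (Fin 2) F // g 1 0 = 0} ≃ Fˣ × Fˣ × F where
  toFun g := (Units.mk0 (g.1 0 0) (diag_ne_zero g.2).1, Units.mk0 (g.1 1 1) (diag_ne_zero g.2).2,
    g.1 0 1)
  invFun t := ⟨Matrix.GeneralLinearGroup.mkOfDetNeZero !![(t.1 : F), t.2.2; 0, (t.2.1 : F)]
    (by simp [Matrix.det_fin_two_of]), rfl⟩
  left_inv g := by
    apply Subtype.ext
    apply gl_ext
    · rfl
    · rfl
    · exact g.2.symm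
    · rfl
  right_inv t := by
    refine Prod.ext (Units.ext rfl) (Prod.ext (Units.ext rfl) rfl)

theorem card_units' : Nat.card Fˣ = Fintype.card F - 1 := by
  have := Nat.card_eq_card_units_add_one F
  rw [Nat.card_eq_fintype_card] at this
  omega

theorem card_borel : Nat.card {g : GL (Fin 2) F // g 1 0 = 0} =
    Fintype.card F * (Fintype.card F - 1) ^ 2 := by
  rw [Nat.card_congr borelEquiv, Nat.card_prod, Nat.card_prod, card_units',
    Nat.card_eq_fintype_card]
  ring

theorem card_normalizer_U :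
    Nat.card (Subgroup.normalizer ((U : Subgroup (GL (Fin 2) F)) : Set (GL (Fin 2) F))) =
      Fintype.card F * (Fintype.card F - 1) ^ 2 := by
  rw [← card_borel]
  exact Nat.card_congr (Equiv.subtypeEquivRight (fun g => mem_normalizer_U_iff))

/-- the centraliser of a nontrivial unipotent element as a subtype -/
noncomputable def centEquiv : {g : GL (Fin 2) F // g 1 0 = 0 ∧ g 0 0 = g 1 1} ≃ Fˣ × F where
  toFun g := (Units.mk0 (g.1 0 0) (diag_ne_zero g.2.1).1, g.1 0 1)
  invFun t := ⟨Matrix.GeneralLinearGroup.mkOfDetNeZero !![(t.1 : F), t.2; 0, (t.1 : F)]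
    (by simp [Matrix.det_fin_two_of]), rfl, rfl⟩
  left_inv g := by
    apply Subtype.ext
    apply gl_ext
    · rfl
    · rfl
    · exact g.2.1.symm
    · exact g.2.2
  right_inv t := by
    refine Prod.ext (Units.ext rfl) rfl

theorem card_centralizer_u {x : F} (hx : x ≠ 0) :
    Nat.card (Subgroup.centralizer ({u x} : Set (GL (Fin 2) F))) =
      Fintype.card F * (Fintype.card F - 1) := by
  have e : Subgroup.centralizer ({u x} : Set (GL (Fin 2) F)) ≃
      {g : GL (Fin 2) F // g 1 0 = 0 ∧ g 0 0 = g 1 1} :=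
    Equiv.subtypeEquivRight (fun g => by
      rw [Subgroup.mem_centralizer_singleton_iff]
      exact comm_u_iff hx)
  rw [Nat.card_congr e, Nat.card_congr centEquiv, Nat.card_prod, card_units',
    Nat.card_eq_fintype_card]
  ring

end Card

end Cfsg.Agent.Helper2.GL2
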