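import Cfsg.Agent.Helper2.DihedralRecog
import Cfsg.Agent.Helper2.SLCard
import Cfsg.Prelude.Def_Classical

/-! `GO⁺₂(q)` is dihedral of order `2(q-1)`. -/

set_option linter.unusedSectionVars false

namespace Cfsg.Agent.Helper2.GO2

open Matrix Cfsg

variable {F : Type*} [Field F]

/-- diagonal matrix -/
def Dm (a a' : F) : Matrix (Fin 1 ⊕ Fin 1) (Fin 1 ⊕ Fin 1) F :=
  fromBlocks (a • (1 : Matrix (Fin 1) (Fin 1) F)) 0 0 (a' • (1 : Matrix (Fin 1) (Fin 1) F))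

/-- antidiagonal matrix -/
def Am (b b' : F) : Matrix (Fin 1 ⊕ Fin 1) (Fin 1 ⊕ Fin 1) F :=
  fromBlocks 0 (b • (1 : Matrix (Fin 1) (Fin 1) F)) (b' • (1 : Matrix (Fin 1) (Fin 1) F)) 0

theorem Dm_mul_Dm (a a' c c' : F) : Dm a a' * Dm c c' = Dm (a * c) (a' * c') := by
  simp [Dm, fromBlocks_multiply, smul_smul]
  exact ⟨mul_comm _ _, mul_comm _ _⟩

theorem Dm_mul_Am (a a' b b' : F) : Dm a a' * Am b b' = Am (a * b) (a' * b') := by
  simp [Dm, Am, fromBlocks_multiply, smul_smul]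
  exact ⟨mul_comm _ _, mul_comm _ _⟩

theorem Am_mul_Dm (a a' b b' : F) : Am b b' * Dm a a' = Am (b * a') (b' * a) := by
  simp [Dm, Am, fromBlocks_multiply, smul_smul]
  exact ⟨mul_comm _ _, mul_comm _ _⟩

theorem Am_mul_Am (b b' c c' : F) : Am b b' * Am c c' = Dm (b * c') (b' * c) := by
  simp [Dm, Am, fromBlocks_multiply, smul_smul]
  exact ⟨mul_comm _ _, mul_comm _ _⟩

theorem Dm_one : Dm (1 : F) 1 = 1 := by
  simp [Dm, fromBlocks_one]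

theorem Dm_apply (a a' : F) :
    Dm a a' (Sum.inl 0) (Sum.inl 0) = a ∧ Dm a a' (Sum.inl 0) (Sum.inr 0) = 0 ∧
    Dm a a' (Sum.inr 0) (Sum.inl 0) = 0 ∧ Dm a a' (Sum.inr 0) (Sum.inr 0) = a' := by
  simp [Dm]

theorem Am_apply (b b' : F) :
    Am b b' (Sum.inl 0) (Sum.inl 0) = 0 ∧ Am b b' (Sum.inl 0) (Sum.inr 0) = b ∧
    Am b b' (Sum.inr 0) (Sum.inl 0) = b' ∧ Am b b' (Sum.inr 0) (Sum.inr 0) = 0 := by
  simp [Am]

theorem mat_ext {M N : Matrix (Fin 1 ⊕ Fin 1) (Fin 1 ⊕ Fin 1) F}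
    (h00 : M (Sum.inl 0) (Sum.inl 0) = N (Sum.inl 0) (Sum.inl 0))
    (h01 : M (Sum.inl 0) (Sum.inr 0) = N (Sum.inl 0) (Sum.inr 0))
    (h10 : M (Sum.inr 0) (Sum.inl 0) = N (Sum.inr 0) (Sum.inl 0))
    (h11 : M (Sum.inr 0) (Sum.inr 0) = N (Sum.inr 0) (Sum.inr 0)) : M = N := by
  ext i j
  rcases i with i | i <;> rcases j with j | j <;> fin_cases i <;> fin_cases j <;> assumption

theorem quad_mulVec (M : Matrix (Fin 1 ⊕ Fin 1) (Fin 1 ⊕ Fin 1) F) (u : Fin 1 ⊕ Fin 1 → F) :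
    quadFormPlus 1 F (M *ᵥ u) =
      (M (Sum.inl 0) (Sum.inl 0) * u (Sum.inl 0) + M (Sum.inl 0) (Sum.inr 0) * u (Sum.inr 0)) *
      (M (Sum.inr 0) (Sum.inl 0) * u (Sum.inl 0) + M (Sum.inr 0) (Sum.inr 0) * u (Sum.inr 0)) := by
  simp [quadFormPlus, mulVec, dotProduct, Fintype.sum_sum_type]

theorem quad_apply (u : Fin 1 ⊕ Fin 1 → F) :
    quadFormPlus 1 F u = u (Sum.inl 0) * u (Sum.inr 0) := by
  simp [quadFormPlus]

/-- `D a` as an element of `GL` -/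
def D (a : Fˣ) : GL (Fin 1 ⊕ Fin 1) F :=
  ⟨Dm a ((a⁻¹ : Fˣ) : F), Dm ((a⁻¹ : Fˣ) : F) a, by rw [Dm_mul_Dm]; simp [Dm_one],
    by rw [Dm_mul_Dm]; simp [Dm_one]⟩

/-- `A b` as an element of `GL` -/
def A (b : Fˣ) : GL (Fin 1 ⊕ Fin 1) F :=
  ⟨Am b ((b⁻¹ : Fˣ) : F), Am b ((b⁻¹ : Fˣ) : F), by rw [Am_mul_Am]; simp [Dm_one],
    by rw [Am_mul_Am]; simp [Dm_one]⟩

theorem mem_iso_iff (g : GL (Fin 1 ⊕ Fin 1) F) :
    g ∈ isometryGroup F (quadFormPlus 1 F) ↔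
      ∀ u, quadFormPlus 1 F ((g : Matrix (Fin 1 ⊕ Fin 1) (Fin 1 ⊕ Fin 1) F) *ᵥ u) =
        quadFormPlus 1 F u :=
  ⟨fun h u => h u u, fun h u _ => h u⟩

theorem D_mem (a : Fˣ) : D a ∈ isometryGroup F (quadFormPlus 1 F) := by
  rw [mem_iso_iff]
  intro u
  rw [quad_mulVec, quad_apply]
  show (Dm (a : F) ((a⁻¹ : Fˣ) : F) _ _ * _ + Dm (a : F) ((a⁻¹ : Fˣ) : F) _ _ * _) *
    (Dm (a : F) ((a⁻¹ : Fˣ) : F) _ _ * _ + Dm (a : F) ((a⁻¹ : Fˣ) : F) _ _ * _) = _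
  obtain ⟨h1, h2, h3, h4⟩ := Dm_apply (a : F) ((a⁻¹ : Fˣ) : F)
  rw [h1, h2, h3, h4]
  have : (a : F) * ((a⁻¹ : Fˣ) : F) = 1 := by simp
  linear_combination (u (Sum.inl 0) * u (Sum.inr 0)) * this

theorem A_mem (b : Fˣ) : A b ∈ isometryGroup F (quadFormPlus 1 F) := by
  rw [mem_iso_iff]
  intro u
  rw [quad_mulVec, quad_apply]
  show (Am (b : F) ((b⁻¹ : Fˣ) : F) _ _ * _ + Am (b : F) ((b⁻¹ : Fˣ) : F) _ _ * _) *
    (Am (b : F) ((b⁻¹ : Fˣ) : F) _ _ * _ + Am (b : F) ((b⁻¹ : Fˣ) : F) _ _ * _) = _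
  obtain ⟨h1, h2, h3, h4⟩ := Am_apply (b : F) ((b⁻¹ : Fˣ) : F)
  rw [h1, h2, h3, h4]
  have : (b : F) * ((b⁻¹ : Fˣ) : F) = 1 := by simp
  linear_combination (u (Sum.inl 0) * u (Sum.inr 0)) * this


theorem classify {g : GL (Fin 1 ⊕ Fin 1) F} (hg : g ∈ isometryGroup F (quadFormPlus 1 F)) :
    (∃ a : Fˣ, D a = g) ∨ ∃ b : Fˣ, A b = g := by
  classical
  rw [mem_iso_iff] at hg
  have h1 := hg (Pi.single (Sum.inl 0) 1)
  have h2 := hg (Pi.single (Sum.inr 0) 1)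
  have h3 := hg (fun _ => 1)
  rw [quad_mulVec, quad_apply] at h1 h2 h3
  simp at h1 h2 h3
  set a := (g : Matrix (Fin 1 ⊕ Fin 1) (Fin 1 ⊕ Fin 1) F) (Sum.inl 0) (Sum.inl 0) with ha
  set b := (g : Matrix (Fin 1 ⊕ Fin 1) (Fin 1 ⊕ Fin 1) F) (Sum.inl 0) (Sum.inr 0) with hb
  set c := (g : Matrix (Fin 1 ⊕ Fin 1) (Fin 1 ⊕ Fin 1) F) (Sum.inr 0) (Sum.inl 0) with hc
  set d := (g : Matrix (Fin 1 ⊕ Fin 1) (Fin 1 ⊕ Fin 1) F) (Sum.inr 0) (Sum.inr 0) with hd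
  by_cases ha0 : a = 0
  · right
    have hbc : b * c = 1 := by
      rw [ha0] at h3
      rcases h2 with h2 | h2
      · rw [h2] at h3; simp at h3
      · rw [h2] at h3; simpa using h3
    have hd0 : d = 0 := by
      rcases h2 with h2 | h2
      · rw [h2] at hbc; simp at hbc
      · exact h2
    refine ⟨Units.mk b c hbc (by rw [mul_comm]; exact hbc), ?_⟩
    apply Units.ext
    apply mat_ext
    · exact ((Am_apply _ _).1).trans ha0.symm
    · exact (Am_apply _ _).2.1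
    · exact (Am_apply _ _).2.2.1
    · exact ((Am_apply _ _).2.2.2).trans hd0.symm
  · left
    have hc0 : c = 0 := by
      rcases h1 with h1 | h1
      · exact absurd h1 ha0
      · exact h1
    have had : a * d = 1 := by
      rw [hc0] at h3
      rcases h2 with h2 | h2
      · rw [h2] at h3; simpa using h3
      · rw [h2] at h3; simp at h3
    have hb0 : b = 0 := by
      rcases h2 with h2 | h2
      · exact h2
      · rw [h2] at had; simp at had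
    refine ⟨Units.mk a d had (by rw [mul_comm]; exact had), ?_⟩
    apply Units.ext
    apply mat_ext
    · exact (Dm_apply _ _).1
    · exact ((Dm_apply _ _).2.1).trans hb0.symm
    · exact ((Dm_apply _ _).2.2.1).trans hc0.symm
    · exact (Dm_apply _ _).2.2.2

theorem nonempty_mulEquiv [Fintype F] :
    Nonempty (isometryGroup F (quadFormPlus 1 F) ≃* DihedralGroup (Fintype.card F - 1)) := by
  rw [← card_units_field]
  have hcyc : IsCyclic Fˣ := inferInstance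
  obtain ⟨φ⟩ := nonempty_mulEquiv_dihedralGroup (G := isometryGroup F (quadFormPlus 1 F))
    (zmodCyclicMulEquiv hcyc)
    (fun a => ⟨D a, D_mem a⟩) (fun b => ⟨A b, A_mem b⟩)
    (fun a b => Subtype.ext (Units.ext (by
      show Dm _ _ * Dm _ _ = Dm _ _
      rw [Dm_mul_Dm]; simp [mul_comm])))
    (fun a b => Subtype.ext (Units.ext (by
      show Dm _ _ * Am _ _ = Am _ _
      rw [Dm_mul_Am]; simp [mul_comm])))
    (fun a b => Subtype.ext (Units.ext (by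
      show Am _ _ * Dm _ _ = Am _ _
      rw [Am_mul_Dm]; simp [mul_comm])))
    (fun b c => Subtype.ext (Units.ext (by
      show Am _ _ * Am _ _ = Dm _ _
      rw [Am_mul_Am]; simp [mul_comm])))
    (fun a a' h => by
      have h1 := congrArg (fun g : isometryGroup F (quadFormPlus 1 F) =>
        ((g : GL (Fin 1 ⊕ Fin 1) F) : Matrix (Fin 1 ⊕ Fin 1) (Fin 1 ⊕ Fin 1) F)
          (Sum.inl 0) (Sum.inl 0)) h
      exact Units.ext (((Dm_apply _ _).1).symm.trans (h1.trans (Dm_apply _ _).1)))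
    (fun b b' h => by
      have h1 := congrArg (fun g : isometryGroup F (quadFormPlus 1 F) =>
        ((g : GL (Fin 1 ⊕ Fin 1) F) : Matrix (Fin 1 ⊕ Fin 1) (Fin 1 ⊕ Fin 1) F)
          (Sum.inl 0) (Sum.inr 0)) h
      exact Units.ext (((Am_apply _ _).2.1).symm.trans (h1.trans (Am_apply _ _).2.1)))
    (fun a b h => by
      have h1 := congrArg (fun g : isometryGroup F (quadFormPlus 1 F) =>
        ((g : GL (Fin 1 ⊕ Fin 1) F) : Matrix (Fin 1 ⊕ Fin 1) (Fin 1 ⊕ Fin 1) F)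
          (Sum.inl 0) (Sum.inl 0)) h
      have h2 : (a : F) = 0 := ((Dm_apply _ _).1).symm.trans (h1.trans (Am_apply _ _).1)
      exact a.ne_zero h2)
    (fun g => by
      rcases classify g.2 with ⟨a, ha⟩ | ⟨b, hb⟩
      · exact Or.inl ⟨a, Subtype.ext ha⟩
      · exact Or.inr ⟨b, Subtype.ext hb⟩)
  exact ⟨φ.symm⟩

end Cfsg.Agent.Helper2.GO2
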