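import Mathlib
import Cfsg.Agent.Helper2.OInvB
import Cfsg.Agent.S2585
import Cfsg.Prelude.Def_JordanBlocks

set_option autoImplicit false
set_option linter.unusedSectionVars false

/-! Characteristic two: a matrix is similar to an isometry of a quadratic form with non-degenerate
polar form iff it is similar to a symplectic matrix. -/

namespace Cfsg.Agent.Helper2.JGlue

open Matrix Module Cfsg.Agent.Helper28.QWitt Cfsg.Agent.Helper28.IsoTransport Cfsg.Agent.Helper2.Sp
  Cfsg.Agent.Helper2.OInv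

section general

variable {F : Type*} [Field F]

theorem isConj_reindex {κ ι : Type*} [Fintype κ] [DecidableEq κ] [Fintype ι] [DecidableEq ι]
    (ε : κ ≃ ι) {a b : Matrix κ κ F} (h : IsConj a b) :
    IsConj (Matrix.reindex ε ε a) (Matrix.reindex ε ε b) := by
  have := (MonoidHomClass.toMonoidHom (Matrix.reindexAlgEquiv F F ε)).map_isConj h
  exact this

theorem reindex_mulVec {κ ι : Type*} [Fintype κ] [DecidableEq κ] [Fintype ι] [DecidableEq ι]
    (ε : κ ≃ ι) (A : Matrix κ κ F) (v : ι → F) :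
    (Matrix.reindex ε ε A *ᵥ v) ∘ ε = A *ᵥ (v ∘ ε) := by
  funext i
  simp only [Function.comp_apply, Matrix.mulVec, dotProduct, Matrix.reindex_apply,
    Matrix.submatrix_apply, Equiv.symm_apply_apply]
  exact Fintype.sum_equiv ε.symm _ _ (fun j => by simp)

end general

section main

variable {F : Type*} [Field F] [Fintype F] [CharP F 2]

/-- a symplectic matrix is similar to an isometry of a quadratic form with non-degenerate polar
form, on any index type of the right size -/
theorem exists_isom_of_sp {m : ℕ} {ι : Type} [Fintype ι] [DecidableEq ι] (ε : Fin m ⊕ Fin m ≃ ι)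
    (A : Matrix.symplecticGroup (Fin m) F) :
    ∃ Q : QuadraticForm F (ι → F), (QuadraticMap.polarBilin Q).Nondegenerate ∧
      ∃ A' : ↥(Cfsg.isometryGroup F ⇑Q), ((A' : GL ι F) : Matrix ι ι F) =
        Matrix.reindex ε ε (A : Matrix (Fin m ⊕ Fin m) (Fin m ⊕ Fin m) F) := by
  classical
  obtain ⟨Q₀, hpol, hpres⟩ := Cfsg.Agent.S2585.result A
  have hinv1 : (A : Matrix (Fin m ⊕ Fin m) (Fin m ⊕ Fin m) F) *
      ((A⁻¹ : Matrix.symplecticGroup (Fin m) F) : Matrix (Fin m ⊕ Fin m) (Fin m ⊕ Fin m) F) = 1 := by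
    have := congrArg (fun g : Matrix.symplecticGroup (Fin m) F =>
      (g : Matrix (Fin m ⊕ Fin m) (Fin m ⊕ Fin m) F)) (mul_inv_cancel A)
    exact this
  have hinv2 : ((A⁻¹ : Matrix.symplecticGroup (Fin m) F) :
      Matrix (Fin m ⊕ Fin m) (Fin m ⊕ Fin m) F) *
      (A : Matrix (Fin m ⊕ Fin m) (Fin m ⊕ Fin m) F) = 1 := by
    have := congrArg (fun g : Matrix.symplecticGroup (Fin m) F =>
      (g : Matrix (Fin m ⊕ Fin m) (Fin m ⊕ Fin m) F)) (inv_mul_cancel A)
    exact this
  let Q : QuadraticForm F (ι → F) := Q₀.comp (LinearMap.funLeft F F ε)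
  have hQapp : ∀ v : ι → F, Q v = Q₀ (v ∘ ε) := fun v => rfl
  have hpolQ : ∀ u v : ι → F, QuadraticMap.polar ⇑Q u v = Cfsg.sympForm m F (u ∘ ε) (v ∘ ε) := by
    intro u v
    rw [← hpol]
    rfl
  refine ⟨Q, ?_, ?_⟩
  · -- non-degeneracy
    have key : ∀ x : ι → F, (∀ y, QuadraticMap.polar ⇑Q x y = 0) → x = 0 := by
      intro x hx
      have h1 : ∀ w : Fin m ⊕ Fin m → F, om (x ∘ ε) w = 0 := by
        intro w
        have := hx (w ∘ ε.symm)
        rw [hpolQ] at this
        have e1 : (w ∘ ε.symm) ∘ ε = w := by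
          funext i
          simp
        rw [e1] at this
        exact this
      have h3 : x ∘ ε = 0 := by
        by_contra hne
        obtain ⟨w, hw⟩ := exists_om_ne_zero hne
        exact hw (h1 w)
      funext i
      have := congrFun h3 (ε.symm i)
      simpa using this
    constructor
    · intro x hx
      exact key x (fun y => by
        have := hx y
        rwa [QuadraticMap.polarBilin_apply_apply] at this)
    · intro y hy
      exact key y (fun x => by
        have := hy x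
        rw [QuadraticMap.polarBilin_apply_apply, QuadraticMap.polar_comm] at this
        exact this)
  · have h1 : Matrix.reindex ε ε (A : Matrix (Fin m ⊕ Fin m) (Fin m ⊕ Fin m) F) *
        Matrix.reindex ε ε ((A⁻¹ : Matrix.symplecticGroup (Fin m) F) :
          Matrix (Fin m ⊕ Fin m) (Fin m ⊕ Fin m) F) = 1 := by
      rw [Matrix.reindex_apply, Matrix.reindex_apply, Matrix.submatrix_mul_equiv, hinv1,
        Matrix.submatrix_one_equiv]
    have h2 : Matrix.reindex ε ε ((A⁻¹ : Matrix.symplecticGroup (Fin m) F) :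
          Matrix (Fin m ⊕ Fin m) (Fin m ⊕ Fin m) F) *
        Matrix.reindex ε ε (A : Matrix (Fin m ⊕ Fin m) (Fin m ⊕ Fin m) F) = 1 := by
      rw [Matrix.reindex_apply, Matrix.reindex_apply, Matrix.submatrix_mul_equiv, hinv2,
        Matrix.submatrix_one_equiv]
    refine ⟨⟨⟨_, _, h1, h2⟩, ?_⟩, rfl⟩
    rw [mem_isometryGroup_iff]
    intro v
    show Q (Matrix.reindex ε ε (A : Matrix (Fin m ⊕ Fin m) (Fin m ⊕ Fin m) F) *ᵥ v) = Q v
    rw [hQapp, hQapp, reindex_mulVec]
    exact hpres _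

/-- an isometry of a quadratic form with non-degenerate polar form is similar to a symplectic
matrix -/
theorem exists_sp_of_isom {m : ℕ} {ι : Type} [Fintype ι] [DecidableEq ι] (ε : Fin m ⊕ Fin m ≃ ι)
    (Q : QuadraticForm F (ι → F)) (hQ : (QuadraticMap.polarBilin Q).Nondegenerate)
    (A : ↥(Cfsg.isometryGroup F ⇑Q)) :
    ∃ B : Matrix.symplecticGroup (Fin m) F,
      IsConj (Matrix.reindex ε.symm ε.symm ((A : GL ι F) : Matrix ι ι F))
        (B : Matrix (Fin m ⊕ Fin m) (Fin m ⊕ Fin m) F) := by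
  classical
  have h2 : (2 : F) = 0 := CharTwo.two_eq_zero
  have hcard : Fintype.card ι = 2 * m := by
    rw [← Fintype.card_congr ε, Fintype.card_sum, Fintype.card_fin, two_mul]
  obtain ⟨Φ, Φ', h1, h2', hΦ⟩ := exists_sframe Q h2 hQ hcard
  have hA : ∀ v, Q (mt Q A *ᵥ v) = Q v := mt_isom Q A
  obtain ⟨M, hM⟩ : ∃ M : Matrix ι ι F, M = mt Q A := ⟨_, rfl⟩
  rw [← hM] at hA
  have hBmem : Φ' * M * Φ ∈ Matrix.symplecticGroup (Fin m) F := by
    rw [mem_symplectic_iff_om]
    intro x y
    have e : ∀ z : Fin m ⊕ Fin m → F, Φ *ᵥ ((Φ' * M * Φ) *ᵥ z) = M *ᵥ (Φ *ᵥ z) := by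
      intro z
      rw [Matrix.mulVec_mulVec, Matrix.mulVec_mulVec, ← Matrix.mul_assoc, ← Matrix.mul_assoc, h1,
        Matrix.one_mul]
    rw [← hΦ, ← hΦ, e, e, P_mulVec Q M hA]
  refine ⟨⟨Φ' * M * Φ, hBmem⟩, ?_⟩
  have hgoal : IsConj (Matrix.reindex ε.symm ε.symm M) (Φ' * M * Φ) := by
    clear hBmem hM
    -- the conjugating matrix
    have e1 : Φ'.submatrix id ε * Φ.submatrix ε id = 1 := by
      rw [Matrix.submatrix_mul_equiv, h2']
      exact Matrix.submatrix_one_equiv (Equiv.refl _)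
    have e2 : Φ.submatrix ε id * Φ'.submatrix id ε = 1 := by
      have : Φ.submatrix ε id * Φ'.submatrix id ε = (Φ * Φ').submatrix ε ε := by
        rw [← Matrix.submatrix_mul_equiv Φ Φ' ε (Equiv.refl _) ε]
        rfl
      rw [this, h1]
      exact Matrix.submatrix_one_equiv ε
    have e3 : Φ'.submatrix id ε * Matrix.reindex ε.symm ε.symm M =
        (Φ' * M * Φ) * Φ'.submatrix id ε := by
      have r1 : Matrix.reindex ε.symm ε.symm M = M.submatrix ε ε := rfl
      rw [r1, Matrix.submatrix_mul_equiv]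
      have r2 : (Φ' * M * Φ) * Φ'.submatrix id ε = ((Φ' * M * Φ) * Φ').submatrix id ε := by
        rw [← Matrix.submatrix_mul_equiv (Φ' * M * Φ) Φ' id (Equiv.refl _) ε]
        rfl
      rw [r2, Matrix.mul_assoc (Φ' * M) Φ Φ', h1, Matrix.mul_one]
    exact ⟨⟨Φ'.submatrix id ε, Φ.submatrix ε id, e1, e2⟩, e3⟩
  subst hM
  exact hgoal

end main

end Cfsg.Agent.Helper2.JGlue
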