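import Mathlib
import Cfsg.Agent.Helper18.K2P.Defs
import Cfsg.Agent.Helper18.K2P.Defs2
import Cfsg.Agent.Helper18.K2P.QB
import Cfsg.Agent.Helper23.K2MSSUPP
import Cfsg.Agent.Helper14.K2PBTHREE
import Cfsg.Agent.Helper11.K2PBADD

set_option autoImplicit false
set_option linter.unusedSectionVars false
set_option linter.unusedVariables false

/-! # K2P (S5692, `k = 2`, hyperbolic blocks), chapter B (SIEGEL), assembly (helper2):
a non-block vector `a` with `InA M a` gives `SiegOut M`. -/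

namespace Cfsg.Agent.K2P

open Matrix Cfsg.Agent.OC2P Cfsg.Agent.Helper28.Sg Cfsg.Agent.Helper28.Spin
  Cfsg.Agent.Helper12.OrthGen Cfsg.Agent.K2M

variable {F : Type*} [Field F] [Fintype F] {t : ℕ} {Q : QuadraticForm F (Fin t × Fin 2 → F)}
  {q : QuadraticForm F (Fin 2 → F)} {e f : Fin 2 → F} {M : Subgroup (OG Q)}

/-- two further blocks outside three given ones (`5 ≤ t`) -/
theorem B.aux_two (ht : 5 ≤ t) (a b c : Fin t) :
    ∃ x y : Fin t, x ≠ y ∧ x ≠ a ∧ x ≠ b ∧ x ≠ c ∧ y ≠ a ∧ y ≠ b ∧ y ≠ c := by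
  classical
  have h3 : ({a, b, c} : Finset (Fin t)).card ≤ 3 := Finset.card_le_three
  have h1 : 1 < (Finset.univ \ ({a, b, c} : Finset (Fin t))).card := by
    have h2 : (Finset.univ \ ({a, b, c} : Finset (Fin t))).card
        = Fintype.card (Fin t) - ({a, b, c} : Finset (Fin t)).card := Finset.card_univ_sdiff _
    rw [h2, Fintype.card_fin]
    omega
  obtain ⟨x, hx, y, hy, hne⟩ := Finset.one_lt_card.mp h1
  have hx' := (Finset.mem_sdiff.mp hx).2
  have hy' := (Finset.mem_sdiff.mp hy).2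
  simp only [Finset.mem_insert, Finset.mem_singleton, not_or] at hx' hy'
  exact ⟨x, y, hne, hx'.1, hx'.2.1, hx'.2.2, hy'.1, hy'.2.1, hy'.2.2⟩

/-- three nonzero components give `SiegOut` (choice of the two auxiliary blocks) -/
theorem B.three' (bp : BP Q q e f) (ht : 5 ≤ t) (hq : 7 ≤ Fintype.card F) (hM : HasMO M)
    {a : Fin t × Fin 2 → F} (ha : InA M a) {i k p : Fin t} (hik : i ≠ k) (hip : i ≠ p) (hkp : k ≠ p)
    (hi : bproj i a ≠ 0) (hk : bproj k a ≠ 0) (hp : bproj p a ≠ 0) : SiegOut M := by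
  obtain ⟨j, l, hjl, hji, hjk, hjp, hli, hlk, hlp⟩ := B.aux_two ht i k p
  exact B.THREE bp ht hq hM ha (Ne.symm hji) hik (Ne.symm hli) hip hjk hjl hjp (Ne.symm hlk) hkp hlp
    hi hk hp

theorem B.main (bp : BP Q q e f) (ht : 5 ≤ t) (hq : 7 ≤ Fintype.card F) (hM : HasMO M)
    {a : Fin t × Fin 2 → F} (ha : InA M a) (hab : ¬ IsBlk a) : SiegOut M := by
  classical
  obtain ⟨i, j, hij, hi, hj⟩ := SSUPP.main (by omega : 1 ≤ t) hab
  by_cases h3 : ∃ k, k ≠ i ∧ k ≠ j ∧ bproj k a ≠ 0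
  · obtain ⟨k, hki, hkj, hk⟩ := h3
    exact B.three' bp ht hq hM ha hij (Ne.symm hki) (Ne.symm hkj) hi hj hk
  · push Not at h3
    have hQa : Q a = q (bproj i a) + q (bproj j a) := by
      rw [bp.sum]
      exact Finset.sum_eq_add i j hij (fun c _ hc => by rw [h3 c hc.1 hc.2, map_zero])
        (fun h => absurd (Finset.mem_univ i) h) (fun h => absurd (Finset.mem_univ j) h)
    have hQa0 : Q a ≠ 0 := by
      obtain ⟨b, ha', -⟩ := ha
      exact ha'
    by_cases hqi : q (bproj i a) ≠ 0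
    · obtain ⟨a', l, ha', hli, hlj, h1, h2, h3'⟩ := B.ADD bp ht hq hM ha hij hqi hj h3
      exact B.three' bp ht hq hM ha' hij (Ne.symm hli) (Ne.symm hlj) h1 h2 h3'
    · push Not at hqi
      have hqj : q (bproj j a) ≠ 0 := by
        intro h
        apply hQa0
        rw [hQa, hqi, h, add_zero]
      obtain ⟨a', l, ha', hlj, hli, h1, h2, h3'⟩ :=
        B.ADD bp ht hq hM ha (Ne.symm hij) hqj hi (fun m hmj hmi => h3 m hmi hmj)
      exact B.three' bp ht hq hM ha' (Ne.symm hij) (Ne.symm hlj) (Ne.symm hli) h1 h2 h3'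

end Cfsg.Agent.K2P
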