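import Mathlib
import Cfsg.Agent.Helper18.K2P.Defs
import Cfsg.Agent.Helper18.K2P.Defs2
import Cfsg.Agent.Helper18.K2P.QB
import Cfsg.Agent.Helper4.K2PCD
import Cfsg.Agent.Helper3.K2PCDISO

set_option autoImplicit false
set_option linter.unusedSectionVars false
set_option linter.unusedVariables false

/-! # K2P (S5692, `k = 2`, hyperbolic blocks), piece C-MAIN (helper2; design helper18):
from `SiegOut` to a frame Siegel element. -/

namespace Cfsg.Agent.K2P

open Matrix Cfsg.Agent.OC2P Cfsg.Agent.Helper28.Sg Cfsg.Agent.Helper28.Spin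
  Cfsg.Agent.Helper12.OrthGen Cfsg.Agent.K2M

variable {F : Type*} [Field F] [Fintype F] {t : ℕ} {Q : QuadraticForm F (Fin t × Fin 2 → F)}
  {q : QuadraticForm F (Fin 2 → F)} {e f : Fin 2 → F} {M : Subgroup (OG Q)}

/-- two further blocks outside a set of at most five blocks (`7 ≤ t`) -/
theorem C.aux_two (ht : 7 ≤ t) (J : Finset (Fin t)) (hJ : J.card ≤ 5) :
    ∃ l l' : Fin t, l ∉ J ∧ l' ∉ J ∧ l ≠ l' := by
  classical
  have h1 : 1 < (Finset.univ \ J).card := by
    have h2 : (Finset.univ \ J).card = Fintype.card (Fin t) - J.card :=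
      Finset.card_univ_sdiff J
    rw [h2, Fintype.card_fin]
    omega
  obtain ⟨l, hl, l', hl', hne⟩ := Finset.one_lt_card.mp h1
  refine ⟨l, l', ?_, ?_, hne⟩
  · exact (Finset.mem_sdiff.mp hl).2
  · exact (Finset.mem_sdiff.mp hl').2

/-- the coefficient group of block `p` -/
def C.coef (M : Subgroup (OG Q)) (z : Fin t × Fin 2 → F) (hz : Q z = 0) (p : Fin t) :
    AddSubgroup (Fin 2 → F) where
  carrier := {y | binj p y ∈ Rad M z hz}
  zero_mem' := by
    show binj p (0 : Fin 2 → F) ∈ Rad M z hz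
    rw [QB.binj_zero]
    exact (Rad M z hz).zero_mem
  add_mem' := by
    intro y y' hy hy'
    show binj p (y + y') ∈ Rad M z hz
    rw [QB.binj_add]
    exact (Rad M z hz).add_mem hy hy'
  neg_mem' := by
    intro y hy
    show binj p (-y) ∈ Rad M z hz
    have h : binj p (-y) = - binj p y := by
      have := QB.binj_smul p (-1 : F) y
      rw [neg_one_smul, neg_one_smul] at this
      exact this
    rw [h]
    exact (Rad M z hz).neg_mem hy

theorem C.main (bp : BP Q q e f) (ht : 7 ≤ t) (hq : 7 ≤ Fintype.card F) (hM : HasMO M)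
    (h : SiegOut M) : SiegF Q q e f M := by
  classical
  obtain ⟨z, w, hz, I, p, hz0, hI, hsupp, hpI, hw, hwp⟩ := h
  have ht3 : 3 ≤ t := by omega
  have hJ : (insert p I).card ≤ 5 := by
    have := Finset.card_insert_le p I
    omega
  obtain ⟨l, l', hl, hl', hll'⟩ := C.aux_two ht (insert p I) hJ
  have hlp : l ≠ p := fun h0 => hl (h0 ▸ Finset.mem_insert_self p I)
  have hl'p : l' ≠ p := fun h0 => hl' (h0 ▸ Finset.mem_insert_self p I)
  have hlI : l ∉ I := fun h0 => hl (Finset.mem_insert_of_mem h0)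
  have hl'I : l' ∉ I := fun h0 => hl' (Finset.mem_insert_of_mem h0)
  have hzp : bproj p z = 0 := hsupp p hpI
  have hzl : bproj l z = 0 := hsupp l hlI
  have hzl' : bproj l' z = 0 := hsupp l' hl'I
  obtain ⟨y, hy0, hy⟩ := CD.PURE bp ht3 hq hM hz (Ne.symm hlp) (Ne.symm hl'p) hll' hzp hzl hzl' hw hwp
  have hinv : ∀ ν : F, ν ≠ 0 → ∀ y ∈ C.coef M z hz p, rotV q e f ν y ∈ C.coef M z hz p := by
    intro ν hν y hy
    exact CD.INV bp ht3 hM hz (Ne.symm hlp) hzp hzl hν hy
  have hyA : y ∈ C.coef M z hz p := hy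
  have hqe : Q (binj p e) = 0 := by rw [QB.Q_binj bp.toBM0, bp.qe]
  have hqf : Q (binj p f) = 0 := by rw [QB.Q_binj bp.toBM0, bp.qf]
  rcases CD.ISO bp hq (C.coef M z hz p) hinv hyA hy0 with h1 | h1
  · have h2 : binj p e ∈ Rad M z hz := by
      have := h1 1
      rw [one_smul] at this
      exact this
    exact ⟨p, e, z, hqe, Or.inl rfl, hz0, hzp, Rad_swap hqe h2⟩
  · have h2 : binj p f ∈ Rad M z hz := by
      have := h1 1
      rw [one_smul] at this
      exact this
    exact ⟨p, f, z, hqf, Or.inr rfl, hz0, hzp, Rad_swap hqf h2⟩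

end Cfsg.Agent.K2P
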