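import Mathlib
import Cfsg.Agent.Helper2.Klein
import Cfsg.Agent.Helper2.QuadExt
import Cfsg.Agent.Helper2.QuadMinus
import Cfsg.Agent.Helper28.GU
import Cfsg.Agent.Helper28.Norm
import Cfsg.Agent.Helper28.HermWitt

/-! The Klein correspondence restricted to `SU₄(q)`: the second compound of a unitary matrix of
determinant one preserves the `F_q`-form `W` of the six-space, on which the Plücker form is the
sum of three norm forms, i.e. a quadratic form of minus type. -/

set_option autoImplicit false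
set_option linter.unusedSectionVars false
set_option linter.unusedVariables false
set_option linter.unusedSimpArgs false

namespace Cfsg.Agent.Helper2.K6

open Matrix Cfsg.Agent.Helper2.Klein Cfsg.Agent.Helper2.Herm Cfsg.Agent.Helper2.QExt

/-- index type of the six-space of the Klein correspondence -/
abbrev I6 := Fin 3 ⊕ Fin 3

/-- index type of the minus-type six-space -/
abbrev I6m := (Fin 2 ⊕ Fin 2) ⊕ Fin 2

section compound

variable {R : Type*} [CommRing R]

theorem comp2_transpose (A : Matrix (Fin 4) (Fin 4) R) : comp2 Aᵀ = (comp2 A)ᵀ := by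
  ext i j
  simp only [comp2, minor2, Matrix.transpose_apply]
  ring

theorem sg_map {S : Type*} [CommRing S] (f : R →+* S) (i : I6) : f (sg R i) = sg S i := by
  rcases i with i | i <;> fin_cases i <;> simp [sg]

theorem comp2_map {S : Type*} [CommRing S] (f : R →+* S) (A : Matrix (Fin 4) (Fin 4) R) :
    comp2 (A.map f) = (comp2 A).map f := by
  ext i j
  simp only [comp2, minor2, Matrix.map_apply, map_mul, map_sub, sg_map]

/-- the polar form of the Plücker form -/
def plb (x y : I6 → R) : R := ∑ i : Fin 3, (x (.inl i) * y (.inr i) + x (.inr i) * y (.inl i))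

theorem plu_add (x y : I6 → R) : plu (x + y) = plu x + plu y + plb x y := by
  simp only [plu, plb, Pi.add_apply, ← Finset.sum_add_distrib]
  apply Finset.sum_congr rfl
  intro i _
  ring

theorem plb_comp2 (A : Matrix (Fin 4) (Fin 4) R) (x y : I6 → R) :
    plb (comp2 A *ᵥ x) (comp2 A *ᵥ y) = A.det * plb x y := by
  have h1 := plu_comp2 A (x + y)
  rw [Matrix.mulVec_add, plu_add, plu_add, plu_comp2, plu_comp2] at h1
  linear_combination h1

/-- the Gram matrix of the polar form -/
def Pm (R : Type*) [CommRing R] : Matrix I6 I6 R := fun i j => if i = Sum.swap j then 1 else 0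

theorem Pm_mulVec (u : I6 → R) : Pm R *ᵥ u = u ∘ Sum.swap := by
  funext i
  simp only [Matrix.mulVec, dotProduct, Pm, Function.comp]
  rw [Finset.sum_eq_single (Sum.swap i)]
  · rw [if_pos (by rw [Sum.swap_swap]), one_mul]
  · intro j _ hj
    rw [if_neg, zero_mul]
    intro h
    apply hj
    rw [h, Sum.swap_swap]
  · intro h
    exact absurd (Finset.mem_univ _) h

theorem plb_eq (x y : I6 → R) : plb x y = x ⬝ᵥ (Pm R *ᵥ y) := by
  rw [Pm_mulVec]
  simp only [plb, dotProduct, Fintype.sum_sum_type, Function.comp, Sum.swap_inl, Sum.swap_inr,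
    Finset.sum_add_distrib]

theorem single_dot_mulVec_single (N : Matrix I6 I6 R) (i j : I6) :
    (Pi.single i (1 : R)) ⬝ᵥ (N *ᵥ Pi.single j 1) = N i j := by
  simp [Matrix.mulVec, dotProduct, Pi.single_apply]

theorem orth (A : Matrix (Fin 4) (Fin 4) R) (hA : A.det = 1) :
    (comp2 A)ᵀ * Pm R * comp2 A = Pm R := by
  have key : ∀ x y : I6 → R, (comp2 A *ᵥ x) ⬝ᵥ (Pm R *ᵥ (comp2 A *ᵥ y)) =
      x ⬝ᵥ (((comp2 A)ᵀ * Pm R * comp2 A) *ᵥ y) := by
    intro x y
    rw [← Matrix.mulVec_mulVec, ← Matrix.mulVec_mulVec,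
      Matrix.dotProduct_mulVec x (comp2 A)ᵀ, Matrix.vecMul_transpose]
  ext i j
  have h := plb_comp2 A (Pi.single i 1) (Pi.single j 1)
  rw [hA, one_mul, plb_eq, plb_eq, key, single_dot_mulVec_single, single_dot_mulVec_single] at h
  exact h

theorem Pm_map {S : Type*} [CommRing S] (f : R →+* S) : (Pm R).map f = Pm S := by
  ext i j
  simp only [Pm, Matrix.map_apply]
  split_ifs <;> simp

end compound

section unitary

variable {K : Type*} [Field K]

/-- the `σ`-real form of the six-space -/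
def InW (σ : K →+* K) (x : I6 → K) : Prop := ∀ i : Fin 3, x (.inr i) = σ (x (.inl i))

theorem inW_comp2 (σ : K →+* K) (hσ2 : ∀ x, σ (σ x) = x) (g : Matrix (Fin 4) (Fin 4) K)
    (hdet : g.det = 1) (hU : gᵀ * g.map σ = 1) {x : I6 → K} (hx : InW σ x) :
    InW σ (comp2 g *ᵥ x) := by
  obtain ⟨M, hM⟩ : ∃ M, M = comp2 g := ⟨_, rfl⟩
  rw [← hM]
  have hMU : Mᵀ * M.map σ = 1 := by
    rw [hM, ← comp2_transpose, ← comp2_map, ← comp2_mul, hU, comp2_one]
  have hMO : Mᵀ * Pm K * M = Pm K := by rw [hM]; exact orth g hdet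
  have h1 : M.map σ * Mᵀ = 1 := mul_eq_one_comm.mp hMU
  have h2 : Pm K * M = M.map σ * Pm K := by
    calc Pm K * M = (M.map σ * Mᵀ) * Pm K * M := by rw [h1, one_mul]
      _ = M.map σ * (Mᵀ * Pm K * M) := by simp only [Matrix.mul_assoc]
      _ = M.map σ * Pm K := by rw [hMO]
  have hmm : (M.map σ).map σ = M := by
    ext i j
    simp only [Matrix.map_apply, hσ2]
  have h3 : Pm K * M.map σ = M * Pm K := by
    have := congrArg (fun N : Matrix I6 I6 K => N.map σ) h2
    simp only [Matrix.map_mul] at this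
    rw [Pm_map, hmm] at this
    exact this
  have h5 : (σ ∘ x) ∘ Sum.swap = x := by
    funext k
    rcases k with k | k
    · simp only [Function.comp, Sum.swap_inl]
      rw [hx k, hσ2]
    · simp only [Function.comp, Sum.swap_inr]
      rw [hx k]
  intro i
  have h4 := congrFun (congrArg (fun N : Matrix I6 I6 K => N *ᵥ (σ ∘ x)) h3) (.inr i)
  simp only [← Matrix.mulVec_mulVec, Pm_mulVec, h5] at h4
  rw [← h4]
  simp only [Function.comp, Sum.swap_inr]
  exact (RingHom.map_mulVec σ M x (.inl i)).symm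

end unitary

section coords

variable {F : Type*} [Field F] [Fintype F] {K : Type*} [Field K] [Fintype K] [Algebra F K] {q : ℕ}

local notation "ι" => algebraMap F K

/-- the field identity behind the hyperbolic coordinates of `N ⊥ N` -/
theorem key_identity (x1 x2 y1 y2 θ θ' l l' e e' : K) (hδ : θ - θ' ≠ 0) (hl : l + l' = 1)
    (he : e * e' = -1) :
    (l * (x1 + x2 * θ) + (y1 * θ - y2) / (θ - θ')) *
        (l' * (x1 + x2 * θ') + -((y1 * θ' - y2) / (θ - θ')))
      + (-e' * ((y1 * θ - y2) / (θ - θ') - l' * (x1 + x2 * θ))) *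
        (-e * (-((y1 * θ' - y2) / (θ - θ')) - l * (x1 + x2 * θ')))
      = x1 * y1 + x2 * y2 := by
  have h1 : (-e' * ((y1 * θ - y2) / (θ - θ') - l' * (x1 + x2 * θ))) *
        (-e * (-((y1 * θ' - y2) / (θ - θ')) - l * (x1 + x2 * θ'))) =
      -(((y1 * θ - y2) / (θ - θ') - l' * (x1 + x2 * θ)) *
        (-((y1 * θ' - y2) / (θ - θ')) - l * (x1 + x2 * θ'))) := by
    linear_combination (((y1 * θ - y2) / (θ - θ') - l' * (x1 + x2 * θ)) *
        (-((y1 * θ' - y2) / (θ - θ')) - l * (x1 + x2 * θ'))) * he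
  rw [h1]
  obtain rfl : l' = 1 - l := by linear_combination hl
  field_simp
  ring

/-- the auxiliary data: a root `θ`, an element of trace one and an element of norm `-1` -/
structure Dat (hK : Fintype.card K = q ^ 2) (a b : F) where
  θ : K
  lam : K
  eps : K
  hθ : θ ^ 2 - ι a * θ + ι b = 0
  hlam : lam + cj hK lam = 1
  heps : eps * cj hK eps = -1

theorem exists_dat (hF : Fintype.card F = q) (hK : Fintype.card K = q ^ 2) {a b : F}
    (hirr : ∀ r : F, r ^ 2 - a * r + b ≠ 0) : Nonempty (Dat (F := F) hK a b) := by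
  obtain ⟨θ, hθ⟩ := exists_root (E := K) hF hK hirr
  have hσ : cj hK ≠ RingHom.id K := by
    intro h
    apply cj_ne_of_root hF hK hirr hθ
    rw [h]
    rfl
  obtain ⟨l, hl⟩ := Cfsg.Agent.Helper28.HW.exists_trace_eq hσ (cj_cj hK) 1 (map_one _)
  obtain ⟨e, he⟩ := Cfsg.Agent.Helper28.exists_norm_eq (cj hK) hσ (cj_cj hK) (-1)
    (neg_ne_zero.mpr one_ne_zero) (by rw [map_neg, map_one])
  exact ⟨⟨θ, l, e, hθ, hl, he⟩⟩

/-- `x₁ + x₂ θ` -/
def sP (θ : K) (v : I6m → F) : K := ι (v (.inl (.inl 0))) + ι (v (.inl (.inl 1))) * θ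

/-- `(y₁ θ - y₂) / (θ - θ')` -/
def tP (θ θ' : K) (v : I6m → F) : K :=
  (ι (v (.inl (.inr 0))) * θ - ι (v (.inl (.inr 1)))) / (θ - θ')

/-- `-((y₁ θ' - y₂) / (θ - θ'))`, the conjugate of `tP` -/
def tbP (θ θ' : K) (v : I6m → F) : K :=
  -((ι (v (.inl (.inr 0))) * θ' - ι (v (.inl (.inr 1)))) / (θ - θ'))

/-- `z₁ + z₂ θ` -/
def sZ (θ : K) (v : I6m → F) : K := ι (v (.inr 0)) + ι (v (.inr 1)) * θ

variable (hF : Fintype.card F = q) (hK : Fintype.card K = q ^ 2) {a b : F}
  (hirr : ∀ r : F, r ^ 2 - a * r + b ≠ 0)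

/-- a vector of the minus-type six-space as a real vector of the Klein six-space -/
def toW (D : Dat (F := F) hK a b) (v : I6m → F) : I6 → K :=
  Sum.elim
    ![D.lam * sP D.θ v + tP D.θ (cj hK D.θ) v,
      -(cj hK D.eps) * (tP D.θ (cj hK D.θ) v - cj hK D.lam * sP D.θ v),
      sZ D.θ v]
    ![cj hK D.lam * sP (cj hK D.θ) v + tbP D.θ (cj hK D.θ) v,
      -D.eps * (tbP D.θ (cj hK D.θ) v - D.lam * sP (cj hK D.θ) v),
      sZ (cj hK D.θ) v]

include hF hirr in
theorem delta_ne (D : Dat (F := F) hK a b) : D.θ - cj hK D.θ ≠ 0 := by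
  intro h
  exact cj_ne_of_root hF hK hirr D.hθ (sub_eq_zero.mp h).symm

include hF in
theorem cj_sP (θ : K) (v : I6m → F) : cj hK (sP θ v) = sP (cj hK θ) v := by
  simp only [sP, map_add, map_mul, cj_algebraMap hF hK]

include hF in
theorem cj_sZ (θ : K) (v : I6m → F) : cj hK (sZ θ v) = sZ (cj hK θ) v := by
  simp only [sZ, map_add, map_mul, cj_algebraMap hF hK]

include hF hirr in
theorem cj_tP (D : Dat (F := F) hK a b) (v : I6m → F) :
    cj hK (tP D.θ (cj hK D.θ) v) = tbP D.θ (cj hK D.θ) v := by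
  have hδ := delta_ne hF hK hirr D
  have hδ' : cj hK D.θ - D.θ ≠ 0 := by
    intro h
    apply hδ
    linear_combination -h
  simp only [tP, tbP, map_div₀, map_sub, map_mul, cj_algebraMap hF hK, cj_cj]
  field_simp
  ring

include hF hirr in
theorem inW_toW (D : Dat (F := F) hK a b) (v : I6m → F) : InW (cj hK) (toW hK D v) := by
  intro i
  fin_cases i
  · show cj hK D.lam * sP (cj hK D.θ) v + tbP D.θ (cj hK D.θ) v =
      cj hK (D.lam * sP D.θ v + tP D.θ (cj hK D.θ) v)
    rw [map_add, map_mul, cj_sP hF hK, cj_tP hF hK hirr]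
  · show -D.eps * (tbP D.θ (cj hK D.θ) v - D.lam * sP (cj hK D.θ) v) =
      cj hK (-(cj hK D.eps) * (tP D.θ (cj hK D.θ) v - cj hK D.lam * sP D.θ v))
    rw [map_mul, map_neg, map_sub, map_mul, cj_cj, cj_cj, cj_sP hF hK, cj_tP hF hK hirr]
  · show sZ (cj hK D.θ) v = cj hK (sZ D.θ v)
    rw [cj_sZ hF hK]

include hF hirr in
theorem plu_toW (D : Dat (F := F) hK a b) (v : I6m → F) :
    plu (toW hK D v) = ι (Cfsg.quadFormMinus 2 F a b v) := by
  have hδ := delta_ne hF hK hirr D
  have h1 := key_identity (ι (v (.inl (.inl 0)))) (ι (v (.inl (.inl 1)))) (ι (v (.inl (.inr 0))))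
    (ι (v (.inl (.inr 1)))) D.θ (cj hK D.θ) D.lam (cj hK D.lam) D.eps (cj hK D.eps) hδ D.hlam D.heps
  have h2 := norm_phi hF hK hirr D.hθ (v (.inr 0), v (.inr 1))
  have h3 : sZ D.θ v * sZ (cj hK D.θ) v =
      ι (v (.inr 0) ^ 2 + a * v (.inr 0) * v (.inr 1) + b * v (.inr 1) ^ 2) := by
    rw [← h2, ← cj_sZ hF hK]
    rfl
  have h4 : plu (toW hK D v) =
      (D.lam * sP D.θ v + tP D.θ (cj hK D.θ) v) *
        (cj hK D.lam * sP (cj hK D.θ) v + tbP D.θ (cj hK D.θ) v)
      + (-(cj hK D.eps) * (tP D.θ (cj hK D.θ) v - cj hK D.lam * sP D.θ v)) *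
        (-D.eps * (tbP D.θ (cj hK D.θ) v - D.lam * sP (cj hK D.θ) v))
      + sZ D.θ v * sZ (cj hK D.θ) v := by
    simp only [plu, Fin.sum_univ_three]
    rfl
  rw [h4, h3]
  simp only [sP, tP, tbP] at h1 ⊢
  rw [h1]
  simp only [Cfsg.quadFormMinus, Fin.sum_univ_two, map_add, map_mul, map_pow]

include hF in
theorem toW_add (D : Dat (F := F) hK a b) (v w : I6m → F) :
    toW hK D (v + w) = toW hK D v + toW hK D w := by
  funext k
  rcases k with k | k <;> fin_cases k <;>
    simp [toW, sP, tP, tbP, sZ, map_add] <;> ring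

include hF in
theorem toW_smul (D : Dat (F := F) hK a b) (c : F) (v : I6m → F) :
    toW hK D (c • v) = c • toW hK D v := by
  funext k
  rcases k with k | k <;> fin_cases k <;>
    simp [toW, sP, tP, tbP, sZ, Algebra.smul_def, map_mul] <;> ring

/-- `toW` as a linear map -/
def toWL (hF : Fintype.card F = q) (hK : Fintype.card K = q ^ 2) (D : Dat (F := F) hK a b) :
    (I6m → F) →ₗ[F] (I6 → K) where
  toFun := toW hK D
  map_add' := toW_add hF hK D
  map_smul' c v := toW_smul hF hK D c v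

include hF hirr in
theorem toW_eq_zero (D : Dat (F := F) hK a b) {u : I6m → F} (h : toW hK D u = 0) : u = 0 := by
  have hδ := delta_ne hF hK hirr D
  have h0 : D.lam * sP D.θ u + tP D.θ (cj hK D.θ) u = 0 := congrFun h (.inl 0)
  have h1 : -(cj hK D.eps) * (tP D.θ (cj hK D.θ) u - cj hK D.lam * sP D.θ u) = 0 :=
    congrFun h (.inl 1)
  have h2 : sZ D.θ u = 0 := congrFun h (.inl 2)
  have he' : cj hK D.eps ≠ 0 := by
    intro h0
    have := D.heps
    rw [h0, mul_zero] at this
    exact one_ne_zero (neg_eq_zero.mp this.symm)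
  have h1' : tP D.θ (cj hK D.θ) u - cj hK D.lam * sP D.θ u = 0 := by
    rcases mul_eq_zero.mp h1 with h | h
    · exact absurd (neg_eq_zero.mp h) he'
    · exact h
  have hs : sP D.θ u = 0 := by
    linear_combination h0 - h1' - (sP D.θ u) * D.hlam
  have ht : tP D.θ (cj hK D.θ) u = 0 := by
    linear_combination h0 - D.lam * hs
  have hx := phi_injective hF hK hirr D.hθ
    (show phi D.θ (u (.inl (.inl 0)), u (.inl (.inl 1))) = phi D.θ (0, 0) by
      simp only [phi, map_zero, zero_mul, add_zero]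
      exact hs)
  have hy := phi_injective hF hK hirr D.hθ
    (show phi D.θ (-u (.inl (.inr 1)), u (.inl (.inr 0))) = phi D.θ (0, 0) by
      simp only [phi, map_zero, zero_mul, add_zero, map_neg]
      have := (div_eq_zero_iff.mp ht).resolve_right hδ
      linear_combination this)
  have hz := phi_injective hF hK hirr D.hθ
    (show phi D.θ (u (.inr 0), u (.inr 1)) = phi D.θ (0, 0) by
      simp only [phi, map_zero, zero_mul, add_zero]
      exact h2)
  rw [Prod.mk.injEq] at hx hy hz
  funext k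
  rcases k with (k | k) | k
  · fin_cases k
    · exact hx.1
    · exact hx.2
  · fin_cases k
    · exact hy.2
    · exact neg_eq_zero.mp hy.1
  · fin_cases k
    · exact hz.1
    · exact hz.2

include hF hirr in
theorem exists_toW (D : Dat (F := F) hK a b) (x : I6 → K) (hx : InW (cj hK) x) :
    ∃ v, toW hK D v = x := by
  classical
  let f : (I6m → F) → {x : I6 → K // InW (cj hK) x} :=
    fun v => ⟨toW hK D v, inW_toW hF hK hirr D v⟩
  have hinj : Function.Injective f := by
    intro v w hvw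
    have h1 : toW hK D v = toW hK D w := congrArg Subtype.val hvw
    have h2 : toW hK D (v - w) = 0 := by
      have := (toWL hF hK D).map_sub v w
      change toW hK D (v - w) = toW hK D v - toW hK D w at this
      rw [this, h1, sub_self]
    exact sub_eq_zero.mp (toW_eq_zero hF hK hirr D h2)
  let e : {x : I6 → K // InW (cj hK) x} ≃ (Fin 3 → K) :=
    { toFun := fun x i => x.1 (.inl i)
      invFun := fun w => ⟨Sum.elim w (fun i => cj hK (w i)), fun i => rfl⟩
      left_inv := by
        rintro ⟨x, hx⟩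
        apply Subtype.ext
        funext k
        rcases k with k | k
        · rfl
        · exact (hx k).symm
      right_inv := by
        intro w
        rfl }
  have hcard : Nat.card {x : I6 → K // InW (cj hK) x} ≤ Nat.card (I6m → F) := by
    rw [Nat.card_congr e, Nat.card_fun, Nat.card_fun]
    simp only [Nat.card_eq_fintype_card, Fintype.card_sum, Fintype.card_fin, hF, hK]
    apply le_of_eq
    ring
  obtain ⟨v, hv⟩ := (hinj.bijective_of_nat_card_le hcard).2 ⟨x, hx⟩
  exact ⟨v, congrArg Subtype.val hv⟩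

end coords

end Cfsg.Agent.Helper2.K6
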