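import Mathlib
import Cfsg.Agent.Helper2.K6A
import Cfsg.Agent.Helper2.KleinOmega
import Cfsg.Agent.Helper2.OmegaGen
import Cfsg.Agent.Helper2.SU.Simple
import Cfsg.Agent.S0278
import Cfsg.Agent.Helper13.FqExt

/-! `PΩ₆⁻(q) ≃* PSU₄(q)` -/

set_option autoImplicit false
set_option linter.unusedSectionVars false
set_option linter.unusedVariables false
set_option linter.unusedSimpArgs false

namespace Cfsg.Agent.Helper2.K6

open Matrix Subgroup Cfsg.Agent.Helper2.Klein Cfsg.Agent.Helper2.Herm Cfsg.Agent.Helper2.QExt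

variable {F : Type*} [Field F] [Fintype F] {K : Type*} [Field K] [Fintype K] [Algebra F K] {q : ℕ}

local notation "ι" => algebraMap F K

section rep

variable (hF : Fintype.card F = q) (hK : Fintype.card K = q ^ 2) {a b : F}
  (hirr : ∀ r : F, r ^ 2 - a * r + b ≠ 0) (D : Dat (F := F) hK a b)

include hF hirr in
theorem toW_injective : Function.Injective (toW hK D) := by
  intro v w h1
  have h2 : toW hK D (v - w) = 0 := by
    have := (toWL hF hK D).map_sub v w
    change toW hK D (v - w) = toW hK D v - toW hK D w at this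
    rw [this, h1, sub_self]
  exact sub_eq_zero.mp (toW_eq_zero hF hK hirr D h2)

open Classical in
/-- inverse of `toW` on real vectors -/
noncomputable def fromW (x : I6 → K) : I6m → F :=
  if h : InW (cj hK) x then Classical.choose (exists_toW hF hK hirr D x h) else 0

theorem toW_fromW (x : I6 → K) (hx : InW (cj hK) x) :
    toW hK D (fromW hF hK hirr D x) = x := by
  rw [fromW, dif_pos hx]
  exact Classical.choose_spec (exists_toW hF hK hirr D x hx)

/-- matrices whose second compound preserves the real form -/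
def Good (hK : Fintype.card K = q ^ 2) (g : Matrix (Fin 4) (Fin 4) K) : Prop :=
  ∀ x, InW (cj hK) x → InW (cj hK) (comp2 g *ᵥ x)

theorem Good.mul {g h : Matrix (Fin 4) (Fin 4) K} (hg : Good hK g) (hh : Good hK h) :
    Good hK (g * h) := by
  intro x hx
  rw [comp2_mul, ← Matrix.mulVec_mulVec]
  exact hg _ (hh _ hx)

theorem Good.one : Good hK (1 : Matrix (Fin 4) (Fin 4) K) := by
  intro x hx
  rw [comp2_one, Matrix.one_mulVec]
  exact hx

/-- the matrix of the second compound on the real form -/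
noncomputable def rep (g : Matrix (Fin 4) (Fin 4) K) : Matrix I6m I6m F :=
  Matrix.of fun i j => fromW hF hK hirr D (comp2 g *ᵥ toW hK D (Pi.single j (1 : F))) i

theorem mulVec_eq_sum_col (M : Matrix I6m I6m F) (v : I6m → F) :
    M *ᵥ v = ∑ j, v j • (fun i => M i j) := by
  funext i
  simp [Matrix.mulVec, dotProduct, mul_comm]

theorem toW_rep_mulVec (g : Matrix (Fin 4) (Fin 4) K) (hg : Good hK g) (v : I6m → F) :
    toW hK D (rep hF hK hirr D g *ᵥ v) = comp2 g *ᵥ toW hK D v := by
  have h1 : toW hK D (rep hF hK hirr D g *ᵥ v) =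
      ∑ j, v j • toW hK D (fun i => rep hF hK hirr D g i j) := by
    rw [mulVec_eq_sum_col]
    have := map_sum (toWL hF hK D) (fun j => v j • (fun i => rep hF hK hirr D g i j)) Finset.univ
    simp only [map_smul] at this
    exact this
  have h2 : toW hK D v = ∑ j, v j • toW hK D (Pi.single j (1 : F)) := by
    have h3 := pi_eq_sum_univ' v
    have := map_sum (toWL hF hK D) (fun j => v j • (Pi.single (M := fun _ => F) j 1)) Finset.univ
    simp only [map_smul] at this
    conv_lhs => rw [h3]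
    exact this
  have h4 : comp2 g *ᵥ (∑ j, v j • toW hK D (Pi.single j (1 : F))) =
      ∑ j, comp2 g *ᵥ (v j • toW hK D (Pi.single j (1 : F))) := by
    have := map_sum (Matrix.mulVecLin (comp2 g))
      (fun j => v j • toW hK D (Pi.single j (1 : F))) Finset.univ
    simpa only [Matrix.mulVecLin_apply] using this
  rw [h1, h2, h4]
  apply Finset.sum_congr rfl
  intro j _
  rw [Matrix.mulVec_smul]
  congr 1
  exact toW_fromW hF hK hirr D _ (hg _ (inW_toW hF hK hirr D _))

theorem rep_mul (g h : Matrix (Fin 4) (Fin 4) K) (hg : Good hK g) (hh : Good hK h) :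
    rep hF hK hirr D (g * h) = rep hF hK hirr D g * rep hF hK hirr D h := by
  rw [Matrix.ext_iff_mulVec]
  intro v
  apply toW_injective hF hK hirr D
  rw [← Matrix.mulVec_mulVec, toW_rep_mulVec hF hK hirr D _ (hg.mul hK hh),
    toW_rep_mulVec hF hK hirr D _ hg, toW_rep_mulVec hF hK hirr D _ hh, comp2_mul,
    Matrix.mulVec_mulVec]

theorem rep_one : rep hF hK hirr D (1 : Matrix (Fin 4) (Fin 4) K) = 1 := by
  rw [Matrix.ext_iff_mulVec]
  intro v
  apply toW_injective hF hK hirr D
  rw [toW_rep_mulVec hF hK hirr D _ (Good.one hK), comp2_one, Matrix.one_mulVec,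
    Matrix.one_mulVec]

theorem quad_rep (g : Matrix (Fin 4) (Fin 4) K) (hg : Good hK g) (hdet : g.det = 1)
    (v : I6m → F) :
    Cfsg.quadFormMinus 2 F a b (rep hF hK hirr D g *ᵥ v) = Cfsg.quadFormMinus 2 F a b v := by
  apply (algebraMap F K).injective
  rw [← plu_toW hF hK hirr D, ← plu_toW hF hK hirr D, toW_rep_mulVec hF hK hirr D g hg,
    plu_comp2, hdet, one_mul]

theorem good_of_SU (g : ↥(Cfsg.SU 4 K q)) : Good hK (Cfsg.Agent.S2644.toM K 4 q g) := by
  intro x hx
  have hU := (Cfsg.Agent.Helper28.GUlib.preserves_iff (cj hK) (fun x => rfl)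
    (Cfsg.Agent.S2644.toM K 4 q g)).mp (Cfsg.Agent.S2644.toM_pres g)
  exact inW_comp2 (cj hK) (cj_cj hK) _ g.1.2 hU hx

/-- the hom `SU₄(K) → GL₆(F)` -/
noncomputable def repGL : ↥(Cfsg.SU 4 K q) →* GL I6m F :=
  MonoidHom.toHomUnits
    { toFun := fun g => rep hF hK hirr D (Cfsg.Agent.S2644.toM K 4 q g)
      map_one' := by rw [map_one]; exact rep_one hF hK hirr D
      map_mul' := fun g h => by
        rw [map_mul]
        exact rep_mul hF hK hirr D _ _ (good_of_SU hK g) (good_of_SU hK h) }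

theorem repGL_mem (g : ↥(Cfsg.SU 4 K q)) :
    repGL hF hK hirr D g ∈ Cfsg.isometryGroup F (Cfsg.quadFormMinus 2 F a b) := by
  intro u v
  change Cfsg.quadFormMinus 2 F a b
      (rep hF hK hirr D (Cfsg.Agent.S2644.toM K 4 q g) *ᵥ u) = Cfsg.quadFormMinus 2 F a b u
  exact quad_rep hF hK hirr D _ (good_of_SU hK g) g.1.2 u

/-- the hom `SU₄(K) → GO₆⁻(F)` -/
noncomputable def rho : ↥(Cfsg.SU 4 K q) →*
    Cfsg.isometryGroup F (Cfsg.quadFormMinus 2 F a b) :=
  (repGL hF hK hirr D).codRestrict _ (repGL_mem hF hK hirr D)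

theorem rho_coe (g : ↥(Cfsg.SU 4 K q)) :
    (((rho hF hK hirr D g : Cfsg.isometryGroup F (Cfsg.quadFormMinus 2 F a b)) : GL I6m F) :
      Matrix I6m I6m F) = rep hF hK hirr D (Cfsg.Agent.S2644.toM K 4 q g) := rfl

include hF hirr D in
/-- a matrix fixing the real form pointwise is the identity -/
theorem eq_one_of_fix (M : Matrix I6 I6 K) (hM : ∀ x, InW (cj hK) x → M *ᵥ x = x) : M = 1 := by
  have hδ := delta_ne hF hK hirr D
  have hδ' : cj hK D.θ - D.θ ≠ 0 := by
    intro h
    apply hδ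
    linear_combination -h
  rw [Matrix.ext_iff_mulVec]
  intro y
  rw [Matrix.one_mulVec]
  -- decompose `y = x + θ • x'` with `x, x'` real
  let p' : Fin 3 → K := fun i => (y (.inl i) - cj hK (y (.inr i))) / (D.θ - cj hK D.θ)
  let p : Fin 3 → K := fun i => y (.inl i) - D.θ * p' i
  let x : I6 → K := Sum.elim p (fun i => cj hK (p i))
  let x' : I6 → K := Sum.elim p' (fun i => cj hK (p' i))
  have hx : InW (cj hK) x := fun i => rfl
  have hx' : InW (cj hK) x' := fun i => rfl
  have hy : y = x + D.θ • x' := by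
    funext k
    rcases k with k | k
    · simp only [x, x', p, Pi.add_apply, Pi.smul_apply, Sum.elim_inl, smul_eq_mul]
      ring
    · simp only [x, x', p, p', Pi.add_apply, Pi.smul_apply, Sum.elim_inr, smul_eq_mul, map_sub,
        map_mul, map_div₀, cj_cj]
      field_simp
      ring
  rw [hy, Matrix.mulVec_add, Matrix.mulVec_smul, hM x hx, hM x' hx']

include hF hirr in
theorem comp2_eq_one_of_mem_ker {g : ↥(Cfsg.SU 4 K q)} (hg : g ∈ (rho hF hK hirr D).ker) :
    comp2 (Cfsg.Agent.S2644.toM K 4 q g) = 1 := by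
  have h1 : rep hF hK hirr D (Cfsg.Agent.S2644.toM K 4 q g) = 1 := by
    have := congrArg (fun x : Cfsg.isometryGroup F (Cfsg.quadFormMinus 2 F a b) =>
      ((x : GL I6m F) : Matrix I6m I6m F)) (MonoidHom.mem_ker.mp hg)
    exact this
  apply eq_one_of_fix hF hK hirr D
  intro x hx
  obtain ⟨v, rfl⟩ := exists_toW hF hK hirr D x hx
  have h2 := toW_rep_mulVec hF hK hirr D _ (good_of_SU hK g) v
  rw [h1, Matrix.one_mulVec] at h2
  exact h2.symm

include hF hirr in
theorem ker_scalar {g : ↥(Cfsg.SU 4 K q)} (hg : g ∈ (rho hF hK hirr D).ker) :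
    g.1 ∈ center (SpecialLinearGroup (Fin 4) K) ∧
    ∃ r : K, r ^ 2 = 1 ∧ Cfsg.Agent.S2644.toM K 4 q g = r • (1 : Matrix (Fin 4) (Fin 4) K) := by
  have h1 := comp2_eq_one_of_mem_ker hF hK hirr D hg
  have h2 : g.1 ∈ (klein : SpecialLinearGroup (Fin 4) K →* _).ker := by
    rw [MonoidHom.mem_ker]
    apply Subtype.ext
    apply Units.ext
    exact h1
  have h3 := KleinOmega.ker_klein_le_center h2
  refine ⟨h3, ?_⟩
  obtain ⟨r, hr4, hr⟩ := Matrix.SpecialLinearGroup.mem_center_iff.mp h3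
  have h4 : Cfsg.Agent.S2644.toM K 4 q g = r • (1 : Matrix (Fin 4) (Fin 4) K) := by
    change (g.1 : Matrix (Fin 4) (Fin 4) K) = _
    rw [← hr, Matrix.smul_one_eq_diagonal]
    rfl
  refine ⟨r, ?_, h4⟩
  rw [h4, KleinOmega.comp2_smul, comp2_one] at h1
  have := congrFun (congrFun h1 (.inl 0)) (.inl 0)
  simpa using this

include hF hirr in
theorem ker_le_center : (rho hF hK hirr D).ker ≤ center ↥(Cfsg.SU 4 K q) := by
  intro g hg
  obtain ⟨h3, -⟩ := ker_scalar hF hK hirr D hg
  rw [Subgroup.mem_center_iff]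
  intro h
  apply Subtype.ext
  exact Subgroup.mem_center_iff.mp h3 h.1

include hF hirr in
theorem card_ker_dvd_two : Nat.card (rho hF hK hirr D).ker ∣ 2 := by
  classical
  let f : (rho hF hK hirr D).ker → Bool :=
    fun A => decide (Cfsg.Agent.S2644.toM K 4 q A.1 0 0 = 1)
  have hinj : Function.Injective f := by
    intro A B hAB
    obtain ⟨-, r, hr, hA⟩ := ker_scalar hF hK hirr D A.2
    obtain ⟨-, s, hs, hB⟩ := ker_scalar hF hK hirr D B.2
    have hA0 : Cfsg.Agent.S2644.toM K 4 q A.1 0 0 = r := by rw [hA]; simp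
    have hB0 : Cfsg.Agent.S2644.toM K 4 q B.1 0 0 = s := by rw [hB]; simp
    have hrs : r = s := by
      simp only [f, hA0, hB0, decide_eq_decide] at hAB
      rcases sq_eq_one_iff.mp hr with h1 | h1 <;> rcases sq_eq_one_iff.mp hs with h3 | h3
      · rw [h1, h3]
      · exact h1.trans (hAB.mp h1).symm
      · exact (hAB.mpr h3).trans h3.symm
      · rw [h1, h3]
    apply Subtype.ext
    apply Cfsg.Agent.S2644.toM_injective
    rw [hA, hB, hrs]
  have hle : Nat.card (rho hF hK hirr D).ker ≤ 2 := by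
    have := Nat.card_le_card_of_injective f hinj
    simpa using this
  have hpos : 0 < Nat.card (rho hF hK hirr D).ker := Nat.card_pos
  interval_cases Nat.card (rho hF hK hirr D).ker <;> norm_num

end rep

theorem card_GO6m_eq (hF : Fintype.card F = q) (hK : Fintype.card K = q ^ 2) (a b : F)
    (hab : Quad.Aniso a b) :
    Nat.card (Cfsg.isometryGroup F (Cfsg.quadFormMinus 2 F a b)) =
      2 * Nat.card ↥(Cfsg.SU 4 K q) := by
  have hq2 : 2 ≤ q := by rw [← hF]; exact Fintype.one_lt_card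
  have h1 := Quad.card_GO_minus hF 3 (by norm_num) a b hab
  have h1' : Nat.card (Cfsg.isometryGroup F (Cfsg.quadFormMinus 2 F a b)) =
      2 * q ^ (3 * (3 - 1)) * (q ^ 3 + 1) *
        ∏ i ∈ Finset.range (3 - 1), (q ^ (2 * (i + 1)) - 1) := h1
  have h2 := Cfsg.Agent.S0278.result hK 4 (by norm_num)
  have e2 : ∏ i ∈ Finset.range 4, (if Even i then q ^ (i + 1) + 1 else q ^ (i + 1) - 1) =
      (q + 1) * (q ^ 2 - 1) * (q ^ 3 + 1) * (q ^ 4 - 1) := by
    simp only [Finset.prod_range_succ, Finset.prod_range_zero, one_mul]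
    rw [if_pos (by decide), if_neg (by decide), if_pos (by decide), if_neg (by decide)]
    norm_num
  have e1 : ∏ i ∈ Finset.range (3 - 1), (q ^ (2 * (i + 1)) - 1) = (q ^ 2 - 1) * (q ^ 4 - 1) := by
    simp only [Nat.reduceSub, Finset.prod_range_succ, Finset.prod_range_zero, one_mul]
  rw [e2] at h2
  rw [h1', e1]
  have hpos : 0 < q + 1 := by omega
  apply Nat.eq_of_mul_eq_mul_left hpos
  have : (q + 1) * (2 * Nat.card ↥(Cfsg.SU 4 K q)) =
      2 * ((q + 1) * Nat.card ↥(Cfsg.SU 4 K q)) := by ring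
  rw [this, h2]
  norm_num
  ring

theorem nonempty_mulEquiv_aux (hF : Fintype.card F = q) (hK : Fintype.card K = q ^ 2) (a b : F)
    (hab : Quad.Aniso a b) :
    Nonempty (Cfsg.POmega F (Cfsg.quadFormMinus 2 F a b) ≃* Cfsg.PSU 4 K q) := by
  have hirr := hab.irr
  obtain ⟨D⟩ := exists_dat hF hK hirr
  have hperf : commutator ↥(Cfsg.SU 4 K q) = ⊤ :=
    Cfsg.Agent.Helper2.SUGen.commutator_SU_eq_top hK 4 (by norm_num) (by omega)
  have hsimple : IsSimpleGroup (Cfsg.PSU 4 K q) :=
    Cfsg.Agent.Helper2.SUGen.PSU_isSimpleGroup hK 4 (by norm_num) (by omega)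
  have hPperf : commutator (Cfsg.PSU 4 K q) = ⊤ :=
    OmegaGen.commutator_eq_top_of_surjective (QuotientGroup.mk' _)
      (QuotientGroup.mk'_surjective _) hperf
  have hcl : center (Cfsg.PSU 4 K q) = ⊥ := by
    rcases Subgroup.Normal.eq_bot_or_eq_top
      (inferInstance : (center (Cfsg.PSU 4 K q)).Normal) with h | h
    · exact h
    · exfalso
      have hcomm : ∀ x y : Cfsg.PSU 4 K q, x * y = y * x := by
        intro x y
        have hy : y ∈ center (Cfsg.PSU 4 K q) := h ▸ mem_top y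
        exact Subgroup.mem_center_iff.mp hy x
      have := OmegaGen.subsingleton_of_perfect_of_comm hPperf hcomm
      exact not_subsingleton _ this
  exact OmegaGen.nonempty_mulEquiv (rho hF hK hirr D) hperf (ker_le_center hF hK hirr D) hcl
    (OmegaGen.index_dvd_four_of_card _ (card_GO6m_eq hF hK a b hab)
      (card_ker_dvd_two hF hK hirr D))

end Cfsg.Agent.Helper2.K6

namespace Cfsg.Agent.Helper2.K6

/-- `PΩ₆⁻(q) ≃* PSU₄(q)`, without an algebra structure given in advance -/
theorem nonempty_mulEquiv {F K : Type*} [Field F] [Fintype F] [Field K] [Fintype K] {q : ℕ}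
    (hF : Fintype.card F = q) (hK : Fintype.card K = q ^ 2) (a b : F)
    (hab : ∀ z₁ z₂ : F, z₁ ^ 2 + a * z₁ * z₂ + b * z₂ ^ 2 = 0 → z₁ = 0 ∧ z₂ = 0) :
    Nonempty (Cfsg.POmega F (Cfsg.quadFormMinus 2 F a b) ≃* Cfsg.PSU 4 K q) := by
  obtain ⟨ι⟩ := Cfsg.Agent.Helper13.exists_ringHom_of_card_sq hK hF
  let _ : Algebra F K := ι.toAlgebra
  exact nonempty_mulEquiv_aux hF hK a b hab

end Cfsg.Agent.Helper2.K6
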