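import Mathlib
import Cfsg.Agent.Helper4.LSDefs

set_option autoImplicit false

/-! S2334 piece ELL: the Levi elements `l(g)` of the block model. -/

namespace Cfsg.Agent.Helper2.LS34ELL

open Matrix Cfsg.Agent.S2334P

variable {K : Type*} [Field K]

/-- the `1 × 1` matrix with entry `c` -/
def uu (c : K) : Matrix Unit Unit K := Matrix.of fun _ _ => c

theorem uu_mul (c d : K) : uu c * uu d = uu (c * d) := by
  ext i j
  simp [uu, Matrix.mul_apply]

theorem uu_one : uu (1 : K) = 1 := by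
  ext i j
  simp [uu]

theorem uu_transpose (c : K) : (uu c)ᵀ = uu c := by
  ext i j
  simp [uu]

theorem uu_map (σ : K →+* K) (c : K) : (uu c).map σ = uu (σ c) := by
  ext i j
  simp [uu]

theorem uu_det (c : K) : (uu c).det = c := by
  rw [Matrix.det_unique]
  rfl

theorem lM_eq (σ : K →+* K) {m : ℕ} (g gi : Matrix (Fin m) (Fin m) K) :
    lM σ g gi = Matrix.fromBlocks (Matrix.fromBlocks g 0 0 (ct σ gi)) 0 0
      (uu (σ g.det * gi.det)) := rfl

theorem det_ct (σ : K →+* K) {m : ℕ} (M : Matrix (Fin m) (Fin m) K) :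
    (ct σ M).det = σ M.det := by
  unfold ct
  rw [Matrix.det_transpose]
  exact (RingHom.map_det σ M).symm

theorem ct_map (σ : K →+* K) (hσ : ∀ x, σ (σ x) = x) {m : ℕ} (M : Matrix (Fin m) (Fin m) K) :
    (ct σ M).map σ = Mᵀ := by
  ext i j
  simp [ct_apply, hσ]

theorem ct_transpose (σ : K →+* K) {m : ℕ} (M : Matrix (Fin m) (Fin m) K) :
    (ct σ M)ᵀ = M.map σ := by
  ext i j
  simp [ct_apply]

theorem det_mul_det {m : ℕ} {g gi : Matrix (Fin m) (Fin m) K} (h : g * gi = 1) :
    g.det * gi.det = 1 := by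
  rw [← Matrix.det_mul, h, Matrix.det_one]

theorem unit_eq (σ : K →+* K) {m : ℕ} {g gi : Matrix (Fin m) (Fin m) K} (h : g * gi = 1) :
    σ g.det * gi.det * (σ gi.det * g.det) = 1 := by
  have h1 := det_mul_det h
  have h2 : σ g.det * σ gi.det = 1 := by rw [← map_mul, h1, map_one]
  calc σ g.det * gi.det * (σ gi.det * g.det)
      = (σ g.det * σ gi.det) * (g.det * gi.det) := by ring
    _ = 1 := by rw [h1, h2, mul_one]

end Cfsg.Agent.Helper2.LS34ELL

namespace Cfsg.Agent.S2334P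

open Matrix Cfsg.Agent.Helper2.LS34ELL

variable {K : Type*} [Field K]

theorem lM_mul_inv (σ : K →+* K) {m : ℕ} (g gi : Matrix (Fin m) (Fin m) K) (h : g * gi = 1) :
    lM σ g gi * lM σ gi g = 1 := by
  rw [lM_eq, lM_eq]
  simp only [Matrix.fromBlocks_multiply, Matrix.mul_zero, Matrix.zero_mul, add_zero, zero_add]
  rw [h, ← ct_mul, h, ct_one, uu_mul, unit_eq σ h, uu_one, Matrix.fromBlocks_one,
    Matrix.fromBlocks_one]

theorem lM_det (σ : K →+* K) {m : ℕ} (g gi : Matrix (Fin m) (Fin m) K) (h : g * gi = 1) :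
    (lM σ g gi).det = 1 := by
  rw [lM_eq, Matrix.det_fromBlocks_zero₂₁, Matrix.det_fromBlocks_zero₂₁, det_ct, uu_det]
  have h1 := det_mul_det h
  have h2 : σ g.det * σ gi.det = 1 := by rw [← map_mul, h1, map_one]
  calc g.det * σ gi.det * (σ g.det * gi.det)
      = (σ g.det * σ gi.det) * (g.det * gi.det) := by ring
    _ = 1 := by rw [h1, h2, mul_one]

theorem lM_pres (σ : K →+* K) (hσ : ∀ x, σ (σ x) = x) {m : ℕ} (g gi : Matrix (Fin m) (Fin m) K)
    (h : g * gi = 1) : PresJ σ m (lM σ g gi) := by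
  have h' : gi * g = 1 := mul_eq_one_comm.mp h
  unfold PresJ JJ
  rw [lM_eq]
  simp only [Matrix.fromBlocks_transpose, Matrix.fromBlocks_map, Matrix.map_zero _ (map_zero σ),
    Matrix.fromBlocks_multiply,
    Matrix.mul_zero, Matrix.zero_mul, add_zero, zero_add, Matrix.transpose_zero,
    Matrix.mul_one, Matrix.one_mul]
  rw [ct_map σ hσ, ct_transpose, ← Matrix.transpose_mul, h', Matrix.transpose_one,
    ← Matrix.map_mul, h', uu_transpose, uu_map, uu_mul]
  have hu : σ g.det * gi.det * σ (σ g.det * gi.det) = 1 := by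
    rw [map_mul, hσ]
    have := unit_eq σ h
    rw [← this]; ring
  rw [hu, uu_one, Matrix.map_one σ (map_zero σ) (map_one σ)]

theorem lM_conj (σ : K →+* K) {m : ℕ} (g gi : Matrix (Fin m) (Fin m) K) (h : g * gi = 1)
    (S : Matrix (Fin m) (Fin m) K) :
    lM σ g gi * zM S * lM σ gi g = zM (g * S * ct σ g) := by
  unfold zM
  rw [lM_eq, lM_eq]
  simp only [Matrix.fromBlocks_multiply, Matrix.mul_zero, Matrix.zero_mul, add_zero, zero_add,
    Matrix.mul_one]
  rw [h, ← ct_mul, h, ct_one, uu_mul, unit_eq σ h, uu_one]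

end Cfsg.Agent.S2334P
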