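import Mathlib
import Cfsg.Agent.Helper4.LSDefs

set_option autoImplicit false

/-! S2334 piece ELX: the Heisenberg elements `x(a)` of the block model. -/

namespace Cfsg.Agent.Helper2.LS34ELX

open Matrix Cfsg.Agent.S2334P

variable {K : Type*} [Field K]

section entries

variable (σ : K →+* K) {m : ℕ} (μ : K) (a : Fin m → K) (S : Matrix (Fin m) (Fin m) K)

@[simp] theorem xM_EE (i j : Fin m) :
    xM σ μ a (Sum.inl (Sum.inl i)) (Sum.inl (Sum.inl j)) = if i = j then 1 else 0 := by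
  simp [xM, Matrix.one_apply]
@[simp] theorem xM_EF (i j : Fin m) :
    xM σ μ a (Sum.inl (Sum.inl i)) (Sum.inl (Sum.inr j)) = -(μ * (a i * σ (a j))) := by
  simp [xM, vecMulVec_apply]
@[simp] theorem xM_Ew (i : Fin m) (u : Unit) :
    xM σ μ a (Sum.inl (Sum.inl i)) (Sum.inr u) = a i := by
  simp [xM]
@[simp] theorem xM_FE (i j : Fin m) :
    xM σ μ a (Sum.inl (Sum.inr i)) (Sum.inl (Sum.inl j)) = 0 := by
  simp [xM]
@[simp] theorem xM_FF (i j : Fin m) :
    xM σ μ a (Sum.inl (Sum.inr i)) (Sum.inl (Sum.inr j)) = if i = j then 1 else 0 := by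
  simp [xM, Matrix.one_apply]
@[simp] theorem xM_Fw (i : Fin m) (u : Unit) :
    xM σ μ a (Sum.inl (Sum.inr i)) (Sum.inr u) = 0 := by
  simp [xM]
@[simp] theorem xM_wE (u : Unit) (j : Fin m) :
    xM σ μ a (Sum.inr u) (Sum.inl (Sum.inl j)) = 0 := by
  simp [xM]
@[simp] theorem xM_wF (u : Unit) (j : Fin m) :
    xM σ μ a (Sum.inr u) (Sum.inl (Sum.inr j)) = -σ (a j) := by
  simp [xM]
@[simp] theorem xM_ww (u v : Unit) :
    xM σ μ a (Sum.inr u) (Sum.inr v) = 1 := by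
  simp [xM]

@[simp] theorem zM_EE (i j : Fin m) :
    zM S (Sum.inl (Sum.inl i)) (Sum.inl (Sum.inl j)) = if i = j then 1 else 0 := by
  simp [zM, Matrix.one_apply]
@[simp] theorem zM_EF (i j : Fin m) :
    zM S (Sum.inl (Sum.inl i)) (Sum.inl (Sum.inr j)) = S i j := by
  simp [zM]
@[simp] theorem zM_Ew (i : Fin m) (u : Unit) :
    zM S (Sum.inl (Sum.inl i)) (Sum.inr u) = 0 := by
  simp [zM]
@[simp] theorem zM_FE (i j : Fin m) :
    zM S (Sum.inl (Sum.inr i)) (Sum.inl (Sum.inl j)) = 0 := by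
  simp [zM]
@[simp] theorem zM_FF (i j : Fin m) :
    zM S (Sum.inl (Sum.inr i)) (Sum.inl (Sum.inr j)) = if i = j then 1 else 0 := by
  simp [zM, Matrix.one_apply]
@[simp] theorem zM_Fw (i : Fin m) (u : Unit) :
    zM S (Sum.inl (Sum.inr i)) (Sum.inr u) = 0 := by
  simp [zM]
@[simp] theorem zM_wE (u : Unit) (j : Fin m) :
    zM S (Sum.inr u) (Sum.inl (Sum.inl j)) = 0 := by
  simp [zM]
@[simp] theorem zM_wF (u : Unit) (j : Fin m) :
    zM S (Sum.inr u) (Sum.inl (Sum.inr j)) = 0 := by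
  simp [zM]
@[simp] theorem zM_ww (u v : Unit) :
    zM S (Sum.inr u) (Sum.inr v) = 1 := by
  simp [zM]

end entries

/-- entries of a product over the block index type -/
theorem mul_apply_Idx {m : ℕ} (M N : Matrix (Idx m) (Idx m) K) (i j : Idx m) :
    (M * N) i j = (∑ k : Fin m, M i (Sum.inl (Sum.inl k)) * N (Sum.inl (Sum.inl k)) j) +
      (∑ k : Fin m, M i (Sum.inl (Sum.inr k)) * N (Sum.inl (Sum.inr k)) j) +
      M i (Sum.inr ()) * N (Sum.inr ()) j := by
  rw [Matrix.mul_apply, Fintype.sum_sum_type, Fintype.sum_sum_type]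
  simp

/-- left multiplication by the Gram matrix swaps the two isotropic blocks of rows -/
theorem JJ_mul_E {m : ℕ} (N : Matrix (Idx m) (Idx m) K) (i : Fin m) (j : Idx m) :
    (JJ K m * N) (Sum.inl (Sum.inl i)) j = N (Sum.inl (Sum.inr i)) j := by
  rw [mul_apply_Idx]
  simp [JJ, Matrix.one_apply]

theorem JJ_mul_F {m : ℕ} (N : Matrix (Idx m) (Idx m) K) (i : Fin m) (j : Idx m) :
    (JJ K m * N) (Sum.inl (Sum.inr i)) j = N (Sum.inl (Sum.inl i)) j := by
  rw [mul_apply_Idx]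
  simp [JJ, Matrix.one_apply]

theorem JJ_mul_w {m : ℕ} (N : Matrix (Idx m) (Idx m) K) (u : Unit) (j : Idx m) :
    (JJ K m * N) (Sum.inr u) j = N (Sum.inr ()) j := by
  rw [mul_apply_Idx]
  simp [JJ]

end Cfsg.Agent.Helper2.LS34ELX

namespace Cfsg.Agent.S2334P

open Matrix Cfsg.Agent.Helper2.LS34ELX

variable {K : Type*} [Field K]

theorem xM_pres (σ : K →+* K) (hσ : ∀ x, σ (σ x) = x) {m : ℕ} (μ : K) (hμ : μ + σ μ = 1)
    (a : Fin m → K) : PresJ σ m (xM σ μ a) := by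
  unfold PresJ
  rw [Matrix.mul_assoc]
  ext i j
  rw [mul_apply_Idx]
  simp only [Matrix.transpose_apply, JJ_mul_E, JJ_mul_F, JJ_mul_w, Matrix.map_apply]
  rcases i with (i | i) | i <;> rcases j with (j | j) | j
  · simp [JJ]
  · simp [JJ, Matrix.one_apply, eq_comm]
  · simp [JJ]
  · simp [JJ, Matrix.one_apply, eq_comm]
  · have h2 : σ μ = 1 - μ := by rw [← hμ]; ring
    simp [JJ, hσ, apply_ite σ, h2]
    ring
  · simp [JJ]
  · simp [JJ]
  · simp [JJ, hσ]
  · simp [JJ]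

theorem xM_det (σ : K →+* K) {m : ℕ} (μ : K) (a : Fin m → K) : (xM σ μ a).det = 1 := by
  unfold xM
  rw [Matrix.det_fromBlocks_one₂₂]
  have : (Matrix.fromBlocks (1 : Matrix (Fin m) (Fin m) K) (-(μ • vecMulVec a (σ ∘ a))) 0 1 -
      (Matrix.of fun i (_ : Unit) => Sum.elim a (fun _ => (0 : K)) i :
          Matrix (Fin m ⊕ Fin m) Unit K) *
        (Matrix.of fun (_ : Unit) j => Sum.elim (fun _ => (0 : K)) (fun j => -σ (a j)) j :
          Matrix Unit (Fin m ⊕ Fin m) K)) =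
      Matrix.fromBlocks (1 : Matrix (Fin m) (Fin m) K)
        (-(μ • vecMulVec a (σ ∘ a)) + vecMulVec a (σ ∘ a)) 0 1 := by
    ext i j
    rcases i with i | i <;> rcases j with j | j <;>
      simp [Matrix.mul_apply, vecMulVec_apply]
  rw [this, Matrix.det_fromBlocks_zero₂₁, Matrix.det_one, mul_one]

theorem xM_comm_zM (σ : K →+* K) {m : ℕ} (μ : K) (a : Fin m → K) (S : Matrix (Fin m) (Fin m) K) :
    xM σ μ a * zM S = zM S * xM σ μ a := by
  ext i j
  rw [mul_apply_Idx, mul_apply_Idx]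
  rcases i with (i | i) | i <;> rcases j with (j | j) | j <;>
    simp [add_comm]

theorem xM_mul_xM (σ : K →+* K) {m : ℕ} (μ : K) (a b : Fin m → K) :
    xM σ μ a * xM σ μ b =
      zM (vecMulVec b (σ ∘ a) - vecMulVec a (σ ∘ b)) * (xM σ μ b * xM σ μ a) := by
  ext i j
  rw [mul_apply_Idx, mul_apply_Idx]
  simp only [mul_apply_Idx (xM σ μ b) (xM σ μ a)]
  rcases i with (i | i) | i <;> rcases j with (j | j) | j <;>
    simp [vecMulVec_apply] <;> ring

end Cfsg.Agent.S2334P
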