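import Mathlib
import Cfsg.Agent.S2644
import Cfsg.Agent.Helper4.LSDefs
import Cfsg.Agent.Helper19.LS34ELZ
import Cfsg.Agent.Helper2.LS34ELL
import Cfsg.Agent.Helper2.LS34ELX
import Cfsg.Agent.Helper4.LS34ELA
import Cfsg.Agent.Helper7.AutPSU6

set_option autoImplicit false

/-! S2334 piece ELP: the elements `z(S)`, `l(g)`, `x(a)` of `SU_(2m+1)(q)` and their relations. -/

namespace Cfsg.Agent.S2334P

open Matrix Module Cfsg.Agent.S2644 Cfsg.Agent.Helper2.SUGen

variable {K : Type*} [Field K] {q : ℕ}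

theorem exists_elements [Fintype K] (D : Frob K q) (hK : Fintype.card K = q ^ 2) (m : ℕ) :
    ∃ (z : AH D.σ m → ↥(Cfsg.SU (2 * m + 1) K q))
      (l : Matrix.GeneralLinearGroup (Fin m) K → ↥(Cfsg.SU (2 * m + 1) K q))
      (x : (Fin m → K) → ↥(Cfsg.SU (2 * m + 1) K q)),
      (∀ S T, z (S + T) = z S * z T) ∧
      (∀ S, S ≠ 0 → z S ∉ Subgroup.center ↥(Cfsg.SU (2 * m + 1) K q)) ∧
      (∀ (g : Matrix.GeneralLinearGroup (Fin m) K) S,
        l g * z S * (l g)⁻¹ = z (cong D.invol (g : Matrix (Fin m) (Fin m) K) S)) ∧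
      (∀ a S, x a * z S = z S * x a) ∧
      (∀ a b, x a * x b = z (cm D.invol b a) * (x b * x a)) := by
  classical
  obtain ⟨Φ, hdet, hpres⟩ := exists_transport (q := q) D m
  obtain ⟨μ, hμ⟩ := exists_trace D 1 (map_one _)
  have hgi : ∀ g : Matrix.GeneralLinearGroup (Fin m) K,
      (g : Matrix (Fin m) (Fin m) K) * ((g⁻¹ : Matrix.GeneralLinearGroup (Fin m) K) :
        Matrix (Fin m) (Fin m) K) = 1 := fun g => Units.mul_inv g
  have hgi' : ∀ g : Matrix.GeneralLinearGroup (Fin m) K,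
      ((g⁻¹ : Matrix.GeneralLinearGroup (Fin m) K) : Matrix (Fin m) (Fin m) K) *
        (g : Matrix (Fin m) (Fin m) K) = 1 := fun g => Units.inv_mul g
  let z : AH D.σ m → ↥(Cfsg.SU (2 * m + 1) K q) := fun S =>
    mkSU (Φ (zM S.1)) (by rw [hdet, zM_det]) (hpres _ (zM_pres D.σ S.1 S.2))
  let l : Matrix.GeneralLinearGroup (Fin m) K → ↥(Cfsg.SU (2 * m + 1) K q) := fun g =>
    mkSU (Φ (lM D.σ (g : Matrix (Fin m) (Fin m) K)
        ((g⁻¹ : Matrix.GeneralLinearGroup (Fin m) K) : Matrix (Fin m) (Fin m) K)))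
      (by rw [hdet, lM_det D.σ _ _ (hgi g)]) (hpres _ (lM_pres D.σ D.invol _ _ (hgi g)))
  let x : (Fin m → K) → ↥(Cfsg.SU (2 * m + 1) K q) := fun a =>
    mkSU (Φ (xM D.σ μ a)) (by rw [hdet, xM_det]) (hpres _ (xM_pres D.σ D.invol μ hμ a))
  have tz : ∀ S, toM K (2 * m + 1) q (z S) = Φ (zM S.1) := fun S => rfl
  have tl : ∀ g : Matrix.GeneralLinearGroup (Fin m) K, toM K (2 * m + 1) q (l g) =
      Φ (lM D.σ (g : Matrix (Fin m) (Fin m) K)
        ((g⁻¹ : Matrix.GeneralLinearGroup (Fin m) K) : Matrix (Fin m) (Fin m) K)) := fun g => rfl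
  have tx : ∀ a, toM K (2 * m + 1) q (x a) = Φ (xM D.σ μ a) := fun a => rfl
  refine ⟨z, l, x, ?_, ?_, ?_, ?_, ?_⟩
  · intro S T
    apply toM_injective
    rw [map_mul, tz, tz, tz, ← map_mul]
    congr 1
    exact zM_add S.1 T.1
  · intro S hS hc
    obtain ⟨c, hc⟩ := Cfsg.Agent.Helper7.AutPSU.center_tm hK (by omega) hc
    rw [tz] at hc
    have h1 : Φ (zM S.1) = Φ (c • (1 : Matrix (Idx m) (Idx m) K)) := by
      rw [hc, map_smul, map_one]
    have h2 := Φ.injective h1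
    apply hS
    apply Subtype.ext
    exact zM_scalar S.1 c h2
  · intro g S
    rw [mul_inv_eq_iff_eq_mul]
    apply toM_injective
    rw [map_mul, map_mul, tz, tz, tl, ← map_mul, ← map_mul]
    congr 1
    have h1 := lM_conj D.σ _ _ (hgi g) S.1
    have h2 := lM_mul_inv D.σ _ _ (hgi' g)
    have h3 : (cong D.invol (g : Matrix (Fin m) (Fin m) K) S).1 =
        (g : Matrix (Fin m) (Fin m) K) * S.1 * ct D.σ (g : Matrix (Fin m) (Fin m) K) := rfl
    rw [h3, ← h1, Matrix.mul_assoc _ (lM D.σ _ _) (lM D.σ _ _), h2, Matrix.mul_one]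
  · intro a S
    apply toM_injective
    rw [map_mul, map_mul, tz, tx, ← map_mul, ← map_mul]
    congr 1
    exact xM_comm_zM D.σ μ a S.1
  · intro a b
    apply toM_injective
    rw [map_mul, map_mul, map_mul, tz, tx, tx, ← map_mul, ← map_mul, ← map_mul]
    congr 1
    exact xM_mul_xM D.σ μ a b

end Cfsg.Agent.S2334P
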