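import Mathlib
import Cfsg.Agent.S2644
import Cfsg.Agent.Helper4.LSDefs
import Cfsg.Agent.Helper2.SU.Simple

set_option autoImplicit false

/-! S2334 piece KER: an irreducible complex representation of degree at least two of `SU_n(q)`
is nontrivial on every non-central element. -/

namespace Cfsg.Agent.Helper2.LS34KER

open Matrix Module Cfsg.Agent.S2644 Cfsg.Agent.Helper2.SUGen

/-- a normal subgroup of `SU_n(q)` not contained in the centre is everything -/
theorem normal_eq_top {F : Type*} [Field F] [Fintype F] {q : ℕ}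
    (hF : Fintype.card F = q ^ 2) (n : ℕ) (hn : 3 ≤ n) (h32 : ¬ (n = 3 ∧ q = 2))
    (N : Subgroup ↥(Cfsg.SU n F q)) (hN : N.Normal)
    (hNZ : ¬ N ≤ Subgroup.center ↥(Cfsg.SU n F q)) : N = ⊤ := by
  classical
  obtain ⟨σ, hσ, hσ2⟩ := Cfsg.Agent.Helper28.exists_frob hF
  have hσid := Cfsg.Agent.S0837.frob_ne_id hF σ hσ
  let D : Frob F q := ⟨σ, hσ, hσ2, hσid⟩
  have hperf := commutator_SU_eq_top hF n hn h32
  obtain ⟨n₀, hn₀, hn₀Z⟩ := SetLike.not_le_iff_exists.mp hNZ
  have : ∃ v : Fin n → F, v ≠ 0 ∧ Cfsg.hermForm n F q v v = 0 ∧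
      ∀ a : F, Cfsg.Agent.S2644.toM F n q n₀ *ᵥ v ≠ a • v := by
    by_contra hcon
    push Not at hcon
    exact hn₀Z (mem_center_of_fix D (by omega) hcon)
  obtain ⟨v₀, hv₀, hvv, hmove⟩ := this
  have := commutator_le_of_moves D hF hn h32 hn₀ hv₀ hvv hmove
  rw [hperf] at this
  exact top_le_iff.mp this

/-- a trivial representation on `Fin k → ℂ` with `k ≥ 2` is not irreducible -/
theorem not_irreducible_of_trivial {G : Type*} [Group G] (k : ℕ)
    (ρ : Representation ℂ G (Fin k → ℂ)) (hirr : ρ.IsIrreducible) (hk : 2 ≤ k)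
    (htriv : ∀ g : G, ρ g = 1) : False := by
  let i0 : Fin k := ⟨0, by omega⟩
  let i1 : Fin k := ⟨1, by omega⟩
  let W : Subrepresentation ρ :=
    { toSubmodule := Submodule.span ℂ {(Pi.single i0 (1 : ℂ) : Fin k → ℂ)}
      apply_mem_toSubmodule := by
        intro g v hv
        rw [htriv g]
        exact hv }
  have hW : W = ⊥ ∨ W = ⊤ := hirr.eq_bot_or_eq_top W
  rcases hW with h0 | h0
  · have : W.toSubmodule = (⊥ : Subrepresentation ρ).toSubmodule := by rw [h0]
    have hmem : (Pi.single i0 (1 : ℂ) : Fin k → ℂ) ∈ W.toSubmodule :=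
      Submodule.subset_span rfl
    rw [this] at hmem
    have h1 : (Pi.single i0 (1 : ℂ) : Fin k → ℂ) = 0 := hmem
    have := congrFun h1 i0
    simp at this
  · have : W.toSubmodule = (⊤ : Subrepresentation ρ).toSubmodule := by rw [h0]
    have hmem : (Pi.single i1 (1 : ℂ) : Fin k → ℂ) ∈ W.toSubmodule := by
      rw [this]; exact Submodule.mem_top
    obtain ⟨c, hc⟩ := Submodule.mem_span_singleton.mp hmem
    have := congrFun hc i1
    have hne : i1 ≠ i0 := by
      intro h'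
      have := congrArg Fin.val h'
      simp [i0, i1] at this
    simp [Pi.single_apply, hne] at this

end Cfsg.Agent.Helper2.LS34KER

namespace Cfsg.Agent.S2334P

open Matrix Module Cfsg.Agent.S2644 Cfsg.Agent.Helper2.SUGen

variable {K : Type*} [Field K] {q : ℕ}

theorem rho_ne_one [Fintype K] (hK : Fintype.card K = q ^ 2) (n : ℕ) (hn : 3 ≤ n)
    (h32 : ¬ (n = 3 ∧ q = 2)) (k : ℕ) (ρ : Representation ℂ ↥(Cfsg.SU n K q) (Fin k → ℂ))
    (hirr : ρ.IsIrreducible) (hk : 2 ≤ k) (g : ↥(Cfsg.SU n K q))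
    (hg : g ∉ Subgroup.center ↥(Cfsg.SU n K q)) : ρ g ≠ 1 := by
  intro h1
  have hker : ¬ (MonoidHom.ker ρ) ≤ Subgroup.center ↥(Cfsg.SU n K q) := by
    intro hle
    exact hg (hle (MonoidHom.mem_ker.mpr h1))
  have htop := Cfsg.Agent.Helper2.LS34KER.normal_eq_top hK n hn h32 (MonoidHom.ker ρ)
    (MonoidHom.normal_ker ρ) hker
  apply Cfsg.Agent.Helper2.LS34KER.not_irreducible_of_trivial k ρ hirr hk
  intro g'
  have : g' ∈ MonoidHom.ker ρ := by rw [htop]; exact Subgroup.mem_top g'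
  exact MonoidHom.mem_ker.mp this

end Cfsg.Agent.S2334P
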