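import Mathlib
import Cfsg.Agent.Helper2.QuadMinus

/-!
# `O_4^-(2) ≅ S_5`

The isometry group of the elliptic quadratic form in dimension 4 over `ZMod 2` acts faithfully on the
five nonzero singular vectors; by the order formula it has order `120 = 5!`.
-/

set_option autoImplicit false

namespace Cfsg.Agent.Helper2.O4S5

open Matrix

abbrev I4 := (Fin 1 ⊕ Fin 1) ⊕ Fin 2
abbrev Q4 : (I4 → ZMod 2) → ZMod 2 := Cfsg.quadFormMinus 1 (ZMod 2) 1 1
abbrev O4 : Subgroup (Matrix.GeneralLinearGroup I4 (ZMod 2)) := Cfsg.isometryGroup (ZMod 2) Q4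

instance decS : DecidablePred (fun v : I4 → ZMod 2 => v ≠ 0 ∧ Q4 v = 0) := by
  intro v
  unfold Q4 Cfsg.quadFormMinus
  infer_instance

abbrev S4 := {v : I4 → ZMod 2 // v ≠ 0 ∧ Q4 v = 0}

set_option maxRecDepth 100000 in
theorem cardS : Fintype.card S4 = 5 := by
  decide +kernel

set_option maxRecDepth 100000 in
set_option synthInstance.maxSize 2000 in
set_option synthInstance.maxHeartbeats 200000 in
theorem span_S : ∀ v : I4 → ZMod 2,
    v = 0 ∨ (∃ a : S4, v = a.1) ∨ (∃ a b : S4, v = a.1 + b.1) := by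
  decide +kernel

theorem card_O4 : Nat.card O4 = 120 := by
  have hA : Cfsg.Agent.Helper2.Quad.Aniso (1 : ZMod 2) 1 := by
    unfold Cfsg.Agent.Helper2.Quad.Aniso
    decide
  have h := Cfsg.Agent.Helper2.Quad.card_GO_minus (F := ZMod 2) (q := 2) (by simp [ZMod.card])
    2 (by norm_num) 1 1 hA
  have e : (2 : ℕ) - 1 = 1 := rfl
  simp only [e] at h
  rw [h]
  simp

theorem gl_mulVec_inj (g : Matrix.GeneralLinearGroup I4 (ZMod 2)) {v w : I4 → ZMod 2}
    (h : (g : Matrix I4 I4 (ZMod 2)) *ᵥ v = (g : Matrix I4 I4 (ZMod 2)) *ᵥ w) : v = w := by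
  have := congrArg (fun x => ((g⁻¹ : Matrix.GeneralLinearGroup I4 (ZMod 2)) :
    Matrix I4 I4 (ZMod 2)) *ᵥ x) h
  rwa [Matrix.mulVec_mulVec, Matrix.mulVec_mulVec, ← Units.val_mul, inv_mul_cancel, Units.val_one,
    Matrix.one_mulVec, Matrix.one_mulVec] at this

theorem mem_O4 (g : O4) (v : I4 → ZMod 2) :
    Q4 (((g : Matrix.GeneralLinearGroup I4 (ZMod 2)) : Matrix I4 I4 (ZMod 2)) *ᵥ v) = Q4 v :=
  g.2 v v

instance actS : MulAction O4 S4 where
  smul g v := ⟨((g : Matrix.GeneralLinearGroup I4 (ZMod 2)) : Matrix I4 I4 (ZMod 2)) *ᵥ v.1, by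
    intro h
    apply v.2.1
    apply gl_mulVec_inj (g : Matrix.GeneralLinearGroup I4 (ZMod 2))
    rw [h, Matrix.mulVec_zero], by
    rw [mem_O4]; exact v.2.2⟩
  one_smul v := by
    apply Subtype.ext
    change ((((1 : O4) : Matrix.GeneralLinearGroup I4 (ZMod 2)) : Matrix I4 I4 (ZMod 2)) *ᵥ v.1) = v.1
    rw [Subgroup.coe_one, Units.val_one, Matrix.one_mulVec]
  mul_smul g h v := by
    apply Subtype.ext
    change ((((g * h : O4) : Matrix.GeneralLinearGroup I4 (ZMod 2)) : Matrix I4 I4 (ZMod 2)) *ᵥ v.1) =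
      ((g : Matrix.GeneralLinearGroup I4 (ZMod 2)) : Matrix I4 I4 (ZMod 2)) *ᵥ
        (((h : Matrix.GeneralLinearGroup I4 (ZMod 2)) : Matrix I4 I4 (ZMod 2)) *ᵥ v.1)
    rw [Subgroup.coe_mul, Units.val_mul, Matrix.mulVec_mulVec]

theorem smul_val (g : O4) (v : S4) :
    (g • v).1 = ((g : Matrix.GeneralLinearGroup I4 (ZMod 2)) : Matrix I4 I4 (ZMod 2)) *ᵥ v.1 := rfl

theorem permHom_injective : Function.Injective (MulAction.toPermHom O4 S4) := by
  rw [injective_iff_map_eq_one]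
  intro g hg
  have hfix : ∀ a : S4,
      ((g : Matrix.GeneralLinearGroup I4 (ZMod 2)) : Matrix I4 I4 (ZMod 2)) *ᵥ a.1 = a.1 := by
    intro a
    have h1 : (MulAction.toPermHom O4 S4 g) a = a := by rw [hg]; rfl
    rw [MulAction.toPermHom_apply, MulAction.toPerm_apply] at h1
    rw [← smul_val, h1]
  have hall : ∀ v : I4 → ZMod 2,
      ((g : Matrix.GeneralLinearGroup I4 (ZMod 2)) : Matrix I4 I4 (ZMod 2)) *ᵥ v = v := by
    intro v
    rcases span_S v with rfl | ⟨a, rfl⟩ | ⟨a, b, rfl⟩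
    · rw [Matrix.mulVec_zero]
    · exact hfix a
    · rw [Matrix.mulVec_add, hfix, hfix]
  apply Subtype.ext
  apply Units.ext
  rw [Subgroup.coe_one, Units.val_one]
  apply Matrix.toLin'.injective
  apply LinearMap.ext
  intro v
  rw [Matrix.toLin'_apply, hall, Matrix.toLin'_one, LinearMap.id_apply]

theorem nonempty_mulEquiv : Nonempty (O4 ≃* Equiv.Perm (Fin 5)) := by
  have hcard : Nat.card (Equiv.Perm S4) = 120 := by
    rw [Nat.card_eq_fintype_card, Fintype.card_perm, cardS]; rfl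
  have hbij : Function.Bijective (MulAction.toPermHom O4 S4) :=
    permHom_injective.bijective_of_nat_card_le (by rw [hcard, card_O4])
  have e1 : O4 ≃* Equiv.Perm S4 := MulEquiv.ofBijective _ hbij
  have e2 : S4 ≃ Fin 5 := Fintype.equivFinOfCardEq cardS
  exact ⟨e1.trans (Equiv.permCongrHom e2)⟩

end Cfsg.Agent.Helper2.O4S5
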