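import Mathlib

/-! `PGL₂(F)` is sharply 3-transitive on the projective line. -/

set_option autoImplicit false

namespace Cfsg.Agent.Helper2.PGL2

open Matrix Projectivization
open scoped MatrixGroups

variable {F : Type*} [Field F]

theorem mk_eq_mk_iff_det {v w : Fin 2 → F} (hv : v ≠ 0) (hw : w ≠ 0) :
    Projectivization.mk F v hv = Projectivization.mk F w hw ↔ v 0 * w 1 - v 1 * w 0 = 0 := by
  rw [Projectivization.mk_eq_mk_iff']
  constructor
  · rintro ⟨a, rfl⟩
    simp only [Pi.smul_apply, smul_eq_mul]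
    ring
  · intro h
    by_cases hw0 : w 0 = 0
    · have hw1 : w 1 ≠ 0 := by
        intro hw1
        apply hw
        funext i; fin_cases i <;> assumption
      rw [hw0, mul_zero, sub_zero] at h
      have hv0 : v 0 = 0 := by
        rcases mul_eq_zero.mp h with h | h
        · exact h
        · exact absurd h hw1
      refine ⟨v 1 / w 1, ?_⟩
      funext i
      fin_cases i
      · simp [hw0, hv0]
      · simp; field_simp
    · refine ⟨v 0 / w 0, ?_⟩
      funext i
      fin_cases i
      · simp; field_simp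
      · simp; field_simp; linear_combination h

theorem std_ne0 : (![1, 0] : Fin 2 → F) ≠ 0 := by
  intro h; have := congrFun h 0; simp at this

theorem std_ne1 : (![0, 1] : Fin 2 → F) ≠ 0 := by
  intro h; have := congrFun h 1; simp at this

theorem std_ne2 : (![1, 1] : Fin 2 → F) ≠ 0 := by
  intro h; have := congrFun h 0; simp at this

/-- the three standard points of the projective line -/
def s0 : Projectivization F (Fin 2 → F) := Projectivization.mk F ![1, 0] std_ne0
/-- the three standard points of the projective line -/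
def s1 : Projectivization F (Fin 2 → F) := Projectivization.mk F ![0, 1] std_ne1
/-- the three standard points of the projective line -/
def s2 : Projectivization F (Fin 2 → F) := Projectivization.mk F ![1, 1] std_ne2

theorem mk_smul_eq {c : F} (hc : c ≠ 0) {v : Fin 2 → F} (hv : v ≠ 0) (h : c • v ≠ 0) :
    Projectivization.mk F (c • v) h = Projectivization.mk F v hv := by
  rw [Projectivization.mk_eq_mk_iff']
  exact ⟨c, rfl⟩

theorem exists_map_std (a b c : Projectivization F (Fin 2 → F)) (hab : a ≠ b) (hac : a ≠ c) (hbc : b ≠ c) :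
    ∃ g : PGL(Fin 2, F), g • s0 = a ∧ g • s1 = b ∧ g • s2 = c := by
  induction a using Projectivization.ind with | h va ha =>
  induction b using Projectivization.ind with | h vb hb =>
  induction c using Projectivization.ind with | h vc hc =>
  rw [Ne, mk_eq_mk_iff_det] at hab hac hbc
  set α := vc 0 * vb 1 - vb 0 * vc 1 with hα
  set β := va 0 * vc 1 - vc 0 * va 1 with hβ
  set Δ := va 0 * vb 1 - vb 0 * va 1 with hΔ
  have hα0 : α ≠ 0 := by
    intro h; apply hbc; rw [hα] at h; linear_combination -h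
  have hβ0 : β ≠ 0 := by
    intro h; apply hac; rw [hβ] at h; linear_combination h
  have hΔ0 : Δ ≠ 0 := by
    intro h; apply hab; rw [hΔ] at h; linear_combination h
  have hdet : (!![α * va 0, β * vb 0; α * va 1, β * vb 1] : Matrix (Fin 2) (Fin 2) F).det ≠ 0 := by
    rw [Matrix.det_fin_two_of]
    have : α * va 0 * (β * vb 1) - β * vb 0 * (α * va 1) = α * β * Δ := by rw [hΔ]; ring
    rw [this]
    exact mul_ne_zero (mul_ne_zero hα0 hβ0) hΔ0
  refine ⟨Matrix.ProjGenLinGroup.mk (Matrix.GeneralLinearGroup.mkOfDetNeZero _ hdet), ?_, ?_, ?_⟩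
  · rw [s0, Projectivization.PGL.mk_smul_mk, ← mk_smul_eq hα0 ha (smul_ne_zero hα0 ha)]
    congr 1
    funext i
    fin_cases i <;>
      simp [Units.smul_def, Matrix.GeneralLinearGroup.mkOfDetNeZero, Matrix.mulVec, dotProduct]
  · rw [s1, Projectivization.PGL.mk_smul_mk, ← mk_smul_eq hβ0 hb (smul_ne_zero hβ0 hb)]
    congr 1
    funext i
    fin_cases i <;>
      simp [Units.smul_def, Matrix.GeneralLinearGroup.mkOfDetNeZero, Matrix.mulVec, dotProduct]
  · rw [s2, Projectivization.PGL.mk_smul_mk, ← mk_smul_eq hΔ0 hc (smul_ne_zero hΔ0 hc)]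
    congr 1
    funext i
    fin_cases i <;>
      simp [Units.smul_def, Matrix.GeneralLinearGroup.mkOfDetNeZero, Matrix.mulVec, dotProduct,
        hα, hβ, hΔ] <;> ring


theorem eq_one_of_fix_std (g : PGL(Fin 2, F)) (h0 : g • s0 = (s0 : Projectivization F (Fin 2 → F)))
    (h1 : g • s1 = (s1 : Projectivization F (Fin 2 → F)))
    (h2 : g • s2 = (s2 : Projectivization F (Fin 2 → F))) : g = 1 := by
  induction g using Matrix.ProjGenLinGroup.induction_on with | mk N =>
  rw [s0, Projectivization.PGL.mk_smul_mk, mk_eq_mk_iff_det] at h0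
  rw [s1, Projectivization.PGL.mk_smul_mk, mk_eq_mk_iff_det] at h1
  rw [s2, Projectivization.PGL.mk_smul_mk, mk_eq_mk_iff_det] at h2
  simp [Units.smul_def, Matrix.mulVec, dotProduct] at h0 h1 h2
  have h11 : N 0 0 = N 1 1 := by
    rw [h0, h1] at h2
    linear_combination h2
  have hne : N 0 0 ≠ 0 := by
    intro h
    have hdet := (Matrix.GeneralLinearGroup.det N).ne_zero
    rw [Matrix.GeneralLinearGroup.val_det_apply, Matrix.det_fin_two, h0, h1, h] at hdet
    simp at hdet
  have hN : N = Matrix.GeneralLinearGroup.scalar (Fin 2) (Units.mk0 (N 0 0) hne) := by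
    apply Units.ext
    ext i j
    fin_cases i <;> fin_cases j <;> simp [h0, h1, ← h11]
  rw [hN, Matrix.ProjGenLinGroup.mk_scalar]

theorem isMultiplyPretransitive_three :
    MulAction.IsMultiplyPretransitive (PGL(Fin 2, F)) (Projectivization F (Fin 2 → F)) 3 := by
  rw [MulAction.isMultiplyPretransitive_iff]
  intro x y
  have hx : ∀ i j : Fin 3, i ≠ j → x i ≠ x j := fun i j h e => h (x.injective e)
  have hy : ∀ i j : Fin 3, i ≠ j → y i ≠ y j := fun i j h e => h (y.injective e)
  obtain ⟨gx, gx0, gx1, gx2⟩ := exists_map_std (x 0) (x 1) (x 2) (hx 0 1 (by decide))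
    (hx 0 2 (by decide)) (hx 1 2 (by decide))
  obtain ⟨gy, gy0, gy1, gy2⟩ := exists_map_std (y 0) (y 1) (y 2) (hy 0 1 (by decide))
    (hy 0 2 (by decide)) (hy 1 2 (by decide))
  refine ⟨gy * gx⁻¹, ?_⟩
  ext i
  rw [Function.Embedding.smul_apply, mul_smul]
  fin_cases i
  · show gy • gx⁻¹ • x 0 = y 0
    rw [← gx0, inv_smul_smul, gy0]
  · show gy • gx⁻¹ • x 1 = y 1
    rw [← gx1, inv_smul_smul, gy1]
  · show gy • gx⁻¹ • x 2 = y 2
    rw [← gx2, inv_smul_smul, gy2]

theorem eq_one_of_fix_three (g : PGL(Fin 2, F)) (a b c : Projectivization F (Fin 2 → F))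
    (hab : a ≠ b) (hac : a ≠ c) (hbc : b ≠ c) (ha : g • a = a) (hb : g • b = b) (hc : g • c = c) :
    g = 1 := by
  obtain ⟨h, h0, h1, h2⟩ := exists_map_std a b c hab hac hbc
  have key : h⁻¹ * g * h = 1 := by
    apply eq_one_of_fix_std
    · rw [mul_smul, mul_smul, h0, ha, ← h0, inv_smul_smul]
    · rw [mul_smul, mul_smul, h1, hb, ← h1, inv_smul_smul]
    · rw [mul_smul, mul_smul, h2, hc, ← h2, inv_smul_smul]
  have : g = h * (h⁻¹ * g * h) * h⁻¹ := by group
  rw [this, key]; group

end Cfsg.Agent.Helper2.PGL2
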