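import Mathlib
import Cfsg.Agent.Helper2.QuadOdd
import Cfsg.Agent.Helper2.SpCard

/-! In characteristic two, `O_{2m+1}(q) ≃* Sp_{2m}(q)`. -/

set_option autoImplicit false
set_option linter.unusedSectionVars false
set_option linter.unusedVariables false

namespace Cfsg.Agent.Helper2.Quad

open Finset QuadraticMap Matrix

variable {F : Type*} [Field F]

theorem card_frames_odd [Fintype F] {q : ℕ} (hF : Fintype.card F = q) (m : ℕ) :
    Nat.card (Frames (oddModel F m).Q m) =
      q ^ (m ^ 2) * ∏ i ∈ Finset.range m, (q ^ (2 * (i + 1)) - 1) := by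
  have hq : 2 ≤ q := by rw [← hF]; exact Fintype.one_lt_card
  have h := (oddModel F m).card_frames_model
  rw [hF] at h
  have hsum : ∑ y, (oddModel F m).N₀ y = Fintype.card F := by
    rw [(oddModel F m).sum_N₀]; simp
  have hs : ∀ j, Sk j (oddModel F m).N₀ 0 = q ^ (2 * j) := by
    intro j
    have := Sk_zero_odd (oddModel F m).N₀ (oddModel F m).N₀_zero hsum j
    rw [hF] at this
    exact this
  rw [Finset.prod_congr rfl (fun i _ => by rw [hs (i + 1)])] at h
  simp only [Fintype.card_unique] at h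
  have e : (q ^ (2 * m + 1)) ^ m = q ^ (m ^ 2) * q ^ (m * (m + 1)) := by
    rw [← pow_mul, ← pow_add]
    congr 1
    ring
  rw [e] at h
  have hpos : 0 < q ^ (m * (m + 1)) := Nat.pow_pos (by omega)
  apply Nat.eq_of_mul_eq_mul_right hpos
  rw [h]
  ring

theorem card_sq_eq_one_two [Fintype F] [CharP F 2] :
    Nat.card {z : Unit → F // (oddModel F 0).Q₀ z = 1} = 1 := by
  have : Unique {z : Unit → F // (oddModel F 0).Q₀ z = 1} :=
    { default := ⟨fun _ => 1, by simp [oddModel]⟩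
      uniq := by
        rintro ⟨z, hz⟩
        apply Subtype.ext
        funext j
        have h1 : z () * z () = 1 := hz
        have h2 : (z () - 1) * (z () - 1) = 0 := by
          have h3 : (2 : F) = 0 := CharTwo.two_eq_zero
          linear_combination h1 + (1 - z ()) * h3
        have := mul_self_eq_zero.mp h2
        exact sub_eq_zero.mp this }
  exact Nat.card_unique

theorem card_emb_odd_two [Fintype F] [CharP F 2] (m : ℕ)
    (c : Fin m → ((Unit ⊕ (Fin m ⊕ Fin m)) → F) × ((Unit ⊕ (Fin m ⊕ Fin m)) → F))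
    (hc : IsHyp (oddModel F m).Q c) :
    Nat.card ((oddModel F m).Emb c) = 1 := by
  have E : (oddModel F m).Emb c ≃ {w : Perp (oddModel F m).Q c // (oddModel F m).Q w.1 = 1} :=
    { toFun := fun t => ⟨⟨t.1 (), t.2.1 ()⟩, by
        have := t.2.2 (fun _ => 1)
        simp only [Finset.univ_unique, Finset.sum_singleton, one_smul] at this
        rw [this]
        simp [oddModel]⟩
      invFun := fun w => ⟨fun _ => w.1.1, fun _ => w.1.2, by
        intro z
        simp only [Finset.univ_unique, Finset.sum_singleton]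
        rw [QuadraticMap.map_smul, w.2]
        simp [oddModel]⟩
      left_inv := by
        rintro ⟨t, ht⟩
        rfl
      right_inv := by
        rintro ⟨⟨w, hw⟩, hqw⟩
        rfl }
  rw [Nat.card_congr E]
  have h1 : NW (oddModel F m).Q c 1 = (oddModel F m).N₀ 1 := by
    rw [(oddModel F m).NW_full hc]
  unfold NW at h1
  rw [h1]
  exact card_sq_eq_one_two

theorem card_GO_odd_two [Fintype F] [CharP F 2] (m : ℕ) :
    Nat.card (Cfsg.isometryGroup F (Cfsg.quadFormOdd m F)) =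
      Nat.card (Matrix.symplecticGroup (Fin m) F) := by
  rw [quadFormOdd_eq, (oddModel F m).card_go 1 (fun c hc => card_emb_odd_two m c hc), mul_one,
    card_frames_odd rfl, Sp.card_symplectic_fin]

/-! ### The homomorphism onto the symplectic group -/

section hom

variable [CharP F 2] {m : ℕ}

local notation "I" => Unit ⊕ (Fin m ⊕ Fin m)

/-- the polar form of the odd-dimensional quadratic form -/
def polarOdd (m : ℕ) (u v : Unit ⊕ (Fin m ⊕ Fin m) → F) : F :=
  Cfsg.quadFormOdd m F (u + v) - Cfsg.quadFormOdd m F u - Cfsg.quadFormOdd m F v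

theorem polarOdd_eq (u v : I → F) :
    polarOdd m u v = Sp.om (u ∘ Sum.inr) (v ∘ Sum.inr) := by
  have h2 : (2 : F) = 0 := CharTwo.two_eq_zero
  unfold polarOdd Cfsg.quadFormOdd
  rw [Sp.om_eq_sum]
  simp only [Pi.add_apply, Function.comp_apply]
  have e : ∀ i : Fin m, (u (Sum.inr (Sum.inl i)) + v (Sum.inr (Sum.inl i))) *
      (u (Sum.inr (Sum.inr i)) + v (Sum.inr (Sum.inr i))) =
      u (Sum.inr (Sum.inl i)) * u (Sum.inr (Sum.inr i)) +
      v (Sum.inr (Sum.inl i)) * v (Sum.inr (Sum.inr i)) +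
      (u (Sum.inr (Sum.inr i)) * v (Sum.inr (Sum.inl i)) -
        u (Sum.inr (Sum.inl i)) * v (Sum.inr (Sum.inr i))) := by
    intro i
    linear_combination (u (Sum.inr (Sum.inl i)) * v (Sum.inr (Sum.inr i))) * h2
  rw [Finset.sum_congr rfl (fun i _ => e i), Finset.sum_add_distrib, Finset.sum_add_distrib]
  linear_combination (u (Sum.inl ()) * v (Sum.inl ())) * h2

/-- the radical vector -/
def e₀ (m : ℕ) : Unit ⊕ (Fin m ⊕ Fin m) → F := Pi.single (Sum.inl ()) 1

theorem mem_go_odd_iff (g : GL (Unit ⊕ (Fin m ⊕ Fin m)) F) :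
    g ∈ Cfsg.isometryGroup F (Cfsg.quadFormOdd m F) ↔
      ∀ v, Cfsg.quadFormOdd m F ((g : Matrix I I F) *ᵥ v) = Cfsg.quadFormOdd m F v :=
  ⟨fun h v => h v v, fun h u _ => h u⟩

theorem polarOdd_pres {A : Matrix I I F}
    (hA : ∀ v, Cfsg.quadFormOdd m F (A *ᵥ v) = Cfsg.quadFormOdd m F v) (u v : I → F) :
    polarOdd m (A *ᵥ u) (A *ᵥ v) = polarOdd m u v := by
  unfold polarOdd
  rw [← Matrix.mulVec_add, hA, hA, hA]

theorem mulVec_e₀ (g : GL (Unit ⊕ (Fin m ⊕ Fin m)) F)
    (hg : g ∈ Cfsg.isometryGroup F (Cfsg.quadFormOdd m F)) :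
    (g : Matrix I I F) *ᵥ e₀ m = e₀ m := by
  have hA := (mem_go_odd_iff g).mp hg
  obtain ⟨w, hw⟩ : ∃ w, w = (g : Matrix I I F) *ᵥ e₀ m := ⟨_, rfl⟩
  rw [← hw]
  have h1 : ∀ u : I → F, polarOdd m w u = 0 := by
    intro u
    have hu : u = (g : Matrix I I F) *ᵥ (((g⁻¹ : GL I F) : Matrix I I F) *ᵥ u) := by
      rw [Matrix.mulVec_mulVec, ← Units.val_mul, mul_inv_cancel, Units.val_one, Matrix.one_mulVec]
    rw [hu, hw, polarOdd_pres hA, polarOdd_eq]
    have : (e₀ m : I → F) ∘ Sum.inr = 0 := by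
      funext j
      simp [e₀]
    rw [this]
    unfold Sp.om
    simp
  have h2 : w ∘ Sum.inr = 0 := by
    by_contra hne
    obtain ⟨y, hy⟩ := Sp.exists_om_ne_zero hne
    apply hy
    have := h1 (Sum.elim (fun _ => 0) y)
    rw [polarOdd_eq] at this
    exact this
  have h3 : Cfsg.quadFormOdd m F w = 1 := by
    rw [hw, hA]
    simp [Cfsg.quadFormOdd, e₀]
  have h4 : w (Sum.inl ()) = 1 := by
    have h5 : ∀ j, w (Sum.inr j) = 0 := fun j => congrFun h2 j
    unfold Cfsg.quadFormOdd at h3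
    simp only [h5, mul_zero, Finset.sum_const_zero, add_zero] at h3
    have h2' : (2 : F) = 0 := CharTwo.two_eq_zero
    have h6 : (w (Sum.inl ()) - 1) * (w (Sum.inl ()) - 1) = 0 := by
      linear_combination h3 + (1 - w (Sum.inl ())) * h2'
    exact sub_eq_zero.mp (mul_self_eq_zero.mp h6)
  funext x
  rcases x with ⟨⟩ | j
  · rw [h4]; simp [e₀]
  · have h5 := congrFun h2 j
    simp only [Function.comp_apply, Pi.zero_apply] at h5
    rw [h5]; simp [e₀]

theorem col_zero (g : GL (Unit ⊕ (Fin m ⊕ Fin m)) F)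
    (hg : g ∈ Cfsg.isometryGroup F (Cfsg.quadFormOdd m F)) (j : Fin m ⊕ Fin m) :
    (g : Matrix I I F) (Sum.inr j) (Sum.inl ()) = 0 := by
  have := congrFun (mulVec_e₀ g hg) (Sum.inr j)
  unfold e₀ at this
  rw [Matrix.mulVec_single_one] at this
  simpa using this

theorem block_mulVec (g : GL (Unit ⊕ (Fin m ⊕ Fin m)) F)
    (hg : g ∈ Cfsg.isometryGroup F (Cfsg.quadFormOdd m F)) (x : Fin m ⊕ Fin m → F) :
    ((g : Matrix I I F) *ᵥ (Sum.elim (fun _ => 0) x)) ∘ Sum.inr =
      ((g : Matrix I I F).submatrix Sum.inr Sum.inr) *ᵥ x := by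
  funext i
  simp [Matrix.mulVec, dotProduct, Fintype.sum_sum_type]

theorem block_mem (g : GL (Unit ⊕ (Fin m ⊕ Fin m)) F)
    (hg : g ∈ Cfsg.isometryGroup F (Cfsg.quadFormOdd m F)) :
    (g : Matrix I I F).submatrix Sum.inr Sum.inr ∈ Matrix.symplecticGroup (Fin m) F := by
  rw [Sp.mem_symplectic_iff_om]
  intro x y
  have hA := (mem_go_odd_iff g).mp hg
  rw [← block_mulVec g hg, ← block_mulVec g hg, ← polarOdd_eq, polarOdd_pres hA, polarOdd_eq]
  rfl

theorem submatrix_mul_block (A B : Matrix (Unit ⊕ (Fin m ⊕ Fin m)) (Unit ⊕ (Fin m ⊕ Fin m)) F)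
    (hA : ∀ i, A (Sum.inr i) (Sum.inl ()) = 0) :
    (A * B).submatrix Sum.inr Sum.inr = A.submatrix Sum.inr Sum.inr * B.submatrix Sum.inr Sum.inr := by
  ext i j
  rw [Matrix.submatrix_apply, Matrix.mul_apply, Matrix.mul_apply, Fintype.sum_sum_type]
  simp only [Finset.univ_unique, Finset.sum_singleton, Matrix.submatrix_apply]
  rw [show (default : Unit) = () from rfl, hA i, zero_mul, zero_add]

/-- the underlying function of the homomorphism `O_{2m+1} → Sp_{2m}` -/
def toSpFun (m : ℕ) (g : Cfsg.isometryGroup F (Cfsg.quadFormOdd m F)) :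
    Matrix.symplecticGroup (Fin m) F :=
  ⟨(g.1 : Matrix (Unit ⊕ (Fin m ⊕ Fin m)) (Unit ⊕ (Fin m ⊕ Fin m)) F).submatrix Sum.inr Sum.inr,
    block_mem g.1 g.2⟩

theorem toSpFun_val (g : Cfsg.isometryGroup F (Cfsg.quadFormOdd m F)) :
    (toSpFun m g).1 =
      (g.1 : Matrix (Unit ⊕ (Fin m ⊕ Fin m)) (Unit ⊕ (Fin m ⊕ Fin m)) F).submatrix Sum.inr Sum.inr :=
  rfl

theorem toSpFun_one : toSpFun (F := F) m 1 = 1 := by
  apply Subtype.ext
  rw [toSpFun_val]
  change (1 : Matrix (Unit ⊕ (Fin m ⊕ Fin m)) (Unit ⊕ (Fin m ⊕ Fin m)) F).submatrix Sum.inr Sum.inr = 1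
  exact Matrix.submatrix_one _ Sum.inr_injective

theorem toSpFun_mul (g h : Cfsg.isometryGroup F (Cfsg.quadFormOdd m F)) :
    toSpFun m (g * h) = toSpFun m g * toSpFun m h := by
  apply Subtype.ext
  rw [toSpFun_val]
  change ((g.1 : Matrix (Unit ⊕ (Fin m ⊕ Fin m)) (Unit ⊕ (Fin m ⊕ Fin m)) F) *
    (h.1 : Matrix (Unit ⊕ (Fin m ⊕ Fin m)) (Unit ⊕ (Fin m ⊕ Fin m)) F)).submatrix Sum.inr Sum.inr =
    (toSpFun m g).1 * (toSpFun m h).1
  rw [toSpFun_val, toSpFun_val]
  exact submatrix_mul_block _ _ (col_zero g.1 g.2)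

/-- the homomorphism `O_{2m+1} → Sp_{2m}` -/
def toSp (m : ℕ) : Cfsg.isometryGroup F (Cfsg.quadFormOdd m F) →* Matrix.symplecticGroup (Fin m) F where
  toFun := toSpFun m
  map_one' := toSpFun_one
  map_mul' := toSpFun_mul

theorem toSp_injective : Function.Injective (toSp (F := F) m) := by
  intro g g' h
  have hblock : ∀ i j, (g.1 : Matrix I I F) (Sum.inr i) (Sum.inr j) =
      (g'.1 : Matrix I I F) (Sum.inr i) (Sum.inr j) := by
    intro i j
    have := congrArg (fun s : Matrix.symplecticGroup (Fin m) F => s.1 i j) h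
    exact this
  have hcol : ∀ (k : GL I F) (hk : k ∈ Cfsg.isometryGroup F (Cfsg.quadFormOdd m F)) (x : I),
      (k : Matrix I I F) x (Sum.inl ()) = e₀ m x := by
    intro k hk x
    have := congrFun (mulVec_e₀ k hk) x
    rw [show (e₀ m : I → F) = Pi.single (Sum.inl ()) 1 from rfl, Matrix.mulVec_single_one] at this
    exact this
  have h2 : (2 : F) = 0 := CharTwo.two_eq_zero
  have hrow : ∀ j, (g.1 : Matrix I I F) (Sum.inl ()) (Sum.inr j) =
      (g'.1 : Matrix I I F) (Sum.inl ()) (Sum.inr j) := by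
    intro j
    have h3 := (mem_go_odd_iff g.1).mp g.2 (Pi.single (Sum.inr j) 1)
    have h4 := (mem_go_odd_iff g'.1).mp g'.2 (Pi.single (Sum.inr j) 1)
    rw [Matrix.mulVec_single_one] at h3 h4
    unfold Cfsg.quadFormOdd at h3 h4
    simp only [Matrix.col_apply] at h3 h4
    have h5 : ∑ i : Fin m, (g.1 : Matrix I I F) (Sum.inr (Sum.inl i)) (Sum.inr j) *
        (g.1 : Matrix I I F) (Sum.inr (Sum.inr i)) (Sum.inr j) =
        ∑ i : Fin m, (g'.1 : Matrix I I F) (Sum.inr (Sum.inl i)) (Sum.inr j) *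
        (g'.1 : Matrix I I F) (Sum.inr (Sum.inr i)) (Sum.inr j) :=
      Finset.sum_congr rfl (fun i _ => by rw [hblock, hblock])
    rw [h5] at h3
    have h6 : ((g.1 : Matrix I I F) (Sum.inl ()) (Sum.inr j) -
        (g'.1 : Matrix I I F) (Sum.inl ()) (Sum.inr j)) *
        ((g.1 : Matrix I I F) (Sum.inl ()) (Sum.inr j) -
        (g'.1 : Matrix I I F) (Sum.inl ()) (Sum.inr j)) = 0 := by
      linear_combination h3 - h4 - ((g.1 : Matrix I I F) (Sum.inl ()) (Sum.inr j) *
        (g'.1 : Matrix I I F) (Sum.inl ()) (Sum.inr j) -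
        (g'.1 : Matrix I I F) (Sum.inl ()) (Sum.inr j) ^ 2) * h2
    exact sub_eq_zero.mp (mul_self_eq_zero.mp h6)
  apply Subtype.ext
  apply Units.ext
  ext x y
  rcases y with ⟨⟩ | j
  · rw [hcol g.1 g.2, hcol g'.1 g'.2]
  · rcases x with ⟨⟩ | i
    · exact hrow j
    · exact hblock i j

theorem nonempty_mulEquiv_odd_two [Fintype F] (m : ℕ) :
    Nonempty (Cfsg.isometryGroup F (Cfsg.quadFormOdd m F) ≃* Matrix.symplecticGroup (Fin m) F) := by
  have hbij : Function.Bijective (toSp (F := F) m) :=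
    (Nat.bijective_iff_injective_and_card _).mpr ⟨toSp_injective, card_GO_odd_two m⟩
  exact ⟨MulEquiv.ofBijective _ hbij⟩

end hom

end Cfsg.Agent.Helper2.Quad
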