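import Mathlib
import Cfsg.Prelude.Def_RootSubgroups
import Cfsg.Agent.Helper2.RootGeneric
import Cfsg.Agent.Helper2.SL2Emb
import Cfsg.Agent.Helper2.SpGen
import Cfsg.Agent.Helper2.SpPerfect

set_option autoImplicit false

/-! Symplectic transvection groups form a degenerate class of abstract root subgroups. -/

namespace Cfsg.Agent.Helper2.RootSp

open Cfsg Cfsg.Agent.Helper25 Cfsg.Agent.Helper2.RootGeneric Cfsg.Agent.Helper2.SL2Emb
  Cfsg.Agent.Helper2.Sp Matrix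

open scoped commutatorElement

variable {l : Type*} [Fintype l] [DecidableEq l] {F : Type*} [Field F]

/-- The transvection group attached to `p`, in the form used by the statement. -/
def XS (p : l ⊕ l → F) : Subgroup (symplecticGroup l F) :=
  Subgroup.closure {g : symplecticGroup l F | ∃ c : F, ∀ v : l ⊕ l → F,
    (g : Matrix (l ⊕ l) (l ⊕ l) F) *ᵥ v = v + (c * (v ⬝ᵥ (J l F *ᵥ p))) • p}

theorem gen_iff (p : l ⊕ l → F) (g : symplecticGroup l F) :
    (∃ c : F, ∀ v : l ⊕ l → F,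
      (g : Matrix (l ⊕ l) (l ⊕ l) F) *ᵥ v = v + (c * (v ⬝ᵥ (J l F *ᵥ p))) • p)
      ↔ ∃ c : F, g = Tg p c := by
  have key : ∀ v : l ⊕ l → F, v ⬝ᵥ (J l F *ᵥ p) = - om p v := by
    intro v; rw [← om_swap]; rfl
  constructor
  · rintro ⟨c, hc⟩
    refine ⟨-c, ext_mulVec (fun x => ?_)⟩
    rw [hc, Tg_mulVec, key]; ring_nf
  · rintro ⟨c, rfl⟩
    refine ⟨-c, fun v => ?_⟩
    rw [Tg_mulVec, key]; ring_nf

theorem mem_XS {p : l ⊕ l → F} {g : symplecticGroup l F} : g ∈ XS p ↔ ∃ c : F, g = Tg p c := by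
  constructor
  · intro hg
    induction hg using Subgroup.closure_induction with
    | mem x hx => exact (gen_iff p x).mp hx
    | one => exact ⟨0, (Tg_zero p).symm⟩
    | mul x y _ _ hx hy =>
      obtain ⟨c, rfl⟩ := hx; obtain ⟨d, rfl⟩ := hy
      exact ⟨c + d, Tg_add p c d⟩
    | inv x _ hx => obtain ⟨c, rfl⟩ := hx; exact ⟨-c, Tg_inv p c⟩
  · intro h
    exact Subgroup.subset_closure ((gen_iff p g).mpr h)

theorem Tg_mem_XS (p : l ⊕ l → F) (c : F) : Tg p c ∈ XS p := mem_XS.mpr ⟨c, rfl⟩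

theorem conjBy_XS (g : symplecticGroup l F) (p : l ⊕ l → F) :
    conjBy (XS p) g = XS ((g : Matrix (l ⊕ l) (l ⊕ l) F) *ᵥ p) := by
  ext x
  rw [mem_conjBy_iff, mem_XS, mem_XS]
  constructor
  · rintro ⟨c, hc⟩
    refine ⟨c, ?_⟩
    rw [← conj_Tg, ← hc]; group
  · rintro ⟨c, rfl⟩
    refine ⟨c, ?_⟩
    rw [← conj_Tg]; group

theorem Tg_comm_of_om_zero {p q : l ⊕ l → F} (h : om p q = 0) (c d : F) :
    Tg p c * Tg q d = Tg q d * Tg p c := by
  have h' : om q p = 0 := by rw [om_swap, h, neg_zero]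
  apply ext_mulVec
  intro x
  rw [mul_mulVec, mul_mulVec, Tg_mulVec, Tg_mulVec, Tg_mulVec, Tg_mulVec, om_add_right,
    om_add_right, om_smul_right, om_smul_right, h, h']
  simp only [mul_zero, add_zero]
  abel

theorem commute_of_om_zero {p q : l ⊕ l → F} (h : om p q = 0) :
    ∀ a ∈ XS p, ∀ b ∈ XS q, a * b = b * a := by
  intro a ha b hb
  obtain ⟨c, rfl⟩ := mem_XS.mp ha
  obtain ⟨d, rfl⟩ := mem_XS.mp hb
  exact Tg_comm_of_om_zero h c d

theorem Tg_eq_one_iff {p : l ⊕ l → F} (hp : p ≠ 0) {c : F} : Tg p c = 1 ↔ c = 0 := by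
  constructor
  · intro h
    obtain ⟨x, hx⟩ := exists_om_ne_zero hp
    have h1 := Tg_mulVec p c x
    rw [h] at h1
    have h2 : ((1 : symplecticGroup l F) : Matrix (l ⊕ l) (l ⊕ l) F) *ᵥ x = x := one_mulVec x
    rw [h2] at h1
    have h3 : (c * om p x) • p = 0 := by
      have : x + 0 = x + (c * om p x) • p := by rw [add_zero]; exact h1
      exact (add_left_cancel this).symm
    rcases smul_eq_zero.mp h3 with h4 | h4
    · rcases mul_eq_zero.mp h4 with h5 | h5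
      · exact h5
      · exact absurd h5 hx
    · exact absurd h4 hp
  · rintro rfl; exact Tg_zero p

/-! ### The rank one case -/

theorem om_eq_vecMul_dot (p x : l ⊕ l → F) : om p x = (p ᵥ* J l F) ⬝ᵥ x := by
  unfold om; rw [dotProduct_mulVec]

theorem T_eq_tm (v : l ⊕ l → F) (c : F) : T v c = 1 + c • vecMulVec v (v ᵥ* J l F) := rfl

theorem emb_mem_symplectic {E : Matrix (l ⊕ l) (Fin 2) F} {R : Matrix (Fin 2) (l ⊕ l) F}
    (hRE : R * E = 1)
    (hu : ∀ c : F, emb E R ((sl2Upper c : Matrix.SpecialLinearGroup (Fin 2) F) :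
      Matrix (Fin 2) (Fin 2) F) ∈ symplecticGroup l F)
    (hl : ∀ c : F, emb E R ((sl2Lower c : Matrix.SpecialLinearGroup (Fin 2) F) :
      Matrix (Fin 2) (Fin 2) F) ∈ symplecticGroup l F)
    (g : Matrix.SpecialLinearGroup (Fin 2) F) :
    emb E R (g : Matrix (Fin 2) (Fin 2) F) ∈ symplecticGroup l F := by
  let P : Matrix.SpecialLinearGroup (Fin 2) F → Prop :=
    fun g => emb E R (g : Matrix (Fin 2) (Fin 2) F) ∈ symplecticGroup l F
  have h1 : ∀ c, P (sl2Upper c) := hu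
  have h2 : ∀ c, P (sl2Lower c) := hl
  have h3 : ∀ a b, P a → P b → P (a * b) := by
    intro a b ha hb
    show emb E R _ ∈ _
    rw [Matrix.SpecialLinearGroup.coe_mul, emb_mul hRE]
    exact Submonoid.mul_mem _ ha hb
  exact sl2_induction P h1 h2 h3 g

/-- The homomorphism `SL₂(F) → Sp` attached to an embedding datum. -/
def embSp (E : Matrix (l ⊕ l) (Fin 2) F) (R : Matrix (Fin 2) (l ⊕ l) F) (hRE : R * E = 1)
    (hmem : ∀ g : Matrix.SpecialLinearGroup (Fin 2) F,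
      emb E R (g : Matrix (Fin 2) (Fin 2) F) ∈ symplecticGroup l F) :
    Matrix.SpecialLinearGroup (Fin 2) F →* symplecticGroup l F :=
  MonoidHom.mk' (fun g => ⟨emb E R (g : Matrix (Fin 2) (Fin 2) F), hmem g⟩) (by
    intro a b
    apply Subtype.ext
    show emb E R _ = emb E R _ * emb E R _
    rw [Matrix.SpecialLinearGroup.coe_mul, emb_mul hRE])

theorem embSp_val (E : Matrix (l ⊕ l) (Fin 2) F) (R : Matrix (Fin 2) (l ⊕ l) F) (hRE : R * E = 1)
    (hmem : ∀ g : Matrix.SpecialLinearGroup (Fin 2) F,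
      emb E R (g : Matrix (Fin 2) (Fin 2) F) ∈ symplecticGroup l F)
    (g : Matrix.SpecialLinearGroup (Fin 2) F) :
    ((embSp E R hRE hmem g : symplecticGroup l F) : Matrix (l ⊕ l) (l ⊕ l) F)
      = emb E R (g : Matrix (Fin 2) (Fin 2) F) := rfl

theorem embSp_injective (E : Matrix (l ⊕ l) (Fin 2) F) (R : Matrix (Fin 2) (l ⊕ l) F)
    (hRE : R * E = 1)
    (hmem : ∀ g : Matrix.SpecialLinearGroup (Fin 2) F,
      emb E R (g : Matrix (Fin 2) (Fin 2) F) ∈ symplecticGroup l F) :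
    Function.Injective (embSp E R hRE hmem) := by
  intro a b hab
  apply Subtype.ext
  apply emb_injective hRE
  have := congrArg Subtype.val hab
  rwa [embSp_val, embSp_val] at this

theorem rankOne_of_om_ne {p q : l ⊕ l → F} (h : om p q ≠ 0) :
    IsRankOnePair (XS p) (XS q) ∧ IsPSL2PairOver F (XS p) (XS q) ∧
      ∀ S : Set (Subgroup (symplecticGroup l F)), ¬ RootCommutatorCase S (XS p) (XS q) := by
  set s := om p q with hs
  obtain ⟨E, hE0, hE1⟩ : ∃ E : Matrix (l ⊕ l) (Fin 2) F, (∀ i, E i 0 = p i) ∧ (∀ i, E i 1 = q i) :=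
    ⟨Matrix.of fun i j => ![p i, q i] j, fun _ => rfl, fun _ => rfl⟩
  obtain ⟨R, hR0, hR1⟩ : ∃ R : Matrix (Fin 2) (l ⊕ l) F,
      (∀ i, R 0 i = -(s⁻¹) * (q ᵥ* J l F) i) ∧ (∀ i, R 1 i = s⁻¹ * (p ᵥ* J l F) i) :=
    ⟨Matrix.of fun j i => ![-(s⁻¹) * (q ᵥ* J l F) i, s⁻¹ * (p ᵥ* J l F) i] j,
      fun _ => rfl, fun _ => rfl⟩
  have hRE : R * E = 1 := by
    ext a b
    fin_cases a <;> fin_cases b
    · show (R * E) 0 0 = 1
      rw [Matrix.mul_apply]
      simp_rw [hR0, hE0, mul_assoc]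
      rw [← Finset.mul_sum]
      show -(s⁻¹) * ((q ᵥ* J l F) ⬝ᵥ p) = 1
      rw [← om_eq_vecMul_dot, om_swap, ← hs]
      field_simp
    · show (R * E) 0 1 = 0
      rw [Matrix.mul_apply]
      simp_rw [hR0, hE1, mul_assoc]
      rw [← Finset.mul_sum]
      show -(s⁻¹) * ((q ᵥ* J l F) ⬝ᵥ q) = 0
      rw [← om_eq_vecMul_dot, om_self, mul_zero]
    · show (R * E) 1 0 = 0
      rw [Matrix.mul_apply]
      simp_rw [hR1, hE0, mul_assoc]
      rw [← Finset.mul_sum]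
      show s⁻¹ * ((p ᵥ* J l F) ⬝ᵥ p) = 0
      rw [← om_eq_vecMul_dot, om_self, mul_zero]
    · show (R * E) 1 1 = 1
      rw [Matrix.mul_apply]
      simp_rw [hR1, hE1, mul_assoc]
      rw [← Finset.mul_sum]
      show s⁻¹ * ((p ᵥ* J l F) ⬝ᵥ q) = 1
      rw [← om_eq_vecMul_dot, ← hs, inv_mul_cancel₀ h]
  have hu : ∀ c : F, emb E R ((sl2Upper c : Matrix.SpecialLinearGroup (Fin 2) F) :
      Matrix (Fin 2) (Fin 2) F) = T p (c * s⁻¹) := by
    intro c
    rw [emb_upper, T_eq_tm]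
    congr 1
    ext i j
    simp only [Matrix.smul_apply, vecMulVec_apply, smul_eq_mul, hE0, hR1]
    ring
  have hl : ∀ c : F, emb E R ((sl2Lower c : Matrix.SpecialLinearGroup (Fin 2) F) :
      Matrix (Fin 2) (Fin 2) F) = T q (-(c * s⁻¹)) := by
    intro c
    rw [emb_lower, T_eq_tm]
    congr 1
    ext i j
    simp only [Matrix.smul_apply, vecMulVec_apply, smul_eq_mul, hE1, hR0]
    ring
  have hmem := emb_mem_symplectic hRE (fun c => by rw [hu]; exact T_mem _ _)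
    (fun c => by rw [hl]; exact T_mem _ _)
  have hρinj := embSp_injective E R hRE hmem
  have hρu : ∀ c : F, embSp E R hRE hmem (sl2Upper c) = Tg p (c * s⁻¹) :=
    fun c => Subtype.ext (hu c)
  have hρl : ∀ c : F, embSp E R hRE hmem (sl2Lower c) = Tg q (-(c * s⁻¹)) :=
    fun c => Subtype.ext (hl c)
  have hA : (upperUnipotentSL2 F).map (embSp E R hRE hmem) = XS p := by
    ext g
    rw [Subgroup.mem_map, mem_XS]
    constructor
    · rintro ⟨x, hx, rfl⟩
      rw [eq_sl2Upper_of_mem hx, hρu]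
      exact ⟨_, rfl⟩
    · rintro ⟨c, rfl⟩
      refine ⟨sl2Upper (c * s), sl2Upper_mem _, ?_⟩
      rw [hρu, mul_assoc, mul_inv_cancel₀ h, mul_one]
  have hB : (lowerUnipotentSL2 F).map (embSp E R hRE hmem) = XS q := by
    ext g
    rw [Subgroup.mem_map, mem_XS]
    constructor
    · rintro ⟨x, hx, rfl⟩
      rw [eq_sl2Lower_of_mem hx, hρl]
      exact ⟨_, rfl⟩
    · rintro ⟨c, rfl⟩
      refine ⟨sl2Lower (-(c * s)), sl2Lower_mem _, ?_⟩
      rw [hρl, neg_mul, neg_neg, mul_assoc, mul_inv_cancel₀ h, mul_one]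
  obtain ⟨h1, h2⟩ := pair_of_sl2_hom _ hρinj hA hB
  exact ⟨h1, h2, fun S => not_commCase_of_sl2_hom _ hρinj S hA hB⟩

/-! ### Assembly -/

/-- The set of all symplectic transvection groups. -/
def SS (l : Type*) [Fintype l] [DecidableEq l] (F : Type*) [Field F] :
    Set (Subgroup (symplecticGroup l F)) :=
  {A | ∃ p : l ⊕ l → F, p ≠ 0 ∧ A = XS p}

theorem XS_ne_bot {p : l ⊕ l → F} (hp : p ≠ 0) : XS p ≠ ⊥ := by
  intro hbot
  have h1 : Tg p 1 ∈ XS p := Tg_mem_XS p 1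
  rw [hbot, Subgroup.mem_bot] at h1
  exact one_ne_zero ((Tg_eq_one_iff hp).mp h1)

theorem mulVec_ne_zero (g : symplecticGroup l F) {p : l ⊕ l → F} (hp : p ≠ 0) :
    (g : Matrix (l ⊕ l) (l ⊕ l) F) *ᵥ p ≠ 0 := by
  obtain ⟨x, hx⟩ := exists_om_ne_zero hp
  intro h0
  apply hx
  rw [← om_g g p x, h0]
  unfold om
  rw [zero_dotProduct]

theorem commutator_eq_bot_of_commute {G : Type*} [Group G] {A B : Subgroup G}
    (h : ∀ a ∈ A, ∀ b ∈ B, a * b = b * a) : ⁅A, B⁆ = ⊥ := by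
  rw [eq_bot_iff, Subgroup.commutator_le]
  intro a ha b hb
  rw [Subgroup.mem_bot, commutatorElement_eq_one_iff_mul_comm]
  exact h a ha b hb

theorem isRootSubgroupSet (l : Type) [Fintype l] [DecidableEq l] (F : Type*) [Field F] :
    IsRootSubgroupSet (SS l F) := by
  refine ⟨?_, ?_, ?_, ?_, ?_⟩
  · rintro A ⟨p, hp, rfl⟩
    refine ⟨⟨fun x y => Subtype.ext ?_⟩⟩
    obtain ⟨c, hc⟩ := mem_XS.mp x.2
    obtain ⟨d, hd⟩ := mem_XS.mp y.2
    show (x : symplecticGroup l F) * y = y * x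
    rw [hc, hd, Tg_add, Tg_add, add_comm]
  · rintro A ⟨p, hp, rfl⟩
    exact XS_ne_bot hp
  · rw [eq_top_iff, ← TV_eq_top l F, TV, Subgroup.closure_le]
    rintro _ ⟨⟨v, c⟩, rfl⟩
    by_cases hv : v = 0
    · have : Tg v c = 1 := by
        apply ext_mulVec
        intro x
        rw [Tg_mulVec, hv, smul_zero, add_zero]
        exact (one_mulVec x).symm
      show Tg v c ∈ _
      rw [this]; exact Subgroup.one_mem _
    · have hle : XS v ≤ ⨆ A ∈ SS l F, A :=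
        le_iSup₂ (f := fun A (_ : A ∈ SS l F) => A) (XS v) ⟨v, hv, rfl⟩
      exact hle (Tg_mem_XS v c)
  · rintro A ⟨p, hp, rfl⟩ g
    exact ⟨_, mulVec_ne_zero g hp, conjBy_XS g p⟩
  · rintro A ⟨p, hp, rfl⟩ B ⟨q, hq, rfl⟩
    by_cases h : om p q = 0
    · exact Or.inl (commutator_eq_bot_of_commute (commute_of_om_zero h))
    · exact Or.inr (Or.inl (rankOne_of_om_ne h).1)

theorem isConjClass [Nonempty l] : IsConjClassOfSubgroups (SS l F) := by
  obtain ⟨i⟩ := ‹Nonempty l›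
  have hne : (Pi.single (Sum.inl i) 1 : l ⊕ l → F) ≠ 0 := by
    intro h; have := congrFun h (Sum.inl i); simp at this
  refine ⟨⟨_, _, hne, rfl⟩, ?_⟩
  rintro A ⟨p, hp, rfl⟩ B ⟨q, hq, rfl⟩
  obtain ⟨g, hg⟩ := exists_symplectic_mulVec_eq p q hp hq
  exact ⟨g, by rw [conjBy_XS, hg]⟩

theorem isDegenerate : IsDegenerateRootSet (SS l F) := by
  rintro A ⟨p, hp, rfl⟩ B ⟨q, hq, rfl⟩ hcase
  by_cases h : om p q = 0
  · obtain ⟨⟨r, hr, hrr⟩, -⟩ := hcase
    rw [commutator_eq_bot_of_commute (commute_of_om_zero h)] at hrr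
    exact XS_ne_bot hr hrr.symm
  · exact (rankOne_of_om_ne h).2.2 _ hcase

theorem isKRoot (l : Type) [Fintype l] [DecidableEq l] (F : Type*) [Field F] :
    IsKRootSubgroupSet F (SS l F) := by
  refine ⟨isRootSubgroupSet l F, ?_⟩
  rintro A ⟨p, hp, rfl⟩ B ⟨q, hq, rfl⟩ hAB
  by_cases h : om p q = 0
  · exact absurd hAB (not_isRankOnePair_of_commute (commute_of_om_zero h))
  · exact (rankOne_of_om_ne h).2.1

theorem isConnected : IsConnectedFamily (FAdj (SS l F)) (SS l F) := by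
  rintro A ⟨p, hp, rfl⟩ B ⟨q, hq, rfl⟩
  obtain ⟨u, h1, h2⟩ := exists_om_ne_zero_both hp hq
  have hu : u ≠ 0 := by
    intro h0; apply h2; rw [h0]; unfold om; rw [zero_dotProduct]
  have e1 : FAdj (SS l F) (XS p) (XS u) := ⟨⟨p, hp, rfl⟩, ⟨u, hu, rfl⟩, (rankOne_of_om_ne h1).1⟩
  have e2 : FAdj (SS l F) (XS u) (XS q) := ⟨⟨u, hu, rfl⟩, ⟨q, hq, rfl⟩, (rankOne_of_om_ne h2).1⟩
  exact Relation.ReflTransGen.trans (Relation.ReflTransGen.single e1)
    (Relation.ReflTransGen.single e2)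

end Cfsg.Agent.Helper2.RootSp
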