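import Mathlib
import Cfsg.Agent.Helper4.S0679J
import Cfsg.Agent.Helper25.S0679CT
import Cfsg.Agent.Helper16.S0679FIXONLY

set_option autoImplicit false
set_option linter.unusedSectionVars false
set_option linter.unusedVariables false

/-! # S0679, chapter (2): `7`, `25`, `81` do not divide `|G|` (helper2).

Setting: `G` a 2-transitive group of degree 11 not containing `A_11` (so Jordan's `J` applies). -/

namespace Cfsg.Agent.S0679P

open Equiv MulAction

variable {α : Type*} [Fintype α] [DecidableEq α] {G : Subgroup (Equiv.Perm α)}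

/-- the stabiliser of `w` in `H`, as a subgroup of `Perm α`, with the orbit-stabiliser count. -/
theorem NOP.stab (H : Subgroup (Perm α)) (s : Finset α) (hs : ∀ h ∈ H, ∀ a ∈ s, h a = a)
    (w : α) (hw : w ∉ s) :
    ∃ S : Subgroup (Perm α), S ≤ H ∧ (∀ t ∈ S, t w = w) ∧
      ∃ r : ℕ, 1 ≤ r ∧ r ≤ Fintype.card α - s.card ∧ r * Nat.card S = Nat.card H := by
  classical
  refine ⟨(stabilizer H w).map H.subtype, Subgroup.map_subtype_le _, ?_, (stabilizer H w).index,
    ?_, ?_, ?_⟩
  · rintro t ⟨t', ht', rfl⟩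
    exact ht'
  · have : (stabilizer H w).index ≠ 0 := Subgroup.index_ne_zero_of_finite
    omega
  · rw [MulAction.index_stabilizer]
    have hsub : orbit H w ⊆ (↑(sᶜ : Finset α) : Set α) := by
      rintro _ ⟨h, rfl⟩
      rw [Finset.mem_coe, Finset.mem_compl]
      intro hmem
      change (h : Perm α) w ∈ s at hmem
      apply hw
      have h1 : ((h⁻¹ : H) : Perm α) ((h : Perm α) w) = (h : Perm α) w :=
        hs _ (h⁻¹).2 _ hmem
      have h2 : ((h⁻¹ : H) : Perm α) ((h : Perm α) w) = w := by
        rw [Subgroup.coe_inv]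
        exact Equiv.symm_apply_apply _ _
      have h3 : (h : Perm α) w = w := by rw [← h1]; exact h2
      rw [h3] at hmem
      exact hmem
    calc (orbit H w).ncard ≤ (↑(sᶜ : Finset α) : Set α).ncard :=
          Set.ncard_le_ncard hsub (Finset.finite_toSet _)
      _ = Fintype.card α - s.card := by rw [Set.ncard_coe_finset, Finset.card_compl]
  · rw [Subgroup.card_subtype]
    exact Subgroup.index_mul_card _

/-- a subgroup of prime power order has at least `card α % p` fixed points. -/
theorem NOP.fix {p k : ℕ} [Fact p.Prime] (H : Subgroup (Perm α)) (hH : Nat.card H = p ^ k) :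
    ∃ s : Finset α, (∀ h ∈ H, ∀ a ∈ s, h a = a) ∧ s.card % p = Fintype.card α % p := by
  classical
  have hp : IsPGroup p H := IsPGroup.of_card hH
  have h1 := hp.card_modEq_card_fixedPoints α
  refine ⟨(fixedPoints H α).toFinset, ?_, ?_⟩
  · intro h hh a ha
    rw [Set.mem_toFinset, mem_fixedPoints] at ha
    exact ha ⟨h, hh⟩
  · rw [Nat.card_eq_fintype_card, Nat.card_eq_fintype_card, ← Set.toFinset_card] at h1
    exact h1.symm

theorem NOP7 (h11 : Fintype.card α = 11) (h2 : IsMultiplyPretransitive G α 2)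
    (hA : ¬ alternatingGroup α ≤ G) : ¬ 7 ∣ Nat.card G := by
  intro h7
  have : Fact (Nat.Prime 7) := ⟨by norm_num⟩
  obtain ⟨y, hy⟩ := exists_prime_orderOf_dvd_card' 7 h7
  have hy' : orderOf (y : Perm α) = 7 := by rw [Subgroup.orderOf_coe]; exact hy
  obtain ⟨j, hj1, hct, hsupp, hcyc, hsign⟩ := CT (by norm_num : Nat.Prime 7) hy'
  have hle : (y : Perm α).support.card ≤ 11 := h11 ▸ Finset.card_le_univ _
  have hj : j = 1 := by omega
  subst hj
  exact J h11 h2 hA y.2 (hcyc rfl) (by rw [hsupp]; norm_num) (by rw [hsupp]; norm_num)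

theorem NOP25 (h11 : Fintype.card α = 11) (h2 : IsMultiplyPretransitive G α 2)
    (hA : ¬ alternatingGroup α ≤ G) : ¬ 25 ∣ Nat.card G := by
  classical
  intro h25
  have : Fact (Nat.Prime 5) := ⟨by norm_num⟩
  have h25' : 5 ^ 2 ∣ Nat.card G := by
    rw [show (5 : ℕ) ^ 2 = 25 by norm_num]; exact h25
  obtain ⟨K, hK⟩ := Sylow.exists_subgroup_card_pow_prime 5 (n := 2) h25'
  set H : Subgroup (Perm α) := K.map G.subtype with hH
  have hHG : H ≤ G := Subgroup.map_subtype_le _
  have hHc : Nat.card H = 5 ^ 2 := by rw [hH, Subgroup.card_subtype]; exact hK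
  obtain ⟨s, hs, hsc⟩ := NOP.fix H hHc
  rw [h11] at hsc
  have hs1 : 0 < s.card := by
    rcases Nat.eq_zero_or_pos s.card with h0 | h0
    · rw [h0] at hsc; norm_num at hsc
    · exact h0
  obtain ⟨u, hu⟩ := Finset.card_pos.1 hs1
  -- a second point
  have : ∃ w, w ≠ u := by
    have : 1 < Fintype.card α := by rw [h11]; norm_num
    have := Fintype.one_lt_card_iff_nontrivial.1 this
    exact exists_ne u
  obtain ⟨w, hwu⟩ := this
  obtain ⟨S, hSH, hSw, r, hr1, hr2, hr3⟩ := NOP.stab H {u}
    (fun h hh a ha => by rw [Finset.mem_singleton] at ha; subst ha; exact hs h hh _ hu) w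
    (by rw [Finset.mem_singleton]; exact hwu)
  rw [h11, Finset.card_singleton] at hr2
  rw [hHc] at hr3
  have h5 : 5 ∣ Nat.card S := by
    have hr : r ≤ 10 := hr2
    interval_cases r <;> omega
  obtain ⟨z, hz⟩ := exists_prime_orderOf_dvd_card' 5 h5
  have hz' : orderOf (z : Perm α) = 5 := by rw [Subgroup.orderOf_coe]; exact hz
  obtain ⟨j, hj1, hct, hsupp, hcyc, hsign⟩ := CT (by norm_num : Nat.Prime 5) hz'
  have hzu : (z : Perm α) u = u := hs _ (hSH z.2) _ hu
  have hzw : (z : Perm α) w = w := hSw _ z.2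
  have hle : (z : Perm α).support.card ≤ 9 := by
    have hsub : (z : Perm α).support ⊆ ({u, w} : Finset α)ᶜ := by
      intro a ha
      rw [Finset.mem_compl, Finset.mem_insert, Finset.mem_singleton]
      rw [Perm.mem_support] at ha
      rintro (rfl | rfl)
      · exact ha hzu
      · exact ha hzw
    have := Finset.card_le_card hsub
    rw [Finset.card_compl, h11, Finset.card_pair (Ne.symm hwu)] at this
    exact this
  have hj : j = 1 := by omega
  subst hj
  exact J h11 h2 hA (hHG (hSH z.2)) (hcyc rfl) (by rw [hsupp]; norm_num) (by rw [hsupp]; norm_num)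

theorem NOP81 (h11 : Fintype.card α = 11) (h2 : IsMultiplyPretransitive G α 2)
    (hA : ¬ alternatingGroup α ≤ G) : ¬ 81 ∣ Nat.card G := by
  classical
  intro h81
  have : Fact (Nat.Prime 3) := ⟨by norm_num⟩
  have h81' : 3 ^ 4 ∣ Nat.card G := by
    rw [show (3 : ℕ) ^ 4 = 81 by norm_num]; exact h81
  obtain ⟨K, hK⟩ := Sylow.exists_subgroup_card_pow_prime 3 (n := 4) h81'
  set H : Subgroup (Perm α) := K.map G.subtype with hH
  have hHG : H ≤ G := Subgroup.map_subtype_le _
  have hHc : Nat.card H = 3 ^ 4 := by rw [hH, Subgroup.card_subtype]; exact hK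
  obtain ⟨s, hs, hsc⟩ := NOP.fix H hHc
  rw [h11] at hsc
  have hs1 : 1 < s.card := by
    by_contra hcon
    have : s.card = 0 ∨ s.card = 1 := by omega
    rcases this with h0 | h0 <;> rw [h0] at hsc <;> norm_num at hsc
  obtain ⟨u, hu, v, hv, huv⟩ := Finset.one_lt_card.1 hs1
  -- a third point
  have : ∃ w, w ∉ ({u, v} : Finset α) := by
    by_contra hcon
    push Not at hcon
    have : (Finset.univ : Finset α) ⊆ {u, v} := fun a _ => hcon a
    have := Finset.card_le_card this
    rw [Finset.card_univ, h11, Finset.card_pair huv] at this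
    omega
  obtain ⟨w, hw⟩ := this
  have hwu : u ≠ w := by
    rintro rfl; exact hw (by simp)
  have hwv : v ≠ w := by
    rintro rfl; exact hw (by simp)
  obtain ⟨S, hSH, hSw, r, hr1, hr2, hr3⟩ := NOP.stab H {u, v}
    (fun h hh a ha => by
      rw [Finset.mem_insert, Finset.mem_singleton] at ha
      rcases ha with rfl | rfl
      · exact hs h hh _ hu
      · exact hs h hh _ hv) w hw
  rw [h11, Finset.card_pair huv] at hr2
  rw [hHc] at hr3
  have h9 : 3 ^ 2 ∣ Nat.card S := by
    have hr : r ≤ 9 := hr2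
    interval_cases r <;> omega
  obtain ⟨T0, hT0⟩ := Sylow.exists_subgroup_card_pow_prime 3 (n := 2) h9
  set T : Subgroup (Perm α) := T0.map S.subtype with hT
  have hTS : T ≤ S := Subgroup.map_subtype_le _
  have hTc : Nat.card T = 9 := by rw [hT, Subgroup.card_subtype]; exact hT0
  obtain ⟨t, ht, htw⟩ := FIXONLY h11 h2 hA T (hTS.trans (hSH.trans hHG)) hTc huv hwu hwv
    (fun t ht => hs t (hSH (hTS ht)) _ hu) (fun t ht => hs t (hSH (hTS ht)) _ hv) (w := w)
  exact htw (hSw t (hTS ht))

end Cfsg.Agent.S0679P
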