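import Cfsg.Agent.Helper2.S0745ALTCASEcore
import Cfsg.Agent.Helper10.S0745CARDG

/-! # S0745 board, row ALTCASE. -/

set_option autoImplicit false

namespace Cfsg.Agent.S0745P

open Equiv

variable {α : Type*} [Fintype α] [DecidableEq α]

/-- ALTCASE -/
theorem alt_case {G : Subgroup (Perm α)} {t : ℕ} (h : Hyp G t 1 2) :
    t + 2 = Fintype.card α ∧ G = alternatingGroup α :=
  alt_case_aux_core h (card_G h)

end Cfsg.Agent.S0745P
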