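import Cfsg.Agent.Helper27.S0745Defs

/-! # S0745 board, row ALTCASE (core): `c = 1`, `r = 2` gives the alternating group. -/

set_option autoImplicit false

namespace Cfsg.Agent.S0745P

open Equiv

variable {α : Type*} [Fintype α] [DecidableEq α]

/-- core of ALTCASE: the hypothesis `hG` is the statement of CARDG -/
theorem alt_case_aux_core {G : Subgroup (Perm α)} {t : ℕ} (h : Hyp G t 1 2)
    (hG : Nat.card G = (Fintype.card α).descFactorial t * 1) :
    t + 2 = Fintype.card α ∧ G = alternatingGroup α := by
  have hdeg := h.deg
  have hn : Fintype.card α = t + 2 := by omega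
  refine ⟨hn.symm, ?_⟩
  apply Equiv.Perm.eq_alternatingGroup_of_index_eq_two
  have h1 : Nat.card G * G.index = Nat.card (Perm α) := G.card_mul_index
  rw [hG, mul_one, Nat.card_eq_fintype_card (α := Perm α), Fintype.card_perm] at h1
  have h2 : (Fintype.card α - t).factorial * (Fintype.card α).descFactorial t
      = (Fintype.card α).factorial := Nat.factorial_mul_descFactorial (by omega)
  have h3 : Fintype.card α - t = 2 := by omega
  rw [h3] at h2
  have h4 : 0 < (Fintype.card α).descFactorial t := by
    rw [Nat.descFactorial_pos]; omega
  have h5 : (Fintype.card α).descFactorial t * G.index = (Fintype.card α).descFactorial t * 2 := by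
    rw [h1, ← h2]; simp [Nat.factorial]; ring
  exact Nat.eq_of_mul_eq_mul_left h4 h5

end Cfsg.Agent.S0745P
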