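import Cfsg.Agent.Helper2.S0745KILL314core
import Cfsg.Agent.Helper3.S0745CARDL
import Cfsg.Agent.Helper14.S0745INV

/-! # S0745 board, row KILL314. -/

set_option autoImplicit false

namespace Cfsg.Agent.S0745P

open Equiv

variable {α : Type*} [Fintype α] [DecidableEq α]

/-- KILL314 -/
theorem kill_3_1_4 {G : Subgroup (Perm α)} (h : Hyp G 3 1 4) : False :=
  kill_3_1_4_aux_core h (fun Δ hΔ => card_L h Δ hΔ)
    (fun _ hu hu2 hu1 => inv_nfix h (by decide) hu hu2 hu1)

end Cfsg.Agent.S0745P
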