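import Cfsg.Agent.Helper27.S0745Defs

/-! # S0745 board, row T4KILL3 (core): `t = 4`, `r = 2`, `c ∈ {5, 23}` is impossible. -/

set_option autoImplicit false

namespace Cfsg.Agent.S0745P

open Equiv

variable {α : Type*} [Fintype α] [DecidableEq α]

omit [Fintype α] in
/-- the orbit of a moved point under an element of order 3 -/
theorem t4_kill3_aux_orbit (g : Perm α) (h3 : g ^ 3 = 1) (x : α) (hx : g x ≠ x) :
    ({x, g x, g (g x)} : Finset α).card = 3 ∧
      ∀ z ∈ ({x, g x, g (g x)} : Finset α), g z ∈ ({x, g x, g (g x)} : Finset α) := by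
  have h3x : g (g (g x)) = x := by
    have : (g ^ 3) x = x := by rw [h3]; rfl
    simpa [pow_succ, Perm.mul_apply] using this
  have h1 : x ≠ g x := fun h => hx h.symm
  have h2 : g x ≠ g (g x) := fun h => h1 (g.injective h)
  have h4 : x ≠ g (g x) := by
    intro h
    apply hx
    have : g x = g (g (g x)) := congrArg g h
    rw [h3x] at this
    exact this
  refine ⟨Finset.card_eq_three.mpr ⟨x, g x, g (g x), h1, h4, h2, rfl⟩, ?_⟩
  intro z hz
  simp only [Finset.mem_insert, Finset.mem_singleton] at hz ⊢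
  rcases hz with rfl | rfl | rfl
  · right; left; rfl
  · right; right; rfl
  · left; exact h3x

/-- core of T4KILL3: `hG`, `hM`, `hfix` are the statements of CARDG, CARDM, NFIXLE -/
theorem t4_kill3_aux_core {G : Subgroup (Perm α)} {c : ℕ} (h : Hyp G 4 c 2) (hc : c = 5 ∨ c = 23)
    (hG : Nat.card G = (Fintype.card α).descFactorial 4 * c)
    (hM : ∀ S : Finset α, S.card = 4 + 2 →
      Nat.card (SS G S) * (2 * (2 * c - 1)) = (4 + 2).factorial)
    (hfix : ∀ g : Perm α, g ∈ G → g ≠ 1 → nfix g ≤ 4) : False := by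
  have hdeg := h.deg
  have : Finite G := Finite.of_injective _ Subtype.val_injective
  -- an element of order 3
  have h3G : 3 ∣ Nat.card G := by
    rw [hG, hdeg]
    rcases hc with rfl | rfl <;> decide
  have : Fact (Nat.Prime 3) := ⟨by norm_num⟩
  obtain ⟨g0, hg0⟩ := exists_prime_orderOf_dvd_card' 3 h3G
  obtain ⟨g, hgG, hgg⟩ : ∃ g : Perm α, g ∈ G ∧ g = (g0 : Perm α) := ⟨g0, g0.2, rfl⟩
  have hord : orderOf g = 3 := by rw [hgg, Subgroup.orderOf_coe, hg0]
  have hg3 : g ^ 3 = 1 := by rw [← hord]; exact pow_orderOf_eq_one g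
  have hg1 : g ≠ 1 := by
    intro h1
    rw [h1, orderOf_one] at hord
    omega
  have hnf := hfix g hgG hg1
  -- the moved points
  have hcardMv : nfix g + (Finset.univ.filter fun x => ¬ g x = x).card = Fintype.card α := by
    rw [nfix, Finset.card_filter_add_card_filter_not, Finset.card_univ]
  have hMv : 10 ≤ (Finset.univ.filter fun x => ¬ g x = x).card := by
    rcases hc with rfl | rfl <;> omega
  obtain ⟨x, hx⟩ : ∃ x, g x ≠ x := by
    by_contra hcon
    push Not at hcon
    have : (Finset.univ.filter fun x => ¬ g x = x) = ∅ := by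
      rw [Finset.filter_eq_empty_iff]
      intro x _; simpa using hcon x
    rw [this] at hMv
    simp at hMv
  obtain ⟨hO1c, hO1m⟩ := t4_kill3_aux_orbit g hg3 x hx
  obtain ⟨y, hy, hyO⟩ : ∃ y, g y ≠ y ∧ y ∉ ({x, g x, g (g x)} : Finset α) := by
    by_contra hcon
    push Not at hcon
    have hsub : (Finset.univ.filter fun x => ¬ g x = x) ⊆ ({x, g x, g (g x)} : Finset α) := by
      intro z hz
      rw [Finset.mem_filter] at hz
      exact hcon z hz.2
    have := Finset.card_le_card hsub
    omega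
  obtain ⟨hO2c, hO2m⟩ := t4_kill3_aux_orbit g hg3 y hy
  have hgy : g y ∉ ({x, g x, g (g x)} : Finset α) := fun hh => hyO ((maps_iff_of_maps hO1m y).mp hh)
  have hggy : g (g y) ∉ ({x, g x, g (g x)} : Finset α) :=
    fun hh => hgy ((maps_iff_of_maps hO1m (g y)).mp hh)
  have hdisj : Disjoint ({x, g x, g (g x)} : Finset α) ({y, g y, g (g y)} : Finset α) := by
    rw [Finset.disjoint_right]
    intro z hz
    simp only [Finset.mem_insert, Finset.mem_singleton] at hz
    rcases hz with rfl | rfl | rfl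
    · exact hyO
    · exact hgy
    · exact hggy
  obtain ⟨S, hS⟩ : ∃ S : Finset α, S = ({x, g x, g (g x)} : Finset α) ∪ ({y, g y, g (g y)} : Finset α) :=
    ⟨_, rfl⟩
  have hScard : S.card = 4 + 2 := by
    rw [hS, Finset.card_union_of_disjoint hdisj, hO1c, hO2c]
  have hSm : ∀ z ∈ S, g z ∈ S := by
    intro z hz
    rw [hS, Finset.mem_union] at hz ⊢
    rcases hz with hz | hz
    · exact Or.inl (hO1m z hz)
    · exact Or.inr (hO2m z hz)
  have hgS : g ∈ SS G S := mem_SS_of_maps hgG hSm
  have h3S : 3 ∣ Nat.card (SS G S) := by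
    have : Finite (SS G S) := Finite.of_injective _ Subtype.val_injective
    have h1 := orderOf_dvd_natCard (⟨g, hgS⟩ : SS G S)
    rw [Subgroup.orderOf_mk, hord] at h1
    exact h1
  have hMS := hM S hScard
  obtain ⟨k, hk⟩ := h3S
  rw [hk] at hMS
  have hfac : (4 + 2).factorial = 720 := by decide
  rw [hfac] at hMS
  rcases hc with rfl | rfl <;> omega

end Cfsg.Agent.S0745P
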