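import Cfsg.Agent.Helper27.S0745Defs
import Cfsg.Agent.Helper2.S0745T4KILL3core

/-! # S0745 board, row KILL314 (core): `(t, c, r) = (3, 1, 4)` is impossible. -/

set_option autoImplicit false

namespace Cfsg.Agent.S0745P

open Equiv

variable {α : Type*} [Fintype α] [DecidableEq α]

omit [Fintype α] in
/-- an element of order 3 acting nontrivially on an invariant 4-set has exactly one fixed point there -/
theorem kill_3_1_4_aux_fix3 (g : Perm α) (hg3 : g ^ 3 = 1) (Δ : Finset α) (hΔ : Δ.card = 4)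
    (hmaps : ∀ x, g x ∈ Δ ↔ x ∈ Δ) (hne : ¬ ∀ x ∈ Δ, g x = x) :
    ∃ δ ∈ Δ, g δ = δ ∧ ∀ δ' ∈ Δ, g δ' = δ' → δ' = δ := by
  push Not at hne
  obtain ⟨a, haΔ, ha⟩ := hne
  obtain ⟨hOc, hOm⟩ := t4_kill3_aux_orbit g hg3 a ha
  obtain ⟨O, hO⟩ : ∃ O : Finset α, O = ({a, g a, g (g a)} : Finset α) := ⟨_, rfl⟩
  rw [← hO] at hOc hOm
  have hOΔ : O ⊆ Δ := by
    intro z hz
    rw [hO] at hz
    simp only [Finset.mem_insert, Finset.mem_singleton] at hz
    rcases hz with rfl | rfl | rfl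
    · exact haΔ
    · exact (hmaps _).mpr haΔ
    · exact (hmaps _).mpr ((hmaps _).mpr haΔ)
  have hOmv : ∀ z ∈ O, g z ≠ z := by
    intro z hz hgz
    rw [hO] at hz
    simp only [Finset.mem_insert, Finset.mem_singleton] at hz
    rcases hz with rfl | rfl | rfl
    · exact ha hgz
    · exact ha (g.injective hgz)
    · exact ha (g.injective (g.injective hgz))
  have hcard : (Δ \ O).card = 1 := by
    rw [Finset.card_sdiff_of_subset hOΔ, hΔ, hOc]
  obtain ⟨d, hd⟩ := Finset.card_eq_one.mp hcard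
  have hdm : d ∈ Δ \ O := by rw [hd]; exact Finset.mem_singleton_self d
  rw [Finset.mem_sdiff] at hdm
  have hgd : g d ∈ Δ \ O := by
    rw [Finset.mem_sdiff]
    exact ⟨(hmaps d).mpr hdm.1, fun hh => hdm.2 ((maps_iff_of_maps hOm d).mp hh)⟩
  rw [hd, Finset.mem_singleton] at hgd
  refine ⟨d, hdm.1, hgd, ?_⟩
  intro δ' hδ' hgδ'
  have : δ' ∈ Δ \ O := by
    rw [Finset.mem_sdiff]
    exact ⟨hδ', fun hh => hOmv δ' hh hgδ'⟩
  rw [hd, Finset.mem_singleton] at this
  exact this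

omit [Fintype α] in
/-- an involution of a 3-set has a fixed point -/
theorem kill_3_1_4_aux_inv3 (u : Perm α) (hu2 : u ^ 2 = 1) (T : Finset α) (hT : T.card = 3)
    (hmaps : ∀ x ∈ T, u x ∈ T) : ∃ e ∈ T, u e = e := by
  by_contra hcon
  push Not at hcon
  have huu : ∀ x, u (u x) = x := by
    intro x
    have : (u ^ 2) x = x := by rw [hu2]; rfl
    simpa [pow_succ, Perm.mul_apply] using this
  obtain ⟨a, haT⟩ : T.Nonempty := by
    rw [← Finset.card_pos, hT]; norm_num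
  have hb : u a ∈ T := hmaps a haT
  have hba : u a ≠ a := hcon a haT
  have hcard : ((T.erase a).erase (u a)).card = 1 := by
    rw [Finset.card_erase_of_mem (Finset.mem_erase.mpr ⟨hba, hb⟩), Finset.card_erase_of_mem haT, hT]
  obtain ⟨c, hc⟩ := Finset.card_eq_one.mp hcard
  have hcm : c ∈ (T.erase a).erase (u a) := by rw [hc]; exact Finset.mem_singleton_self c
  rw [Finset.mem_erase, Finset.mem_erase] at hcm
  obtain ⟨hcb, hca, hcT⟩ := hcm
  have hucm : u c ∈ (T.erase a).erase (u a) := by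
    rw [Finset.mem_erase, Finset.mem_erase]
    refine ⟨fun hh => hca (u.injective hh), fun hh => hcb ?_, hmaps c hcT⟩
    rw [← huu c, hh]
  rw [hc, Finset.mem_singleton] at hucm
  exact hcon c hcT hucm

/-- core of KILL314: `hL`, `hI` are the statements of CARDL and I1 -/
theorem kill_3_1_4_aux_core {G : Subgroup (Perm α)} (h : Hyp G 3 1 4)
    (hL : ∀ Δ : Finset α, Δ.card = 3 + 1 → Nat.card (SS G Δ) * 4 = (3 + 1).factorial)
    (hI : ∀ u : Perm α, u ∈ G → u ^ 2 = 1 → u ≠ 1 →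
      nfix u + 1 ≤ 3 ∧ nfix u % 2 = Fintype.card α % 2) : False := by
  have hdeg := h.deg
  obtain ⟨Δ, -, hΔ⟩ := Finset.exists_subset_card_eq (s := (Finset.univ : Finset α)) (n := 3 + 1)
    (by rw [Finset.card_univ]; omega)
  have hLc : Nat.card (SS G Δ) = 6 := by
    have := hL Δ hΔ
    have hfac : (3 + 1).factorial = 24 := by decide
    omega
  have : Finite (SS G Δ) := Finite.of_injective _ Subtype.val_injective
  have : Fact (Nat.Prime 3) := ⟨by norm_num⟩
  have : Fact (Nat.Prime 2) := ⟨by norm_num⟩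
  obtain ⟨g0, hg0⟩ := exists_prime_orderOf_dvd_card' (G := SS G Δ) 3 (by rw [hLc]; norm_num)
  obtain ⟨u0, hu0⟩ := exists_prime_orderOf_dvd_card' (G := SS G Δ) 2 (by rw [hLc]; norm_num)
  -- `⟨g0⟩` is normal in `L`
  have hNc : Nat.card (Subgroup.zpowers g0) = 3 := by rw [Nat.card_zpowers, hg0]
  have hidx : (Subgroup.zpowers g0).index = 2 := by
    have := (Subgroup.zpowers g0).card_mul_index
    rw [hNc, hLc] at this
    omega
  have hnorm : (Subgroup.zpowers g0).Normal := Subgroup.normal_of_index_eq_two hidx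
  have hconj : u0 * g0 * u0⁻¹ ∈ Subgroup.zpowers g0 :=
    hnorm.conj_mem g0 (Subgroup.mem_zpowers g0) u0
  obtain ⟨k, hk⟩ := Subgroup.mem_zpowers_iff.mp hconj
  -- pass to permutations
  obtain ⟨g, hgg⟩ : ∃ g : Perm α, g = (g0 : Perm α) := ⟨_, rfl⟩
  obtain ⟨u, huu⟩ : ∃ u : Perm α, u = (u0 : Perm α) := ⟨_, rfl⟩
  have hgL : g ∈ SS G Δ := by rw [hgg]; exact g0.2
  have huL : u ∈ SS G Δ := by rw [huu]; exact u0.2
  have hordg : orderOf g = 3 := by rw [hgg, Subgroup.orderOf_coe, hg0]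
  have hordu : orderOf u = 2 := by rw [huu, Subgroup.orderOf_coe, hu0]
  have hg3 : g ^ 3 = 1 := by rw [← hordg]; exact pow_orderOf_eq_one g
  have hu2 : u ^ 2 = 1 := by rw [← hordu]; exact pow_orderOf_eq_one u
  have hg1 : g ≠ 1 := by
    intro h1; rw [h1, orderOf_one] at hordg; omega
  have hu1 : u ≠ 1 := by
    intro h1; rw [h1, orderOf_one] at hordu; omega
  have hkk : g ^ k = u * g * u⁻¹ := by
    have := congrArg (Subtype.val) hk
    rw [Subgroup.coe_zpow, Subgroup.coe_mul, Subgroup.coe_mul, Subgroup.coe_inv, ← hgg, ← huu] at this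
    exact this
  -- the fixed point of `g` in `Δ`
  have hne : ¬ ∀ x ∈ Δ, g x = x := fun hall => hg1 (h.semireg g hgL.1 Δ hΔ hall)
  obtain ⟨δ, hδΔ, hgδ, hδuniq⟩ := kill_3_1_4_aux_fix3 g hg3 Δ hΔ hgL.2 hne
  have hgkδ : (g ^ k) δ = δ := Equiv.Perm.zpow_apply_eq_self_of_apply_eq_self hgδ k
  rw [hkk, Perm.mul_apply, Perm.mul_apply] at hgkδ
  have h1 : g (u⁻¹ δ) = u⁻¹ δ := by
    have := congrArg (fun z => u⁻¹ z) hgkδ
    simpa using this
  have h2 : u⁻¹ δ ∈ Δ := ((SS G Δ).inv_mem huL).2 δ |>.mpr hδΔ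
  have h3 : u⁻¹ δ = δ := hδuniq _ h2 h1
  have huδ : u δ = δ := by
    have := congrArg (fun z => u z) h3
    simpa using this.symm
  -- a second fixed point of `u`
  have hTc : (Δ.erase δ).card = 3 := by rw [Finset.card_erase_of_mem hδΔ, hΔ]
  have hTm : ∀ x ∈ Δ.erase δ, u x ∈ Δ.erase δ := by
    intro x hx
    rw [Finset.mem_erase] at hx ⊢
    refine ⟨fun hh => hx.1 (u.injective (hh.trans huδ.symm)), (huL.2 x).mpr hx.2⟩
  obtain ⟨e, heT, hue⟩ := kill_3_1_4_aux_inv3 u hu2 (Δ.erase δ) hTc hTm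
  have heδ : e ≠ δ := (Finset.mem_erase.mp heT).1
  have hnf2 : 2 ≤ nfix u := by
    have hsub : ({δ, e} : Finset α) ⊆ Finset.univ.filter fun x => u x = x := by
      intro z hz
      simp only [Finset.mem_insert, Finset.mem_singleton] at hz
      rw [Finset.mem_filter]
      rcases hz with rfl | rfl
      · exact ⟨Finset.mem_univ _, huδ⟩
      · exact ⟨Finset.mem_univ _, hue⟩
    have := Finset.card_le_card hsub
    rw [Finset.card_pair (Ne.symm heδ)] at this
    exact this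
  obtain ⟨hI1, hI2⟩ := hI u huL.1 hu2 hu1
  rw [hdeg] at hI2
  omega

end Cfsg.Agent.S0745P
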