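import Cfsg.Agent.Helper2.S0745RODDKILLcore
import Cfsg.Agent.Helper3.S0745CARDL

/-! # S0745 board, row RODDKILL. -/

set_option autoImplicit false

namespace Cfsg.Agent.S0745P

open Equiv

variable {α : Type*} [Fintype α] [DecidableEq α]

/-- RODDKILL (uses S0415, S0416, S0417) -/
theorem rodd_kill {G : Subgroup (Perm α)} {t c r : ℕ} (h : Hyp G t c r) (ht : 4 ≤ t)
    (hr : Odd r) (hrc : r * c ≤ 7) (hc : Odd c) : False :=
  rodd_kill_aux_core h ht hr hrc hc (fun Δ hΔ => card_L h Δ hΔ)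

end Cfsg.Agent.S0745P
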