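import Cfsg.Agent.Helper27.S0745Defs
import Cfsg.Agent.S0415
import Cfsg.Agent.S0416
import Cfsg.Agent.S0417

/-! # S0745 board, row RODDKILL (core): `r` odd, `r c ≤ 7` is impossible for `t ≥ 4` (Jordan). -/

set_option autoImplicit false

namespace Cfsg.Agent.S0745P

open Equiv

variable {α : Type*} [Fintype α] [DecidableEq α]

/-- core of RODDKILL: `hL` is the statement of CARDL -/
theorem rodd_kill_aux_core {G : Subgroup (Perm α)} {t c r : ℕ} (h : Hyp G t c r) (ht : 4 ≤ t)
    (hr : Odd r) (hrc : r * c ≤ 7) (hc : Odd c)
    (hL : ∀ Δ : Finset α, Δ.card = t + 1 → Nat.card (SS G Δ) * r = (t + 1).factorial) : False := by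
  have hr3 : 3 ≤ r := by
    have := h.two_le
    obtain ⟨k, hk⟩ := hr
    omega
  have hc1 : c = 1 := by
    obtain ⟨k, hk⟩ := hc
    rcases Nat.eq_zero_or_pos k with rfl | hk0
    · omega
    · exfalso; nlinarith
  subst hc1
  have hmt : MulAction.IsMultiplyPretransitive G α t := by
    rw [MulAction.isMultiplyPretransitive_iff]
    intro x y
    obtain ⟨g, hg, hgx⟩ := h.trans x y
    refine ⟨⟨g, hg⟩, ?_⟩
    ext i
    simpa [Function.Embedding.smul_apply, Subgroup.smul_def] using hgx i
  have hsharp : ∀ x : Fin t ↪ α, MulAction.stabilizer G x = ⊥ := by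
    intro x
    rw [eq_bot_iff]
    intro g hg
    rw [MulAction.mem_stabilizer_iff] at hg
    have hfix : ∀ i, (g : Perm α) (x i) = x i := by
      intro i
      have := congrArg (fun f : Fin t ↪ α => f i) hg
      simpa [Function.Embedding.smul_apply, Subgroup.smul_def] using this
    have hΓ : (Finset.univ.map x).card = t := by simp
    have hPS : (g : Perm α) ∈ PS G (Finset.univ.map x) := by
      refine ⟨g.2, ?_⟩
      intro z hz
      obtain ⟨i, _, rfl⟩ := Finset.mem_map.mp hz
      exact hfix i
    have hcard := h.cardH _ hΓ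
    have hsub : Subsingleton (PS G (Finset.univ.map x)) := (Nat.card_eq_one_iff_unique.mp hcard).1
    have h1 := Subsingleton.elim (⟨g, hPS⟩ : PS G (Finset.univ.map x)) 1
    have h2 : (g : Perm α) = 1 := congrArg Subtype.val h1
    rw [Subgroup.mem_bot]
    exact Subtype.ext h2
  have hdeg := h.deg
  obtain ⟨Δ, -, hΔ⟩ := Finset.exists_subset_card_eq (s := (Finset.univ : Finset α)) (n := t + 1)
    (by rw [Finset.card_univ]; omega)
  have hLΔ := hL Δ hΔ
  rcases Nat.lt_or_ge t 6 with ht6 | ht6
  · obtain rfl | rfl : t = 4 ∨ t = 5 := by omega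
    · have := Cfsg.Agent.S0415.result G (by omega) hsharp
      have hfac : (4 + 1).factorial = 120 := by decide
      rw [hfac] at hLΔ
      rcases this with h4 | h4 | h4 | h4 <;> rw [h4] at hdeg
      · omega
      · omega
      · omega
      · have : r = 7 := by omega
        subst this
        omega
    · have := Cfsg.Agent.S0416.result G (by omega) hsharp
      have hfac : (5 + 1).factorial = 720 := by decide
      rw [hfac] at hLΔ
      rcases this with h4 | h4 | h4 | h4 <;> rw [h4] at hdeg
      · omega
      · omega
      · omega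
      · have : r = 7 := by omega
        subst this
        omega
  · have := Cfsg.Agent.S0417.result G t ht6 (by omega) hsharp
    rcases this with h4 | h4 | h4 <;> omega

end Cfsg.Agent.S0745P
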