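import Cfsg.Agent.Helper2.S0745T4KILL3core
import Cfsg.Agent.Helper10.S0745CARDG
import Cfsg.Agent.Helper27.S0745CARDM
import Cfsg.Agent.Helper14.S0745INV

/-! # S0745 board, row T4KILL3. -/

set_option autoImplicit false

namespace Cfsg.Agent.S0745P

open Equiv

variable {α : Type*} [Fintype α] [DecidableEq α]

/-- T4KILL3 -/
theorem t4_kill3 {G : Subgroup (Perm α)} {c : ℕ} (h : Hyp G 4 c 2) (hc : c = 5 ∨ c = 23) :
    False :=
  t4_kill3_aux_core h hc (card_G h) (fun S hS => card_M h S hS)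
    (fun _ hg hg1 => nfix_le h hg hg1)

end Cfsg.Agent.S0745P
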