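import Mathlib
import Cfsg.Prelude.Def_Transfer
import Cfsg.Agent.Helper8.S1904Defs
import Cfsg.Agent.Helper3.ES2Iso
import Cfsg.Agent.Helper12.ExtraspecialChar
import Cfsg.Agent.S4416
import Cfsg.Agent.Helper2.S1904E1

/-! Board `s1904pieces`, row E2: an extraspecial `2`-group without normal `E₈` has order at most `32`. -/

set_option autoImplicit false

namespace Cfsg.Agent.S1904P

open scoped commutatorElement

variable {X : Type*} [Group X] [Finite X] {A : Subgroup (MulAut X)} {B : Subgroup X}

/-- the elements of `⟨t⟩` for an involution `t`. -/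
theorem E2_aux_zpowers (t : X) (htt : t * t = 1) : ∀ y ∈ Subgroup.zpowers t, y = 1 ∨ y = t := by
  intro y hy
  rw [Subgroup.zpowers_eq_closure] at hy
  induction hy using Subgroup.closure_induction with
  | mem x hx => right; exact hx
  | one => left; rfl
  | mul x y _ _ hx hy =>
    rcases hx with hx | hx <;> rcases hy with hy | hy <;> rw [hx, hy]
    · left; rw [mul_one]
    · right; rw [one_mul]
    · right; rw [mul_one]
    · left; exact htt
  | inv x _ hx =>
    rcases hx with hx | hx <;> rw [hx]
    · left; rw [inv_one]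
    · right; exact inv_eq_of_mul_eq_one_left htt

/-- a subgroup all of whose elements lie among four given ones has order at most `4`. -/
theorem E2_aux_card_le_four (R : Subgroup X) (a b c d : X)
    (h : ∀ x ∈ R, x = a ∨ x = b ∨ x = c ∨ x = d) : Nat.card R ≤ 4 := by
  classical
  let elt : Fin 4 → X := ![a, b, c, d]
  have hsurj : ∀ x : ↥R, ∃ i : Fin 4, elt i = (x : X) := by
    intro x
    rcases h x.1 x.2 with hx | hx | hx | hx
    · exact ⟨0, hx.symm⟩
    · exact ⟨1, hx.symm⟩
    · exact ⟨2, hx.symm⟩
    · exact ⟨3, hx.symm⟩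
  choose f hf using hsurj
  have hinj : Function.Injective f := fun x y hxy => Subtype.ext (by rw [← hf x, ← hf y, hxy])
  have := Nat.card_le_card_of_injective f hinj
  simpa using this

/-- strict inclusion of subgroups gives strict inequality of orders. -/
theorem E2_aux_card_lt {H K : Subgroup X} (h : H < K) : Nat.card H < Nat.card K :=
  lt_of_le_of_ne (Subgroup.card_le_of_le h.le)
    (fun heq => h.ne (Subgroup.eq_of_le_of_card_ge h.le heq.ge))

/-- E2: `|X| ≤ 32`. -/
theorem E2 (H : Hyp A) (hes : Cfsg.IsExtraspecial 2 X) : Nat.card X ≤ 32 := by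
  classical
  haveI : Fact (Nat.Prime 2) := ⟨Nat.prime_two⟩
  by_contra hcon
  push Not at hcon
  obtain ⟨z, h⟩ := Cfsg.Agent.S4416.exists_es2 X hes
  obtain ⟨n, hn⟩ := IsPGroup.iff_card.mp hes.1.1
  have h64 : 64 ≤ Nat.card X := by
    have hn6 : 6 ≤ n := by
      by_contra h6
      push Not at h6
      have : 2 ^ n ≤ 2 ^ 5 := Nat.pow_le_pow_right (by norm_num) (by omega)
      rw [← hn] at this
      omega
    calc 64 = 2 ^ 6 := by norm_num
      _ ≤ 2 ^ n := Nat.pow_le_pow_right (by norm_num) hn6
      _ = Nat.card X := hn.symm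
  have hzc : z ∈ Subgroup.center X := Subgroup.mem_center_iff.mpr (fun g => h.central g)
  -- a noncentral involution
  obtain ⟨t, -, htZ, htt⟩ := E1 hes ⊤ (Subgroup.center X) le_top le_rfl (by
    rw [hes.2, Subgroup.card_top]; omega)
  have ht1 : t ≠ 1 := fun h1 => htZ (h1 ▸ Subgroup.one_mem _)
  have htz : t ≠ z := fun h1 => htZ (h1 ▸ hzc)
  -- its centraliser
  set C : Subgroup X := Subgroup.centralizer ({t} : Set X) with hC
  have hCmem : ∀ x : X, x ∈ C ↔ Commute t x := by
    intro x
    rw [hC, Subgroup.mem_centralizer_iff]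
    constructor
    · intro hx
      exact hx t rfl
    · rintro hx _ rfl
      exact hx
  have hCcard : 32 ≤ Nat.card C := by
    have h1 := Cfsg.Agent.Helper12.extraspecial_card_commute_mul 2 hes t
    rw [if_neg htZ] at h1
    have h2 : Nat.card {x : X // Commute t x} = Nat.card C :=
      Nat.card_congr (Equiv.subtypeEquivRight (fun x => (hCmem x).symm))
    rw [h2] at h1
    omega
  set R : Subgroup X := Subgroup.center X ⊔ Subgroup.zpowers t with hR
  have htzc : t * z = z * t := h.central t
  have hcs : ∀ w ∈ Subgroup.center X, w = 1 ∨ w = z := fun w hw =>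
    h.center_sub w (fun k => (Subgroup.mem_center_iff.mp hw k).symm)
  have hRel : ∀ x ∈ R, x = 1 ∨ x = t ∨ x = z ∨ x = z * t := by
    intro x hx
    have hx' : x ∈ ((Subgroup.center X ⊔ Subgroup.zpowers t : Subgroup X) : Set X) := hx
    rw [Subgroup.normal_mul] at hx'
    obtain ⟨c, hc, u, hu, rfl⟩ := Set.mem_mul.mp hx'
    rcases hcs c hc with hc1 | hc1 <;> rcases E2_aux_zpowers t htt u hu with hu1 | hu1 <;> rw [hc1, hu1]
    · left; rw [mul_one]
    · right; left; rw [one_mul]
    · right; right; left; rw [mul_one]
    · right; right; right; rfl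
  have hRcard : Nat.card R ≤ 4 := E2_aux_card_le_four R 1 t z (z * t) hRel
  have htR : t ∈ R := (le_sup_right : Subgroup.zpowers t ≤ R) (Subgroup.mem_zpowers t)
  have hZR : Subgroup.center X ≤ R := le_sup_left
  have hzR : z ∈ R := hZR hzc
  have hRC : R ≤ C := by
    apply sup_le
    · intro w hw
      exact (hCmem w).mpr (Subgroup.mem_center_iff.mp hw t)
    · rw [Subgroup.zpowers_le]
      exact (hCmem _).mpr (Commute.refl _)
  obtain ⟨s, hsC, hsR, hss⟩ := E1 hes C R hRC hZR (by omega)
  have hts : t * s = s * t := (hCmem s).mp hsC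
  -- the elementary abelian group `⟨t, z, s⟩`
  set S : Set X := {t, z, s} with hS
  set E : Subgroup X := Subgroup.closure S with hE
  have hSinv : ∀ x ∈ S, x * x = 1 := by
    rintro x (rfl | rfl | hx)
    · exact htt
    · exact h.zz
    · rw [Set.mem_singleton_iff] at hx
      subst hx
      exact hss
  have hScomm : ∀ x ∈ S, ∀ y ∈ S, x * y = y * x := by
    have hzs : z * s = s * z := (h.central s).symm
    rintro x (rfl | rfl | hx) y (rfl | rfl | hy)
    · rfl
    · exact htzc
    · rw [Set.mem_singleton_iff] at hy; subst hy; exact hts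
    · exact htzc.symm
    · rfl
    · rw [Set.mem_singleton_iff] at hy; subst hy; exact hzs
    · rw [Set.mem_singleton_iff] at hx; subst hx; exact hts.symm
    · rw [Set.mem_singleton_iff] at hx; subst hx; exact hzs.symm
    · rw [Set.mem_singleton_iff] at hx hy; subst hx; subst hy; rfl
  have hEcomm : ∀ a ∈ E, ∀ b ∈ E, a * b = b * a := by
    have h1 : E ≤ Subgroup.centralizer S := by
      rw [hE, Subgroup.closure_le]
      intro x hx
      rw [SetLike.mem_coe, Subgroup.mem_centralizer_iff]
      intro y hy
      exact hScomm y hy x hx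
    have h2 : E ≤ Subgroup.centralizer (E : Set X) := by
      rw [hE, Subgroup.closure_le]
      intro x hx
      rw [SetLike.mem_coe, Subgroup.mem_centralizer_iff]
      intro y hy
      have := Subgroup.mem_centralizer_iff.mp (h1 hy) x hx
      exact this.symm
    intro a ha b hb
    exact (Subgroup.mem_centralizer_iff.mp (h2 hb) a ha)
  have hEsq : ∀ a ∈ E, a * a = 1 := by
    intro a ha
    induction ha using Subgroup.closure_induction with
    | mem x hx => exact hSinv x hx
    | one => rw [one_mul]
    | mul x y hx hy hx2 hy2 =>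
      have hc := hEcomm x hx y hy
      calc x * y * (x * y) = x * (y * x) * y := by group
        _ = x * (x * y) * y := by rw [← hc]
        _ = (x * x) * (y * y) := by group
        _ = 1 := by rw [hx2, hy2, one_mul]
    | inv x _ hx2 =>
      have : x⁻¹ = x := inv_eq_of_mul_eq_one_left hx2
      rw [this, hx2]
  have hzE : z ∈ E := Subgroup.subset_closure (by simp [hS])
  have htE : t ∈ E := Subgroup.subset_closure (by simp [hS])
  have hsE : s ∈ E := Subgroup.subset_closure (by simp [hS])
  have hEnormal : E.Normal := by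
    constructor
    intro e he g
    rcases h.comm g e with h1 | h1
    · have : g * e * g⁻¹ = e := by rw [h1]; group
      rw [this]; exact he
    · have : g * e * g⁻¹ = e * z := by
        rw [h1]
        calc e * g * z * g⁻¹ = e * (g * z) * g⁻¹ := by group
          _ = e * (z * g) * g⁻¹ := by rw [h.central g]
          _ = e * z := by group
      rw [this]; exact E.mul_mem he hzE
  have hE4 : Nat.card E ≤ 4 := H.noE8 E hEnormal hEcomm hEsq
  -- but `R < E`, and `R` has four elements
  have hRE : R ≤ E := by
    apply sup_le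
    · intro w hw
      rcases hcs w hw with hw1 | hw1 <;> rw [hw1]
      · exact E.one_mem
      · exact hzE
    · rw [Subgroup.zpowers_le]
      exact htE
  have hRltE : R < E := lt_of_le_of_ne hRE (fun heq => hsR (heq ▸ hsE))
  have hlt : Nat.card R < Nat.card E := E2_aux_card_lt hRltE
  -- `center X < R`
  have hZltR : Subgroup.center X < R := lt_of_le_of_ne hZR (fun heq => htZ (heq ▸ htR))
  have hlt2 : Nat.card (Subgroup.center X) < Nat.card R := E2_aux_card_lt hZltR
  rw [hes.2] at hlt2
  -- `|R|` divides `|E|`, both powers of two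
  have hdvd : Nat.card R ∣ Nat.card E := Subgroup.card_dvd_of_le hRE
  have hR34 : Nat.card R = 3 ∨ Nat.card R = 4 := by omega
  rcases hR34 with h3 | h4
  · have hdR : Nat.card R ∣ Nat.card X := Subgroup.card_subgroup_dvd_card R
    rw [h3, hn] at hdR
    have := (Nat.Prime.dvd_of_dvd_pow Nat.prime_three hdR)
    omega
  · omega

end Cfsg.Agent.S1904P
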