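import Mathlib
import Cfsg.Prelude.Def_Transfer
import Cfsg.Agent.Helper8.S1904Defs
import Cfsg.Agent.Helper3.ES2Iso
import Cfsg.Agent.S4416

/-! Board `s1904pieces`, row E3: an extraspecial `2`-group has order at least `8` and not `16`
(the Gauss sum identity `(2 j - |X|)² = 2 |X|` of `Cfsg.Agent.Helper3.ES2.gauss`). -/

set_option autoImplicit false

namespace Cfsg.Agent.S1904P

variable {X : Type*} [Group X] [Finite X] {A : Subgroup (MulAut X)} {B : Subgroup X}

/-- E3: `|X| ≥ 8` and `|X| ≠ 16`. -/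
theorem E3 (hes : Cfsg.IsExtraspecial 2 X) : 8 ≤ Nat.card X ∧ Nat.card X ≠ 16 := by
  obtain ⟨z, h⟩ := Cfsg.Agent.S4416.exists_es2 X hes
  have hg := Cfsg.Agent.Helper3.ES2.gauss h
  have h3 := Cfsg.Agent.Helper3.ES2.three_le_card h
  obtain ⟨n, hn⟩ := IsPGroup.iff_card.mp hes.1.1
  set N := Nat.card X with hN
  set j : ℤ := (Cfsg.Agent.Helper3.ES2.jj X : ℤ) with hj
  have h16 : N ≠ 16 := by
    intro h16
    rw [h16] at hg
    -- `(2 j - 16)² = 32` is impossible
    have h1 : (2 * j - 16) ^ 2 = 32 := by exact_mod_cast hg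
    have hlo : -6 < 2 * j - 16 := by nlinarith
    have hhi : 2 * j - 16 < 6 := by nlinarith
    have : ∀ k : ℤ, -6 < k → k < 6 → k ^ 2 ≠ 32 := by
      intro k hk1 hk2
      interval_cases k <;> norm_num
    exact this _ hlo hhi h1
  refine ⟨?_, h16⟩
  -- `N = 2 ^ n ≥ 3`, so `N = 4` or `N ≥ 8`
  have hn2 : 2 ≤ n := by
    by_contra hcon
    push Not at hcon
    interval_cases n <;> omega
  by_cases hn3 : 3 ≤ n
  · calc 8 = 2 ^ 3 := by norm_num
      _ ≤ 2 ^ n := Nat.pow_le_pow_right (by norm_num) hn3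
      _ = N := hn.symm
  · exfalso
    have : n = 2 := by omega
    subst this
    have h4 : N = 4 := by rw [hn]; norm_num
    rw [h4] at hg
    have h1 : (2 * j - 4) ^ 2 = 8 := by exact_mod_cast hg
    have hlo : -3 < 2 * j - 4 := by nlinarith
    have hhi : 2 * j - 4 < 3 := by nlinarith
    have : ∀ k : ℤ, -3 < k → k < 3 → k ^ 2 ≠ 8 := by
      intro k hk1 hk2
      interval_cases k <;> norm_num
    exact this _ hlo hhi h1

end Cfsg.Agent.S1904P
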