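import Mathlib

set_option autoImplicit false

/-! Piece TRANS of the S2768/S2769 board: the transfer argument 5.13 (abstract, Mathlib only). -/

namespace Cfsg.Agent.S2768P

open Subgroup

open scoped IsMulCommutative in
theorem TRANS_aux_core {H : Type*} [Group H] [Finite H] {p : ℕ} [Fact p.Prime] (P : Sylow p H)
    [IsMulCommutative ↥(P : Subgroup H)]
    (Bh Zh : Subgroup H) (hBP : Bh ≤ (P : Subgroup H)) (hZP : Zh ≤ (P : Subgroup H))
    (hdisj : Bh ⊓ Zh = ⊥) (hZc : Zh ≤ center H)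
    (hN : normalizer ((P : Subgroup H) : Set H) ≤ normalizer (Bh : Set H))
    (hgen : normalClosure (Bh : Set H) = ⊤) : Zh = ⊥ := by
  classical
  set V : H →* ↥(P : Subgroup H) := MonoidHom.transfer (MonoidHom.id ↥(P : Subgroup H)) with hV
  have hBn : (Bh.subgroupOf (P : Subgroup H)).Normal := inferInstance
  have hK : ((Bh.subgroupOf (P : Subgroup H)).comap V).Normal := hBn.comap V
  have hBK : Bh ≤ (Bh.subgroupOf (P : Subgroup H)).comap V := by
    intro b hb
    have : Fintype (Quotient (MulAction.orbitRel (↥(zpowers b)) (H ⧸ (P : Subgroup H)))) :=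
      Fintype.ofFinite _
    rw [mem_comap, hV, MonoidHom.transfer_eq_prod_quotient_orbitRel_zpowers_quot]
    refine Subgroup.prod_mem _ ?_
    intro q _
    rw [mem_subgroupOf]
    simp only [MonoidHom.id_apply]
    have hmem := QuotientGroup.out_conj_pow_minimalPeriod_mem (P : Subgroup H) b q.out
    obtain ⟨n, hn, h⟩ := P.conj_eq_normalizer_conj_of_mem
      (b ^ Function.minimalPeriod (b • ·) q.out) q.out.out
      ((P : Subgroup H).pow_mem (hBP hb) _) hmem
    rw [h]
    have hnB := hN hn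
    rw [mem_normalizer_iff] at hnB
    have hn' : n⁻¹ ∈ normalizer (Bh : Set H) := inv_mem (hN hn)
    rw [mem_normalizer_iff] at hn'
    have := (hn' (b ^ Function.minimalPeriod (b • ·) q.out)).mp (Bh.pow_mem hb _)
    simpa using this
  have htop : (Bh.subgroupOf (P : Subgroup H)).comap V = ⊤ := by
    rw [eq_top_iff, ← hgen]
    exact normalClosure_le_normal hBK
  rw [eq_bot_iff]
  intro z hz
  rw [mem_bot]
  have hzP : z ∈ (P : Subgroup H) := hZP hz
  have hzc : z ∈ center H := hZc hz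
  have key : ∀ (k : ℕ) (g₀ : H), g₀⁻¹ * z ^ k * g₀ ∈ (P : Subgroup H) →
      g₀⁻¹ * z ^ k * g₀ = z ^ k := by
    intro k g₀ _
    have hc : z ^ k ∈ center H := (center H).pow_mem hzc k
    rw [mem_center_iff] at hc
    rw [mul_assoc, ← hc g₀, ← mul_assoc, inv_mul_cancel, one_mul]
  have hVz : V z = ⟨z ^ (P : Subgroup H).index, MonoidHom.transfer_eq_pow_aux z key⟩ :=
    MonoidHom.transfer_eq_pow (MonoidHom.id ↥(P : Subgroup H)) z key
  have hzK : z ∈ (Bh.subgroupOf (P : Subgroup H)).comap V := by rw [htop]; exact mem_top z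
  rw [mem_comap, hVz, mem_subgroupOf] at hzK
  have hpow1 : z ^ (P : Subgroup H).index = 1 := by
    have : z ^ (P : Subgroup H).index ∈ Bh ⊓ Zh := ⟨hzK, Zh.pow_mem hz _⟩
    rw [hdisj, mem_bot] at this
    exact this
  -- z is a p-element
  obtain ⟨k, hk⟩ := (P.isPGroup'.to_le (le_refl _)) ⟨z, hzP⟩
  have hk' : z ^ p ^ k = 1 := by
    have := congrArg Subtype.val hk
    simpa using this
  have hcop : Nat.Coprime (p ^ k) (P : Subgroup H).index :=
    Nat.Coprime.pow_left k ((Nat.Prime.coprime_iff_not_dvd Fact.out).mpr P.not_dvd_index)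
  have hord1 : orderOf z ∣ p ^ k := orderOf_dvd_of_pow_eq_one hk'
  have hord2 : orderOf z ∣ (P : Subgroup H).index := orderOf_dvd_of_pow_eq_one hpow1
  have : orderOf z ∣ 1 := by
    have := Nat.dvd_gcd hord1 hord2
    rwa [hcop] at this
  exact orderOf_eq_one_iff.mp (Nat.dvd_one.mp this)

theorem TRANS {H : Type*} [Group H] [Finite H] {p : ℕ} [Fact p.Prime] (P : Sylow p H)
    (hPc : ∀ a ∈ (P : Subgroup H), ∀ b ∈ (P : Subgroup H), a * b = b * a)
    (Bh Zh : Subgroup H) (hsup : Bh ⊔ Zh = (P : Subgroup H)) (hdisj : Bh ⊓ Zh = ⊥)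
    (hZc : Zh ≤ center H)
    (hN : normalizer ((P : Subgroup H) : Set H) ≤ normalizer (Bh : Set H))
    (hgen : normalClosure (Bh : Set H) = ⊤) : Zh = ⊥ := by
  have : IsMulCommutative ↥(P : Subgroup H) :=
    ⟨⟨fun a b => Subtype.ext (hPc a a.2 b b.2)⟩⟩
  exact TRANS_aux_core P Bh Zh (hsup ▸ le_sup_left) (hsup ▸ le_sup_right) hdisj hZc hN hgen

end Cfsg.Agent.S2768P
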