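import Mathlib
import Cfsg.Agent.Helper2.S2768TRANS

set_option autoImplicit false

/-! Piece TRANSR of the S2768/S2769 board: 5.13 relative to a normal subgroup. -/

namespace Cfsg.Agent.S2768P

open Subgroup

theorem TRANSR {H : Type*} [Group H] [Finite H] {p : ℕ} [Fact p.Prime] (P : Sylow p H)
    (Rh Bh Zh : Subgroup H) [Rh.Normal] (hRB : Rh ≤ Bh) (hRZ : Rh ≤ Zh)
    (hsup : Bh ⊔ Zh = (P : Subgroup H)) (hinf : Bh ⊓ Zh = Rh)
    (hPc : ∀ a ∈ (P : Subgroup H), ∀ b ∈ (P : Subgroup H), a⁻¹ * b⁻¹ * a * b ∈ Rh)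
    (hZc : ∀ z ∈ Zh, ∀ h : H, z⁻¹ * h⁻¹ * z * h ∈ Rh)
    (hN : normalizer ((P : Subgroup H) : Set H) ≤ normalizer (Bh : Set H))
    (hgen : normalClosure (Bh : Set H) = ⊤) : Zh = Rh := by
  classical
  set π : H →* H ⧸ Rh := QuotientGroup.mk' Rh with hπ
  have hπs : Function.Surjective π := QuotientGroup.mk'_surjective Rh
  have hker : π.ker = Rh := QuotientGroup.ker_mk' Rh
  have hBP : Bh ≤ (P : Subgroup H) := hsup ▸ le_sup_left
  have hRP : Rh ≤ (P : Subgroup H) := hRB.trans hBP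
  -- π x = π y ↔ x⁻¹ * y ∈ Rh
  have hπeq : ∀ x y : H, π x = π y ↔ x⁻¹ * y ∈ Rh := fun x y => by
    rw [hπ]; exact QuotientGroup.eq
  let P' : Sylow p (H ⧸ Rh) := P.mapSurjective hπs
  have hP' : (P' : Subgroup (H ⧸ Rh)) = (P : Subgroup H).map π := Sylow.coe_mapSurjective hπs P
  have hcomapP : ((P : Subgroup H).map π).comap π = (P : Subgroup H) := by
    rw [comap_map_eq, hker, sup_eq_left.mpr hRP]
  have hfin : Zh.map π = ⊥ := by
    refine TRANS P' ?_ (Bh.map π) (Zh.map π) ?_ ?_ ?_ ?_ ?_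
    · -- abelian
      intro a ha b hb
      rw [hP'] at ha hb
      obtain ⟨a, ha, rfl⟩ := ha
      obtain ⟨b, hb, rfl⟩ := hb
      rw [← map_mul, ← map_mul, eq_comm, hπeq]
      have := hPc a ha b hb
      simpa [mul_assoc] using this
    · rw [hP', ← hsup, Subgroup.map_sup]
    · rw [eq_bot_iff]
      rintro x ⟨⟨b, hb, rfl⟩, ⟨z, hz, hzb⟩⟩
      rw [mem_bot]
      have h1 : b⁻¹ * z ∈ Rh := (hπeq b z).mp hzb.symm
      have hzB : z ∈ Bh := by
        have := Bh.mul_mem hb (hRB h1)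
        simpa using this
      have hzR : z ∈ Rh := hinf ▸ (⟨hzB, hz⟩ : z ∈ Bh ⊓ Zh)
      rw [← hzb]
      exact (QuotientGroup.eq_one_iff z).mpr hzR
    · rintro x ⟨z, hz, rfl⟩
      rw [mem_center_iff]
      intro y
      obtain ⟨h, rfl⟩ := hπs y
      rw [← map_mul, ← map_mul, hπeq]
      have := hZc z hz h
      -- (h z)⁻¹ * (z h) = z⁻¹ h⁻¹ z h
      simpa [mul_assoc] using this
    · intro x hx
      obtain ⟨n, rfl⟩ := hπs x
      have hn : n ∈ (normalizer (((P : Subgroup H).map π : Subgroup (H ⧸ Rh)) : Set (H ⧸ Rh))).comap π := by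
        rw [mem_comap, ← hP']; exact hx
      rw [comap_normalizer_eq_of_surjective _ hπs, hcomapP] at hn
      exact le_normalizer_map π (mem_map_of_mem π (hN hn))
    · rw [coe_map, ← map_normalClosure _ _ hπs, hgen, ← MonoidHom.range_eq_map,
        MonoidHom.range_eq_top.mpr hπs]
  refine le_antisymm ?_ hRZ
  intro z hz
  have : π z ∈ Zh.map π := mem_map_of_mem π hz
  rw [hfin, mem_bot] at this
  exact (QuotientGroup.eq_one_iff z).mp this

end Cfsg.Agent.S2768P
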