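import Mathlib
import Cfsg.Agent.Helper14.S2863Defs

/-! Board `s2863pieces`, row PAIRMAX: the conjugates of `hmax`. -/

set_option autoImplicit false
set_option linter.unusedVariables false
set_option linter.unusedSectionVars false

namespace Cfsg.Agent.S2863P

open Cfsg Subgroup
open Cfsg.Agent.Helper14 (cj)

section L
variable {G : Type*} [Group G] [Finite G] {p : ℕ} [Fact p.Prime] {Y L : Subgroup G}

/-- PAIRMAX : the conjugates of `hmax`. -/
theorem LHyp.max_conj (H : LHyp p Y L) {x : G} (hx : x ∈ L) (R : Subgroup G)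
    (hYR : Y.map (cj x) ≤ R) (hRL : R ≤ L) (hne : R ≠ L) :
    R ≤ normalizer ((Y.map (cj x) : Subgroup G) : Set G) := by
  have hxinv : x⁻¹ ∈ L := L.inv_mem hx
  have hLx : L.map (cj x⁻¹) = L := Cfsg.Agent.Helper14.map_cj_eq_self_of_mem hxinv
  -- `R' = R^{x⁻¹}`
  have h1 : Y ≤ R.map (cj x⁻¹) := (Cfsg.Agent.Helper14.map_cj_le_iff Y R x).mp hYR
  have h2 : R.map (cj x⁻¹) ≤ L := by
    rw [← hLx]
    exact Subgroup.map_mono hRL
  have h3 : R.map (cj x⁻¹) ≠ L := by
    intro h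
    apply hne
    have : (R.map (cj x⁻¹)).map (cj x) = L.map (cj x) := by rw [h]
    rw [Cfsg.Agent.Helper14.map_cj_inv_map_cj, Cfsg.Agent.Helper14.map_cj_eq_self_of_mem hx] at this
    exact this
  have h4 : R.map (cj x⁻¹) ≤ L ⊓ normalizer (Y : Set G) := H.hmax _ h1 (lt_of_le_of_ne h2 h3)
  have h5 : R.map (cj x⁻¹) ≤ normalizer (Y : Set G) := h4.trans inf_le_right
  have h6 : (R.map (cj x⁻¹)).map (cj x) ≤ (normalizer (Y : Set G)).map (cj x) := Subgroup.map_mono h5
  rw [Cfsg.Agent.Helper14.map_cj_inv_map_cj, Cfsg.Agent.Helper14.map_cj_normalizer] at h6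
  exact h6

end L

end Cfsg.Agent.S2863P
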