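import Mathlib
import Cfsg.Agent.Helper14.S2863Defs

/-! Board `s2863pieces`, row PAIRSR: the two semiregularity statements of `Pair`. -/

set_option autoImplicit false
set_option linter.unusedVariables false
set_option linter.unusedSectionVars false

namespace Cfsg.Agent.S2863P

open Cfsg Subgroup
open Cfsg.Agent.Helper14 (cj)

section L
variable {G : Type*} [Group G] [Finite G] {p : ℕ} [Fact p.Prime] {Y L : Subgroup G}

/-- PAIRSR : the two semiregularity statements of `Pair`. -/
theorem LHyp.sr_pair (H : LHyp p Y L) {g : G} (hg : g ∈ L) (hgN : g ∉ normalizer (Y : Set G)) :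
    (∀ t ∈ Y, t ∉ pCoreOf p L → t ∉ normalizer ((Y.map (cj g) : Subgroup G) : Set G)) ∧
      (∀ s ∈ Y.map (cj g), s ∉ pCoreOf p L → s ∉ normalizer (Y : Set G)) := by
  constructor
  · intro t ht htA hn
    exact hgN (H.sr t ht htA g hg hn)
  · intro s hs hsA hn
    rw [Cfsg.Agent.Helper14.mem_map_cj] at hs
    have hginv : g⁻¹ ∈ L := L.inv_mem hg
    have htA : g⁻¹ * s * g ∉ pCoreOf p L := by
      intro h
      apply hsA
      have hn' := (Subgroup.mem_normalizer_iff.mp (Cfsg.Agent.Helper14.le_normalizer_pCoreOf p L hg)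
        (g⁻¹ * s * g)).mp h
      have e : g * (g⁻¹ * s * g) * g⁻¹ = s := by group
      rw [e] at hn'
      exact hn'
    have hn2 : g⁻¹ * s * g ∈ normalizer ((Y.map (cj g⁻¹) : Subgroup G) : Set G) := by
      rw [← Cfsg.Agent.Helper14.map_cj_normalizer, Cfsg.Agent.Helper14.mem_map_cj]
      have e : g⁻¹⁻¹ * (g⁻¹ * s * g) * g⁻¹ = s := by group
      rw [e]
      exact hn
    have := H.sr _ hs htA g⁻¹ hginv hn2
    apply hgN
    have h2 := (normalizer (Y : Set G)).inv_mem this
    rw [inv_inv] at h2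
    exact h2

end L

end Cfsg.Agent.S2863P
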