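import Mathlib
import Cfsg.Agent.Helper2.S3086Defs
import Cfsg.Agent.Helper2.S3086Basic
import Cfsg.Agent.Helper2.S3086Defs2
import Cfsg.Agent.Helper16.S3086QS1

/-! Board `s3086pieces`, piece LEMT: Lemma T. -/

set_option autoImplicit false

namespace Cfsg.Agent.S3086P

universe u

variable {p : ℕ} [Fact p.Prime] {V : Type u} [AddCommGroup V] [Module (ZMod p) V] [Finite V]
variable {K : Subgroup (GLV p V)}

/-- characteristic 2 in `End(V)` -/
theorem LEMT_aux_char2 (hp : p = 2) (f : Module.End (ZMod p) V) : f + f = 0 := by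
  subst hp
  have h : (2 : ZMod 2) = 0 := rfl
  rw [← two_smul (ZMod 2) f, h, zero_smul]

/-- the ring computation behind (T2): from `d N = N = N d` with `d = x a x a` -/
theorem LEMT_aux_ring (hp : p = 2) {X X' Aa : Module.End (ZMod p) V} (hX : X * X' = 1) (hX' : X' * X = 1)
    (hA : Aa * Aa = 1) (h1 : X * Aa * X * Aa * (Aa - 1) = Aa - 1) (h2 : (Aa - 1) * (X * Aa * X * Aa) = Aa - 1) :
    (X + X') * Aa = Aa * (X + X') := by
  have c2 := LEMT_aux_char2 (V := V) hp
  set N := Aa - 1 with hN
  have hAa : Aa = 1 + N := by rw [hN]; abel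
  have hAN : Aa * N = N := by
    have : Aa * N = 1 - Aa := by rw [hN, mul_sub, hA, mul_one]
    rw [this]
    have h3 : (1 - Aa) - N = -(N + N) := by rw [hN]; abel
    have h4 : (1 - Aa) - N = 0 := by rw [h3, c2 N, neg_zero]
    exact sub_eq_zero.mp h4
  have hNA : N * Aa = N := by
    have : N * Aa = 1 - Aa := by rw [hN, sub_mul, hA, one_mul]
    rw [this]
    have h3 : (1 - Aa) - N = -(N + N) := by rw [hN]; abel
    have h4 : (1 - Aa) - N = 0 := by rw [h3, c2 N, neg_zero]
    exact sub_eq_zero.mp h4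
  -- from h1: `Aa X N = X' N`
  have e1 : Aa * X * N = X' * N := by
    have h3 : X * Aa * X * N = N := by
      have : X * Aa * X * Aa * N = X * Aa * X * (Aa * N) := by noncomm_ring
      rw [this, hAN] at h1
      exact h1
    calc Aa * X * N = X' * (X * Aa * X * N) := by
          have : X' * (X * Aa * X * N) = (X' * X) * Aa * X * N := by noncomm_ring
          rw [this, hX', one_mul]
      _ = X' * N := by rw [h3]
  -- from h2: `N X Aa = N X'`
  have e2 : N * X * Aa = N * X' := by
    have h3 : N * X * Aa * X = N := by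
      have h4 : N * (X * Aa * X * Aa) * Aa = N * Aa := by rw [h2]
      have h5 : N * (X * Aa * X * Aa) * Aa = N * X * Aa * X * (Aa * Aa) := by noncomm_ring
      rw [h5, hA, mul_one, hNA] at h4
      exact h4
    calc N * X * Aa = (N * X * Aa * X) * X' := by
          have : (N * X * Aa * X) * X' = N * X * Aa * (X * X') := by noncomm_ring
          rw [this, hX, mul_one]
      _ = N * X' := by rw [h3]
  -- `N X N = (X + X') N = N (X + X')`
  have f1 : N * X * N = (X + X') * N := by
    have : Aa * X * N = X * N + N * X * N := by rw [hAa]; noncomm_ring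
    rw [this] at e1
    have h3 : N * X * N = X' * N - X * N := by rw [← e1]; abel
    rw [h3, add_mul]
    have h4 : X' * N - X * N - (X * N + X' * N) = -(X * N + X * N) := by abel
    have h5 : X' * N - X * N - (X * N + X' * N) = 0 := by rw [h4, c2, neg_zero]
    exact sub_eq_zero.mp h5
  have f2 : N * X * N = N * (X + X') := by
    have : N * X * Aa = N * X + N * X * N := by rw [hAa]; noncomm_ring
    rw [this] at e2
    have h3 : N * X * N = N * X' - N * X := by rw [← e2]; abel
    rw [h3, mul_add]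
    have h4 : N * X' - N * X - (N * X + N * X') = -(N * X + N * X) := by abel
    have h5 : N * X' - N * X - (N * X + N * X') = 0 := by rw [h4, c2, neg_zero]
    exact sub_eq_zero.mp h5
  have f3 : (X + X') * N = N * (X + X') := by rw [← f1, f2]
  calc (X + X') * Aa = (X + X') + (X + X') * N := by rw [hAa]; noncomm_ring
    _ = (X + X') + N * (X + X') := by rw [f3]
    _ = Aa * (X + X') := by rw [hAa]; noncomm_ring

/-- LEMT (L): Lemma T. -/
theorem LemT (hp : p = 2) {a b : GLV p V} (T : TP p V K a b) : TC K a := by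
  have hainv : a⁻¹ = a := inv_eq_of_mul_eq_one_left T.ha
  have hbinv : b⁻¹ = b := inv_eq_of_mul_eq_one_left T.hb
  -- `d_x := x * (a x a⁻¹)` is multiplicative on `K`
  have hdmul : ∀ x ∈ K, ∀ y ∈ K, (x * y) * (a * (x * y) * a⁻¹) = (x * (a * x * a⁻¹)) * (y * (a * y * a⁻¹)) := by
    intro x hx y hy
    have hc := T.hc y hy (a * x * a⁻¹) (conj_mem_cjg hx)
    calc (x * y) * (a * (x * y) * a⁻¹) = x * (y * (a * x * a⁻¹)) * (a * y * a⁻¹) := by group
      _ = x * ((a * x * a⁻¹) * y) * (a * y * a⁻¹) := by rw [hc]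
      _ = (x * (a * x * a⁻¹)) * (y * (a * y * a⁻¹)) := by group
  -- `d_x` commutes with `a`
  have hda : ∀ x ∈ K, a * (x * (a * x * a⁻¹)) = (x * (a * x * a⁻¹)) * a := by
    intro x hx
    have hc := T.hc x hx (a * x * a⁻¹) (conj_mem_cjg hx)
    have haa : a * a = 1 := T.ha
    calc a * (x * (a * x * a⁻¹)) = (a * x * a⁻¹) * (a * a * x * a⁻¹) := by group
      _ = (a * x * a⁻¹) * (x * a⁻¹) := by rw [haa, one_mul]
      _ = ((a * x * a⁻¹) * x) * a⁻¹ := by group
      _ = (x * (a * x * a⁻¹)) * a⁻¹ := by rw [hc]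
      _ = (x * (a * x * a⁻¹)) * a := by rw [hainv]
  -- `b` fixes `Y = range (Nop a)`
  have hNbNa : Nop b * Nop a = 0 := by
    have h1 : toE a * toE b = toE b * toE a := by rw [← toE_mul, ← toE_mul, T.hab]
    have h2 : Nop a * Nop b = Nop b * Nop a := by
      unfold Nop
      have e1 : (toE a - 1) * (toE b - 1) = toE a * toE b - toE a - toE b + 1 := by noncomm_ring
      have e2 : (toE b - 1) * (toE a - 1) = toE b * toE a - toE b - toE a + 1 := by noncomm_ring
      rw [e1, e2, h1]
      abel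
    rw [← h2]; exact T.hq
  have hbY : ∀ v : V, b (Nop a v) = Nop a v := by
    intro v
    have := congrArg (fun f : Module.End (ZMod p) V => f v) hNbNa
    simp only [Module.End.mul_apply, LinearMap.zero_apply] at this
    rw [Nop_apply] at this
    exact sub_eq_zero.mp this
  -- `d_x` maps `Y` to `Y`
  have hdY : ∀ x ∈ K, ∀ v : V, ∃ v' : V, (x * (a * x * a⁻¹)) (Nop a v) = Nop a v' := by
    intro x hx v
    refine ⟨(x * (a * x * a⁻¹)) v, ?_⟩
    rw [Nop_apply, Nop_apply, map_sub]
    have h1 : (x * (a * x * a⁻¹)) (a v) = a ((x * (a * x * a⁻¹)) v) := by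
      have := congrArg (fun g : GLV p V => g v) (hda x hx)
      exact this.symm
    rw [h1]
  -- the subgroup of `K` of those `x` with `d_x` trivial on `Y`
  have hb' : ∀ x ∈ K, b * x * b⁻¹ ∈ K := by
    intro x hx
    have := conj_mem_cjg (a := b) hx
    rwa [T.hbK] at this
  have hgen := QS_gen_comm T.hK hb' T.hbn
  have hall : ∀ y ∈ K, ∀ v : V, (y * (a * y * a⁻¹)) (Nop a v) = Nop a v := by
    intro y hy
    rw [← hgen] at hy
    -- induction over the closure, carrying membership in `K`
    have key : y ∈ K ∧ ∀ v : V, (y * (a * y * a⁻¹)) (Nop a v) = Nop a v := by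
      induction hy using Subgroup.closure_induction with
      | mem z hz =>
        obtain ⟨x, hx, j, rfl⟩ := hz
        have hbj : ∀ j : ℤ, b ^ j = 1 ∨ b ^ j = b := by
          intro j
          rcases Int.even_or_odd j with ⟨k, hk⟩ | ⟨k, hk⟩
          · left
            rw [hk, ← two_mul, zpow_mul, zpow_two, T.hb, one_zpow]
          · right
            rw [hk, zpow_add, zpow_one, zpow_mul, zpow_two, T.hb, one_zpow, one_mul]
        rcases hbj j with h1 | h1
        · have h2 : b ^ (-j) = 1 := by rw [zpow_neg, h1, inv_one]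
          rw [h1, h2]
          have e : x⁻¹ * (1 * x * 1) = 1 := by group
          rw [e]
          refine ⟨K.one_mem, ?_⟩
          intro v
          have e2 : (1 : GLV p V) * (a * 1 * a⁻¹) = 1 := by group
          rw [e2]; rfl
        · have h2 : b ^ (-j) = b⁻¹ := by rw [zpow_neg, h1]
          rw [h1, h2]
          have hbx : b * x * b⁻¹ ∈ K := hb' x hx
          have hc : x⁻¹ * (b * x * b⁻¹) ∈ K := K.mul_mem (K.inv_mem hx) hbx
          refine ⟨hc, ?_⟩
          intro v
          rw [hdmul _ (K.inv_mem hx) _ hbx]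
          -- `d_{b x b⁻¹} = b d_x b⁻¹`
          have e3 : (b * x * b⁻¹) * (a * (b * x * b⁻¹) * a⁻¹) = b * (x * (a * x * a⁻¹)) * b⁻¹ := by
            have hab' : a * b = b * a := T.hab
            have hab2 : b⁻¹ * a⁻¹ = a⁻¹ * b⁻¹ := by
              rw [← mul_inv_rev, ← mul_inv_rev, hab']
            calc (b * x * b⁻¹) * (a * (b * x * b⁻¹) * a⁻¹) = b * x * b⁻¹ * ((a * b) * x * (b⁻¹ * a⁻¹)) := by group
              _ = b * x * b⁻¹ * ((b * a) * x * (a⁻¹ * b⁻¹)) := by rw [hab', hab2]
              _ = b * (x * (a * x * a⁻¹)) * b⁻¹ := by group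
          rw [e3]
          -- `d_{x⁻¹} = (d_x)⁻¹`
          have e4 : x⁻¹ * (a * x⁻¹ * a⁻¹) = (x * (a * x * a⁻¹))⁻¹ := by
            have hcx := T.hc x hx (a * x * a⁻¹) (conj_mem_cjg hx)
            rw [mul_inv_rev]
            have : (a * x * a⁻¹)⁻¹ = a * x⁻¹ * a⁻¹ := by group
            rw [this]
            -- `x⁻¹` commutes with `a x⁻¹ a⁻¹`
            have hcx' := T.hc x⁻¹ (K.inv_mem hx) (a * x⁻¹ * a⁻¹) (conj_mem_cjg (K.inv_mem hx))
            exact hcx'
          rw [e4]
          obtain ⟨v', hv'⟩ := hdY x hx v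
          set d := x * (a * x * a⁻¹) with hd
          show d⁻¹ ((b * d * b⁻¹) (Nop a v)) = Nop a v
          have h5 : (b * d * b⁻¹) (Nop a v) = b (d (b⁻¹ (Nop a v))) := rfl
          rw [h5, hbinv, hbY v, hv', hbY v', ← hv']
          exact d.symm_apply_apply _
      | one =>
        refine ⟨K.one_mem, ?_⟩
        intro v
        have e2 : (1 : GLV p V) * (a * 1 * a⁻¹) = 1 := by group
        rw [e2]; rfl
      | mul y z _ _ ihy ihz =>
        refine ⟨K.mul_mem ihy.1 ihz.1, ?_⟩
        intro v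
        rw [hdmul y ihy.1 z ihz.1]
        show (y * (a * y * a⁻¹)) ((z * (a * z * a⁻¹)) (Nop a v)) = Nop a v
        rw [ihz.2 v, ihy.2 v]
      | inv y _ ihy =>
        refine ⟨K.inv_mem ihy.1, ?_⟩
        intro v
        have e4 : y⁻¹ * (a * y⁻¹ * a⁻¹) = (y * (a * y * a⁻¹))⁻¹ := by
          rw [mul_inv_rev]
          have : (a * y * a⁻¹)⁻¹ = a * y⁻¹ * a⁻¹ := by group
          rw [this]
          exact T.hc y⁻¹ (K.inv_mem ihy.1) (a * y⁻¹ * a⁻¹) (conj_mem_cjg (K.inv_mem ihy.1))
        rw [e4]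
        have h6 := ihy.2 v
        have h7 : (y * (a * y * a⁻¹))⁻¹ ((y * (a * y * a⁻¹)) (Nop a v)) = Nop a v :=
          (y * (a * y * a⁻¹)).symm_apply_apply _
        rw [h6] at h7
        exact h7
    exact key.2
  -- now the four claims
  intro x hx
  -- ring-level facts
  have hX : toE x * toE x⁻¹ = 1 := toE_mul_inv x
  have hX' : toE x⁻¹ * toE x = 1 := toE_inv_mul x
  have hA : toE a * toE a = 1 := by rw [← toE_mul, T.ha, toE_one]
  have hdE : toE (x * (a * x * a⁻¹)) = toE x * toE a * toE x * toE a := by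
    rw [hainv, toE_mul, toE_mul, toE_mul]; noncomm_ring
  have h1 : toE x * toE a * toE x * toE a * (toE a - 1) = toE a - 1 := by
    rw [← hdE]
    apply LinearMap.ext
    intro v
    have := hall x hx v
    simp only [Module.End.mul_apply]
    rw [Nop_apply] at this
    simpa using this
  have h2 : (toE a - 1) * (toE x * toE a * toE x * toE a) = toE a - 1 := by
    rw [← hdE]
    have hcomm : toE a * toE (x * (a * x * a⁻¹)) = toE (x * (a * x * a⁻¹)) * toE a := by
      rw [← toE_mul, ← toE_mul, hda x hx]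
    have : (toE a - 1) * toE (x * (a * x * a⁻¹)) = toE (x * (a * x * a⁻¹)) * (toE a - 1) := by
      rw [sub_mul, mul_sub, hcomm, one_mul, mul_one]
    rw [this, hdE]
    exact h1
  have hta : (toE x + toE x⁻¹) * toE a = toE a * (toE x + toE x⁻¹) := LEMT_aux_ring hp hX hX' hA h1 h2
  -- `t_x = a t_x a⁻¹ = t_{a x a⁻¹}`
  have htconj : tx x = toE (a * x * a⁻¹) + toE (a * x⁻¹ * a⁻¹) := by
    have e1 : toE (a * x * a⁻¹) + toE (a * x⁻¹ * a⁻¹) = toE a * (toE x + toE x⁻¹) * toE a := by
      rw [hainv, toE_mul, toE_mul, toE_mul, toE_mul]; noncomm_ring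
    rw [e1, ← hta, mul_assoc, hA, mul_one]
    rfl
  refine ⟨?_, ?_, ?_, hall x hx⟩
  · exact hta
  · intro y hy
    show tx x * toE y = toE y * tx x
    rw [htconj, add_mul, mul_add, ← toE_mul, ← toE_mul, ← toE_mul, ← toE_mul]
    have c1 := T.hc y hy (a * x * a⁻¹) (conj_mem_cjg hx)
    have c2 := T.hc y hy (a * x⁻¹ * a⁻¹) (conj_mem_cjg (K.inv_mem hx))
    rw [c1, c2]
  · intro y hy
    show tx x * toE y = toE y * tx x
    unfold tx
    rw [add_mul, mul_add, ← toE_mul, ← toE_mul, ← toE_mul, ← toE_mul]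
    have c1 := T.hc x hx y hy
    have c2 := T.hc x⁻¹ (K.inv_mem hx) y hy
    rw [c1, c2]

end Cfsg.Agent.S3086P
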