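import Mathlib
import Cfsg.Agent.Helper2.S3086Defs
import Cfsg.Agent.Helper2.S3086Basic

/-! S3086: characteristic 2 helpers. -/

set_option autoImplicit false

namespace Cfsg.Agent.S3086P

universe u

variable {p : ℕ} {V : Type u} [AddCommGroup V] [Module (ZMod p) V]

/-- characteristic 2 in `V` -/
theorem char2_vec (hp : p = 2) (v : V) : v + v = 0 := by
  subst hp
  have h : (2 : ZMod 2) = 0 := rfl
  rw [← two_smul (ZMod 2) v, h, zero_smul]

/-- characteristic 2 in `End(V)` -/
theorem char2_end (hp : p = 2) (f : Module.End (ZMod p) V) : f + f = 0 := by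
  subst hp
  have h : (2 : ZMod 2) = 0 := rfl
  rw [← two_smul (ZMod 2) f, h, zero_smul]

/-- in characteristic 2, `x · t_x = N_x²` -/
theorem toE_mul_tx (hp : p = 2) (x : GLV p V) : toE x * tx x = Nop x * Nop x := by
  unfold tx Nop
  rw [mul_add, toE_mul_inv]
  have e : (toE x - 1) * (toE x - 1) = toE x * toE x + 1 - (toE x + toE x) := by noncomm_ring
  rw [e, char2_end hp, sub_zero]

/-- `t_x` commutes with `x` -/
theorem tx_comm_self (x : GLV p V) : tx x * toE x = toE x * tx x := by
  unfold tx
  rw [add_mul, mul_add, toE_inv_mul, toE_mul_inv]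

/-- an element of order 2 -/
theorem inv_eq_self_of_sq {a : GLV p V} (ha : a * a = 1) : a⁻¹ = a := inv_eq_of_mul_eq_one_left ha

end Cfsg.Agent.S3086P
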