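import Mathlib
import Cfsg.Agent.Helper2.S3086Defs
import Cfsg.Agent.Helper2.S3086Basic
import Cfsg.Agent.Helper2.S3086Defs2
import Cfsg.Agent.Helper2.S3086Char2
import Cfsg.Agent.Helper15.S3086COP
import Cfsg.Agent.Helper16.S3086QS1

/-! Board `s3086pieces`, piece STR1. -/

set_option autoImplicit false

namespace Cfsg.Agent.S3086P

universe u

variable {p : ℕ} [Fact p.Prime] {V : Type u} [AddCommGroup V] [Module (ZMod p) V] [Finite V]
variable {K : Subgroup (GLV p V)}

/-- STR1 (M/L): for a non-central `x ∈ K` of odd order, `C_V(x) = C_V(K)`, `[V,x] = [V,K]`, `V = C_V(K) ⊕ [V,K]`. -/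
theorem STR1 (hp : p = 2) (hK : Cfsg.IsQuasisimple ↥K) {a : GLV p V} (hTC : TC K a) {x : GLV p V} (hx : x ∈ K)
    (hodd : Odd (orderOf x)) (hnc : ∃ y ∈ K, x * y ≠ y * x) :
    LinearMap.ker (Nop x) = fixS K ∧ LinearMap.range (Nop x) = comV K ∧ fixS K ⊓ comV K = ⊥ ∧ fixS K ⊔ comV K = ⊤ := by
  have hcop : (orderOf x).Coprime p := by
    have h2 : (orderOf x).Coprime 2 := Nat.Coprime.symm (Nat.coprime_two_left.mpr hodd)
    exact hp.symm ▸ h2
  obtain ⟨hinf, hsup⟩ := COP hcop
  obtain ⟨-, htK, -, -⟩ := hTC x hx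
  -- `ker N_x² = ker N_x`
  have hker2 : ∀ w : V, Nop x (Nop x w) = 0 → Nop x w = 0 := by
    intro w hw
    have h1 : Nop x w ∈ LinearMap.ker (Nop x) ⊓ LinearMap.range (Nop x) :=
      ⟨LinearMap.mem_ker.mpr hw, ⟨w, rfl⟩⟩
    rw [hinf] at h1
    exact (Submodule.mem_bot _).mp h1
  -- `t_x` kills `ker N_x`
  have htker : ∀ v : V, x v = v → tx x v = 0 := by
    intro v hv
    have h2 : x⁻¹ v = v := by
      have := x.symm_apply_apply v
      rw [hv] at this
      exact this
    show toE x v + toE x⁻¹ v = 0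
    rw [toE_apply, toE_apply, hv, h2]
    exact char2_vec hp v
  -- `ker N_x` is `K`-invariant
  have hFinv : ∀ y ∈ K, ∀ v : V, x v = v → x (y v) = y v := by
    intro y hy v hv
    have h1 : tx x (y v) = 0 := by
      have := congrArg (fun f : Module.End (ZMod p) V => f v) (htK y hy).eq
      simp only [Module.End.mul_apply, toE_apply] at this
      rw [this, htker v hv, map_zero]
    have h2 : Nop x (Nop x (y v)) = 0 := by
      have := congrArg (fun f : Module.End (ZMod p) V => f (y v)) (toE_mul_tx hp x)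
      simp only [Module.End.mul_apply] at this
      rw [← this, h1, map_zero]
    exact mem_ker_Nop.mp (LinearMap.mem_ker.mpr (hker2 _ h2))
  -- the kernel of `K` on `F = ker N_x`
  let F : Submodule (ZMod p) V := LinearMap.ker (Nop x)
  have hFmem : ∀ v : V, v ∈ F ↔ x v = v := fun v => mem_ker_Nop
  let N : Subgroup (GLV p V) := K ⊓ centS F
  have hNK : N ≤ K := inf_le_left
  have hxN : x ∈ N := ⟨hx, fun w hw => (hFmem w).mp hw⟩
  have hNnorm : ∀ k ∈ K, ∀ n ∈ N, k * n * k⁻¹ ∈ N := by
    intro k hk n hn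
    refine ⟨K.mul_mem (K.mul_mem hk hn.1) (K.inv_mem hk), ?_⟩
    intro w hw
    have h1 : k⁻¹ w ∈ F := (hFmem _).mpr (hFinv k⁻¹ (K.inv_mem hk) w ((hFmem w).mp hw))
    show k (n (k⁻¹ w)) = w
    rw [hn.2 _ h1]
    exact k.apply_symm_apply w
  have hNeq : N = K := by
    by_contra hne
    have hcent := QS_normal_central hK hNK hne hNnorm
    obtain ⟨y, hy, hxy⟩ := hnc
    exact hxy (hcent x hxN y hy)
  have hKF : K ≤ centS F := by
    intro k hk
    have : k ∈ N := hNeq ▸ hk
    exact this.2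
  have h1 : LinearMap.ker (Nop x) = fixS K := by
    apply le_antisymm
    · intro v hv k hk
      exact hKF hk v hv
    · intro v hv
      exact mem_ker_Nop.mpr (hv x hx)
  -- `R = range N_x = range t_x` is `K`-invariant
  have hRt : ∀ w : V, ∃ w' : V, Nop x w = tx x w' := by
    intro w
    -- `N_x` is injective on `R`, hence surjective on `R`
    let R : Submodule (ZMod p) V := LinearMap.range (Nop x)
    have hmaps : ∀ r ∈ R, Nop x r ∈ R := fun r _ => ⟨r, rfl⟩
    let f : ↥R →ₗ[ZMod p] ↥R := (Nop x).restrict hmaps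
    have hinj : Function.Injective f := by
      rw [← LinearMap.ker_eq_bot, LinearMap.ker_eq_bot']
      intro r hr
      have h2 : Nop x (r : V) = 0 := by
        have := congrArg Subtype.val hr
        simpa [f] using this
      obtain ⟨w0, hw0⟩ := r.2
      have h3 : Nop x w0 = 0 := hker2 w0 (by rw [hw0]; exact h2)
      apply Subtype.ext
      rw [← hw0, h3]; rfl
    have hsurj : Function.Surjective f := Finite.injective_iff_surjective.mp hinj
    obtain ⟨r, hr⟩ := hsurj ⟨Nop x w, ⟨w, rfl⟩⟩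
    obtain ⟨w0, hw0⟩ := r.2
    have h4 : Nop x (Nop x w0) = Nop x w := by
      have := congrArg Subtype.val hr
      simp only [f, LinearMap.coe_restrict_apply] at this
      rw [hw0]; exact this
    refine ⟨x w0, ?_⟩
    have h5 := congrArg (fun g : Module.End (ZMod p) V => g w0) (toE_mul_tx hp x)
    simp only [Module.End.mul_apply] at h5
    have h6 := congrArg (fun g : Module.End (ZMod p) V => g w0) (tx_comm_self x)
    simp only [Module.End.mul_apply, toE_apply] at h6
    rw [h6, ← h4, ← h5]; rfl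
  have hRinv : ∀ y ∈ K, ∀ w : V, ∃ w' : V, y (Nop x w) = Nop x w' := by
    intro y hy w
    obtain ⟨w1, hw1⟩ := hRt w
    -- `y (t w1) = t (y w1)`, and `t u = N_x (N_x (x⁻¹ u))`
    have h1 : y (tx x w1) = tx x (y w1) := by
      have := congrArg (fun f : Module.End (ZMod p) V => f w1) (htK y hy).eq
      simp only [Module.End.mul_apply, toE_apply] at this
      exact this.symm
    have h2 : ∀ u : V, tx x u = Nop x (Nop x (x⁻¹ u)) := by
      intro u
      have h5 : toE x (tx x (x⁻¹ u)) = Nop x (Nop x (x⁻¹ u)) :=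
        congrArg (fun g : Module.End (ZMod p) V => g (x⁻¹ u)) (toE_mul_tx hp x)
      have h6 : tx x (toE x (x⁻¹ u)) = toE x (tx x (x⁻¹ u)) :=
        congrArg (fun g : Module.End (ZMod p) V => g (x⁻¹ u)) (tx_comm_self x)
      have h7 : toE x (x⁻¹ u) = u := by
        rw [toE_apply]; exact x.apply_symm_apply u
      rw [← h5, ← h6, h7]
    refine ⟨Nop x (x⁻¹ (y w1)), ?_⟩
    rw [hw1, h1, h2]
  have h2 : LinearMap.range (Nop x) = comV K := by
    apply le_antisymm (range_Nop_le_comV hx)
    unfold comV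
    rw [Submodule.span_le]
    rintro w ⟨y, hy, v, rfl⟩
    -- `v = f + r`
    have hv : v ∈ LinearMap.ker (Nop x) ⊔ LinearMap.range (Nop x) := by rw [hsup]; trivial
    obtain ⟨f0, hf0, r0, hr0, rfl⟩ := Submodule.mem_sup.mp hv
    obtain ⟨w0, rfl⟩ := hr0
    have hf1 : y f0 = f0 := by
      have : f0 ∈ fixS K := h1 ▸ hf0
      exact this y hy
    obtain ⟨w', hw'⟩ := hRinv y hy w0
    have e : y (f0 + Nop x w0) - (f0 + Nop x w0) = Nop x (w' - w0) := by
      rw [map_add, hf1, hw', map_sub]; abel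
    rw [e]
    exact ⟨_, rfl⟩
  refine ⟨h1, h2, ?_, ?_⟩
  · rw [← h1, ← h2]; exact hinf
  · rw [← h1, ← h2]; exact hsup

end Cfsg.Agent.S3086P
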