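import Mathlib
import Cfsg.Agent.Helper2.S3086Defs
import Cfsg.Agent.Helper2.S3086Basic

/-! Board `s3086pieces`: transport of `fixS`, `comV` under conjugation; product formula for invariant decompositions.
(no dependencies beyond Defs/Basic) -/

set_option autoImplicit false

namespace Cfsg.Agent.S3086P

universe u

variable {p : ℕ} {V : Type u} [AddCommGroup V] [Module (ZMod p) V]

theorem VM_aux_inv_apply (g : GLV p V) (v : V) : g⁻¹ (g v) = v := g.symm_apply_apply v

theorem VM_aux_apply_inv (g : GLV p V) (v : V) : g (g⁻¹ v) = v := g.apply_symm_apply v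

/-- `C_V(g K g⁻¹) = g C_V(K)` -/
theorem VM_aux_fix_cjg (g : GLV p V) (K : Subgroup (GLV p V)) (v : V) :
    v ∈ fixS (cjg g K) ↔ g⁻¹ v ∈ fixS K := by
  constructor
  · intro hv k hk
    have h1 : (g * k * g⁻¹) v = v := hv (g * k * g⁻¹) (conj_mem_cjg hk)
    have h2 : g (k (g⁻¹ v)) = v := h1
    calc k (g⁻¹ v) = g⁻¹ (g (k (g⁻¹ v))) := (VM_aux_inv_apply g _).symm
      _ = g⁻¹ v := by rw [h2]
  · intro hv y hy
    have hk : g⁻¹ * y * g ∈ K := mem_cjg.mp hy
    have h1 : (g⁻¹ * y * g) (g⁻¹ v) = g⁻¹ v := hv _ hk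
    have h2 : g⁻¹ (y (g (g⁻¹ v))) = g⁻¹ v := h1
    rw [VM_aux_apply_inv] at h2
    exact g⁻¹.injective h2

/-- `g [V,K] ≤ [V, g K g⁻¹]` -/
theorem VM_aux_com_map (g : GLV p V) (K : Subgroup (GLV p V)) {v : V} (hv : v ∈ comV K) :
    g v ∈ comV (cjg g K) := by
  unfold comV at hv
  induction hv using Submodule.span_induction with
  | mem w hw =>
    obtain ⟨k, hk, u, rfl⟩ := hw
    have e : g (k u - u) = (g * k * g⁻¹) (g u) - g u := by
      rw [map_sub]
      show _ = g (k (g⁻¹ (g u))) - g u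
      rw [VM_aux_inv_apply]
    rw [e]
    exact mem_comV (conj_mem_cjg hk) (g u)
  | zero => rw [map_zero]; exact Submodule.zero_mem _
  | add u w _ _ hu hw => rw [map_add]; exact Submodule.add_mem _ hu hw
  | smul c u _ hu => rw [map_smul]; exact Submodule.smul_mem _ c hu

/-- `[V, g K g⁻¹] = g [V,K]` -/
theorem VM_aux_com_cjg (g : GLV p V) (K : Subgroup (GLV p V)) (v : V) :
    v ∈ comV (cjg g K) ↔ g⁻¹ v ∈ comV K := by
  constructor
  · intro hv
    have h1 := VM_aux_com_map g⁻¹ (cjg g K) hv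
    rwa [cjg_mul, inv_mul_cancel, cjg_one] at h1
  · intro hv
    have h1 := VM_aux_com_map g K hv
    rwa [VM_aux_apply_inv] at h1

/-- an element normalising `K` stabilises `C_V(K)` -/
theorem VM_aux_stab_fix {g : GLV p V} {K : Subgroup (GLV p V)} (h : cjg g K = K) : g ∈ stabS (fixS K) := by
  intro w
  have h1 := VM_aux_fix_cjg g K (g w)
  rw [h, VM_aux_inv_apply] at h1
  exact h1.symm

/-- an element normalising `K` stabilises `[V,K]` -/
theorem VM_aux_stab_com {g : GLV p V} {K : Subgroup (GLV p V)} (h : cjg g K = K) : g ∈ stabS (comV K) := by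
  intro w
  have h1 := VM_aux_com_cjg g K (g w)
  rw [h, VM_aux_inv_apply] at h1
  exact h1.symm

/-- elements of `K` normalise `K` -/
theorem VM_aux_cjg_self {g : GLV p V} {K : Subgroup (GLV p V)} (hg : g ∈ K) : cjg g K = K := by
  apply le_antisymm
  · intro y hy
    have h1 := mem_cjg.mp hy
    have : y = g * (g⁻¹ * y * g) * g⁻¹ := by group
    rw [this]
    exact K.mul_mem (K.mul_mem hg h1) (K.inv_mem hg)
  · intro y hy
    apply mem_cjg.mpr
    exact K.mul_mem (K.mul_mem (K.inv_mem hg) hy) hg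

/-- elements commuting with `K` normalise `K` -/
theorem VM_aux_cjg_comm {g : GLV p V} {K L : Subgroup (GLV p V)} (h : CommS K L) (hg : g ∈ L) : cjg g K = K := by
  have key : ∀ y : GLV p V, y ∈ K → g⁻¹ * y * g = y := by
    intro y hy
    have := h y hy g hg
    rw [mul_assoc, this, ← mul_assoc, inv_mul_cancel, one_mul]
  apply le_antisymm
  · intro y hy
    have h1 := mem_cjg.mp hy
    have h2 := key _ h1
    have h3 : g⁻¹ * y * g = y := by
      have e : g⁻¹ * (g⁻¹ * y * g) * g = g⁻¹ * y * g := h2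
      have : g⁻¹ * y * g = g * (g⁻¹ * (g⁻¹ * y * g) * g) * g⁻¹ := by group
      rw [e] at this
      have e2 : g * (g⁻¹ * y * g) * g⁻¹ = y := by group
      rw [e2] at this
      exact this
    rw [← h3]; exact h1
  · intro y hy
    apply mem_cjg.mpr
    rw [key y hy]; exact hy

/-- product formula: if `F ⊓ C = ⊥`, `F ⊔ C = ⊤` and `X` stabilises both, then `|C_V(X)| = |C_F(X)| |C_C(X)|` -/
theorem VM_aux_card_split [Finite V] {F C : Submodule (ZMod p) V} (hinf : F ⊓ C = ⊥) (hsup : F ⊔ C = ⊤)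
    {X : Subgroup (GLV p V)} (hXF : X ≤ stabS F) (hXC : X ≤ stabS C) :
    Nat.card ↥(fixS X) = Nat.card ↥(fixS X ⊓ F) * Nat.card ↥(fixS X ⊓ C) := by
  rw [← Nat.card_prod]
  symm
  let φ : (↥(fixS X ⊓ F) × ↥(fixS X ⊓ C)) → ↥(fixS X) := fun fc =>
    ⟨(fc.1 : V) + (fc.2 : V), (fixS X).add_mem fc.1.2.1 fc.2.2.1⟩
  have hinj : Function.Injective φ := by
    rintro ⟨⟨f, hf⟩, ⟨c, hc⟩⟩ ⟨⟨f', hf'⟩, ⟨c', hc'⟩⟩ h
    have h1 : f + c = f' + c' := congrArg Subtype.val h
    have h2 : f - f' = c' - c := by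
      have : f - f' = (f + c) - (f' + c) := by abel
      rw [this, h1]; abel
    have h3 : f - f' ∈ F ⊓ C := ⟨F.sub_mem hf.2 hf'.2, h2 ▸ C.sub_mem hc'.2 hc.2⟩
    rw [hinf] at h3
    have h4 : f - f' = 0 := (Submodule.mem_bot _).mp h3
    have h5 : c' - c = 0 := h2 ▸ h4
    have e1 : f = f' := sub_eq_zero.mp h4
    have e2 : c = c' := (sub_eq_zero.mp h5).symm
    subst e1; subst e2; rfl
  have hsurj : Function.Surjective φ := by
    rintro ⟨v, hv⟩
    have hv' : v ∈ F ⊔ C := by rw [hsup]; trivial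
    obtain ⟨f, hf, c, hc, rfl⟩ := Submodule.mem_sup.mp hv'
    have hfix : ∀ g ∈ X, g f = f ∧ g c = c := by
      intro g hg
      have h1 : g f + g c = f + c := by rw [← map_add]; exact hv g hg
      have hgf : g f ∈ F := (hXF hg f).mp hf
      have hgc : g c ∈ C := (hXC hg c).mp hc
      have h2 : g f - f = c - g c := by
        have : g f - f = (g f + g c) - (f + g c) := by abel
        rw [this, h1]; abel
      have h3 : g f - f ∈ F ⊓ C := ⟨F.sub_mem hgf hf, h2 ▸ C.sub_mem hc hgc⟩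
      rw [hinf] at h3
      have h4 : g f - f = 0 := (Submodule.mem_bot _).mp h3
      have h5 : c - g c = 0 := h2 ▸ h4
      exact ⟨sub_eq_zero.mp h4, (sub_eq_zero.mp h5).symm⟩
    refine ⟨⟨⟨f, fun g hg => (hfix g hg).1, hf⟩, ⟨c, fun g hg => (hfix g hg).2, hc⟩⟩, rfl⟩
  exact Nat.card_congr (Equiv.ofBijective φ ⟨hinj, hsurj⟩)

end Cfsg.Agent.S3086P
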