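import Mathlib
import Cfsg.Agent.Helper2.S3086Defs
import Cfsg.Agent.Helper2.S3086Basic
import Cfsg.Agent.Helper2.S3086Defs2
import Cfsg.Agent.Helper2.S3086Char2
import Cfsg.Agent.Helper2.S3086VMaux
import Cfsg.Agent.Helper2.S3086STR1
import Cfsg.Agent.Helper2.S3086LEMT
import Cfsg.Agent.Helper24.S3086QS2
import Cfsg.Agent.Helper11.S3086REDUCE
import Cfsg.Agent.Helper11.S3086R4

/-! Board `s3086pieces`, piece VM. -/

set_option autoImplicit false

namespace Cfsg.Agent.S3086P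

universe u

variable {p : ℕ} [Fact p.Prime] {V : Type u} [AddCommGroup V] [Module (ZMod p) V] [Finite V]
variable {K A : Subgroup (GLV p V)}

/-- index two: `A = B ∪ aB` -/
theorem VM_aux_index_two {G : Type*} [Group G] [Finite G] {A B : Subgroup G} (hBA : B ≤ A)
    (hcard : Nat.card ↥A = 2 * Nat.card ↥B) {a : G} (ha : a ∈ A) (haB : a ∉ B) :
    ∀ a' ∈ A, a' ∈ B ∨ a⁻¹ * a' ∈ B := by
  intro a' ha'
  have hidx : (B.subgroupOf A).index = 2 := by
    have h1 := Subgroup.card_mul_index (B.subgroupOf A)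
    have h2 : Nat.card ↥(B.subgroupOf A) = Nat.card ↥B := Nat.card_congr (Subgroup.subgroupOfEquivOfLe hBA).toEquiv
    rw [h2, hcard] at h1
    have hpos : 0 < Nat.card ↥B := Nat.card_pos
    have : Nat.card ↥B * (B.subgroupOf A).index = Nat.card ↥B * 2 := by rw [h1]; ring
    exact Nat.eq_of_mul_eq_mul_left hpos this
  obtain ⟨a₀, h0⟩ := Subgroup.index_eq_two_iff.mp hidx
  by_cases hB : a' ∈ B
  · exact Or.inl hB
  · right
    have h1 := h0 ⟨a, ha⟩
    have h2 := h0 ⟨a', ha'⟩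
    have h1' : (⟨a, ha⟩ : ↥A) * a₀ ∈ B.subgroupOf A := by
      rcases h1 with ⟨h, -⟩ | ⟨h, -⟩
      · exact h
      · exact absurd (Subgroup.mem_subgroupOf.mp h) haB
    have h2' : (⟨a', ha'⟩ : ↥A) * a₀ ∈ B.subgroupOf A := by
      rcases h2 with ⟨h, -⟩ | ⟨h, -⟩
      · exact h
      · exact absurd (Subgroup.mem_subgroupOf.mp h) hB
    have h3 : ((⟨a, ha⟩ : ↥A) * a₀)⁻¹ * ((⟨a', ha'⟩ : ↥A) * a₀) ∈ B.subgroupOf A :=
      (B.subgroupOf A).mul_mem ((B.subgroupOf A).inv_mem h1') h2'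
    have h4 := Subgroup.mem_subgroupOf.mp h3
    -- in an arbitrary group: (a a₀)⁻¹ (a' a₀) = a₀⁻¹ (a⁻¹ a') a₀; use normality of index two instead
    have hn : (B.subgroupOf A).Normal := Subgroup.normal_of_index_eq_two hidx
    have h5 : a₀ * (((⟨a, ha⟩ : ↥A) * a₀)⁻¹ * ((⟨a', ha'⟩ : ↥A) * a₀)) * a₀⁻¹ ∈ B.subgroupOf A :=
      hn.conj_mem _ h3 a₀
    have h6 : a₀ * (((⟨a, ha⟩ : ↥A) * a₀)⁻¹ * ((⟨a', ha'⟩ : ↥A) * a₀)) * a₀⁻¹ = (⟨a, ha⟩ : ↥A)⁻¹ * ⟨a', ha'⟩ := by group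
    rw [h6] at h5
    exact Subgroup.mem_subgroupOf.mp h5

/-- VM (L): structure S2: `C_V(K) = 0` in a minimal counterexample (reduction to `M = [V,K] = [V,aKa⁻¹]`). -/
theorem VM (M : MC p V K A) (hp : p = 2) {a b : GLV p V} (T : TP p V K a b) (ha : a ∈ A) (hb : b ∈ A) : fixS K = ⊥ := by
  by_contra hF
  have hTC : TC K a := LemT hp T
  have : Fact (Nat.Prime 2) := ⟨Nat.prime_two⟩
  obtain ⟨x, hxK, hxcop, hxnc⟩ := QS_exists_pprime T.hK 2
  have hodd : Odd (orderOf x) := Nat.coprime_two_right.mp hxcop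
  obtain ⟨hker, hrange, hinf, hsup⟩ := STR1 hp T.hK hTC hxK hodd hxnc
  have hainv : a⁻¹ = a := inv_eq_self_of_sq T.ha
  -- notation
  have hF2 : ∀ v : V, v ∈ fixS (cjg a K) ↔ a v ∈ fixS K := by
    intro v
    have := VM_aux_fix_cjg a K v
    rwa [hainv] at this
  have hC2 : ∀ v : V, v ∈ comV (cjg a K) ↔ a v ∈ comV K := by
    intro v
    have := VM_aux_com_cjg a K v
    rwa [hainv] at this
  have haa : ∀ v : V, a (a v) = v := by
    intro v
    have := VM_aux_inv_apply a v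
    rwa [hainv] at this
  have hinf2 : ∀ u : V, u ∈ fixS (cjg a K) → u ∈ comV (cjg a K) → u = 0 := by
    intro u h1 h2
    have h3 : a u ∈ fixS K ⊓ comV K := ⟨(hF2 u).mp h1, (hC2 u).mp h2⟩
    rw [hinf] at h3
    have h4 : a u = 0 := (Submodule.mem_bot _).mp h3
    have := haa u
    rw [h4, map_zero] at this
    exact this.symm
  have hdec2 : ∀ v : V, ∃ f ∈ fixS (cjg a K), ∃ c ∈ comV (cjg a K), v = f + c := by
    intro v
    have hv : a v ∈ fixS K ⊔ comV K := by rw [hsup]; trivial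
    obtain ⟨f, hf, c, hc, hfc⟩ := Submodule.mem_sup.mp hv
    refine ⟨a f, (hF2 _).mpr (by rw [haa]; exact hf), a c, (hC2 _).mpr (by rw [haa]; exact hc), ?_⟩
    rw [← map_add, hfc, haa]
  -- `K` stabilises `C_V(K₂)`, `[V,K₂]`; `K₂` stabilises `C_V(K)`, `[V,K]`
  have hKst : ∀ k ∈ K, cjg k (cjg a K) = cjg a K := fun k hk => VM_aux_cjg_comm T.hc.symm hk
  have hK2st : ∀ y ∈ cjg a K, cjg y K = K := fun y hy => VM_aux_cjg_comm T.hc hy
  -- Claim 1: `C_V(K) ∩ [V,K₂] = 0`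
  have hclaim1 : ∀ w : V, w ∈ fixS K → w ∈ comV (cjg a K) → w = 0 := by
    intro w hwF hwC
    have hx' : a * x * a⁻¹ ∈ cjg a K := conj_mem_cjg hxK
    obtain ⟨-, -, -, hD⟩ := hTC x hxK
    have h1 := hD w
    have hN : Nop a w = a w - w := by
      show toE a w - w = a w - w
      rfl
    rw [hN] at h1
    have h2 : (x * (a * x * a⁻¹)) (a w - w) = x ((a * x * a⁻¹) (a w)) - x ((a * x * a⁻¹) w) := by
      show x ((a * x * a⁻¹) (a w - w)) = _
      rw [map_sub, map_sub]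
    have h3 : (a * x * a⁻¹) (a w) = a w := by
      show a (x (a⁻¹ (a w))) = a w
      rw [VM_aux_inv_apply, hwF x hxK]
    have h4 : (a * x * a⁻¹) w ∈ fixS K := (VM_aux_stab_fix (hK2st _ hx') w).mp hwF
    have h5 : x ((a * x * a⁻¹) w) = (a * x * a⁻¹) w := h4 x hxK
    rw [h2, h3, h5] at h1
    -- `x (a w) - a w = x' w - w`
    have h6 : x (a w) - a w = (a * x * a⁻¹) w - w := by
      have : x (a w) - a w = (x (a w) - (a * x * a⁻¹) w) - (a w - w) + ((a * x * a⁻¹) w - w) := by abel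
      rw [this, h1]; abel
    have h7 : (a * x * a⁻¹) w - w ∈ fixS K ⊓ comV K :=
      ⟨(fixS K).sub_mem h4 hwF, h6 ▸ mem_comV hxK (a w)⟩
    rw [hinf] at h7
    have h8 : (a * x * a⁻¹) w = w := sub_eq_zero.mp ((Submodule.mem_bot _).mp h7)
    -- so `a w ∈ ker N_x = C_V(K)`
    have h9 : x (a⁻¹ w) = a⁻¹ w := by
      have e : a (x (a⁻¹ w)) = w := h8
      calc x (a⁻¹ w) = a⁻¹ (a (x (a⁻¹ w))) := (VM_aux_inv_apply a _).symm
        _ = a⁻¹ w := by rw [e]
    rw [hainv] at h9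
    have h10 : a w ∈ fixS K := by
      rw [← hker]; exact mem_ker_Nop.mpr h9
    exact hinf2 w ((hF2 w).mpr h10) hwC
  -- Claim 2: `C_V(K) ≤ C_V(K₂)`
  have hclaim2 : ∀ v : V, v ∈ fixS K → v ∈ fixS (cjg a K) := by
    intro v hv
    obtain ⟨f, hf, c, hc, rfl⟩ := hdec2 v
    have hcF : c ∈ fixS K := by
      intro k hk
      have h1 : k f + k c = f + c := by rw [← map_add]; exact hv k hk
      have hkf : k f ∈ fixS (cjg a K) := (VM_aux_stab_fix (hKst k hk) f).mp hf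
      have hkc : k c ∈ comV (cjg a K) := (VM_aux_stab_com (hKst k hk) c).mp hc
      have h2 : k f - f = c - k c := by
        have : k f - f = (k f + k c) - (f + k c) := by abel
        rw [this, h1]; abel
      have h3 : c - k c = 0 :=
        hinf2 _ (h2 ▸ (fixS (cjg a K)).sub_mem hkf hf) ((comV (cjg a K)).sub_mem hc hkc)
      exact (sub_eq_zero.mp h3).symm
    have hc0 : c = 0 := hclaim1 c hcF hc
    rw [hc0, add_zero]; exact hf
  -- `C_V(K₂) = C_V(K)`: `a` stabilises `C_V(K)`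
  have haF : ∀ v : V, v ∈ fixS K ↔ a v ∈ fixS K := by
    intro v
    constructor
    · intro hv
      exact (hF2 v).mp (hclaim2 v hv)
    · intro hv
      have := (hF2 (a v)).mp (hclaim2 (a v) hv)
      rwa [haa] at this
  have hFeq : ∀ v : V, v ∈ fixS (cjg a K) ↔ v ∈ fixS K := fun v => (hF2 v).trans (haF v).symm
  -- Claim 4: `[V,K] ≤ [V,K₂]`
  have hclaim4 : ∀ c : V, c ∈ comV K → c ∈ comV (cjg a K) := by
    intro c hc
    rw [← hrange] at hc
    obtain ⟨u, rfl⟩ := hc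
    obtain ⟨f, hf, c₂, hc₂, rfl⟩ := hdec2 u
    have hf' : x f = f := ((hFeq f).mp hf) x hxK
    have e : Nop x (f + c₂) = x c₂ - c₂ := by
      show toE x (f + c₂) - (f + c₂) = x c₂ - c₂
      rw [toE_apply, map_add, hf']; abel
    rw [e]
    exact (comV (cjg a K)).sub_mem ((VM_aux_stab_com (hKst x hxK) c₂).mp hc₂) hc₂
  have haC : ∀ v : V, v ∈ comV K ↔ a v ∈ comV K := by
    intro v
    constructor
    · intro hv
      exact (hC2 v).mp (hclaim4 v hv)
    · intro hv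
      have := (hC2 (a v)).mp (hclaim4 (a v) hv)
      rwa [haa] at this
  have hCeq : ∀ v : V, v ∈ comV (cjg a K) ↔ v ∈ comV K := fun v => (hC2 v).trans (haC v).symm
  have hFsub : fixS (cjg a K) = fixS K := Submodule.ext hFeq
  have hCsub : comV (cjg a K) = comV K := Submodule.ext hCeq
  -- Claim 5: `A` stabilises `C_V(K)` and `[V,K]`
  have hBA : A ⊓ Subgroup.normalizer (K : Set (GLV p V)) ≤ A := inf_le_left
  have hnorm_iff : ∀ g : GLV p V, g ∈ Subgroup.normalizer (K : Set (GLV p V)) ↔ cjg g K = K := by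
    intro g
    exact cjg_eq_iff.symm
  have haB : a ∉ A ⊓ Subgroup.normalizer (K : Set (GLV p V)) := by
    intro h
    exact T.hne ((hnorm_iff a).mp h.2)
  have hA2 := VM_aux_index_two hBA (R4 M hp) ha haB
  have hAcases : ∀ a' ∈ A, cjg a' K = K ∨ cjg a' K = cjg a K := by
    intro a' ha'
    rcases hA2 a' ha' with h | h
    · exact Or.inl ((hnorm_iff a').mp h.2)
    · right
      have h1 : cjg (a⁻¹ * a') K = K := (hnorm_iff _).mp h.2
      have hcomm : a * (a⁻¹ * a') = a' := by group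
      have h2 : cjg a (cjg (a⁻¹ * a') K) = cjg a' K := by rw [cjg_mul, hcomm]
      rw [← h2, h1]
  have hAF : A ≤ stabS (fixS K) := by
    intro a' ha'
    rcases hAcases a' ha' with h | h
    · exact VM_aux_stab_fix h
    · intro w
      have h1 := VM_aux_fix_cjg a' K (a' w)
      rw [h, VM_aux_inv_apply, hFsub] at h1
      exact h1.symm
  have hAC : A ≤ stabS (comV K) := by
    intro a' ha'
    rcases hAcases a' ha' with h | h
    · exact VM_aux_stab_com h
    · intro w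
      have h1 := VM_aux_com_cjg a' K (a' w)
      rw [h, VM_aux_inv_apply, hCsub] at h1
      exact h1.symm
  -- REDUCE with `W = [V,K]`
  have hCtop : comV K ≠ ⊤ := by
    intro h
    apply hF
    rw [h, inf_top_eq] at hinf
    exact hinf
  have hKC : K ≤ stabS (comV K) := fun k hk => VM_aux_stab_com (VM_aux_cjg_self hk)
  have hnt : ¬ K ≤ centS (comV K) := by
    intro h
    obtain ⟨y, hy, hxy⟩ := hxnc
    apply hxy
    have hx1 : x = 1 := by
      apply LinearEquiv.ext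
      intro v
      have hv : v ∈ fixS K ⊔ comV K := by rw [hsup]; trivial
      obtain ⟨f, hf, c, hc, rfl⟩ := Submodule.mem_sup.mp hv
      rw [map_add, hf x hxK, h hxK c hc]; rfl
    rw [hx1, one_mul, mul_one]
  have hbest : ∀ X : Subgroup (GLV p V), X ≤ A → A ⊓ centS (comV K) ≤ X →
      Nat.card ↥X * Nat.card ↥(fixS X ⊓ comV K) ≤ Nat.card ↥A * Nat.card ↥(fixS A ⊓ comV K) := by
    intro X hXA _
    have h1 := M.hyp.hbest X hXA
    unfold qv at h1
    rw [VM_aux_card_split hinf hsup (hXA.trans hAF) (hXA.trans hAC),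
      VM_aux_card_split hinf hsup hAF hAC] at h1
    have h2 : Nat.card ↥(fixS A ⊓ fixS K) ≤ Nat.card ↥(fixS X ⊓ fixS K) :=
      Nat.card_le_card_of_injective (Set.inclusion (inf_le_inf_right _ (fixS_anti hXA))) (Set.inclusion_injective _)
    have hpos : 0 < Nat.card ↥(fixS A ⊓ fixS K) := Nat.card_pos
    have h3 : Nat.card ↥(fixS A ⊓ fixS K) * (Nat.card ↥X * Nat.card ↥(fixS X ⊓ comV K)) ≤
        Nat.card ↥(fixS A ⊓ fixS K) * (Nat.card ↥A * Nat.card ↥(fixS A ⊓ comV K)) := by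
      calc Nat.card ↥(fixS A ⊓ fixS K) * (Nat.card ↥X * Nat.card ↥(fixS X ⊓ comV K))
          ≤ Nat.card ↥(fixS X ⊓ fixS K) * (Nat.card ↥X * Nat.card ↥(fixS X ⊓ comV K)) :=
            Nat.mul_le_mul_right _ h2
        _ = Nat.card ↥X * (Nat.card ↥(fixS X ⊓ fixS K) * Nat.card ↥(fixS X ⊓ comV K)) := by ring
        _ ≤ Nat.card ↥A * (Nat.card ↥(fixS A ⊓ fixS K) * Nat.card ↥(fixS A ⊓ comV K)) := h1
        _ = Nat.card ↥(fixS A ⊓ fixS K) * (Nat.card ↥A * Nat.card ↥(fixS A ⊓ comV K)) := by ring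
    exact Nat.le_of_mul_le_mul_left h3 hpos
  exact REDUCE M (comV K) hCtop K T.hK hKC hAC hnt M.hyp.hcomm ⟨a, ha, T.hne⟩ hbest

end Cfsg.Agent.S3086P
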