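import Mathlib
import Cfsg.Agent.Helper2.S3086Defs
import Cfsg.Agent.Helper2.S3086Basic
import Cfsg.Agent.Helper2.S3086Defs2
import Cfsg.Agent.Helper2.S3086LEMT
import Cfsg.Agent.Helper2.S3086STR1
import Cfsg.Agent.Helper2.S3086VM
import Cfsg.Agent.Helper16.S3086DIH
import Cfsg.Agent.Helper5.S3086QS4

/-! Board `s3086pieces`, piece FREE (alternative copy under the name `FREE_alt`, so that it cannot clash with the row owner's `FREE`). -/

set_option autoImplicit false

namespace Cfsg.Agent.S3086P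

universe u

variable {p : ℕ} [Fact p.Prime] {V : Type u} [AddCommGroup V] [Module (ZMod p) V] [Finite V]
variable {K A : Subgroup (GLV p V)}

/-- FREE (M/L): S4: `b` acts freely on `V`. -/
theorem FREE_alt (M : MC p V K A) (hp : p = 2) {a b : GLV p V} (T : TP p V K a b) (ha : a ∈ A) (hb : b ∈ A) :
    LinearMap.ker (Nop b) = LinearMap.range (Nop b) := by
  have hTC : TC K a := LemT hp T
  have hfix : fixS K = ⊥ := VM M hp T ha hb
  have hbn : ∀ x ∈ K, b * x * b⁻¹ ∈ K := by
    intro x hx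
    have := conj_mem_cjg (a := b) hx
    rwa [T.hbK] at this
  obtain ⟨x, hxK, hodd, hinv, hxnc⟩ := QS_baer_suzuki T.hK T.hb hbn T.hbn
  have hfpf : ∀ v : V, x v = v → v = 0 := by
    intro v hv
    have h1 := (STR1 hp T.hK hTC hxK hodd hxnc).1
    have h2 : v ∈ LinearMap.ker (Nop x) := mem_ker_Nop.mpr hv
    rw [h1, hfix] at h2
    exact (Submodule.mem_bot _).mp h2
  have hstab : ∀ g : GLV p V, g ∈ stabS (⊤ : Submodule (ZMod p) V) := by
    intro g w
    exact ⟨fun _ => Submodule.mem_top, fun _ => Submodule.mem_top⟩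
  obtain ⟨h1, -⟩ := DIH hp T.hb hinv hodd ⊤ (hstab b) (hstab x) (fun w _ hw => hfpf w hw)
  rw [top_inf_eq, Submodule.map_top] at h1
  exact h1

end Cfsg.Agent.S3086P
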