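import Mathlib
import Cfsg.Agent.Helper2.S3086Defs
import Cfsg.Agent.Helper2.S3086Basic
import Cfsg.Agent.Helper2.S3086Defs2
import Cfsg.Agent.Helper16.S3086HYPB
import Cfsg.Agent.Helper11.S3086R3

/-! Board `s3086pieces`, piece MKTP. -/

set_option autoImplicit false

namespace Cfsg.Agent.S3086P

universe u

variable {p : ℕ} [Fact p.Prime] {V : Type u} [AddCommGroup V] [Module (ZMod p) V] [Finite V]
variable {K A : Subgroup (GLV p V)}

/-- MKTP (M): how the pairs of Lemma T arise in a minimal counterexample. -/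
theorem MKTP (M : MC p V K A) (hp : p = 2) {a b : GLV p V} (ha : a ∈ A) (haK : cjg a K ≠ K) (hb : b ∈ A)
    (hbK : cjg b K = K) (hb1 : b ≠ 1) (hq : Nop a * Nop b = 0) : TP p V K a b := by
  have hsq : ∀ c ∈ A, c * c = 1 := by
    intro c hc
    have h := M.hyp.hAel.2 c hc
    have h2 : c ^ 2 = 1 := hp ▸ h
    rwa [pow_two] at h2
  refine ⟨M.hyp.hK, hsq a ha, hsq b hb, HYPB_aux_comm M.hyp ha hb, hq, haK,
    (M.hyp.hcomm a ha).resolve_left haK, hbK, ?_⟩
  intro hcen
  apply hb1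
  have h1 : b ∈ A ⊓ Subgroup.centralizer (K : Set (GLV p V)) := by
    refine ⟨hb, ?_⟩
    show b ∈ Subgroup.centralizer (K : Set (GLV p V))
    rw [Subgroup.mem_centralizer_iff]
    intro x hx
    exact (hcen x hx).symm
  rw [R3 M] at h1
  exact Subgroup.mem_bot.mp h1

end Cfsg.Agent.S3086P
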