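import Mathlib
import Cfsg.Agent.Helper2.S3086Defs
import Cfsg.Agent.Helper2.S3086Basic
import Cfsg.Agent.Helper2.S3086Defs2
import Cfsg.Agent.Helper27.S3086TIMM
import Cfsg.Agent.Helper16.S3086QUAD
import Cfsg.Agent.Helper2.S3086MKTP
import Cfsg.Agent.Helper2.S3086FREEalt

/-! Board `s3086pieces`, piece CASE2. -/

set_option autoImplicit false

namespace Cfsg.Agent.S3086P

universe u

variable {p : ℕ} [Fact p.Prime] {V : Type u} [AddCommGroup V] [Module (ZMod p) V] [Finite V]
variable {K A : Subgroup (GLV p V)}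

/-- CASE2 (M/L): `A* ≠ A` is impossible. -/
theorem CASE2 (M : MC p V K A) (hp : p = 2) (hne : Astar A ≠ A) : False := by
  obtain ⟨hst, hq, -⟩ := Hyp.star M.hyp
  have hle : Astar A ≤ A := Astar_le A
  have hlt : Nat.card ↥(Astar A) < Nat.card ↥A := by
    by_contra hcon
    push Not at hcon
    exact hne (Subgroup.eq_of_le_of_card_ge hle hcon)
  have hN : Norm (Astar A) K := M.ihA _ hlt hst
  -- `a` moving `K`
  have hmove : ∃ a ∈ A, cjg a K ≠ K := by
    by_contra hcon
    push Not at hcon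
    exact M.hnot hcon
  obtain ⟨a, ha, haK⟩ := hmove
  -- `1 ≠ b ∈ A*`
  obtain ⟨b, hb1⟩ := (Subgroup.ne_bot_iff_exists_ne_one.mp hst.hA1)
  have hbS : (b : GLV p V) ∈ Astar A := b.2
  have hbA : (b : GLV p V) ∈ A := hle hbS
  have hb1' : (b : GLV p V) ≠ 1 := fun h => hb1 (Subtype.ext h)
  have hquad := quad_star M.hyp
  have T : TP p V K a (b : GLV p V) := MKTP M hp ha haK hbA (hN _ hbS) hb1' (hquad a ha _ hbS).1
  have hfree := FREE_alt M hp T ha hbA
  -- `C_V(A*) = C_V(A)`
  have h1 : fixS (Astar A) ≤ fixS A := by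
    intro v hv
    have h2 : v ∈ LinearMap.ker (Nop (b : GLV p V)) := mem_ker_Nop.mpr (hv _ hbS)
    rw [hfree] at h2
    obtain ⟨u, rfl⟩ := h2
    intro a' ha'
    have h3 := congrArg (fun f : Module.End (ZMod p) V => f u) (hquad a' ha' _ hbS).1
    simp only [Module.End.mul_apply, LinearMap.zero_apply] at h3
    rw [Nop_apply] at h3
    exact sub_eq_zero.mp h3
  have h2 : fixS (Astar A) = fixS A := le_antisymm h1 (fixS_anti hle)
  unfold qv at hq
  rw [h2] at hq
  have hpos : 0 < Nat.card ↥(fixS A) := Nat.card_pos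
  have := Nat.eq_of_mul_eq_mul_right hpos hq
  omega

end Cfsg.Agent.S3086P
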