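import Mathlib
import Cfsg.Agent.Helper2.S3086Defs
import Cfsg.Agent.Helper2.S3086Basic
import Cfsg.Agent.Helper2.S3086Defs2
import Cfsg.Agent.Helper2.S3086Char2
import Cfsg.Agent.Helper2.S3086VMaux
import Cfsg.Agent.Helper2.S3086LEMT
import Cfsg.Agent.Helper16.S3086DIH
import Cfsg.Agent.Helper2.S3086STR1
import Cfsg.Agent.Helper2.S3086VM
import Cfsg.Agent.Helper10.S3086QS3
import Cfsg.Agent.Helper15.S3086COP

/-! Board `s3086pieces`, piece CNT8 (S5 of the blueprint): `|V| ≥ 8 |[V,a]|²`. -/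

set_option autoImplicit false

namespace Cfsg.Agent.S3086P

universe u

variable {p : ℕ} [Fact p.Prime] {V : Type u} [AddCommGroup V] [Module (ZMod p) V] [Finite V]
variable {K A : Subgroup (GLV p V)}

/-- rank–nullity in terms of cardinalities -/
theorem CNT8_aux_card_ker_range (f : Module.End (ZMod p) V) :
    Nat.card V = Nat.card ↥(LinearMap.ker f) * Nat.card ↥(LinearMap.range f) := by
  rw [Submodule.card_eq_card_quotient_mul_card (LinearMap.ker f)]
  congr 1
  exact Nat.card_congr (LinearMap.quotKerEquivRange f).toEquiv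

theorem CNT8_aux_comm_apply {g h : GLV p V} (hc : g * h = h * g) (w : V) : h (g w) = g (h w) :=
  (congrArg (fun t : GLV p V => t w) hc).symm

/-- a commuting element stabilises the fixed space -/
theorem CNT8_aux_stab_ker {g h : GLV p V} (hc : g * h = h * g) : g ∈ stabS (LinearMap.ker (Nop h)) := by
  intro w
  rw [mem_ker_Nop, mem_ker_Nop, CNT8_aux_comm_apply hc]
  constructor
  · intro hw; rw [hw]
  · intro hw; exact g.injective hw

theorem CNT8_aux_range_map {g h : GLV p V} (hc : g * h = h * g) {w : V} (hw : w ∈ LinearMap.range (Nop h)) :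
    g w ∈ LinearMap.range (Nop h) := by
  obtain ⟨u, rfl⟩ := hw
  refine ⟨g u, ?_⟩
  rw [Nop_apply, Nop_apply, CNT8_aux_comm_apply hc, map_sub]

/-- a commuting element stabilises the commutator space -/
theorem CNT8_aux_stab_range {g h : GLV p V} (hc : g * h = h * g) : g ∈ stabS (LinearMap.range (Nop h)) := by
  intro w
  constructor
  · exact CNT8_aux_range_map hc
  · intro hw
    have hc' : g⁻¹ * h = h * g⁻¹ := (Commute.inv_left (show Commute g h from hc)).eq
    have := CNT8_aux_range_map hc' hw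
    rwa [VM_aux_inv_apply] at this

/-- an element of odd order is a power of its square: fixed points of `x²` are fixed points of `x` -/
theorem CNT8_aux_sq_fix {x : GLV p V} (hodd : Odd (orderOf x)) {v : V} (hv : x (x v) = v) : x v = v := by
  obtain ⟨m, hm⟩ := hodd
  have h1 : ∀ k : ℕ, (x ^ (2 * k)) v = v := by
    intro k
    induction k with
    | zero => simp
    | succ k ih =>
      have e : x ^ (2 * (k + 1)) = x ^ (2 * k) * (x * x) := by
        rw [show 2 * (k + 1) = 2 * k + 2 by ring, pow_add, pow_two]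
      rw [e]
      show (x ^ (2 * k)) (x (x v)) = v
      rw [hv, ih]
  have h2 : x ^ (2 * (m + 1)) = x := by
    have e : 2 * (m + 1) = orderOf x + 1 := by omega
    rw [e, pow_succ, pow_orderOf_eq_one, one_mul]
  have := h1 (m + 1)
  rwa [h2] at this

/-- a subspace in characteristic 2 with more than 4 elements has at least 8 -/
theorem CNT8_aux_card8 (hp : p = 2) (W : Submodule (ZMod p) V) (h : 4 < Nat.card ↥W) : 8 ≤ Nat.card ↥W := by
  subst hp
  have h1 : Nat.card ↥W = 2 ^ Module.finrank (ZMod 2) ↥W := by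
    rw [Module.natCard_eq_pow_finrank (K := ZMod 2), Nat.card_zmod]
  rw [h1] at h ⊢
  generalize Module.finrank (ZMod 2) ↥W = k at h ⊢
  have hk : 3 ≤ k := by
    by_contra hk
    push Not at hk
    have : 2 ^ k ≤ 2 ^ 2 := Nat.pow_le_pow_right (by norm_num) (by omega)
    omega
  calc 8 = 2 ^ 3 := by norm_num
    _ ≤ 2 ^ k := Nat.pow_le_pow_right (by norm_num) hk

/-- CNT8 (L): S5: `|V| ≥ 8 |[V,a]|²`. -/
theorem CNT8 (M : MC p V K A) (hp : p = 2) {a b : GLV p V} (T : TP p V K a b) (ha : a ∈ A) (hb : b ∈ A) :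
    8 * Nat.card ↥(LinearMap.range (Nop a)) ^ 2 ≤ Nat.card V := by
  have hTC : TC K a := LemT hp T
  have hfix : fixS K = ⊥ := VM M hp T ha hb
  obtain ⟨x, hxK, hodd, y, hyK, hxy3⟩ := QS_not_23 T.hK
  -- `x` and `x³` are non-central of odd order, hence fixed-point-free
  have hxnc : ∃ y ∈ K, x * y ≠ y * x := by
    refine ⟨y, hyK, ?_⟩
    intro h
    apply hxy3
    have hc : Commute x y := h
    exact (hc.pow_left 3).eq
  have hx3K : x ^ 3 ∈ K := K.pow_mem hxK 3
  have hodd3 : Odd (orderOf (x ^ 3)) := Odd.of_dvd_nat hodd (orderOf_pow_dvd 3)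
  have hfpf : ∀ v : V, x v = v → v = 0 := by
    intro v hv
    have h1 := (STR1 hp T.hK hTC hxK hodd hxnc).1
    have h2 : v ∈ LinearMap.ker (Nop x) := mem_ker_Nop.mpr hv
    rw [h1, hfix] at h2
    exact (Submodule.mem_bot _).mp h2
  have hfpf3 : ∀ v : V, x (x (x v)) = v → v = 0 := by
    intro v hv
    have h1 := (STR1 hp T.hK hTC hx3K hodd3 ⟨y, hyK, hxy3⟩).1
    have h2 : v ∈ LinearMap.ker (Nop (x ^ 3)) := by
      apply mem_ker_Nop.mpr
      have e : x ^ 3 = x * (x * x) := by rw [pow_succ, pow_two, mul_assoc]; 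
      rw [e]; exact hv
    rw [h1, hfix] at h2
    exact (Submodule.mem_bot _).mp h2
  have hfpf2 : ∀ v : V, x (x v) = v → v = 0 := fun v hv => hfpf v (CNT8_aux_sq_fix hodd hv)
  -- the elements `x' = a x a⁻¹`, `g₊ = x x'`, `g₋ = x⁻¹ x'`
  have hainv : a⁻¹ = a := inv_eq_self_of_sq T.ha
  have hx'K : a * x * a⁻¹ ∈ cjg a K := conj_mem_cjg hxK
  have hxx' : x * (a * x * a⁻¹) = (a * x * a⁻¹) * x := T.hc x hxK _ hx'K
  have hcx' : Commute x (a * x * a⁻¹) := hxx'
  have hax' : a * (a * x * a⁻¹) * a⁻¹ = x := by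
    have e : a * (a * x * a⁻¹) * a⁻¹ = (a * a) * x * (a * a)⁻¹ := by group
    rw [e, T.ha]; group
  have hn : x ^ orderOf x = 1 := pow_orderOf_eq_one x
  have hn' : (a * x * a⁻¹) ^ orderOf x = 1 := by rw [conj_pow, hn]; group
  have hgp_pow : (x * (a * x * a⁻¹)) ^ orderOf x = 1 := by rw [hcx'.mul_pow, hn, hn', one_mul]
  have hgm_pow : (x⁻¹ * (a * x * a⁻¹)) ^ orderOf x = 1 := by
    rw [(hcx'.inv_left).mul_pow, inv_pow, hn, hn', inv_one, one_mul]
  have hgp_odd : Odd (orderOf (x * (a * x * a⁻¹))) := Odd.of_dvd_nat hodd (orderOf_dvd_of_pow_eq_one hgp_pow)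
  have hgm_odd : Odd (orderOf (x⁻¹ * (a * x * a⁻¹))) := Odd.of_dvd_nat hodd (orderOf_dvd_of_pow_eq_one hgm_pow)
  have hcop : (orderOf (x * (a * x * a⁻¹))).Coprime p := by
    have h2 : (orderOf (x * (a * x * a⁻¹))).Coprime 2 := Nat.coprime_two_right.mpr hgp_odd
    exact hp.symm ▸ h2
  obtain ⟨hinf, hsup⟩ := COP hcop
  -- `a` commutes with `g₊` and inverts `g₋`
  have ha_gp : a * (x * (a * x * a⁻¹)) = (x * (a * x * a⁻¹)) * a := by
    have e : a * (x * (a * x * a⁻¹)) = ((a * x * a⁻¹) * (a * (a * x * a⁻¹) * a⁻¹)) * a := by group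
    rw [e, hax', ← hxx']
  have ha_gm : a * (x⁻¹ * (a * x * a⁻¹)) * a⁻¹ = (x⁻¹ * (a * x * a⁻¹))⁻¹ := by
    have e : a * (x⁻¹ * (a * x * a⁻¹)) * a⁻¹ = (a * x * a⁻¹)⁻¹ * (a * (a * x * a⁻¹) * a⁻¹) := by group
    rw [e, hax']; group
  have hx_gp : x * (x * (a * x * a⁻¹)) = (x * (a * x * a⁻¹)) * x :=
    ((Commute.refl x).mul_right hcx').eq
  have hgm_gp : (x⁻¹ * (a * x * a⁻¹)) * (x * (a * x * a⁻¹)) = (x * (a * x * a⁻¹)) * (x⁻¹ * (a * x * a⁻¹)) := by
    have h1 : Commute (x⁻¹ * (a * x * a⁻¹)) x := (Commute.refl x).inv_left.mul_left hcx'.symm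
    have h2 : Commute (x⁻¹ * (a * x * a⁻¹)) (a * x * a⁻¹) := hcx'.inv_left.mul_left (Commute.refl _)
    exact (h1.mul_right h2).eq
  -- notation
  set gp : GLV p V := x * (a * x * a⁻¹) with hgp
  set gm : GLV p V := x⁻¹ * (a * x * a⁻¹) with hgm
  -- `Y ≤ V⁻`
  have hY : LinearMap.range (Nop a) ≤ LinearMap.ker (Nop gp) := by
    rintro w ⟨v, rfl⟩
    exact mem_ker_Nop.mpr ((hTC x hxK).2.2.2 v)
  -- `a` centralises `V⁺`
  have haVp : ∀ r ∈ LinearMap.range (Nop gp), a r = r := by
    intro r hr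
    have h1 : a r ∈ LinearMap.range (Nop gp) := (CNT8_aux_stab_range ha_gp r).mp hr
    have h2 : a r - r ∈ LinearMap.ker (Nop gp) ⊓ LinearMap.range (Nop gp) :=
      ⟨hY ⟨r, Nop_apply a r⟩, Submodule.sub_mem _ h1 hr⟩
    rw [hinf] at h2
    exact sub_eq_zero.mp ((Submodule.mem_bot _).mp h2)
  -- `[V⁻, a] = Y`
  have hmapY : (LinearMap.ker (Nop gp)).map (Nop a) = LinearMap.range (Nop a) := by
    apply le_antisymm
    · rintro w ⟨v, -, rfl⟩
      exact ⟨v, rfl⟩
    · rintro w ⟨v, rfl⟩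
      have hv : v ∈ LinearMap.ker (Nop gp) ⊔ LinearMap.range (Nop gp) := by rw [hsup]; trivial
      obtain ⟨m, hm, r, hr, rfl⟩ := Submodule.mem_sup.mp hv
      refine ⟨m, hm, ?_⟩
      rw [map_add]
      have : Nop a r = 0 := by rw [Nop_apply, haVp r hr, sub_self]
      rw [this, add_zero]
  -- dihedral lemma on `V⁻`
  have hdih := DIH hp T.ha ha_gm hgm_odd (LinearMap.ker (Nop gp)) (CNT8_aux_stab_ker ha_gp)
    (CNT8_aux_stab_ker hgm_gp) (by
      intro w hw hgw
      have h1 : gp w = w := mem_ker_Nop.mp hw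
      -- `x' w = x w`
      have h2 : (a * x * a⁻¹) w = x w := by
        have e : x (gm w) = (a * x * a⁻¹) w := by
          show x (x⁻¹ ((a * x * a⁻¹) w)) = _
          exact VM_aux_apply_inv x _
        rw [← e, hgw]
      have h3 : x (x w) = w := by
        have e : gp w = x ((a * x * a⁻¹) w) := rfl
        rw [e, h2] at h1
        exact h1
      exact hfpf2 w h3)
  obtain ⟨hd1, hd2⟩ := hdih
  rw [hd1, hmapY] at hd2
  -- `|V⁺| ≥ 8`
  have hVp : 8 ≤ Nat.card ↥(LinearMap.range (Nop gp)) := by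
    apply CNT8_aux_card8 hp
    -- a nonzero vector of `V⁺`
    have hne : ∃ v ∈ LinearMap.range (Nop gp), v ≠ 0 := by
      by_contra hcon
      push Not at hcon
      -- then `g₊ = 1`, so `x⁻¹ ∈ K₂`
      have h1 : gp = 1 := by
        apply LinearEquiv.ext
        intro v
        have := hcon (Nop gp v) ⟨v, rfl⟩
        rw [Nop_apply, sub_eq_zero] at this
        exact this
      have h2 : x⁻¹ = a * x * a⁻¹ := by
        have : x * (a * x * a⁻¹) = 1 := h1
        exact inv_eq_of_mul_eq_one_right this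
      have h3 : x⁻¹ ∈ cjg a K := h2 ▸ hx'K
      obtain ⟨y', hy', hne⟩ := hxnc
      apply hne
      have h4 := T.hc y' hy' x⁻¹ h3
      have h5 : Commute y' x⁻¹ := h4
      exact (Commute.inv_right_iff.mp h5).symm.eq
    obtain ⟨v, hv, hv0⟩ := hne
    have hxv : x v ∈ LinearMap.range (Nop gp) := (CNT8_aux_stab_range hx_gp v).mp hv
    have hxxv : x (x v) ∈ LinearMap.range (Nop gp) := (CNT8_aux_stab_range hx_gp _).mp hxv
    have hsum : v + x v ∈ LinearMap.range (Nop gp) := Submodule.add_mem _ hv hxv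
    -- five distinct elements
    let W := LinearMap.range (Nop gp)
    let f : Fin 5 → ↥W := ![⟨0, W.zero_mem⟩, ⟨v, hv⟩, ⟨x v, hxv⟩, ⟨x (x v), hxxv⟩, ⟨v + x v, hsum⟩]
    have hc2 : ∀ w : V, w + w = 0 := char2_vec hp
    have d01 : (0 : V) ≠ v := fun h => hv0 h.symm
    have d02 : (0 : V) ≠ x v := fun h => hv0 (by
      have : x v = x 0 := by rw [map_zero]; exact h.symm
      exact x.injective this)
    have d03 : (0 : V) ≠ x (x v) := fun h => d02 (by
      have : x (x v) = x 0 := by rw [map_zero]; exact h.symm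
      exact (x.injective this).symm)
    have d12 : v ≠ x v := fun h => hv0 (hfpf v h.symm)
    have d13 : v ≠ x (x v) := fun h => hv0 (hfpf2 v h.symm)
    have d23 : x v ≠ x (x v) := fun h => d12 (x.injective h)
    have d04 : (0 : V) ≠ v + x v := fun h => d12 (by
      have : x v = v + (v + x v) := by rw [← add_assoc, hc2, zero_add]
      rw [this, ← h, add_zero])
    have d14 : v ≠ v + x v := fun h => d02 (by
      have : x v = v + (v + x v) := by rw [← add_assoc, hc2, zero_add]
      rw [this, ← h, hc2])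
    have d24 : x v ≠ v + x v := fun h => d01 (by
      have : v = (v + x v) + x v := by rw [add_assoc, hc2, add_zero]
      rw [this, ← h, hc2])
    have d34 : x (x v) ≠ v + x v := fun h => hv0 (hfpf3 v (by
      rw [h, map_add, h]
      rw [add_comm v, ← add_assoc, hc2, zero_add]))
    have hinj : Function.Injective f := by
      intro i j hij
      have hij' : (f i : V) = (f j : V) := congrArg Subtype.val hij
      fin_cases i <;> fin_cases j <;> first | rfl | (exfalso; simp [f] at hij'; first | exact d01 hij' | exact d02 hij' | exact d03 hij' | exact d04 hij' | exact d12 hij' | exact d13 hij' | exact d14 hij' | exact d23 hij' | exact d24 hij' | exact d34 hij' | exact d01 hij'.symm | exact d02 hij'.symm | exact d03 hij'.symm | exact d04 hij'.symm | exact d12 hij'.symm | exact d13 hij'.symm | exact d14 hij'.symm | exact d23 hij'.symm | exact d24 hij'.symm | exact d34 hij'.symm)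
    have h5 := Nat.card_le_card_of_injective f hinj
    rw [Nat.card_fin] at h5
    have h5' : 5 ≤ Nat.card ↥(LinearMap.range (Nop gp)) := h5
    omega
  -- count
  have hcard := CNT8_aux_card_ker_range (Nop gp)
  rw [hd2] at hcard
  rw [hcard, mul_comm]
  exact Nat.mul_le_mul_left _ hVp

end Cfsg.Agent.S3086P
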