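import Mathlib
import Cfsg.Agent.Helper2.S3086Defs
import Cfsg.Agent.Helper2.S3086Basic
import Cfsg.Agent.Helper2.S3086Defs2
import Cfsg.Agent.Helper27.S3086TIMM
import Cfsg.Agent.Helper16.S3086QUAD
import Cfsg.Agent.Helper24.S3086LEMPC
import Cfsg.Agent.Helper24.S3086LEMQ
import Cfsg.Agent.Helper11.S3086R3
import Cfsg.Agent.Helper11.S3086R4
import Cfsg.Agent.Helper2.S3086MKTP
import Cfsg.Agent.Helper2.S3086FREEalt
import Cfsg.Agent.Helper2.S3086CNT8
import Cfsg.Agent.Helper2.S3086CASE2
import Cfsg.Agent.Helper22.S3086CASE1core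
import Cfsg.Agent.Helper27.S3086CASE1T

/-! Board `s3086pieces`: the assemblies ODD, EVEN, CORE, CORE' (S3086, the P(G,V)-theorem). -/

set_option autoImplicit false

namespace Cfsg.Agent.S3086P

universe u

variable {p : ℕ} [Fact p.Prime] {V : Type u} [AddCommGroup V] [Module (ZMod p) V] [Finite V]

section MAIN
variable {K A : Subgroup (GLV p V)}

/-- ODD (S, from the pieces above) -/
theorem ODD (M : MC p V K A) (hp : p ≠ 2) : False := by
  obtain ⟨hst, -, -⟩ := Hyp.star M.hyp
  have hquad := quad_star M.hyp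
  -- `A*` centralises `K`
  have hcen : Astar A ≤ A ⊓ Subgroup.centralizer (K : Set (GLV p V)) := by
    intro b hb
    refine ⟨Astar_le A hb, ?_⟩
    have hbA : b ∈ A := Astar_le A hb
    have hbq : Nop b * Nop b = 0 := (hquad b hbA b hb).1
    have hbK : cjg b K = K := LemP_cor hp M.hyp hbA hbq
    -- some `a ∈ A` moves `K`
    have hmove : ∃ a ∈ A, cjg a K ≠ K := by
      by_contra hcon
      push Not at hcon
      exact M.hnot hcon
    obtain ⟨a, haA, hne⟩ := hmove
    have hc : CommS K (cjg a K) := (M.hyp.hcomm a haA).resolve_left hne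
    have hab : a * b = b * a := by
      have := M.hyp.hAel.1.is_comm.comm ⟨a, haA⟩ ⟨b, hbA⟩
      exact congrArg Subtype.val this
    have h := LemQ hp M.hyp.hK a b hab hbq (hquad a haA b hb).1 hbK hc
    show b ∈ Subgroup.centralizer (K : Set (GLV p V))
    rw [Subgroup.mem_centralizer_iff]
    intro x hx
    exact (h x hx).symm
  rw [R3 M] at hcen
  exact hst.hA1 (le_bot_iff.mp hcen)

/-- Case I with `N_A(K) ≠ 1` (the wrapper of `CASE1_core`, inlined here under a name of its own) -/
theorem ASM_case1 (M : MC p V K A) (hp : p = 2) (heq : Astar A = A)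
    (hB : A ⊓ Subgroup.normalizer (K : Set (GLV p V)) ≠ ⊥) : False := by
  have hquad : ∀ c ∈ A, ∀ d ∈ A, Nop c * Nop d = 0 := by
    intro c hc d hd
    have hd' : d ∈ Astar A := by rw [heq]; exact hd
    exact (quad_star M.hyp c hc d hd').1
  have hmove : ∃ a ∈ A, cjg a K ≠ K := by
    by_contra hcon
    push Not at hcon
    exact M.hnot hcon
  refine CASE1_core M hp heq hB (R4 M hp) ?_ ?_
  · intro b hb hbK hb1
    obtain ⟨a, ha, haK⟩ := hmove
    exact FREE_alt M hp (MKTP M hp ha haK hb hbK hb1 (hquad a ha b hb)) ha hb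
  · intro a ha haK
    obtain ⟨b, hb1⟩ := Subgroup.ne_bot_iff_exists_ne_one.mp hB
    have hbA : (b : GLV p V) ∈ A := b.2.1
    have hbK : cjg (b : GLV p V) K = K := cjg_eq_iff.mpr b.2.2
    have hb1' : (b : GLV p V) ≠ 1 := fun h => hb1 (Subtype.ext h)
    exact CNT8 M hp (MKTP M hp ha haK hbA hbK hb1' (hquad a ha _ hbA)) ha hbA

/-- EVEN (S) -/
theorem EVEN (M : MC p V K A) (hp : p = 2) : False := by
  by_cases h1 : Astar A = A
  · by_cases h2 : A ⊓ Subgroup.normalizer (K : Set (GLV p V)) = ⊥
    · exact CASE1T M hp h2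
    · exact ASM_case1 M hp h1 h2
  · exact CASE2 M hp h1

end MAIN

/-- CORE (M) -/
theorem CORE : ∀ (n m : ℕ) (V : Type u) [AddCommGroup V] [Module (ZMod p) V] [Finite V] (K A : Subgroup (GLV p V)),
    Nat.card V = n → Nat.card ↥A = m → Hyp p V K A → Norm A K := by
  intro n
  induction n using Nat.strong_induction_on with
  | _ n ihn =>
    intro m
    induction m using Nat.strong_induction_on with
    | _ m ihm =>
      intro V _ _ _ K A hn hm H
      by_contra hnot
      have M : MC p V K A := by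
        refine ⟨H, hnot, ?_, ?_⟩
        · intro V' _ _ _ K' A' hlt H'
          exact ihn (Nat.card V') (hn ▸ hlt) (Nat.card ↥A') V' K' A' rfl rfl H'
        · intro A' hlt H'
          exact ihm (Nat.card ↥A') (hm ▸ hlt) V K A' hn rfl H'
      by_cases hp : p = 2
      · exact EVEN M hp
      · exact ODD M hp

/-- CORE' (S) -/
theorem CORE' {V : Type u} [AddCommGroup V] [Module (ZMod p) V] [Finite V] {K A : Subgroup (GLV p V)}
    (H : Hyp p V K A) : Norm A K :=
  CORE (Nat.card V) (Nat.card ↥A) V K A rfl rfl H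

end Cfsg.Agent.S3086P
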