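import Mathlib
import Cfsg.Agent.Helper2.S3086Defs
import Cfsg.Agent.Helper2.S3086Basic
import Cfsg.Agent.Helper2.S3086ASM
import Cfsg.Agent.Helper7.Layer
import Cfsg.Agent.Helper7.Quasisimple

/-! Board `s3086pieces`, piece TOP (alternative copy under the name `TOP_alt`). -/

set_option autoImplicit false

namespace Cfsg.Agent.S3086P

universe u

variable {p : ℕ} [Fact p.Prime] {V : Type u} [AddCommGroup V] [Module (ZMod p) V] [Finite V]

section
variable {G : Type*} [Group G]

/-- the homomorphism `G → GL(V)` of a representation -/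
noncomputable def TOPalt_iota (ρ : Representation (ZMod p) G V) : G →* GLV p V :=
  (LinearMap.GeneralLinearGroup.generalLinearEquiv (ZMod p) V).toMonoidHom.comp ρ.toHomUnits

theorem TOPalt_iota_apply (ρ : Representation (ZMod p) G V) (g : G) (v : V) : TOPalt_iota ρ g v = ρ g v := rfl

theorem TOPalt_iota_inj (ρ : Representation (ZMod p) G V) (hρ : Function.Injective ρ) :
    Function.Injective (TOPalt_iota ρ) := by
  intro g h hgh
  apply hρ
  apply LinearMap.ext
  intro v
  have := congrArg (fun t : GLV p V => t v) hgh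
  exact this

theorem TOPalt_qv (ρ : Representation (ZMod p) G V) (hρ : Function.Injective ρ) (B : Subgroup G) :
    qv (B.map (TOPalt_iota ρ)) = Nat.card ↥B * Nat.card {v : V // ∀ b ∈ B, ρ b v = v} := by
  unfold qv
  rw [Subgroup.card_map_of_injective (TOPalt_iota_inj ρ hρ)]
  congr 1
  apply Nat.card_congr
  apply Equiv.subtypeEquivRight
  intro v
  constructor
  · intro hv b hb
    exact hv _ (Subgroup.mem_map_of_mem _ hb)
  · rintro hv _ ⟨b, hb, rfl⟩
    exact hv b hb

theorem TOPalt_cjg (ρ : Representation (ZMod p) G V) (a : G) (K : Subgroup G) :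
    cjg (TOPalt_iota ρ a) (K.map (TOPalt_iota ρ)) = (K.map (MulAut.conj a).toMonoidHom).map (TOPalt_iota ρ) := by
  unfold cjg
  rw [Subgroup.map_map, Subgroup.map_map]
  congr 1
  apply MonoidHom.ext
  intro x
  simp [map_mul, map_inv]

end

/-- TOP (L): the frozen statement from `CORE'`. -/
theorem TOP_alt {G : Type*} [Group G] [Finite G] (ρ : Representation (ZMod p) G V) (hρ : Function.Injective ρ)
    (A : Subgroup G) (hA : A ≠ ⊥) (hAel : Cfsg.IsElementaryAbelian p A)
    (hP : ∀ B : Subgroup G, B ≤ A →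
      Nat.card ↥B * Nat.card {v : V // ∀ b ∈ B, ρ b v = v} ≤ Nat.card ↥A * Nat.card {v : V // ∀ a ∈ A, ρ a v = v}) :
    ∀ K : Subgroup G, Cfsg.IsComponent K → A ≤ Subgroup.normalizer (K : Set G) := by
  intro K hK
  have hinj := TOPalt_iota_inj ρ hρ
  have H : Hyp p V (K.map (TOPalt_iota ρ)) (A.map (TOPalt_iota ρ)) := by
    refine ⟨?_, ?_, ?_, ?_, ?_⟩
    · exact Cfsg.Agent.Helper7.isQuasisimple_of_mulEquiv (K.equivMapOfInjective _ hinj) hK.2
    · intro h
      exact hA ((Subgroup.map_eq_bot_iff_of_injective A hinj).mp h)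
    · refine ⟨?_, ?_⟩
      · have := hAel.1
        exact Subgroup.map_isMulCommutative A _
      · rintro _ ⟨a, ha, rfl⟩
        rw [← map_pow, hAel.2 a ha, map_one]
    · intro B' hB'
      have hBA : B'.comap (TOPalt_iota ρ) ≤ A := by
        intro g hg
        obtain ⟨a, ha, hag⟩ := hB' (Subgroup.mem_comap.mp hg)
        rw [← hinj hag]; exact ha
      have hmap : (B'.comap (TOPalt_iota ρ)).map (TOPalt_iota ρ) = B' := by
        apply Subgroup.map_comap_eq_self
        intro x hx
        obtain ⟨a, -, rfl⟩ := hB' hx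
        exact ⟨a, rfl⟩
      rw [← hmap, TOPalt_qv ρ hρ, TOPalt_qv ρ hρ]
      exact hP _ hBA
    · rintro _ ⟨a, ha, rfl⟩
      rw [TOPalt_cjg]
      have hL := Cfsg.Agent.Helper7.isComponent_map_conj hK a
      by_cases h : K.map (MulAut.conj a).toMonoidHom = K
      · left; rw [h]
      · right
        have hc := Cfsg.Agent.Helper7.components_commute hK hL (Ne.symm h)
        rintro _ ⟨x, hx, rfl⟩ _ ⟨y, hy, rfl⟩
        have hle := Subgroup.commutator_eq_bot_iff_le_centralizer.mp hc
        have hxy' : y * x = x * y := Subgroup.mem_centralizer_iff.mp (hle hx) y hy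
        rw [← map_mul, ← hxy', map_mul]
  have hN := CORE' H
  intro a ha
  have h1 := hN _ (Subgroup.mem_map_of_mem (TOPalt_iota ρ) ha)
  rw [TOPalt_cjg] at h1
  have h2 : K.map (MulAut.conj a).toMonoidHom = K := Subgroup.map_injective hinj h1
  rw [Subgroup.mem_normalizer_iff]
  intro h
  constructor
  · intro hh
    rw [← h2]
    exact ⟨h, hh, rfl⟩
  · intro hh
    rw [← h2] at hh
    obtain ⟨k, hk, hkh⟩ := hh
    have : k = h := by
      have e : a * k * a⁻¹ = a * h * a⁻¹ := hkh
      exact mul_left_cancel (mul_right_cancel e)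
    rw [← this]; exact hk

end Cfsg.Agent.S3086P
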