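import Mathlib
import Cfsg.Agent.Helper12.S3222Defs

set_option autoImplicit false
set_option linter.style.haveILetI false

/-! # S3222 piece ALPHA: a central involution outside `M` forces `|M| = 24`. -/

namespace Cfsg.Agent.S3222P

open scoped Pointwise

theorem ALPHA_aux_center :
    ∀ x : DihedralGroup 4, (∀ y, x * y = y * x) → x = 1 ∨ x = DihedralGroup.r 2 := by decide

theorem ALPHA_aux_fact24 : (24 : ℕ).factorization 2 = 3 := by
  have h : (24 : ℕ) = 2 ^ 3 * 3 := by norm_num
  rw [h, Nat.factorization_mul (by norm_num) (by norm_num),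
    Nat.Prime.factorization_pow Nat.prime_two, Finsupp.add_apply, Finsupp.single_eq_same,
    Nat.factorization_eq_zero_of_not_dvd (by norm_num)]

theorem ALPHA_aux_fact (m : ℕ) (hm : m ≠ 0) (h : (m * 2).factorization 2 = 4) :
    m.factorization 2 = 3 := by
  rw [Nat.factorization_mul hm (by norm_num), Finsupp.add_apply,
    Nat.Prime.factorization_self Nat.prime_two] at h
  omega

/-- the centralizer in `↥M` of `g ∈ M`, counted inside `C_G(g)` -/
theorem ALPHA_aux_card {G : Type*} [Group G] (M : Subgroup G) (g : ↥M) :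
    Nat.card ↥(Subgroup.centralizer ({g} : Set ↥M)) =
      Nat.card ↥(M.subgroupOf (Subgroup.centralizer ({(g : G)} : Set G))) := by
  refine Nat.card_congr
    { toFun := fun x => ⟨⟨(x : ↥M), ?_⟩, ?_⟩
      invFun := fun y => ⟨⟨((y : ↥(Subgroup.centralizer ({(g : G)} : Set G))) : G), ?_⟩, ?_⟩
      left_inv := fun x => rfl
      right_inv := fun y => rfl }
  · have h1 := Subgroup.mem_centralizer_singleton_iff.1 x.2
    exact Subgroup.mem_centralizer_singleton_iff.2 (congrArg Subtype.val h1)
  · exact Subgroup.mem_subgroupOf.2 (x : ↥M).2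
  · exact Subgroup.mem_subgroupOf.1 y.2
  · have h1 := Subgroup.mem_centralizer_singleton_iff.1
      (y : ↥(Subgroup.centralizer ({(g : G)} : Set G))).2
    exact Subgroup.mem_centralizer_singleton_iff.2 (Subtype.ext h1)

theorem ALPHA {G : Type*} [Group G] [Finite G] (t : G) (T : Sylow 2 G)
    (L : Local t T) (M : Subgroup G) [M.Normal] (hM : M.index = 2) (htM : t ∉ M)
    (zM : ↥M) (hzM : orderOf zM = 2)
    (e : ↥(Subgroup.centralizer ({zM} : Set ↥M)) ≃* DihedralGroup 4)
    (n : G) (hnM : n ∉ M) (hn2 : n * n = 1) (hnc : ∀ g : G, n * g = g * n) :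
    Nat.card ↥M = 24 := by
  classical
  have hcardGM : Nat.card ↥M * 2 = Nat.card G := by
    rw [← hM]
    exact M.card_mul_index
  have htt : t * t = 1 := by
    rw [← pow_two, ← L.ht]
    exact pow_orderOf_eq_one t
  have hninv : n⁻¹ = n := inv_eq_of_mul_eq_one_left hn2
  set g0 : G := t * n with hg0
  have hg0M : g0 ∈ M :=
    (Subgroup.mul_mem_iff_of_index_two hM).2 ⟨fun h => absurd h htM, fun h => absurd h hnM⟩
  have key : ∀ x : G, t * n * x = t * x * n := by
    intro x
    rw [mul_assoc, hnc x, ← mul_assoc]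
  have hcent : ∀ x : G, x * g0 = g0 * x ↔ x * t = t * x := by
    intro x
    rw [hg0]
    constructor
    · intro h
      rw [← mul_assoc, key] at h
      exact mul_right_cancel h
    · intro h
      rw [← mul_assoc, key, h]
  have hCeq : Subgroup.centralizer ({g0} : Set G) = Subgroup.centralizer ({t} : Set G) := by
    ext x
    rw [Subgroup.mem_centralizer_singleton_iff, Subgroup.mem_centralizer_singleton_iff]
    exact hcent x
  have hg0sq : g0 * g0 = 1 := by
    have h2 : t * n * (t * n) = t * t * (n * n) := by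
      rw [key (t * n)]
      simp only [mul_assoc]
    rw [hg0, h2, htt, hn2, one_mul]
  by_cases h1 : g0 = 1
  · -- then `C_G(t) = G`
    have htop : Subgroup.centralizer ({t} : Set G) = ⊤ := by
      rw [← hCeq, h1, eq_top_iff]
      intro x _
      rw [Subgroup.mem_centralizer_singleton_iff, mul_one, one_mul]
    have h48 := L.cardC
    rw [htop, Subgroup.card_top] at h48
    omega
  · exfalso
    set g0M : ↥M := ⟨g0, hg0M⟩ with hg0Mdef
    set C' : Subgroup ↥M := Subgroup.centralizer ({g0M} : Set ↥M) with hC'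
    -- `|C_M(g0)| = 24`
    have hC'card : Nat.card ↥C' = 24 := by
      rw [hC', ALPHA_aux_card M g0M]
      change Nat.card ↥(M.subgroupOf (Subgroup.centralizer ({g0} : Set G))) = 24
      rw [hCeq]
      set C : Subgroup G := Subgroup.centralizer ({t} : Set G) with hC
      have hnC : n ∈ C := by
        rw [hC, Subgroup.mem_centralizer_singleton_iff]
        exact hnc t
      have hrel : M.relIndex C = 2 := by
        have hdvd : M.relIndex C ∣ 2 := by
          rw [← hM]
          exact Subgroup.relIndex_dvd_index_of_normal M C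
        rcases (Nat.dvd_prime Nat.prime_two).1 hdvd with h2 | h2
        · exfalso
          exact hnM (Subgroup.relIndex_eq_one.1 h2 hnC)
        · exact h2
      have h3 := (M.subgroupOf C).card_mul_index
      change Nat.card ↥(M.subgroupOf C) * M.relIndex C = Nat.card ↥C at h3
      rw [hrel, L.cardC] at h3
      omega
    -- the 2-part of `|M|` is 8
    have hv2 : (Nat.card ↥M).factorization 2 = 3 := by
      apply ALPHA_aux_fact _ Nat.card_pos.ne'
      rw [hcardGM]
      have h2 := T.card_eq_multiplicity
      rw [L.cardT] at h2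
      have h3 : (2 : ℕ) ^ 4 = 2 ^ (Nat.card G).factorization 2 := by
        rw [← h2]
        norm_num
      exact (Nat.pow_right_injective (le_refl 2) h3).symm
    -- `S = C_M(zM)` is a Sylow 2-subgroup of `M`
    set S : Subgroup ↥M := Subgroup.centralizer ({zM} : Set ↥M) with hS
    have hScard : Nat.card ↥S = 8 := by
      rw [Nat.card_congr e.toEquiv, DihedralGroup.nat_card]
    set Ssyl : Sylow 2 ↥M := Sylow.ofCard S (by rw [hScard, hv2]; norm_num) with hSsyl
    -- a Sylow 2-subgroup of `C_M(g0)` containing `g0`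
    have hg0C : g0M ∈ C' := by
      rw [hC', Subgroup.mem_centralizer_singleton_iff]
    set g0C : ↥C' := ⟨g0M, hg0C⟩ with hg0Cdef
    have hg0Cne : g0C ≠ 1 := by
      intro h
      apply h1
      have h2 := congrArg (fun x : ↥C' => ((x : ↥M) : G)) h
      exact h2
    have hg0Csq : g0C ^ 2 = 1 := by
      rw [pow_two]
      apply Subtype.ext
      apply Subtype.ext
      exact hg0sq
    have hord : orderOf g0C = 2 := orderOf_eq_prime hg0Csq hg0Cne
    have hZ : IsPGroup 2 ↥(Subgroup.zpowers g0C) := by
      apply IsPGroup.of_card (n := 1)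
      rw [Nat.card_zpowers, hord, pow_one]
    obtain ⟨Q, hQ⟩ := hZ.exists_le_sylow
    have hQcard : Nat.card ↥(Q : Subgroup ↥C') = 8 := by
      rw [Q.card_eq_multiplicity, hC'card, ALPHA_aux_fact24]
      norm_num
    set S0 : Subgroup ↥M := (Q : Subgroup ↥C').map C'.subtype with hS0
    have hS0card : Nat.card ↥S0 = 8 := by
      rw [hS0, Subgroup.card_map_of_injective C'.subtype_injective, hQcard]
    set S0syl : Sylow 2 ↥M := Sylow.ofCard S0 (by rw [hS0card, hv2]; norm_num) with hS0syl
    have hg0S0 : g0M ∈ S0 :=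
      ⟨g0C, hQ (Subgroup.mem_zpowers g0C), rfl⟩
    have hS0comm : ∀ x ∈ S0, x * g0M = g0M * x := by
      rintro x ⟨q, _, rfl⟩
      exact Subgroup.mem_centralizer_singleton_iff.1 q.2
    -- conjugate `S0` to `S`
    obtain ⟨m, hm⟩ := MulAction.exists_smul_eq ↥M S0syl Ssyl
    have hSeq : MulAut.conj m • S0 = S := by
      have h2 := congrArg (fun P : Sylow 2 ↥M => (P : Subgroup ↥M)) hm
      exact h2
    have hconj : ∀ s ∈ S, ∃ x ∈ S0, s = m * x * m⁻¹ := by
      intro s hs
      rw [← hSeq] at hs
      obtain ⟨x, hx, hxs⟩ := (Subgroup.mem_smul_pointwise_iff_exists s (MulAut.conj m) S0).1 hs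
      exact ⟨x, hx, hxs.symm⟩
    set g0' : ↥M := m * g0M * m⁻¹ with hg0'
    have hg0'S : g0' ∈ S := by
      rw [← hSeq]
      exact Subgroup.smul_mem_pointwise_smul g0M (MulAut.conj m) S0 hg0S0
    have hg0'cen : ∀ s ∈ S, g0' * s = s * g0' := by
      intro s hs
      obtain ⟨x, hx, rfl⟩ := hconj s hs
      have h2 := hS0comm x hx
      rw [hg0']
      calc m * g0M * m⁻¹ * (m * x * m⁻¹) = m * (g0M * x) * m⁻¹ := by group
        _ = m * (x * g0M) * m⁻¹ := by rw [h2]
        _ = m * x * m⁻¹ * (m * g0M * m⁻¹) := by group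
    have hzS : zM ∈ S := by
      rw [hS, Subgroup.mem_centralizer_singleton_iff]
    have hzcen : ∀ s ∈ S, zM * s = s * zM := by
      intro s hs
      exact (Subgroup.mem_centralizer_singleton_iff.1 hs).symm
    -- both are the nontrivial central element of `S ≅ D₈`
    have hcentral : ∀ w : ↥S, (∀ s : ↥S, w * s = s * w) → w ≠ 1 → e w = DihedralGroup.r 2 := by
      intro w hw hw1
      have h2 : ∀ y : DihedralGroup 4, e w * y = y * e w := by
        intro y
        have h3 := hw (e.symm y)
        have h4 := congrArg e h3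
        rw [map_mul, map_mul, MulEquiv.apply_symm_apply] at h4
        exact h4
      rcases ALPHA_aux_center (e w) h2 with h3 | h3
      · exfalso
        apply hw1
        exact (MulEquiv.map_eq_one_iff e).1 h3
      · exact h3
    have hzM1 : zM ≠ 1 := by
      intro h
      rw [h, orderOf_one] at hzM
      norm_num at hzM
    have hg0'1 : g0' ≠ 1 := by
      intro h
      apply hg0Cne
      have h2 : g0M = 1 := by
        have h3 : g0M = m⁻¹ * g0' * m := by rw [hg0']; group
        rw [h3, h]
        group
      apply Subtype.ext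
      exact h2
    have he1 : e ⟨zM, hzS⟩ = DihedralGroup.r 2 := by
      apply hcentral
      · intro s
        apply Subtype.ext
        exact hzcen s s.2
      · intro h
        exact hzM1 (congrArg Subtype.val h)
    have he2 : e ⟨g0', hg0'S⟩ = DihedralGroup.r 2 := by
      apply hcentral
      · intro s
        apply Subtype.ext
        exact hg0'cen s s.2
      · intro h
        exact hg0'1 (congrArg Subtype.val h)
    have heq : zM = g0' := by
      have h2 := e.injective (he1.trans he2.symm)
      exact congrArg Subtype.val h2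
    -- an element of order 3 in `C_M(g0)` gives an element of order 3 in `S`
    have h3dvd : 3 ∣ Nat.card ↥C' := by
      rw [hC'card]
      norm_num
    haveI : Fact (Nat.Prime 3) := ⟨Nat.prime_three⟩
    obtain ⟨y, hy⟩ := exists_prime_orderOf_dvd_card' 3 h3dvd
    have hyS : m * (y : ↥M) * m⁻¹ ∈ S := by
      rw [hS, Subgroup.mem_centralizer_singleton_iff, heq, hg0']
      have h2 : (y : ↥M) * g0M = g0M * (y : ↥M) := Subgroup.mem_centralizer_singleton_iff.1 y.2
      calc m * (y : ↥M) * m⁻¹ * (m * g0M * m⁻¹) = m * ((y : ↥M) * g0M) * m⁻¹ := by group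
        _ = m * (g0M * (y : ↥M)) * m⁻¹ := by rw [h2]
        _ = m * g0M * m⁻¹ * (m * (y : ↥M) * m⁻¹) := by group
    have hord3 : orderOf (⟨m * (y : ↥M) * m⁻¹, hyS⟩ : ↥S) = 3 := by
      rw [Subgroup.orderOf_mk]
      have h2 : m * (y : ↥M) * m⁻¹ = MulAut.conj m (y : ↥M) := rfl
      rw [h2, MulEquiv.orderOf_eq, Subgroup.orderOf_coe]
      exact hy
    have h3S : 3 ∣ Nat.card ↥S := by
      rw [← hord3]
      exact orderOf_dvd_natCard _
    rw [hScard] at h3S
    norm_num at h3S

end Cfsg.Agent.S3222P
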