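import Mathlib
import Cfsg.Agent.Helper12.S3222Defs
import Cfsg.Agent.Helper2.S3222ALPHA

set_option autoImplicit false
set_option linter.style.haveILetI false

/-! # S3222 piece KER: a non-trivial normal subgroup of `G` meeting `M` trivially gives
`|M| = 24`. -/

namespace Cfsg.Agent.S3222P

theorem KER {G : Type*} [Group G] [Finite G] (t : G) (T : Sylow 2 G)
    (L : Local t T) (M : Subgroup G) [M.Normal] (hM : M.index = 2) (htM : t ∉ M)
    (zM : ↥M) (hzM : orderOf zM = 2)
    (e : ↥(Subgroup.centralizer ({zM} : Set ↥M)) ≃* DihedralGroup 4)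
    (K : Subgroup G) [hKn : K.Normal] (hK : K ≠ ⊥) (hKM : K ⊓ M = ⊥) :
    Nat.card ↥M = 24 := by
  -- `|K| = 2`
  have hbot : M.subgroupOf K = ⊥ := by
    rw [Subgroup.subgroupOf_eq_bot, disjoint_iff, inf_comm]
    exact hKM
  have hdvd : Nat.card ↥K ∣ 2 := by
    have h1 : M.relIndex K ∣ M.index := Subgroup.relIndex_dvd_index_of_normal M K
    rw [hM] at h1
    have h2 : M.relIndex K = Nat.card ↥K := by
      change (M.subgroupOf K).index = _
      rw [hbot, Subgroup.index_bot]
    rwa [h2] at h1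
  have hcard : Nat.card ↥K = 2 := by
    rcases (Nat.dvd_prime Nat.prime_two).1 hdvd with h1 | h1
    · exact absurd (Subgroup.card_eq_one.1 h1) hK
    · exact h1
  obtain ⟨n, hnK, hn1⟩ : ∃ n ∈ K, n ≠ (1 : G) := by
    rcases K.bot_or_exists_ne_one with h1 | h1
    · exact absurd h1 hK
    · exact h1
  -- the only non-identity element of `K` is `n`
  have huniq : ∀ x ∈ K, x ≠ 1 → x = n := by
    intro x hx hx1
    obtain ⟨y, _, hy⟩ := (Nat.card_eq_two_iff' (1 : ↥K)).1 hcard
    have h1 : (⟨x, hx⟩ : ↥K) = y := hy _ (fun h => hx1 (congrArg Subtype.val h))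
    have h2 : (⟨n, hnK⟩ : ↥K) = y := hy _ (fun h => hn1 (congrArg Subtype.val h))
    exact congrArg Subtype.val (h1.trans h2.symm)
  have hnM : n ∉ M := by
    intro h
    have h1 : n ∈ K ⊓ M := ⟨hnK, h⟩
    rw [hKM, Subgroup.mem_bot] at h1
    exact hn1 h1
  have hn2 : n * n = 1 := by
    by_contra h
    have h1 := huniq (n * n) (K.mul_mem hnK hnK) h
    apply hn1
    calc n = n⁻¹ * (n * n) := by group
      _ = n⁻¹ * n := by rw [h1]
      _ = 1 := by group
  have hnc : ∀ g : G, n * g = g * n := by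
    intro g
    have h1 : g * n * g⁻¹ ∈ K := hKn.conj_mem n hnK g
    have h2 : g * n * g⁻¹ ≠ 1 := by
      intro h
      apply hn1
      calc n = g⁻¹ * (g * n * g⁻¹) * g := by group
        _ = 1 := by rw [h]; group
    have h3 := huniq _ h1 h2
    calc n * g = g * n * g⁻¹ * g := by rw [h3]
      _ = g * n := by group
  exact ALPHA t T L M hM htM zM hzM e n hnM hn2 hnc

end Cfsg.Agent.S3222P
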