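import Mathlib

set_option autoImplicit false

namespace Cfsg.Agent.S3557P

open MulAction

/-- orbit-stabilizer in `Nat.card` form. -/
theorem ORB_orbstab {H X : Type*} [Group H] [MulAction H X] (x : X) :
    Nat.card (orbit H x) * Nat.card (stabilizer H x) = Nat.card H := by
  rw [Nat.card_congr (orbitEquivQuotientStabilizer H x), mul_comm]
  exact (Subgroup.card_eq_card_quotient_mul_card_subgroup (stabilizer H x)).symm ▸ (mul_comm _ _)

/-- ORB: orbits of a Sylow `p`-subgroup of a transitive group have size divisible by the `p`-part of the degree. -/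
theorem ORB {G Ω : Type*} [Group G] [Finite G] [MulAction G Ω] [Finite Ω] [IsPretransitive G Ω]
    (p : ℕ) [Fact p.Prime] (P : Sylow p G) (x : Ω) :
    p ^ ((Nat.card Ω).factorization p) ∣ Nat.card (orbit (↥(P : Subgroup G)) x) := by
  have hp : p.Prime := Fact.out
  -- |G| = |Ω| * |G_x|
  have hG : Nat.card Ω * Nat.card (stabilizer G x) = Nat.card G := by
    have h := ORB_orbstab (H := G) x
    rw [orbit_eq_univ, Nat.card_congr (Equiv.Set.univ Ω)] at h
    exact h
  have hΩ0 : Nat.card Ω ≠ 0 := by
    have : Nonempty Ω := ⟨x⟩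
    exact Nat.card_pos.ne'
  have hS0 : Nat.card (stabilizer G x) ≠ 0 := Nat.card_pos.ne'
  -- |P| = p^(a+b)
  have hPcard : Nat.card (↥(P : Subgroup G)) =
      p ^ ((Nat.card Ω).factorization p + (Nat.card (stabilizer G x)).factorization p) := by
    rw [P.card_eq_multiplicity, ← hG, Nat.factorization_mul hΩ0 hS0]
    rfl
  -- |P_x| = p^k with k ≤ b
  have hPx : IsPGroup p (stabilizer (↥(P : Subgroup G)) x) := P.isPGroup'.to_subgroup _
  obtain ⟨k, hk⟩ := (IsPGroup.iff_card (p := p)).mp hPx
  have hle : (stabilizer (↥(P : Subgroup G)) x).map (P : Subgroup G).subtype ≤ stabilizer G x := by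
    rintro _ ⟨g, hg, rfl⟩
    exact mem_stabilizer_iff.mpr (mem_stabilizer_iff.mp hg)
  have hdvd : p ^ k ∣ Nat.card (stabilizer G x) := by
    rw [← hk, ← Subgroup.card_map_of_injective (Subgroup.subtype_injective _)]
    exact Subgroup.card_dvd_of_le hle
  have hkb : k ≤ (Nat.card (stabilizer G x)).factorization p :=
    (hp.pow_dvd_iff_le_factorization hS0).mp hdvd
  -- orbit-stabilizer in `P`
  have hos := ORB_orbstab (H := ↥(P : Subgroup G)) x
  rw [hk, hPcard] at hos
  set a := (Nat.card Ω).factorization p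
  set b := (Nat.card (stabilizer G x)).factorization p
  have hsplit : p ^ (a + b) = p ^ (a + (b - k)) * p ^ k := by
    rw [← pow_add]; congr 1; omega
  rw [hsplit] at hos
  have hpk : 0 < p ^ k := pow_pos hp.pos k
  have := Nat.eq_of_mul_eq_mul_right hpk hos
  rw [this, pow_add]
  exact Dvd.intro _ rfl

end Cfsg.Agent.S3557P
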