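import Cfsg.Agent.Helper11.S3786Defs
import Cfsg.Agent.Helper2.S3786FRAT
import Cfsg.Agent.Helper7.S3786POWCOMM
import Cfsg.Agent.Helper7.S3786Knilp
import Cfsg.Agent.Helper5.HHTn
import Cfsg.Agent.Helper21.ExpSix
import Cfsg.Agent.Helper7.PPrimeCore
import Cfsg.Agent.Lead.PSolvHall

/-! # S3786 board, row K_main (core): Proposition K. -/

set_option autoImplicit false

namespace Cfsg.Agent.S3786P

open Subgroup

universe u

/-- core of K_main: `hKC` is the statement of `K_commute` -/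
theorem K_main_aux_core {H : Type u} [Group H] [Finite H] {p : ℕ} [Fact p.Prime] {T : Sylow p H} {n : ℕ}
    (hp2 : p ≠ 2) (hsol : Cfsg.IsPSolvable p H) (hn : 1 ≤ n)
    (hexp : ∀ w ∈ (T : Subgroup H), w ^ p ^ n = 1)
    (hKC : ∀ {x d : H}, x ∈ (T : Subgroup H) → orderOf x = p ^ n → d ∈ (T : Subgroup H) →
      x ^ p ^ (n - 1) * (x * d) ^ p ^ (n - 1) = (x * d) ^ p ^ (n - 1) * x ^ p ^ (n - 1)) :
    ∀ w ∈ (T : Subgroup H), w ^ p ^ (n - 1) ∈ Cfsg.pPrimePCore p H := by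
  have hp : p.Prime := Fact.out
  intro w hw
  by_contra hz
  obtain ⟨m, rfl⟩ : ∃ m, n = m + 1 := ⟨n - 1, by omega⟩
  rw [Nat.add_sub_cancel] at hz hKC
  -- `w` has order `p ^ (m + 1)`
  have hwm : w ^ p ^ m ≠ 1 := by
    intro h1
    apply hz
    rw [h1]
    exact Subgroup.one_mem _
  have hord : orderOf w = p ^ (m + 1) := orderOf_eq_prime_pow hwm (hexp w hw)
  -- the quotient `X = H / O_{p'}(H)`
  have hsolX : Cfsg.IsPSolvable p (H ⧸ Cfsg.pPrimeCore p H) :=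
    Cfsg.Agent.Lead.isPSolvable_quotient hsol _
  have hOX : Cfsg.pPrimeCore p (H ⧸ Cfsg.pPrimeCore p H) = ⊥ :=
    Cfsg.Agent.Helper7.pPrimeCore_quotient_eq_bot p
  have hzq : QuotientGroup.mk' (Cfsg.pPrimeCore p H) (w ^ p ^ m) ∉
      Cfsg.pCore p (H ⧸ Cfsg.pPrimeCore p H) := fun h => hz h
  have hntX : Nontrivial (H ⧸ Cfsg.pPrimeCore p H) := by
    refine ⟨⟨QuotientGroup.mk' (Cfsg.pPrimeCore p H) (w ^ p ^ m), 1, ?_⟩⟩
    intro h1
    apply hzq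
    rw [h1]
    exact Subgroup.one_mem _
  obtain ⟨V', _, _, _, _, π, ρb, D⟩ := FRAT (X := H ⧸ Cfsg.pPrimeCore p H) p hsolX hOX
  obtain ⟨xb, hxb⟩ : ∃ xb, xb = QuotientGroup.mk' (Cfsg.pPrimeCore p H) w := ⟨_, rfl⟩
  -- commutation
  have hcomm : ∀ r : ↥(Cfsg.pCore p (H ⧸ Cfsg.pPrimeCore p H)),
      xb ^ p ^ m * (xb * (r : H ⧸ Cfsg.pPrimeCore p H)) ^ p ^ m =
        (xb * (r : H ⧸ Cfsg.pPrimeCore p H)) ^ p ^ m * xb ^ p ^ m := by
    intro r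
    have hle := Cfsg.Agent.Helper14.pCore_le_sylow p
      (T.mapSurjective (QuotientGroup.mk'_surjective (Cfsg.pPrimeCore p H)))
    have hr := hle r.2
    rw [Sylow.coe_mapSurjective] at hr
    obtain ⟨d, hd, hdr⟩ := hr
    have h1 := congrArg (QuotientGroup.mk' (Cfsg.pPrimeCore p H)) (hKC hw hord hd)
    rw [map_mul, map_mul, map_pow, map_pow, map_mul, hdr, ← hxb] at h1
    exact h1
  have hPC := POWCOMM D xb (p ^ m) hcomm
  obtain ⟨A, hA⟩ : ∃ A, A = ρb (QuotientGroup.mk' (Cfsg.pCore p (H ⧸ Cfsg.pPrimeCore p H)) xb) := ⟨_, rfl⟩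
  obtain ⟨A', hA'⟩ : ∃ A', A' = ρb (QuotientGroup.mk' (Cfsg.pCore p (H ⧸ Cfsg.pPrimeCore p H)) xb⁻¹) :=
    ⟨_, rfl⟩
  rw [← hA, ← hA'] at hPC
  have hAA' : A * A' = 1 := by
    rw [hA, hA', ← map_mul, ← map_mul, mul_inv_cancel, map_one, map_one]
  have hA'A : A' * A = 1 := by
    rw [hA, hA', ← map_mul, ← map_mul, inv_mul_cancel, map_one, map_one]
  have hnil := K_nilp A A' hAA' hA'A m hPC
  -- the order of `x̄ R`
  obtain ⟨xH, hxH⟩ : ∃ xH, xH = QuotientGroup.mk' (Cfsg.pCore p (H ⧸ Cfsg.pPrimeCore p H)) xb := ⟨_, rfl⟩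
  have hordH : orderOf xH = p ^ (m + 1) := by
    apply orderOf_eq_prime_pow
    · rw [hxH, hxb, ← map_pow, ← map_pow, QuotientGroup.mk'_apply, QuotientGroup.eq_one_iff]
      exact hzq
    · rw [hxH, hxb, ← map_pow, ← map_pow, hexp w hw, map_one, map_one]
  have hsolH' : Cfsg.IsPSolvable p ((H ⧸ Cfsg.pPrimeCore p H) ⧸ Cfsg.pCore p (H ⧸ Cfsg.pPrimeCore p H)) :=
    Cfsg.Agent.Lead.isPSolvable_quotient hsolX _
  have hOpH' : Cfsg.pCore p ((H ⧸ Cfsg.pPrimeCore p H) ⧸ Cfsg.pCore p (H ⧸ Cfsg.pPrimeCore p H)) = ⊥ :=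
    Cfsg.Agent.Helper21.ExpSix.pCore_quotient_pCore_eq_bot p
  have hfd : FiniteDimensional (ZMod p) V' := Module.Finite.of_finite
  rw [hA, ← hxH] at hnil
  have h3 : 3 ≤ p := by
    have := hp.two_le
    omega
  have hpm : 0 < p ^ m := pos_of_ne_zero (pow_ne_zero _ hp.ne_zero)
  rcases Cfsg.Agent.Helper5.HHT.thmB_rep ρb D.inj hsolH' hOpH' xH (m + 1) (by omega) hordH
    (2 * p ^ m - 1) hnil with h | ⟨n₀, q, k, hn₀, hn₀', -, -, -, -, h⟩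
  · rw [pow_succ] at h
    have h9 : p ^ m * 3 ≤ p ^ m * p := Nat.mul_le_mul_left _ h3
    omega
  · -- `p ^ (m + 1 - n₀) * (p ^ n₀ - 1) ≥ p ^ m * (p - 1)`
    obtain ⟨j, rfl⟩ : ∃ j, n₀ = j + 1 := ⟨n₀ - 1, by omega⟩
    have e1 : m + 1 - (j + 1) = m - j := by omega
    rw [e1] at h
    have h4 : p ^ m = p ^ (m - j) * p ^ j := by rw [← pow_add]; congr 1; omega
    have h5 : p ^ (j + 1) = p ^ j * p := pow_succ p j
    have hpj : 0 < p ^ j := pos_of_ne_zero (pow_ne_zero _ hp.ne_zero)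
    have hpmj : 0 < p ^ (m - j) := pos_of_ne_zero (pow_ne_zero _ hp.ne_zero)
    have h6 : 2 * p ^ j + 1 ≤ p ^ (j + 1) := by
      rw [h5]
      have h9 : p ^ j * 3 ≤ p ^ j * p := Nat.mul_le_mul_left _ h3
      omega
    have h7 : p ^ (m - j) * (2 * p ^ j) ≤ p ^ (m - j) * (p ^ (j + 1) - 1) :=
      Nat.mul_le_mul_left _ (by omega)
    have h8 : p ^ (m - j) * (2 * p ^ j) = 2 * p ^ m := by rw [h4]; ring
    omega

end Cfsg.Agent.S3786P
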