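import Cfsg.Agent.Helper11.S3786Defs
import Cfsg.Agent.Helper5.HHTe
import Cfsg.Agent.Helper14.PCore

/-! # S3786 board, row LIFT (core): lifting a non-exceptional element of `X / O_p(X)`. -/

set_option autoImplicit false

namespace Cfsg.Agent.S3786P

open Subgroup

universe u

section F

variable {X : Type u} [Group X] [Finite X] {p : ℕ} [Fact p.Prime] {V : Type u} [AddCommGroup V] [Module (ZMod p) V]
  {π : ↥(Cfsg.pCore p X) →* Multiplicative V} {ρb : Representation (ZMod p) (X ⧸ Cfsg.pCore p X) V}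

/-- nilpotency of `Y - 1` transfers to `A - 1` for `Y = A⁻¹` -/
theorem LIFT_aux_inv {R : Type*} [Ring R] {A Y : R} (hAY : A * Y = 1) (hYA : Y * A = 1) (k : ℕ)
    (h : (Y - 1) ^ k = 0) : (A - 1) ^ k = 0 := by
  have h1 : A - 1 = (-A) * (Y - 1) := by
    rw [neg_mul, mul_sub, hAY, mul_one]; abel
  have hc : Commute (-A) (Y - 1) := by
    apply Commute.neg_left
    apply Commute.sub_right
    · change A * Y = Y * A
      rw [hAY, hYA]
    · exact Commute.one_right A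
  rw [h1, hc.mul_pow, h, mul_zero]

omit [Finite X] in
/-- core of LIFT: `hPF` is the statement of POWFORM -/
theorem LIFT_aux_core (D : FratData p V π ρb)
    (hPF : ∀ (x : X) (r : ↥(Cfsg.pCore p X)) (N : ℕ), ∃ u : ↥(Cfsg.pCore p X),
      (x * (r : X)) ^ N = x ^ N * (u : X) ∧
      Multiplicative.toAdd (π u) =
        ∑ i ∈ Finset.range N, (ρb (QuotientGroup.mk' (Cfsg.pCore p X) x⁻¹) ^ i) (Multiplicative.toAdd (π r)))
    (x : X) (m : ℕ) (hx : x ^ p ^ m ∈ Cfsg.pCore p X)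
    (hne : (ρb (QuotientGroup.mk' (Cfsg.pCore p X) x) - 1) ^ (p ^ m - 1) ≠ 0) :
    ∃ g : X, (∃ k : ℕ, g ^ p ^ k = 1) ∧ g ^ p ^ m ≠ 1 := by
  have hRp : IsPGroup p ↥(Cfsg.pCore p X) := Cfsg.Agent.Helper14.pCore_isPGroup p
  have hpel : ∀ g : X, g ^ p ^ m ∈ Cfsg.pCore p X → ∃ k : ℕ, g ^ p ^ k = 1 := by
    intro g hg
    obtain ⟨j, hj⟩ := hRp ⟨g ^ p ^ m, hg⟩
    refine ⟨m + j, ?_⟩
    have := congrArg Subtype.val hj
    rw [Subgroup.coe_pow] at this
    rw [pow_add, pow_mul]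
    exact this
  by_cases h1 : x ^ p ^ m = 1
  · -- the interesting case
    obtain ⟨A, hA⟩ : ∃ A, A = ρb (QuotientGroup.mk' (Cfsg.pCore p X) x) := ⟨_, rfl⟩
    obtain ⟨Y, hY⟩ : ∃ Y, Y = ρb (QuotientGroup.mk' (Cfsg.pCore p X) x⁻¹) := ⟨_, rfl⟩
    have hAY : A * Y = 1 := by
      rw [hA, hY, ← map_mul, ← map_mul, mul_inv_cancel, map_one, map_one]
    have hYA : Y * A = 1 := by
      rw [hA, hY, ← map_mul, ← map_mul, inv_mul_cancel, map_one, map_one]
    rw [← hA] at hne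
    have hS : ∑ i ∈ Finset.range (p ^ m), Y ^ i ≠ 0 := by
      rw [← Cfsg.Agent.Helper5.HHT.sub_one_pow_eq_geom (K := ZMod p) p Y m]
      intro h0
      exact hne (LIFT_aux_inv hAY hYA _ h0)
    obtain ⟨v, hv⟩ : ∃ v, (∑ i ∈ Finset.range (p ^ m), Y ^ i) v ≠ 0 := by
      by_contra hcon
      push Not at hcon
      exact hS (LinearMap.ext hcon)
    obtain ⟨r, hr⟩ := D.surj (Multiplicative.ofAdd v)
    obtain ⟨u, hu1, hu2⟩ := hPF x r (p ^ m)
    rw [← hY, hr, toAdd_ofAdd] at hu2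
    rw [LinearMap.sum_apply] at hv
    rw [h1, one_mul] at hu1
    refine ⟨x * (r : X), hpel _ (by rw [hu1]; exact u.2), ?_⟩
    rw [hu1]
    intro hu0
    have hu1' : u = 1 := Subtype.ext hu0
    rw [hu1', map_one, toAdd_one] at hu2
    exact hv hu2.symm
  · exact ⟨x, hpel x hx, h1⟩

end F

end Cfsg.Agent.S3786P
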