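import Cfsg.Agent.Helper2.S3786SYL2core
import Cfsg.Agent.Helper6.S3786ThatCent

/-! # S3786 board, row SYL2. -/

set_option autoImplicit false

namespace Cfsg.Agent.S3786P

open Subgroup

universe u

section K

variable {F : Type*} [Field F] {p : ℕ} [Fact p.Prime] [CharP F p] {V : Type*} [AddCommGroup V] [Module F V]
  [FiniteDimensional F V] [Nontrivial V] {H : Type u} [Group H] [Finite H] {ρ₀ : Representation F H V}
  {T : Sylow p H} {n : ℕ}

/-- K3. A `T`-invariant Sylow 2-subgroup `S` of `O_{p'}(H)` on which `T̂` acts faithfully. -/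
theorem SYL2 (S : KSet ρ₀ p (T : Subgroup H) n) :
    ∃ S₂ : Subgroup H, S₂ ≤ Cfsg.pPrimeCore p H ∧ IsPGroup 2 S₂ ∧ (T : Subgroup H) ≤ normalizer (S₂ : Set H) ∧
      That (T : Subgroup H) p n ⊓ centralizer (S₂ : Set H) = ⊥ :=
  SYL2_aux_core S.sol S.core (fun q hq hqp R hR hTR hab => That_cent S q hq hqp R hR hTR hab)

end K

end Cfsg.Agent.S3786P
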