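import Mathlib
import Cfsg.Agent.Helper27.S4009Defs

/-! Board `s4009pieces`: pieces AR2, AR3, AR4 (pure arithmetic of the exponents). -/

set_option autoImplicit false

namespace Cfsg.Agent.S4009P

theorem AR_aux_gB_zero : gB 0 = 0 := by
  unfold gB; simp

theorem AR_aux_gB_one : gB 1 = 1 := by
  unfold gB; simp

theorem AR_aux_gB_succ_succ (m : ℕ) : gB (m + 2) = 2 * m + 2 := by
  unfold gB
  rw [if_neg (by omega)]
  have : 2 * (m + 2) - 2 = 2 * m + 2 := by omega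
  rw [this]
  exact max_eq_left (by omega)

theorem AR_aux_pow (m : ℕ) : ∃ s : ℕ, 2 ^ m - 1 = s ∧ 2 ^ (m + 1) - 1 = 2 * s + 1 ∧ (1 ≤ m → 1 ≤ s) := by
  have h1 : 1 ≤ 2 ^ m := Nat.one_le_two_pow
  refine ⟨2 ^ m - 1, rfl, ?_, ?_⟩
  · rw [pow_succ]; omega
  · intro hm
    have h2 : 2 ^ 1 ≤ 2 ^ m := Nat.pow_le_pow_right (by norm_num) hm
    omega

/-- AR2: the non-cyclic case with `σ ≥ 3`, or `σ = 2` and `b' ≥ 2b+2`. -/
theorem AR2 (m b b' σ : ℕ) (hb' : 2 * b + 1 ≤ b') (hσ : 3 ≤ σ ∨ (σ = 2 ∧ 2 * b + 2 ≤ b')) :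
    (2 ^ (m + 1) - 1) * (b + 1) + 1 + gB (m + 1) ≤
      σ + (b' - b - 1) + ((2 ^ m - 1) * (b' + 1) + 1 + gB m) := by
  obtain ⟨s, hs1, hs2, hs3⟩ := AR_aux_pow m
  rw [hs1, hs2]
  obtain ⟨e, rfl⟩ := Nat.exists_eq_add_of_le hb'
  have he : 2 * b + 1 + e - b - 1 = b + e := by omega
  rw [he]
  rcases m with _ | _ | m
  · -- m = 0
    have : s = 0 := by
      have : (2 : ℕ) ^ 0 - 1 = 0 := by norm_num
      omega
    subst this
    rw [AR_aux_gB_zero, show (0 : ℕ) + 1 = 1 from rfl, AR_aux_gB_one]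
    rcases hσ with h | ⟨h, h'⟩ <;> omega
  · -- m = 1
    have h1 : 1 ≤ s := hs3 (by omega)
    rw [show (0 : ℕ) + 1 + 1 = 0 + 2 from rfl, AR_aux_gB_succ_succ, show (0 : ℕ) + 1 = 1 from rfl, AR_aux_gB_one]
    rcases hσ with h | ⟨h, h'⟩
    · nlinarith [Nat.zero_le (s * e)]
    · have he1 : 1 ≤ e := by omega
      nlinarith [Nat.zero_le (s * e), Nat.mul_le_mul h1 he1]
  · -- m + 2
    have h1 : 1 ≤ s := hs3 (by omega)
    rw [show m + 1 + 1 + 1 = (m + 1) + 2 from rfl, AR_aux_gB_succ_succ, show m + 1 + 1 = m + 2 from rfl, AR_aux_gB_succ_succ]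
    rcases hσ with h | ⟨h, h'⟩
    · nlinarith [Nat.zero_le (s * e)]
    · have he1 : 1 ≤ e := by omega
      nlinarith [Nat.zero_le (s * e), Nat.mul_le_mul h1 he1]

/-- AR3: the case `σ = 2`, `b' = 2b+1`, `m ≥ 1`, with the cyclic bound at the next level. -/
theorem AR3 (m b : ℕ) (hm : 1 ≤ m) :
    (2 ^ (m + 1) - 1) * (b + 1) + 1 + gB (m + 1) ≤
      2 + ((2 * b + 1) - b - 1) + ((2 ^ m - 1) * ((2 * b + 1) + 1) + 1 + (2 * m - 1)) := by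
  obtain ⟨s, hs1, hs2, hs3⟩ := AR_aux_pow m
  rw [hs1, hs2]
  have he : 2 * b + 1 - b - 1 = b := by omega
  rw [he]
  obtain ⟨m, rfl⟩ := Nat.exists_eq_add_of_le hm
  rw [show 1 + m + 1 = m + 2 by ring, AR_aux_gB_succ_succ]
  have h2 : 2 * (1 + m) - 1 = 2 * m + 1 := by omega
  rw [h2]
  nlinarith

/-- AR4: the case `σ = 2`, `b' = 2b+1`, `m = 0`. -/
theorem AR4 (b : ℕ) :
    (2 ^ (0 + 1) - 1) * (b + 1) + 1 + gB (0 + 1) ≤
      2 + ((2 * b + 1) - b - 1) + ((2 ^ 0 - 1) * ((2 * b + 1) + 1) + 1 + gB 0) := by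
  rw [AR_aux_gB_zero, show (0 : ℕ) + 1 = 1 from rfl, AR_aux_gB_one]
  have he : 2 * b + 1 - b - 1 = b := by omega
  rw [he]
  norm_num
  omega

end Cfsg.Agent.S4009P
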