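import Mathlib
import Cfsg.Agent.Helper27.S4009Defs

/-! Board `s4009pieces`: piece BASE. -/

set_option autoImplicit false

namespace Cfsg.Agent.S4009P

variable {P : Type*} [Group P]

/-- BASE: `Gam b ≠ ⊥` has order at least `p`. -/
theorem BASE [Finite P] {p : ℕ} [Fact p.Prime] (hP : IsPGroup p P) {b : ℕ} (h : Gam P b ≠ ⊥) :
    p ≤ Nat.card ↥(Gam P b) := by
  have hp : p.Prime := Fact.out
  have hG : IsPGroup p ↥(Gam P b) := hP.to_subgroup _
  obtain ⟨n, hn⟩ := IsPGroup.iff_card.mp hG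
  rw [hn]
  have hn0 : n ≠ 0 := by
    rintro rfl
    rw [pow_zero] at hn
    exact h ((Subgroup.card_eq_one).mp hn)
  calc p = p ^ 1 := (pow_one p).symm
    _ ≤ p ^ n := Nat.pow_le_pow_right hp.pos (Nat.one_le_iff_ne_zero.mpr hn0)

end Cfsg.Agent.S4009P
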