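import Mathlib
import Cfsg.Agent.Helper27.S4009Defs
import Cfsg.Agent.Helper21.PolySeq

set_option autoImplicit false

namespace Cfsg.Agent.S4009P

open Subgroup

variable {P : Type*} [Group P]

theorem DERLE {X : Subgroup P} {b : ℕ} (hX : X ≤ Gam P b) : ⁅X, X⁆ ≤ Gam P (2 * b + 1) := by
  have h1 := Cfsg.Agent.Helper21.PolySeq.lcs_comm_le (G := P) b b
  have e : b + b + 1 = 2 * b + 1 := by omega
  rw [e] at h1
  exact (commutator_mono hX hX).trans h1

end Cfsg.Agent.S4009P
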