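import Mathlib
import Cfsg.Agent.Helper26.S4057Defs

set_option autoImplicit false

/-! Piece MAXN of the S4057 board: a maximal normal elementary abelian subgroup of small rank. -/

namespace Cfsg.Agent.S4057P

open scoped IsMulCommutative in
/-- an elementary abelian subgroup generated by a finset `S` has order dividing `p ^ |S|`. -/
theorem MAXN_aux_card {P : Type*} [Group P] [Finite P] {p : ℕ} (N : Subgroup P)
    [IsMulCommutative ↥N] (hexp : ∀ x ∈ N, x ^ p = 1) (S : Finset P)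
    (hS : Subgroup.closure (S : Set P) = N) : ∃ m, m ≤ S.card ∧ Nat.card N ∣ p ^ m := by
  subst hS
  refine ⟨Group.rank ↥(Subgroup.closure (S : Set P)), Subgroup.rank_closure_finset_le_card S, ?_⟩
  apply card_dvd_exponent_pow_rank'
  intro g
  apply Subtype.ext
  rw [Subgroup.coe_pow, Subgroup.coe_one]
  exact hexp g g.2

theorem MAXN {P : Type*} [Group P] [Finite P] {p : ℕ} [Fact p.Prime] (hP : IsPGroup p P) (k : ℕ)
    (hab : ∀ A : Subgroup P, A.Normal → IsMulCommutative A →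
      ∃ S : Finset P, S.card ≤ k ∧ Subgroup.closure (S : Set P) = A) :
    ∃ (N : Subgroup P) (r : ℕ), MaxElAb p N ∧ Nat.card N = p ^ r ∧ r ≤ k := by
  classical
  have hp : 1 < p := (Fact.out : p.Prime).one_lt
  let 𝒮 : Set (Subgroup P) := {M | M.Normal ∧ ElAb p M}
  have hbot : (⊥ : Subgroup P) ∈ 𝒮 := by
    refine ⟨inferInstance, ?_, ?_⟩
    · intro x hx y hy
      rw [Subgroup.mem_bot] at hx hy
      rw [hx, hy]
    · intro x hx
      rw [Subgroup.mem_bot] at hx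
      rw [hx, one_pow]
  obtain ⟨N, hN𝒮, hNmax⟩ := (wellFounded_gt (α := Subgroup P)).has_min 𝒮 ⟨⊥, hbot⟩
  have hmax : MaxElAb p N := by
    refine ⟨hN𝒮.1, hN𝒮.2, ?_⟩
    intro M hMn hMe hNM
    by_contra hne
    exact hNmax M ⟨hMn, hMe⟩ (lt_of_le_of_ne hNM (Ne.symm hne))
  obtain ⟨r, hr⟩ := (IsPGroup.iff_card (p := p)).mp (hP.to_subgroup N)
  refine ⟨N, r, hmax, hr, ?_⟩
  have hcomm : IsMulCommutative ↥N := ⟨⟨fun a b => Subtype.ext (hN𝒮.2.1 a a.2 b b.2)⟩⟩
  obtain ⟨S, hSk, hS⟩ := hab N hN𝒮.1 hcomm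
  obtain ⟨m, hmS, hdvd⟩ := MAXN_aux_card N hN𝒮.2.2 S hS
  rw [hr] at hdvd
  have : r ≤ m := (Nat.pow_dvd_pow_iff_le_right hp).mp hdvd
  omega

end Cfsg.Agent.S4057P
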