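import Mathlib
import Cfsg.Agent.Helper26.S4057Defs
import Cfsg.Agent.Helper9.S4057CLASS2
import Cfsg.Agent.Helper1.PGroup

set_option autoImplicit false

/-! Piece PCENT of the S4057 board: in a `p`-central `p`-group (`p` odd), `v^p = u^p` implies
`(v⁻¹u)^p = 1`. -/

namespace Cfsg.Agent.S4057P

open scoped commutatorElement

universe u

theorem PCENT_aux_ind {p : ℕ} [Fact p.Prime] (hp : p ≠ 2) (n : ℕ) :
    ∀ (G : Type u) [Group G] [Finite G], Nat.card G = n → IsPGroup p G →
      (∀ v : G, v ^ p = 1 → v ∈ Subgroup.center G) →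
      ∀ v u : G, v ^ p = u ^ p → (v⁻¹ * u) ^ p = 1 := by
  induction n using Nat.strong_induction_on with
  | _ n ih =>
    intro G _ _ hn hG hc v u h
    -- the statement for proper subgroups
    have sub : ∀ H : Subgroup G, H ≠ ⊤ → ∀ a ∈ H, ∀ b ∈ H, a ^ p = b ^ p →
        (a⁻¹ * b) ^ p = 1 := by
      intro H hH a ha b hb hab
      have hlt : Nat.card H < n := by
        by_contra hge
        push Not at hge
        exact hH (Subgroup.eq_top_of_le_card H (hn ▸ hge))
      have hcH : ∀ x : ↥H, x ^ p = 1 → x ∈ Subgroup.center ↥H := by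
        intro x hx
        have hx' : (x : G) ^ p = 1 := by
          have := congrArg Subtype.val hx
          simpa using this
        have hxc := hc (x : G) hx'
        rw [Subgroup.mem_center_iff] at hxc ⊢
        intro g
        exact Subtype.ext (hxc (g : G))
      have := ih (Nat.card H) hlt ↥H rfl (hG.to_subgroup H) hcH ⟨a, ha⟩ ⟨b, hb⟩
        (Subtype.ext (by simpa using hab))
      have := congrArg Subtype.val this
      simpa using this
    by_cases htop : Subgroup.closure ({v, u} : Set G) = ⊤
    · set w := u⁻¹ * v * u with hw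
      have hwp : w ^ p = v ^ p := by
        have e : w = u⁻¹ * v * (u⁻¹)⁻¹ := by rw [hw, inv_inv]
        rw [e, conj_pow, inv_inv, h, mul_assoc, ← pow_succ, pow_succ', inv_mul_cancel_left]
      by_cases hK : Subgroup.closure ({v, w} : Set G) = ⊤
      · -- `G` is cyclic, generated by `v`
        have hcomm : ⁅v⁻¹, u⁻¹⁆ ∈ frattini G := by
          apply Cfsg.Agent.Helper1.IsPGroup.commutator_le_frattini hG
          rw [commutator_def]
          exact Subgroup.commutator_mem_commutator (Subgroup.mem_top _) (Subgroup.mem_top _)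
        have hle : Subgroup.closure ({v, w} : Set G) ≤ Subgroup.zpowers v ⊔ frattini G := by
          rw [Subgroup.closure_le]
          rintro x (rfl | rfl)
          · exact Subgroup.mem_sup_left (Subgroup.mem_zpowers x)
          · have : w = v * ⁅v⁻¹, u⁻¹⁆ := by
              rw [hw, commutatorElement_def]; group
            rw [this]
            exact Subgroup.mul_mem _ (Subgroup.mem_sup_left (Subgroup.mem_zpowers v))
              (Subgroup.mem_sup_right hcomm)
        have hz : Subgroup.zpowers v = ⊤ := by
          apply frattini_nongenerating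
          rw [eq_top_iff, ← hK]; exact hle
        have hu : u ∈ Subgroup.zpowers v := by rw [hz]; exact Subgroup.mem_top u
        obtain ⟨k, rfl⟩ := Subgroup.mem_zpowers_iff.mp hu
        have hcm : Commute v⁻¹ (v ^ k) := ((Commute.refl v).zpow_right k).inv_left
        rw [hcm.mul_pow, inv_pow, h, inv_mul_cancel]
      · have hcp : (v⁻¹ * w) ^ p = 1 :=
          sub _ hK v (Subgroup.subset_closure (by simp)) w (Subgroup.subset_closure (by simp))
            hwp.symm
        set c := v⁻¹ * w with hcdef
        have hcc : c ∈ Subgroup.center G := hc c hcp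
        rw [Subgroup.mem_center_iff] at hcc
        have hcomm : ⁅u, v⁻¹⁆ = c := by
          have h1 : ⁅u, v⁻¹⁆ = u * c * u⁻¹ := by
            rw [commutatorElement_def, hcdef, hw]; group
          rw [h1, hcc u, mul_inv_cancel_right]
        have h1 : Commute ⁅u, v⁻¹⁆ v⁻¹ := by rw [hcomm]; exact (hcc v⁻¹).symm
        have h2 : Commute ⁅u, v⁻¹⁆ u := by rw [hcomm]; exact (hcc u).symm
        have h3 : ⁅u, v⁻¹⁆ ^ p = 1 := by rw [hcomm]; exact hcp
        rw [CLASS2P hp v⁻¹ u h1 h2 h3, inv_pow, h, inv_mul_cancel]
    · exact sub _ htop v (Subgroup.subset_closure (by simp)) u (Subgroup.subset_closure (by simp)) h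

theorem PCENT {G : Type*} [Group G] [Finite G] {p : ℕ} [Fact p.Prime] (hp : p ≠ 2)
    (hG : IsPGroup p G) (hc : ∀ v : G, v ^ p = 1 → v ∈ Subgroup.center G) (v u : G)
    (h : v ^ p = u ^ p) : (v⁻¹ * u) ^ p = 1 :=
  PCENT_aux_ind hp (Nat.card G) G rfl hG hc v u h

end Cfsg.Agent.S4057P
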