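import Mathlib

set_option autoImplicit false

namespace Cfsg.Agent.S4130P

/-- ARITH. -/
theorem ARITH (X e u S m c q t p : ℕ) (hp : 2 ≤ p) (hX : 0 < X) (he : 0 < e) (hc : 0 < c)
    (hm : 0 < m) (hcm : c ∣ m) (h1 : X = e * u + S) (h2 : u * q ≤ p * X) (h3 : S * q = t * X)
    (h4 : m * t + c * e ≤ c * q) (h5 : e * p ^ 2 ≤ q) : m = c := by
  obtain ⟨k, rfl⟩ := hcm
  have hk : 0 < k := by
    rcases Nat.eq_zero_or_pos k with h | h
    · subst h; simp at hm
    · exact h
  suffices hk2 : k < 2 by
    have : k = 1 := by omega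
    subst this; simp
  by_contra hk2
  rw [not_lt] at hk2
  -- m q X ≤ m e p X + c (q - e) X
  have hA : c * k * q * X ≤ c * k * e * p * X + (c * q - c * e) * X := by
    have e1 : c * k * q * X = c * k * e * (u * q) + c * k * (S * q) := by
      rw [h1]; ring
    have e2 : c * k * e * (u * q) ≤ c * k * e * (p * X) := Nat.mul_le_mul_left _ h2
    have e3 : c * k * (S * q) = (c * k * t) * X := by rw [h3]; ring
    have e4 : c * k * t ≤ c * q - c * e := by omega
    calc c * k * q * X = c * k * e * (u * q) + c * k * (S * q) := e1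
      _ ≤ c * k * e * (p * X) + (c * k * t) * X := by rw [e3]; exact Nat.add_le_add_right e2 _
      _ ≤ c * k * e * (p * X) + (c * q - c * e) * X :=
          Nat.add_le_add_left (Nat.mul_le_mul_right _ e4) _
      _ = c * k * e * p * X + (c * q - c * e) * X := by ring
  have hB : c * k * q ≤ c * k * e * p + (c * q - c * e) := by
    have : c * k * q * X ≤ (c * k * e * p + (c * q - c * e)) * X := by
      rw [add_mul]; exact hA
    exact Nat.le_of_mul_le_mul_right this hX
  have heq : e ≤ q := by
    calc e = e * 1 := (mul_one e).symm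
      _ ≤ e * p ^ 2 := Nat.mul_le_mul_left _ (Nat.one_le_pow _ _ (by omega))
      _ ≤ q := h5
  have hC : c * k * q + c * e ≤ c * k * e * p + c * q := by
    have : c * e ≤ c * q := Nat.mul_le_mul_left _ heq
    omega
  have hD : k * q + e ≤ k * e * p + q := by
    have : c * (k * q + e) ≤ c * (k * e * p + q) := by
      calc c * (k * q + e) = c * k * q + c * e := by ring
        _ ≤ c * k * e * p + c * q := hC
        _ = c * (k * e * p + q) := by ring
    exact Nat.le_of_mul_le_mul_left this hc
  -- k (q - e p) ≤ q - e, with k ≥ 2 and e p^2 ≤ q, p ≥ 2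
  have hep : e * p * p ≤ q := by rw [mul_assoc, ← sq]; exact h5
  have h2p : e * p * 2 ≤ e * p * p := Nat.mul_le_mul_left _ hp
  nlinarith [Nat.mul_le_mul_right (q) hk2, Nat.mul_le_mul_right (e * p) hk2]

end Cfsg.Agent.S4130P
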