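import Mathlib
import Cfsg.Agent.Helper17.SolvRad

/-!
# S4130, supersolvable step: the linear lemma LIN

`V` a finite abelian group of prime exponent `r`, `Γ` a finite solvable group acting faithfully and
irreducibly on `V` such that every element of `Γ` fixes a subgroup of index at most `r` pointwise.
Then `|V| = r`.
-/

set_option autoImplicit false

namespace Cfsg.Agent.S4130P

open Subgroup

section LIN

variable {V : Type*} [Group V] {Γ : Type*} [Group Γ] [MulDistribMulAction Γ V]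

/-- The commutator map `v ↦ v⁻¹ * δ • v` (a homomorphism since `V` is commutative). -/
def cm (hcomm : ∀ a b : V, a * b = b * a) (δ : Γ) : V →* V where
  toFun v := v⁻¹ * δ • v
  map_one' := by simp
  map_mul' a b := by
    rw [smul_mul', mul_inv_rev]
    calc b⁻¹ * a⁻¹ * (δ • a * δ • b) = b⁻¹ * (a⁻¹ * δ • a) * δ • b := by group
      _ = (a⁻¹ * δ • a) * b⁻¹ * δ • b := by rw [hcomm b⁻¹ (a⁻¹ * δ • a)]
      _ = a⁻¹ * δ • a * (b⁻¹ * δ • b) := by group

theorem cm_apply (hcomm : ∀ a b : V, a * b = b * a) (δ : Γ) (v : V) :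
    cm hcomm δ v = v⁻¹ * δ • v := rfl

theorem mem_ker_cm (hcomm : ∀ a b : V, a * b = b * a) (δ : Γ) (v : V) :
    v ∈ (cm hcomm δ).ker ↔ δ • v = v := by
  rw [MonoidHom.mem_ker, cm_apply, inv_mul_eq_one, eq_comm]

theorem card_ker_mul_card_range [Finite V] (hcomm : ∀ a b : V, a * b = b * a) (δ : Γ) :
    Nat.card (cm hcomm δ).ker * Nat.card (cm hcomm δ).range = Nat.card V := by
  rw [← Subgroup.index_ker, Subgroup.card_mul_index]

/-- iterate: `δ^k • v = v * w^k` when `δ • v = v * w` and `δ • w = w`. -/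
theorem pow_smul_eq (δ : Γ) (v w : V) (h1 : δ • v = v * w) (h2 : δ • w = w) (k : ℕ) :
    δ ^ k • v = v * w ^ k := by
  induction k with
  | zero => simp
  | succ k ih =>
    have hw : δ • (w ^ k) = w ^ k := by
      rw [smul_pow', h2]
    rw [pow_succ', mul_smul, ih, smul_mul', h1, hw, pow_succ', mul_assoc]

/-- For `δ` of order prime to the exponent `r`, `Fix δ ⊓ [V,δ] = ⊥`. -/
theorem ker_inf_range_cm (hcomm : ∀ a b : V, a * b = b * a) (r : ℕ) (hexp : ∀ v : V, v ^ r = 1)
    (δ : Γ) (hδ : (orderOf δ).Coprime r) :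
    (cm hcomm δ).ker ⊓ (cm hcomm δ).range = ⊥ := by
  rw [eq_bot_iff]
  rintro w ⟨hwk, v, rfl⟩
  rw [Subgroup.mem_bot]
  have hw : δ • (cm hcomm δ v) = cm hcomm δ v := (mem_ker_cm hcomm δ _).mp hwk
  have h1 : δ • v = v * cm hcomm δ v := by rw [cm_apply]; group
  have h3 := pow_smul_eq δ v (cm hcomm δ v) h1 hw (orderOf δ)
  rw [pow_orderOf_eq_one, one_smul] at h3
  have h4 : (cm hcomm δ v) ^ orderOf δ = 1 := by
    have := h3.symm
    rwa [mul_eq_left] at this
  have h5 : (cm hcomm δ v) ^ r = 1 := hexp _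
  have h6 : orderOf (cm hcomm δ v) ∣ Nat.gcd (orderOf δ) r :=
    Nat.dvd_gcd (orderOf_dvd_of_pow_eq_one h4) (orderOf_dvd_of_pow_eq_one h5)
  rw [hδ.gcd_eq_one, Nat.dvd_one, orderOf_eq_one_iff] at h6
  exact h6

/-- `[V,δ]` has order at most `r` when `Fix δ` has index at most `r`. -/
theorem card_range_cm_le [Finite V] (hcomm : ∀ a b : V, a * b = b * a) (r : ℕ) (δ : Γ)
    (hfix : Nat.card V ≤ r * Nat.card {v : V // δ • v = v}) :
    Nat.card (cm hcomm δ).range ≤ r := by
  have h1 := card_ker_mul_card_range hcomm δ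
  have h2 : Nat.card {v : V // δ • v = v} = Nat.card (cm hcomm δ).ker := by
    apply Nat.card_congr
    exact Equiv.subtypeEquivRight (fun v => (mem_ker_cm hcomm δ v).symm)
  rw [h2, ← h1, mul_comm] at hfix
  exact Nat.le_of_mul_le_mul_right hfix Nat.card_pos

/-- `[V,δ] ≠ ⊥` when `δ` acts non-trivially. -/
theorem range_cm_ne_bot (hcomm : ∀ a b : V, a * b = b * a) (δ : Γ) (v : V) (hv : δ • v ≠ v) :
    (cm hcomm δ).range ≠ ⊥ := by
  intro h
  have : cm hcomm δ v ∈ (cm hcomm δ).range := ⟨v, rfl⟩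
  rw [h, Subgroup.mem_bot, cm_apply, inv_mul_eq_one] at this
  exact hv this.symm

/-- `ε` maps `[V,δ]` into itself when `ε` commutes with `δ`. -/
theorem smul_mem_range_cm (hcomm : ∀ a b : V, a * b = b * a) (δ ε : Γ) (hc : ε * δ = δ * ε)
    (w : V) (hw : w ∈ (cm hcomm δ).range) : ε • w ∈ (cm hcomm δ).range := by
  obtain ⟨v, rfl⟩ := hw
  refine ⟨ε • v, ?_⟩
  rw [cm_apply, cm_apply, smul_mul', smul_inv', ← mul_smul, ← mul_smul, hc]

/-- The two-lines lemma. -/
theorem range_cm_eq_of_commute [Finite V] (hcomm : ∀ a b : V, a * b = b * a) (r : ℕ) (hr : r.Prime)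
    (hexp : ∀ v : V, v ^ r = 1)
    (hfix : ∀ γ : Γ, Nat.card V ≤ r * Nat.card {v : V // γ • v = v})
    (δ ε : Γ) (hc : ε * δ = δ * ε) (hδ : (orderOf δ).Coprime r) (hε : (orderOf ε).Coprime r)
    (hδ1 : Nat.card (cm hcomm δ).range = r) (hε1 : Nat.card (cm hcomm ε).range = r) :
    (cm hcomm δ).range = (cm hcomm ε).range := by
  by_contra hne
  -- the intersection is trivial
  have hinf : (cm hcomm δ).range ⊓ (cm hcomm ε).range = ⊥ := by
    by_contra hb
    have h1 : Nat.card ((cm hcomm δ).range ⊓ (cm hcomm ε).range : Subgroup V) ∣ r := by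
      rw [← hδ1]; exact Subgroup.card_dvd_of_le inf_le_left
    rcases (Nat.dvd_prime hr).mp h1 with h2 | h2
    · exact hb (Subgroup.card_eq_one.mp h2)
    · have e1 : (cm hcomm δ).range ⊓ (cm hcomm ε).range = (cm hcomm δ).range :=
        Subgroup.eq_of_le_of_card_ge inf_le_left (by rw [h2, hδ1])
      have e2 : (cm hcomm δ).range ⊓ (cm hcomm ε).range = (cm hcomm ε).range :=
        Subgroup.eq_of_le_of_card_ge inf_le_right (by rw [h2, hε1])
      exact hne (e1.symm.trans e2)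
  -- ε is trivial on [V,δ] and δ is trivial on [V,ε]
  have hεδ : ∀ w ∈ (cm hcomm δ).range, ε • w = w := by
    intro w hw
    have h1 : cm hcomm ε w ∈ (cm hcomm δ).range := by
      rw [cm_apply]
      exact Subgroup.mul_mem _ (Subgroup.inv_mem _ hw) (smul_mem_range_cm hcomm δ ε hc w hw)
    have h2 : cm hcomm ε w ∈ (cm hcomm ε).range := ⟨w, rfl⟩
    have h3 : cm hcomm ε w ∈ (cm hcomm δ).range ⊓ (cm hcomm ε).range := ⟨h1, h2⟩
    rw [hinf, Subgroup.mem_bot, cm_apply, inv_mul_eq_one] at h3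
    exact h3.symm
  have hδε : ∀ w ∈ (cm hcomm ε).range, δ • w = w := by
    intro w hw
    have h1 : cm hcomm δ w ∈ (cm hcomm ε).range := by
      rw [cm_apply]
      exact Subgroup.mul_mem _ (Subgroup.inv_mem _ hw) (smul_mem_range_cm hcomm ε δ hc.symm w hw)
    have h2 : cm hcomm δ w ∈ (cm hcomm δ).range := ⟨w, rfl⟩
    have h3 : cm hcomm δ w ∈ (cm hcomm δ).range ⊓ (cm hcomm ε).range := ⟨h2, h1⟩
    rw [hinf, Subgroup.mem_bot, cm_apply, inv_mul_eq_one] at h3
    exact h3.symm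
  -- cm δ is injective on [V,δ], hence onto it
  have surj_on : ∀ (η : Γ), (orderOf η).Coprime r →
      ∀ w ∈ (cm hcomm η).range, ∃ u ∈ (cm hcomm η).range, cm hcomm η u = w := by
    intro η hη
    have hinj : Function.Injective
        (fun u : (cm hcomm η).range => (⟨cm hcomm η u, ⟨u, rfl⟩⟩ : (cm hcomm η).range)) := by
      intro a b hab
      have h1 : cm hcomm η (a : V) = cm hcomm η (b : V) := congrArg Subtype.val hab
      have h2 : (a : V) * (b : V)⁻¹ ∈ (cm hcomm η).ker := by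
        rw [MonoidHom.mem_ker, map_mul, map_inv, h1, mul_inv_cancel]
      have h3 : (a : V) * (b : V)⁻¹ ∈ (cm hcomm η).range :=
        Subgroup.mul_mem _ a.2 (Subgroup.inv_mem _ b.2)
      have h4 : (a : V) * (b : V)⁻¹ ∈ (cm hcomm η).ker ⊓ (cm hcomm η).range := ⟨h2, h3⟩
      rw [ker_inf_range_cm hcomm r hexp η hη, Subgroup.mem_bot, mul_inv_eq_one] at h4
      exact Subtype.ext h4
    have hsurj := Finite.surjective_of_injective hinj
    intro w hw
    obtain ⟨u, hu⟩ := hsurj ⟨w, hw⟩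
    exact ⟨u, u.2, congrArg Subtype.val hu⟩
  -- [V,δ] ≤ [V,δ*ε] and [V,ε] ≤ [V,δ*ε]
  have h1 : (cm hcomm δ).range ≤ (cm hcomm (δ * ε)).range := by
    intro w hw
    obtain ⟨u, hu, rfl⟩ := surj_on δ hδ w hw
    refine ⟨u, ?_⟩
    rw [cm_apply, cm_apply, mul_smul, hεδ u hu]
  have h2 : (cm hcomm ε).range ≤ (cm hcomm (δ * ε)).range := by
    intro w hw
    obtain ⟨u, hu, rfl⟩ := surj_on ε hε w hw
    refine ⟨u, ?_⟩
    rw [cm_apply, cm_apply, mul_smul]
    have : ε • u ∈ (cm hcomm ε).range := smul_mem_range_cm hcomm ε ε rfl u hu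
    rw [hδε _ this]
  have h3 := card_range_cm_le hcomm r (δ * ε) (hfix (δ * ε))
  have e1 : (cm hcomm δ).range = (cm hcomm (δ * ε)).range :=
    Subgroup.eq_of_le_of_card_ge h1 (by rw [hδ1]; exact h3)
  have e2 : (cm hcomm ε).range = (cm hcomm (δ * ε)).range :=
    Subgroup.eq_of_le_of_card_ge h2 (by rw [hε1]; exact h3)
  exact hne (e1.trans e2.symm)

/-- card of a non-trivial subgroup of order at most `r` in a group of exponent `r` is `r`. -/
theorem card_eq_of_exp {V : Type*} [Group V] [Finite V] (r : ℕ) (hr : r.Prime)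
    (hexp : ∀ v : V, v ^ r = 1) (L : Subgroup V) (hL : L ≠ ⊥) (hle : Nat.card L ≤ r) :
    Nat.card L = r := by
  haveI : Fact r.Prime := ⟨hr⟩
  have hp : IsPGroup r L := by
    intro w
    refine ⟨1, ?_⟩
    rw [pow_one]
    exact Subtype.ext (by simpa using hexp (w : V))
  obtain ⟨j, hj⟩ := IsPGroup.iff_card.mp hp
  have hj0 : j ≠ 0 := by
    intro h0
    rw [h0, pow_zero] at hj
    exact hL (Subgroup.card_eq_one.mp hj)
  have : r ≤ r ^ j := by
    calc r = r ^ 1 := (pow_one r).symm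
      _ ≤ r ^ j := Nat.pow_le_pow_right hr.pos (Nat.one_le_iff_ne_zero.mpr hj0)
  omega

/-- LIN. -/
theorem LIN [Finite V] [Finite Γ] [FaithfulSMul Γ V] (hcomm : ∀ a b : V, a * b = b * a) (r : ℕ)
    (hr : r.Prime) (hexp : ∀ v : V, v ^ r = 1) (hV : Nontrivial V) (hsolv : Group.IsSolvable Γ)
    (hirr : ∀ W : Subgroup V, (∀ γ : Γ, ∀ w ∈ W, γ • w ∈ W) → W = ⊥ ∨ W = ⊤)
    (hfix : ∀ γ : Γ, Nat.card V ≤ r * Nat.card {v : V // γ • v = v}) :
    Nat.card V = r := by
  haveI : Fact r.Prime := ⟨hr⟩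
  by_cases hΓ : Subsingleton Γ
  · -- trivial action: V has no proper non-trivial subgroup
    obtain ⟨v, hv⟩ := exists_ne (1 : V)
    have h1 : zpowers v = ⊤ := by
      rcases hirr (zpowers v) (fun γ w hw => by
        rw [Subsingleton.elim γ 1, one_smul]; exact hw) with h | h
      · exact absurd (Subgroup.zpowers_eq_bot.mp h) hv
      · exact h
    have h2 : Nat.card (zpowers v) = r := by
      rw [Nat.card_zpowers]
      exact orderOf_eq_prime (hexp v) hv
    rw [← h2, h1, Subgroup.card_top]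
  · rw [not_subsingleton_iff_nontrivial] at hΓ
    -- a non-trivial abelian normal subgroup M
    have htop : (⊤ : Subgroup Γ) ≠ ⊥ := top_ne_bot
    obtain ⟨M, hMn, hM, hMc⟩ := Cfsg.Agent.Helper17.exists_normal_abelian (G := Γ) _ ⊤
      inferInstance htop inferInstance rfl
    have hcardM : Nat.card M ≠ 1 := fun h => hM (Subgroup.card_eq_one.mp h)
    set s := (Nat.card M).minFac with hs
    have hsp : s.Prime := Nat.minFac_prime hcardM
    haveI : Fact s.Prime := ⟨hsp⟩
    have hsd : s ∣ Nat.card M := Nat.minFac_dvd _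
    -- Ω = elements of M of order dividing s
    let Ω : Subgroup Γ :=
      { carrier := {δ | δ ∈ M ∧ δ ^ s = 1}
        one_mem' := ⟨M.one_mem, one_pow s⟩
        mul_mem' := by
          rintro a b ⟨ha, hap⟩ ⟨hb, hbp⟩
          refine ⟨M.mul_mem ha hb, ?_⟩
          have hab : Commute a b := hMc a ha b hb
          rw [hab.mul_pow, hap, hbp, one_mul]
        inv_mem' := by
          rintro a ⟨ha, hap⟩
          exact ⟨M.inv_mem ha, by rw [inv_pow, hap, inv_one]⟩ }
    have hΩmem : ∀ δ : Γ, δ ∈ Ω ↔ δ ∈ M ∧ δ ^ s = 1 := fun δ => Iff.rfl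
    have hΩconj : ∀ (γ δ : Γ), δ ∈ Ω → γ * δ * γ⁻¹ ∈ Ω := by
      intro γ δ hδ
      refine ⟨hMn.conj_mem δ hδ.1 γ, ?_⟩
      rw [conj_pow, hδ.2, mul_one, mul_inv_cancel]
    -- an element of order s in Ω
    obtain ⟨⟨δ₀, hδ₀M⟩, hδ₀⟩ := exists_prime_orderOf_dvd_card' s hsd
    have hδ₀o : orderOf δ₀ = s := by
      rw [← hδ₀]; exact (Subgroup.orderOf_mk δ₀ hδ₀M).symm
    have hδ₀Ω : δ₀ ∈ Ω := ⟨hδ₀M, by rw [← hδ₀o]; exact pow_orderOf_eq_one δ₀⟩
    have hδ₀1 : δ₀ ≠ 1 := by
      intro h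
      rw [h, orderOf_one] at hδ₀o
      exact hsp.one_lt.ne hδ₀o
    -- card V is a power of r, r ∣ card V
    have hpV : IsPGroup r V := fun v => ⟨1, by rw [pow_one]; exact hexp v⟩
    obtain ⟨k, hk⟩ := IsPGroup.iff_card.mp hpV
    have hk0 : k ≠ 0 := by
      intro h0
      rw [h0, pow_zero] at hk
      have := (Finite.one_lt_card_iff_nontrivial (α := V)).mpr hV
      omega
    -- non-trivial elements act non-trivially
    have hfaith : ∀ δ : Γ, δ ≠ 1 → ∃ v : V, δ • v ≠ v := by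
      intro δ hδ
      by_contra hcon
      push Not at hcon
      apply hδ
      apply FaithfulSMul.eq_of_smul_eq_smul (α := V)
      intro v
      rw [hcon v, one_smul]
    by_cases hsr : s = r
    · -- Ω is an r-group: fixed points
      exfalso
      let W : Subgroup V :=
        { carrier := {v | ∀ δ ∈ Ω, δ • v = v}
          one_mem' := fun δ _ => smul_one δ
          mul_mem' := by
            intro a b ha hb δ hδ
            rw [smul_mul', ha δ hδ, hb δ hδ]
          inv_mem' := by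
            intro a ha δ hδ
            rw [smul_inv', ha δ hδ] }
      have hWinv : ∀ γ : Γ, ∀ w ∈ W, γ • w ∈ W := by
        intro γ w hw δ hδ
        have h1 : γ⁻¹ * δ * γ ∈ Ω := by
          have := hΩconj γ⁻¹ δ hδ
          rwa [inv_inv] at this
        have h2 := hw _ h1
        calc δ • γ • w = γ • ((γ⁻¹ * δ * γ) • w) := by
              rw [← mul_smul, ← mul_smul]; congr 1; group
          _ = γ • w := by rw [h2]
      have hpΩ : IsPGroup r Ω := by
        intro δ
        refine ⟨1, ?_⟩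
        rw [pow_one]
        apply Subtype.ext
        have := δ.2.2
        rw [hsr] at this
        simpa using this
      have hmod := hpΩ.card_modEq_card_fixedPoints V
      have hfixeq : (MulAction.fixedPoints Ω V) = (W : Set V) := by
        ext v
        constructor
        · intro hv δ hδ
          exact hv ⟨δ, hδ⟩
        · intro hv δ
          exact hv δ.1 δ.2
      have hcardW : Nat.card (MulAction.fixedPoints Ω V) = Nat.card W := by
        rw [hfixeq]; rfl
      rw [hcardW, hk] at hmod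
      have hrW : r ∣ Nat.card W := by
        have h1 : r ∣ r ^ k := dvd_pow_self r hk0
        exact (Nat.modEq_zero_iff_dvd.mp ((hmod.symm).trans (Nat.modEq_zero_iff_dvd.mpr h1)))
      have hWbot : W ≠ ⊥ := by
        intro h
        rw [h, Subgroup.card_bot] at hrW
        exact hr.one_lt.ne' (Nat.dvd_one.mp hrW)
      rcases hirr W hWinv with h | h
      · exact hWbot h
      · obtain ⟨v, hv⟩ := hfaith δ₀ hδ₀1
        have : v ∈ W := h ▸ Subgroup.mem_top v
        exact hv (this δ₀ hδ₀Ω)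
    · -- s ≠ r: the common line
      have hcop : ∀ δ ∈ Ω, δ ≠ 1 → (orderOf δ).Coprime r := by
        intro δ hδ hδ1
        have : orderOf δ = s := orderOf_eq_prime hδ.2 hδ1
        rw [this]
        exact (Nat.coprime_primes hsp hr).mpr hsr
      have hcardr : ∀ δ ∈ Ω, δ ≠ 1 → Nat.card (cm hcomm δ).range = r := by
        intro δ _ hδ1
        obtain ⟨v, hv⟩ := hfaith δ hδ1
        exact card_eq_of_exp r hr hexp _ (range_cm_ne_bot hcomm δ v hv)
          (card_range_cm_le hcomm r δ (hfix δ))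
      set L := (cm hcomm δ₀).range with hL
      have hLinv : ∀ γ : Γ, ∀ w ∈ L, γ • w ∈ L := by
        rintro γ w ⟨v, rfl⟩
        have hδ' : γ * δ₀ * γ⁻¹ ∈ Ω := hΩconj γ δ₀ hδ₀Ω
        have hδ'1 : γ * δ₀ * γ⁻¹ ≠ 1 := by
          intro h
          apply hδ₀1
          have := congrArg (fun t => γ⁻¹ * t * γ) h
          simpa [mul_assoc] using this
        have hcomm' : (γ * δ₀ * γ⁻¹) * δ₀ = δ₀ * (γ * δ₀ * γ⁻¹) :=
          hMc _ hδ'.1 _ hδ₀Ω.1
        have heq := range_cm_eq_of_commute hcomm r hr hexp hfix δ₀ (γ * δ₀ * γ⁻¹) hcomm'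
          (hcop δ₀ hδ₀Ω hδ₀1) (hcop _ hδ' hδ'1) (hcardr δ₀ hδ₀Ω hδ₀1) (hcardr _ hδ' hδ'1)
        rw [hL, heq]
        refine ⟨γ • v, ?_⟩
        rw [cm_apply, cm_apply, smul_mul', smul_inv', ← mul_smul, ← mul_smul]
        congr 2
        group
      have hLbot : L ≠ ⊥ := by
        obtain ⟨v, hv⟩ := hfaith δ₀ hδ₀1
        exact range_cm_ne_bot hcomm δ₀ v hv
      rcases hirr L hLinv with h | h
      · exact absurd h hLbot
      · rw [← hcardr δ₀ hδ₀Ω hδ₀1, ← hL, h, Subgroup.card_top]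

end LIN

end Cfsg.Agent.S4130P
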