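import Mathlib
import Cfsg.Agent.Helper2.S4130Defs

set_option autoImplicit false

namespace Cfsg.Agent.S4130P

open Subgroup

/-- An automorphism of prime order `q` fixing `Z` pointwise: its fixed subgroup `F` contains `Z`, is proper,
and `q` divides `|T| - |F|`. -/
theorem prime_order_aut_fix {T : Type*} [Group T] [Finite T] (α : MulAut T) (q : ℕ)
    (hq : q.Prime) (hα : orderOf α = q) (Z : Subgroup T) (hZ : ∀ z ∈ Z, α z = z) :
    ∃ F : Subgroup T, Z ≤ F ∧ F ≠ ⊤ ∧ q ∣ Nat.card T - Nat.card F := by
  have : Fact q.Prime := ⟨hq⟩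
  let F : Subgroup T :=
    { carrier := {x | α x = x}
      mul_mem' := by
        intro a b ha hb
        show α (a * b) = a * b
        rw [map_mul, ha, hb]
      one_mem' := map_one α
      inv_mem' := by
        intro a ha
        show α a⁻¹ = a⁻¹
        rw [map_inv, ha] }
  have hP : IsPGroup q (Subgroup.zpowers α) :=
    IsPGroup.of_card (n := 1) (by rw [Nat.card_zpowers, hα, pow_one])
  have hfix : (MulAction.fixedPoints (Subgroup.zpowers α) T) = (F : Set T) := by
    ext x
    constructor
    · intro hx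
      exact hx ⟨α, Subgroup.mem_zpowers α⟩
    · rintro hx ⟨g, hg⟩
      obtain ⟨n, rfl⟩ := Subgroup.mem_zpowers_iff.mp hg
      show (α ^ n) x = x
      have hx' : α x = x := hx
      have key : ∀ m : ℕ, (α ^ m) x = x := by
        intro m
        induction m with
        | zero => simp
        | succ m ih => rw [pow_succ, MulAut.mul_apply, hx', ih]
      have keyinv : ∀ m : ℕ, (α ^ m)⁻¹ x = x := by
        intro m
        have := key m
        rw [MulAut.inv_apply, MulEquiv.symm_apply_eq]
        exact this.symm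
      cases n with
      | ofNat m => simpa using key m
      | negSucc m => simpa [zpow_negSucc] using keyinv (m + 1)
  have hmod := hP.card_modEq_card_fixedPoints T
  have hcardF : Nat.card (MulAction.fixedPoints (Subgroup.zpowers α) T) = Nat.card F := by
    rw [hfix]; rfl
  rw [hcardF] at hmod
  refine ⟨F, fun z hz => hZ z hz, ?_, ?_⟩
  · intro htop
    have h1 : α = 1 := by
      ext x
      have : x ∈ F := htop ▸ Subgroup.mem_top x
      exact this
    rw [h1, orderOf_one] at hα
    exact hq.one_lt.ne hα
  · exact (Nat.modEq_iff_dvd' (Subgroup.card_le_card_group F)).mp hmod.symm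

/-- CASE1. -/
theorem CASE1 {G : Type*} [Group G] [Finite G] {p : ℕ} [Fact p.Prime] (P : Sylow p G)
    (hc : Core G p P)
    (h : Nat.card ((P : Subgroup G) ⊓ center G : Subgroup G) * p = Nat.card (P : Subgroup G)) :
    normalizer ((P : Subgroup G) : Set G) ≤ centralizer ((P : Subgroup G) : Set G) := by
  have hp : p.Prime := Fact.out
  by_contra hN
  set φ := (P : Subgroup G).normalizerMonoidHom with hφ
  have hker : φ.ker = (Subgroup.centralizer ((P : Subgroup G) : Set G)).subgroupOf
      (Subgroup.normalizer ((P : Subgroup G) : Set G)) := Subgroup.normalizerMonoidHom_ker _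
  have hcard1 : Nat.card φ.range ≠ 1 := by
    intro h
    apply hN
    have h1 : φ.ker.index = 1 := by rw [Subgroup.index_ker, h]
    have h2 : φ.ker = ⊤ := Subgroup.index_eq_one.mp h1
    rw [hker, Subgroup.subgroupOf_eq_top] at h2
    exact h2
  set q := (Nat.card φ.range).minFac with hqdef
  have hq : q.Prime := Nat.minFac_prime hcard1
  have hqdvd : q ∣ Nat.card φ.range := Nat.minFac_dvd _
  have : Fact q.Prime := ⟨hq⟩
  obtain ⟨⟨α, hαr⟩, hα⟩ := exists_prime_orderOf_dvd_card' q hqdvd
  have hαq : orderOf α = q := by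
    rw [← hα]
    exact (Subgroup.orderOf_mk α hαr).symm
  -- q ≠ p
  have hqp : q ≠ p := by
    intro hqp
    have hPker : (P : Subgroup G).subgroupOf (Subgroup.normalizer ((P : Subgroup G) : Set G)) ≤ φ.ker := by
      rw [hker]
      intro x hx
      rw [Subgroup.mem_subgroupOf] at hx ⊢
      rw [Subgroup.mem_centralizer_iff]
      intro y hy
      exact hc.comm y hy x hx
    have h1 : φ.ker.index ∣ ((P : Subgroup G).subgroupOf
        (Subgroup.normalizer ((P : Subgroup G) : Set G))).index :=
      Subgroup.index_dvd_of_le hPker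
    have h2 : ((P : Subgroup G).subgroupOf
        (Subgroup.normalizer ((P : Subgroup G) : Set G))).index ∣ (P : Subgroup G).index :=
      Subgroup.relIndex_dvd_index_of_le Subgroup.le_normalizer
    rw [Subgroup.index_ker] at h1
    have h3 : q ∣ (P : Subgroup G).index := hqdvd.trans (h1.trans h2)
    rw [hqp] at h3
    exact P.not_dvd_index h3
  have hqG : q ∣ Nat.card G :=
    hqdvd.trans ((Subgroup.card_range_dvd φ).trans (Subgroup.card_subgroup_dvd_card _))
  have hpq : p ≤ q := hc.min q hq hqG
  -- α fixes Z pointwise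
  set Z' : Subgroup (P : Subgroup G) := (center G).subgroupOf (P : Subgroup G) with hZ'
  have hαZ : ∀ z ∈ Z', α z = z := by
    intro z hz
    obtain ⟨w, rfl⟩ := hαr
    rw [hZ', Subgroup.mem_subgroupOf] at hz
    apply Subtype.ext
    show (w : G) * (z : G) * (w : G)⁻¹ = (z : G)
    rw [(Subgroup.mem_center_iff.mp hz (w : G)), mul_inv_cancel_right]
  obtain ⟨F, hZF, hFtop, hqF⟩ := prime_order_aut_fix α q hq hαq Z' hαZ
  -- cardinalities
  have hcardZ' : Nat.card Z' = Nat.card ((P : Subgroup G) ⊓ center G : Subgroup G) := by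
    have e1 : Z' = ((P : Subgroup G) ⊓ center G).subgroupOf (P : Subgroup G) := by
      rw [hZ', Subgroup.inf_subgroupOf_left]
    rw [e1]
    exact Nat.card_congr (Subgroup.subgroupOfEquivOfLe inf_le_left).toEquiv
  set e := Nat.card ((P : Subgroup G) ⊓ center G : Subgroup G) with he
  have he0 : 0 < e := Nat.card_pos
  -- |F| = e
  have hZF' : e ∣ Nat.card F := by
    rw [← hcardZ']; exact Subgroup.card_dvd_of_le hZF
  have hFP : Nat.card F ∣ e * p := by
    rw [h]; exact Subgroup.card_subgroup_dvd_card F
  obtain ⟨d, hd⟩ := hZF'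
  have hdp : d ∣ p := by
    rw [hd] at hFP
    exact (Nat.mul_dvd_mul_iff_left he0).mp hFP
  have hd1 : d = 1 := by
    rcases (Nat.dvd_prime hp).mp hdp with h1 | h1
    · exact h1
    · exfalso
      apply hFtop
      rw [← Subgroup.card_eq_iff_eq_top, hd, h1, h]
  rw [hd1, mul_one] at hd
  -- q ∣ e * (p - 1)
  have hq1 : q ∣ e * (p - 1) := by
    have : Nat.card (P : Subgroup G) - Nat.card F = e * (p - 1) := by
      rw [hd, ← h, Nat.mul_sub, mul_one]
    rw [← this]; exact hqF
  -- q coprime to e
  have hqe : Nat.Coprime q e := by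
    have hZp : IsPGroup p ((P : Subgroup G) ⊓ center G : Subgroup G) := P.2.to_le inf_le_left
    obtain ⟨j, hj⟩ := IsPGroup.iff_card.mp hZp
    rw [he, hj]
    exact Nat.Coprime.pow_right j ((Nat.coprime_primes hq hp).mpr hqp)
  have hq2 : q ∣ p - 1 := hqe.dvd_of_dvd_mul_left hq1
  have hp1 : 0 < p - 1 := by have := hp.two_le; omega
  have := Nat.le_of_dvd hp1 hq2
  omega

end Cfsg.Agent.S4130P
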