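import Mathlib
import Cfsg.Agent.Helper2.S4130Defs

set_option autoImplicit false

namespace Cfsg.Agent.S4130P

open Subgroup

theorem B1_h2 {G : Type*} [Group G] [Finite G] {p : ℕ} [Fact p.Prime] (P : Sylow p G)
    (y : G) (hy : ¬ p ^ 2 ∣ (centralizer ({y} : Set G)).index) :
    Nat.card (P : Subgroup G) ≤ p * Nat.card {z : G // IsPEl p z ∧ z * y = y * z} := by
  have hp : p.Prime := Fact.out
  set D := centralizer ({y} : Set G) with hD
  let S : Sylow p D := default
  have hcardS : Nat.card (S : Subgroup D) = p ^ (Nat.card D).factorization p := S.card_eq_multiplicity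
  have hcardP : Nat.card (P : Subgroup G) = p ^ (Nat.card G).factorization p := P.card_eq_multiplicity
  have h4 : (Nat.card G).factorization p =
      (Nat.card D).factorization p + D.index.factorization p := by
    rw [← D.card_mul_index, Nat.factorization_mul Nat.card_pos.ne' D.index_ne_zero_of_finite]
    rfl
  have h5 : D.index.factorization p < 2 := by
    by_contra hcon
    rw [not_lt] at hcon
    exact hy ((hp.pow_dvd_iff_le_factorization D.index_ne_zero_of_finite).mpr hcon)
  let f : ↥(S : Subgroup D) → {z : G // IsPEl p z ∧ z * y = y * z} := fun s =>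
    ⟨((s : D) : G), by
      constructor
      · obtain ⟨k, hk⟩ := S.2 s
        have h1 : orderOf s ∣ p ^ k := orderOf_dvd_of_pow_eq_one hk
        obtain ⟨j, _, hj⟩ := (Nat.dvd_prime_pow hp).mp h1
        refine ⟨j, ?_⟩
        rw [← hj, Subgroup.orderOf_coe, Subgroup.orderOf_coe]
      · have : ((s : D) : G) ∈ centralizer ({y} : Set G) := (s : D).2
        exact Subgroup.mem_centralizer_singleton_iff.mp this⟩
  have hf : Function.Injective f := by
    intro a b hab
    have : ((a : D) : G) = ((b : D) : G) := congrArg (fun t => t.1) hab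
    exact Subtype.ext (Subtype.ext this)
  have hle : Nat.card (S : Subgroup D) ≤ Nat.card {z : G // IsPEl p z ∧ z * y = y * z} :=
    Nat.card_le_card_of_injective f hf
  calc Nat.card (P : Subgroup G) = p ^ (Nat.card G).factorization p := hcardP
    _ ≤ p ^ ((Nat.card D).factorization p + 1) := Nat.pow_le_pow_right hp.pos (by omega)
    _ = p * p ^ (Nat.card D).factorization p := by rw [pow_succ]; ring
    _ = p * Nat.card (S : Subgroup D) := by rw [hcardS]
    _ ≤ p * Nat.card {z : G // IsPEl p z ∧ z * y = y * z} := Nat.mul_le_mul_left _ hle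

end Cfsg.Agent.S4130P
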