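import Mathlib
import Cfsg.Agent.Helper2.S4130Defs

set_option autoImplicit false

namespace Cfsg.Agent.S4130P

open Subgroup

/-- Every class of non-central `p`-elements has a representative in the Sylow subgroup `P`. -/
theorem exists_rep_in_sylow {G : Type*} [Group G] [Finite G] {p : ℕ} [Fact p.Prime] (P : Sylow p G)
    (κ : ConjClasses G) (hκ : κ ∈ Tset p G) :
    ∃ x : G, x ∈ (P : Subgroup G) ∧ x ∉ center G ∧ ConjClasses.mk x = κ := by
  obtain ⟨z, hzκ, ⟨k, hk⟩, hzc⟩ := hκ
  have hzp : IsPGroup p (zpowers z) := by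
    apply IsPGroup.of_card (n := k)
    rw [Nat.card_zpowers, hk]
  obtain ⟨Q, hQ⟩ := hzp.exists_le_sylow
  obtain ⟨g, hg⟩ := MulAction.exists_smul_eq G Q P
  have hzQ : z ∈ (Q : Subgroup G) := hQ (mem_zpowers z)
  have hgz : g * z * g⁻¹ ∈ (P : Subgroup G) := by
    rw [← hg, Sylow.coe_subgroup_smul]
    exact ⟨z, hzQ, rfl⟩
  refine ⟨g * z * g⁻¹, hgz, ?_, ?_⟩
  · intro hcen
    apply hzc
    have := (Subgroup.center G).normal_of_characteristic.conj_mem _ hcen g⁻¹
    simpa [mul_assoc] using this
  · rw [← hzκ, ConjClasses.mk_eq_mk_iff_isConj]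
    exact (isConj_iff.mpr ⟨g, rfl⟩).symm

/-- C4b: every class of non-central p-elements meets P in at least |N:C| elements. -/
theorem C4b {G : Type*} [Group G] [Finite G] {p : ℕ} [Fact p.Prime] (P : Sylow p G)
    (_hc : Core G p P) (hb : HypB P) :
    Nat.card (normalizer ((P : Subgroup G) : Set G)) * Nat.card (Tset p G) +
        Nat.card (centralizer ((P : Subgroup G) : Set G)) *
          Nat.card ((P : Subgroup G) ⊓ center G : Subgroup G) ≤
      Nat.card (centralizer ((P : Subgroup G) : Set G)) * Nat.card (P : Subgroup G) := by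
  classical
  set N := normalizer ((P : Subgroup G) : Set G) with hN
  set C := centralizer ((P : Subgroup G) : Set G) with hC
  have hCN : C ≤ N := Subgroup.centralizer_le_normalizer _
  -- representatives
  choose! rep hrepP hrepc hrepκ using exists_rep_in_sylow P
  -- the target set
  let Tgt : Set G := {x | x ∈ (P : Subgroup G) ∧ x ∉ center G}
  -- the map
  let f : (Tset p G) × (N ⧸ C.subgroupOf N) → Tgt := fun a =>
    ⟨((Quotient.out a.2 : N) : G) * rep a.1.1 * ((Quotient.out a.2 : N) : G)⁻¹, by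
      constructor
      · have hn : ((Quotient.out a.2 : N) : G) ∈ N := (Quotient.out a.2 : N).2
        exact (Subgroup.mem_normalizer_iff.mp hn (rep a.1.1)).mp (hrepP _ a.1.2)
      · intro hcen
        apply hrepc _ a.1.2
        have := (Subgroup.center G).normal_of_characteristic.conj_mem _ hcen
          ((Quotient.out a.2 : N) : G)⁻¹
        simpa [mul_assoc] using this⟩
  have hf : Function.Injective f := by
    rintro ⟨⟨κ, hκ⟩, q⟩ ⟨⟨κ', hκ'⟩, q'⟩ h
    have h' : ((Quotient.out q : N) : G) * rep κ * ((Quotient.out q : N) : G)⁻¹ =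
        ((Quotient.out q' : N) : G) * rep κ' * ((Quotient.out q' : N) : G)⁻¹ :=
      congrArg Subtype.val h
    have hκκ' : κ = κ' := by
      rw [← hrepκ κ hκ, ← hrepκ κ' hκ', ConjClasses.mk_eq_mk_iff_isConj]
      have h1 : IsConj (rep κ) (((Quotient.out q : N) : G) * rep κ * ((Quotient.out q : N) : G)⁻¹) :=
        isConj_iff.mpr ⟨_, rfl⟩
      have h2 : IsConj (rep κ') (((Quotient.out q' : N) : G) * rep κ' * ((Quotient.out q' : N) : G)⁻¹) :=
        isConj_iff.mpr ⟨_, rfl⟩
      rw [h'] at h1
      exact h1.trans h2.symm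
    subst hκκ'
    have hqq' : q = q' := by
      rw [← Quotient.out_eq q, ← Quotient.out_eq q']
      apply Quotient.sound
      show (QuotientGroup.leftRel (C.subgroupOf N)) _ _
      rw [QuotientGroup.leftRel_apply, Subgroup.mem_subgroupOf]
      set n := (Quotient.out q : N) with hn
      set n' := (Quotient.out q' : N) with hn'
      have hmem : ((n⁻¹ * n' : N) : G) ∈ N ⊓ centralizer ({rep κ} : Set G) := by
        refine ⟨(n⁻¹ * n').2, ?_⟩
        show ((n⁻¹ * n' : N) : G) ∈ centralizer ({rep κ} : Set G)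
        rw [Subgroup.mem_centralizer_singleton_iff]
        have e1 : (n : G) * rep κ * (n : G)⁻¹ = (n' : G) * rep κ * (n' : G)⁻¹ := h'
        have : ((n⁻¹ * n' : N) : G) = (n : G)⁻¹ * (n' : G) := by simp
        rw [this]
        have e2 : rep κ = (n : G)⁻¹ * ((n' : G) * rep κ * (n' : G)⁻¹) * (n : G) := by
          rw [← e1]; group
        calc (n : G)⁻¹ * (n' : G) * rep κ
            = ((n : G)⁻¹ * ((n' : G) * rep κ * (n' : G)⁻¹) * (n : G)) * ((n : G)⁻¹ * (n' : G)) := by
              group
          _ = rep κ * ((n : G)⁻¹ * (n' : G)) := by rw [← e2]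
      exact hb (rep κ) (hrepP κ hκ) (hrepc κ hκ) hmem
    rw [hqq']
  have hcard1 : Nat.card (Tset p G) * Nat.card (N ⧸ C.subgroupOf N) ≤ Nat.card Tgt := by
    rw [← Nat.card_prod]
    exact Nat.card_le_card_of_injective f hf
  -- |Tgt| + |P ⊓ Z| = |P|
  have hcard2 : Nat.card Tgt + Nat.card ((P : Subgroup G) ⊓ center G : Subgroup G) =
      Nat.card (P : Subgroup G) := by
    have e : (P : Subgroup G) ≃ Tgt ⊕ ((P : Subgroup G) ⊓ center G : Subgroup G) :=
      { toFun := fun x => if h : (x : G) ∈ center G then Sum.inr ⟨x, x.2, h⟩ else Sum.inl ⟨x, x.2, h⟩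
        invFun := fun y => Sum.elim (fun a => ⟨a.1, a.2.1⟩) (fun b => ⟨b.1, b.2.1⟩) y
        left_inv := by
          intro x
          by_cases h : (x : G) ∈ center G
          · simp [h]
          · simp [h]
        right_inv := by
          rintro (⟨a, ha1, ha2⟩ | ⟨b, hb1, hb2⟩)
          · simp [ha2]
          · have hb2' : b ∈ center G := hb2
            simp [hb2'] }
    rw [Nat.card_congr e, Nat.card_sum]
  -- |N| = |C| * |N/C|
  have hcard3 : Nat.card N = Nat.card C * Nat.card (N ⧸ C.subgroupOf N) := by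
    have h1 := (C.subgroupOf N).card_mul_index
    rw [Subgroup.index_eq_card] at h1
    rw [← h1]
    congr 1
    exact Nat.card_congr (Subgroup.subgroupOfEquivOfLe hCN).toEquiv
  rw [hcard3]
  calc Nat.card C * Nat.card (N ⧸ C.subgroupOf N) * Nat.card (Tset p G) +
        Nat.card C * Nat.card ((P : Subgroup G) ⊓ center G : Subgroup G)
      = Nat.card C * (Nat.card (Tset p G) * Nat.card (N ⧸ C.subgroupOf N) +
          Nat.card ((P : Subgroup G) ⊓ center G : Subgroup G)) := by ring
    _ ≤ Nat.card C * (Nat.card Tgt + Nat.card ((P : Subgroup G) ⊓ center G : Subgroup G)) :=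
        Nat.mul_le_mul_left _ (Nat.add_le_add_right hcard1 _)
    _ = Nat.card C * Nat.card (P : Subgroup G) := by rw [hcard2]

end Cfsg.Agent.S4130P
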