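import Mathlib
import Cfsg.Agent.Helper2.S4130Defs
import Cfsg.Agent.Helper18.S4130C1

set_option autoImplicit false

namespace Cfsg.Agent.S4130P

open Subgroup

/-- C2a: for x in P non-central, #p'-elements of C(x) * |P| = |C(x)|. -/
theorem C2a {G : Type*} [Group G] [Finite G] {p : ℕ} [Fact p.Prime] (P : Sylow p G)
    (hc : Core G p P) (hb : HypB P) (x : G) (hx : x ∈ (P : Subgroup G)) (hxc : x ∉ center G) :
    Nat.card {y : G // IsPpEl p y ∧ x * y = y * x} * Nat.card (P : Subgroup G) =
      Nat.card (centralizer ({x} : Set G)) := by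
  set Y := centralizer ({x} : Set G) with hY
  have hPY : (P : Subgroup G) ≤ Y := by
    intro a ha
    rw [hY, Subgroup.mem_centralizer_singleton_iff]
    exact hc.comm a ha x hx
  set Q : Sylow p Y := P.subtype hPY with hQ
  have hmemQ : ∀ q : Y, q ∈ (Q : Subgroup Y) ↔ (q : G) ∈ (P : Subgroup G) := by
    intro q
    rw [hQ, Sylow.coe_subtype, Subgroup.mem_subgroupOf]
  have hN : normalizer ((Q : Subgroup Y) : Set Y) ≤ centralizer ((Q : Subgroup Y) : Set Y) := by
    intro g hg
    have hgN : (g : G) ∈ normalizer ((P : Subgroup G) : Set G) := by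
      rw [Subgroup.mem_normalizer_iff]
      intro a
      constructor
      · intro ha
        have := (Subgroup.mem_normalizer_iff.mp hg ⟨a, hPY ha⟩).mp ((hmemQ _).mpr ha)
        exact (hmemQ _).mp this
      · intro ha
        -- a = g⁻¹ (g a g⁻¹) g, with g a g⁻¹ ∈ P ≤ Y
        have haY : a ∈ Y := by
          have h1 : (g : G) * a * (g : G)⁻¹ ∈ Y := hPY ha
          have h2 := Y.mul_mem (Y.mul_mem (Y.inv_mem g.2) h1) g.2
          simpa [mul_assoc] using h2
        have := (Subgroup.mem_normalizer_iff.mp hg ⟨a, haY⟩).mpr ((hmemQ _).mpr ha)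
        exact (hmemQ _).mp this
    have hgC := hb x hx hxc ⟨hgN, g.2⟩
    rw [Subgroup.mem_centralizer_iff] at hgC ⊢
    intro q hq
    exact Subtype.ext (hgC (q : G) ((hmemQ q).mp hq))
  have h1 := C1 Q hN
  have hcardQ : Nat.card (Q : Subgroup Y) = Nat.card (P : Subgroup G) := by
    rw [hQ, Sylow.coe_subtype]
    exact Nat.card_congr (Subgroup.subgroupOfEquivOfLe hPY).toEquiv
  have hcardU : Nat.card (Uset p Y) = Nat.card {y : G // IsPpEl p y ∧ x * y = y * x} := by
    apply Nat.card_congr
    refine
      { toFun := fun y => ⟨(y.1 : G), ?_, ?_⟩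
        invFun := fun y => ⟨⟨y.1, ?_⟩, ?_⟩
        left_inv := fun y => rfl
        right_inv := fun y => rfl }
    · have := y.2
      unfold Uset IsPpEl at this
      unfold IsPpEl
      simpa [Subgroup.orderOf_coe] using this
    · have : (y.1 : G) ∈ centralizer ({x} : Set G) := y.1.2
      exact (Subgroup.mem_centralizer_singleton_iff.mp this).symm
    · rw [hY, Subgroup.mem_centralizer_singleton_iff]
      exact y.2.2.symm
    · have := y.2.1
      unfold IsPpEl at this
      show IsPpEl p _
      unfold IsPpEl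
      rw [← Subgroup.orderOf_coe]
      exact this
  rw [← hcardU, ← hcardQ]
  exact h1

end Cfsg.Agent.S4130P
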