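import Mathlib
import Cfsg.Agent.Helper2.S4130Defs
import Cfsg.Agent.Helper2.S4130ARITH
import Cfsg.Agent.Helper19.S4130A0
import Cfsg.Agent.Helper29.S4130C3
import Cfsg.Agent.Helper18.S4130C4a
import Cfsg.Agent.Helper2.S4130C4b
import Cfsg.Agent.Helper19.S4130SPLIT
import Cfsg.Agent.Helper18.S4130Bof
import Cfsg.Agent.Helper2.S4130B1h
import Cfsg.Agent.Helper3.S4130C2

set_option autoImplicit false

namespace Cfsg.Agent.S4130P

open Subgroup

/-- COUNT: the counting step. -/
theorem COUNT {G : Type*} [Group G] [Finite G] {p : ℕ} [Fact p.Prime] (P : Sylow p G)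
    (hc : Core G p P) (hb : HypB P)
    (h5 : Nat.card ((P : Subgroup G) ⊓ center G : Subgroup G) * p ^ 2 ≤ Nat.card (P : Subgroup G)) :
    normalizer ((P : Subgroup G) : Set G) ≤ centralizer ((P : Subgroup G) : Set G) := by
  have hCN : centralizer ((P : Subgroup G) : Set G) ≤ normalizer ((P : Subgroup G) : Set G) :=
    Subgroup.centralizer_le_normalizer _
  have h1 : Nat.card G = Nat.card ((P : Subgroup G) ⊓ center G : Subgroup G) * Nat.card (Uset p G) +
        Nat.card (Pout p G) := by
    rw [← A0 p G]; exact SPLIT P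
  have h2 := B_of P hc (A0 p G) (B1_h2 P)
  have h3 : Nat.card (Pout p G) * Nat.card (P : Subgroup G) = Nat.card (Tset p G) * Nat.card G := by
    rw [← C4a p G]
    exact C3 (Nat.card (P : Subgroup G)) (fun z hz hzc => C2 P hc hb z hz hzc)
  have h4 := C4b P hc hb
  have hcard : Nat.card (normalizer ((P : Subgroup G) : Set G)) =
      Nat.card (centralizer ((P : Subgroup G) : Set G)) :=
    ARITH (Nat.card G) (Nat.card ((P : Subgroup G) ⊓ center G : Subgroup G)) (Nat.card (Uset p G))
      (Nat.card (Pout p G)) (Nat.card (normalizer ((P : Subgroup G) : Set G)))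
      (Nat.card (centralizer ((P : Subgroup G) : Set G))) (Nat.card (P : Subgroup G))
      (Nat.card (Tset p G)) p (Fact.out : p.Prime).two_le Nat.card_pos Nat.card_pos Nat.card_pos
      Nat.card_pos (Subgroup.card_dvd_of_le hCN) h1 h2 h3 h4 h5
  have : centralizer ((P : Subgroup G) : Set G) = normalizer ((P : Subgroup G) : Set G) := by
    apply Subgroup.eq_of_le_of_card_ge hCN
    rw [hcard]
  rw [this]

end Cfsg.Agent.S4130P
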