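import Mathlib
import Cfsg.Agent.Helper2.S4130Defs

set_option autoImplicit false

namespace Cfsg.Agent.S4130P

open Subgroup

/-- A `p`-subgroup of `G` containing `x`, where the Sylow subgroups are abelian, centralizes `x`. -/
theorem pSubgroup_le_centralizer {G : Type*} [Group G] [Finite G] {p : ℕ} [Fact p.Prime]
    (P : Sylow p G)
    (hcomm : ∀ a ∈ (P : Subgroup G), ∀ b ∈ (P : Subgroup G), a * b = b * a)
    (S : Subgroup G) (hS : IsPGroup p S) (x : G) (hx : x ∈ S) :
    S ≤ centralizer ({x} : Set G) := by
  obtain ⟨P₁, hP₁⟩ := hS.exists_le_sylow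
  obtain ⟨g, hg⟩ := MulAction.exists_smul_eq G P P₁
  have hcomm₁ : ∀ a ∈ (P₁ : Subgroup G), ∀ b ∈ (P₁ : Subgroup G), a * b = b * a := by
    intro a ha b hb
    rw [← hg, Sylow.coe_subgroup_smul] at ha hb
    obtain ⟨a', ha', rfl⟩ := ha
    obtain ⟨b', hb', rfl⟩ := hb
    have := hcomm a' ha' b' hb'
    simp only [MulDistribMulAction.toMonoidEnd_apply, MulDistribMulAction.toMonoidHom_apply,
      MulAut.smul_def, MulAut.conj_apply]
    calc g * a' * g⁻¹ * (g * b' * g⁻¹) = g * (a' * b') * g⁻¹ := by group
      _ = g * (b' * a') * g⁻¹ := by rw [this]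
      _ = g * b' * g⁻¹ * (g * a' * g⁻¹) := by group
  intro s hs
  rw [Subgroup.mem_centralizer_singleton_iff]
  exact hcomm₁ s (hP₁ hs) x (hP₁ hx)

/-- INH. -/
theorem INH {G : Type*} [Group G] [Finite G] {p : ℕ} [Fact p.Prime] (P : Sylow p G)
    (hc : Core G p P) (x : G) (hx : x ∈ (P : Subgroup G)) :
    ∃ Q : Sylow p (centralizer ({x} : Set G)),
      (Q : Subgroup (centralizer ({x} : Set G))).map (Subgroup.subtype _) = (P : Subgroup G) ∧
        Core (centralizer ({x} : Set G)) p Q := by
  have hp : p.Prime := Fact.out
  set Y := centralizer ({x} : Set G) with hY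
  have hPY : (P : Subgroup G) ≤ Y := by
    intro a ha
    rw [hY, Subgroup.mem_centralizer_singleton_iff]
    exact hc.comm a ha x hx
  refine ⟨P.subtype hPY, ?_, ?_⟩
  · rw [Sylow.coe_subtype, Subgroup.subgroupOf_map_subtype]
    exact inf_eq_left.mpr hPY
  · refine ⟨?_, ?_, ?_⟩
    · intro a ha b hb
      rw [Sylow.coe_subtype, Subgroup.mem_subgroupOf] at ha hb
      exact Subtype.ext (hc.comm a ha b hb)
    · intro r hr hrd
      exact hc.min r hr (hrd.trans (Subgroup.card_subgroup_dvd_card Y))
    · intro y hy hdiv
      -- `y` as an element of `G`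
      have hyG : IsPpEl p (y : G) := by
        unfold IsPpEl at hy ⊢
        rwa [Subgroup.orderOf_coe]
      have hcls := hc.cls (y : G) hyG
      set D := centralizer ({(y : G)} : Set G) with hD
      have hxD : x ∈ D := by
        rw [hD, Subgroup.mem_centralizer_singleton_iff]
        have : (y : G) ∈ centralizer ({x} : Set G) := y.2
        rw [Subgroup.mem_centralizer_singleton_iff] at this
        exact this.symm
      -- a Sylow p-subgroup of D containing x
      have hzp : IsPGroup p ((zpowers x).subgroupOf D) := by
        have h1 : IsPGroup p (zpowers x) := P.2.to_le (by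
          rw [Subgroup.zpowers_le]; exact hx)
        exact h1.comap_subtype
      obtain ⟨S, hS⟩ := hzp.exists_le_sylow
      set S' : Subgroup G := (S : Subgroup D).map D.subtype with hS'
      have hS'p : IsPGroup p S' := S.2.map _
      have hxS' : x ∈ S' := by
        refine ⟨⟨x, hxD⟩, hS ?_, rfl⟩
        rw [Subgroup.mem_subgroupOf]
        exact mem_zpowers x
      have hS'D : S' ≤ D := by
        rintro _ ⟨d, _, rfl⟩
        exact d.2
      have hS'Y : S' ≤ Y := pSubgroup_le_centralizer P hc.comm S' hS'p x hxS'
      have hcardS' : Nat.card S' = p ^ (Nat.card D).factorization p := by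
        rw [hS', Subgroup.card_map_of_injective D.subtype_injective]
        exact S.card_eq_multiplicity
      -- T := S' inside Y, contained in C_Y(y)
      have hTle : S'.subgroupOf Y ≤ centralizer ({y} : Set Y) := by
        intro t ht
        rw [Subgroup.mem_subgroupOf] at ht
        rw [Subgroup.mem_centralizer_singleton_iff]
        have := hS'D ht
        rw [hD, Subgroup.mem_centralizer_singleton_iff] at this
        exact Subtype.ext this
      have hcardT : Nat.card (S'.subgroupOf Y) = Nat.card S' :=
        Nat.card_congr (Subgroup.subgroupOfEquivOfLe hS'Y).toEquiv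
      -- divisibility chain
      have h1 : p ^ (Nat.card D).factorization p ∣ Nat.card (centralizer ({y} : Set Y)) := by
        rw [← hcardS', ← hcardT]
        exact Subgroup.card_dvd_of_le hTle
      have h2 : p ^ (Nat.card D).factorization p * p ^ 2 ∣ Nat.card G := by
        have := Nat.mul_dvd_mul h1 hdiv
        rw [Subgroup.card_mul_index] at this
        exact this.trans (Subgroup.card_subgroup_dvd_card Y)
      rw [← pow_add] at h2
      have hG0 : Nat.card G ≠ 0 := Nat.card_pos.ne'
      have h3 : (Nat.card D).factorization p + 2 ≤ (Nat.card G).factorization p :=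
        (hp.pow_dvd_iff_le_factorization hG0).mp h2
      have h4 : (Nat.card G).factorization p =
          (Nat.card D).factorization p + D.index.factorization p := by
        rw [← D.card_mul_index, Nat.factorization_mul Nat.card_pos.ne' D.index_ne_zero_of_finite]
        rfl
      have h5 : D.index.factorization p < 2 := by
        by_contra hcon
        rw [not_lt] at hcon
        exact hcls ((hp.pow_dvd_iff_le_factorization D.index_ne_zero_of_finite).mpr hcon)
      omega

end Cfsg.Agent.S4130P
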