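import Mathlib
import Cfsg.Agent.Helper2.S4130Defs
import Cfsg.Agent.Helper2.S4130COUNT
import Cfsg.Agent.Helper2.S4130INH
import Cfsg.Agent.Helper29.S4130INH2
import Cfsg.Agent.Helper2.S4130CASE1

set_option autoImplicit false

namespace Cfsg.Agent.S4130P

open Subgroup

universe u

theorem CORE_aux : ∀ (n : ℕ) (G : Type u) [Group G] [Finite G] (p : ℕ) [Fact p.Prime]
    (P : Sylow p G), Nat.card G = n → Core G p P →
    normalizer ((P : Subgroup G) : Set G) ≤ centralizer ((P : Subgroup G) : Set G) := by
  intro n
  induction n using Nat.strong_induction_on with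
  | _ n ih =>
  intro G _ _ p _ P hn hc
  -- hypothesis (b) from the induction hypothesis
  have hb : HypB P := by
    intro x hx hxc
    obtain ⟨Q, hQ, hcQ⟩ := INH P hc x hx
    have hlt : Nat.card (centralizer ({x} : Set G)) < n := by
      rw [← hn]
      refine lt_of_le_of_ne (Subgroup.card_le_card_group _) ?_
      intro h
      have htop : centralizer ({x} : Set G) = ⊤ := (Subgroup.card_eq_iff_eq_top _).mp h
      apply hxc
      rw [Subgroup.mem_center_iff]
      intro g
      have hg : g ∈ centralizer ({x} : Set G) := htop ▸ Subgroup.mem_top g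
      exact Subgroup.mem_centralizer_singleton_iff.mp hg
    exact INH2 P x Q hQ (ih _ hlt _ p Q rfl hcQ)
  -- the three cases
  set Z : Subgroup G := (P : Subgroup G) ⊓ center G with hZ
  have hZP : Z ≤ (P : Subgroup G) := inf_le_left
  obtain ⟨k, hk⟩ := IsPGroup.iff_card.mp P.2
  have hZp : IsPGroup p Z := P.2.to_le hZP
  obtain ⟨j, hj⟩ := IsPGroup.iff_card.mp hZp
  have hp : p.Prime := Fact.out
  have hjk : j ≤ k := by
    have : p ^ j ∣ p ^ k := by rw [← hj, ← hk]; exact Subgroup.card_dvd_of_le hZP
    exact (Nat.pow_dvd_pow_iff_le_right hp.one_lt).mp this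
  rcases Nat.lt_or_ge j k with hlt | hge
  · rcases Nat.lt_or_ge (j + 1) k with hlt2 | hge2
    · -- index at least p^2
      apply COUNT P hc hb
      rw [hj, hk, ← pow_add]
      exact Nat.pow_le_pow_right hp.pos (by omega)
    · -- index p
      apply CASE1 P hc
      have : k = j + 1 := by omega
      rw [hj, hk, this, pow_succ]
  · -- P central
    have hjk' : j = k := le_antisymm hjk hge
    have hZeq : Z = (P : Subgroup G) := by
      apply Subgroup.eq_of_le_of_card_ge hZP
      rw [hj, hk, hjk']
    have hPc : (P : Subgroup G) ≤ center G := by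
      rw [← hZeq]; exact inf_le_right
    intro g _
    rw [Subgroup.mem_centralizer_iff]
    intro a ha
    exact ((Subgroup.mem_center_iff.mp (hPc ha)) g).symm

/-- CORE: the p-nilpotency theorem. -/
theorem CORE {G : Type u} [Group G] [Finite G] {p : ℕ} [Fact p.Prime] (P : Sylow p G)
    (hc : Core G p P) :
    normalizer ((P : Subgroup G) : Set G) ≤ centralizer ((P : Subgroup G) : Set G) :=
  CORE_aux _ G p P rfl hc

end Cfsg.Agent.S4130P
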