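import Mathlib
import Cfsg.Agent.Helper2.S4130Defs
import Cfsg.Agent.Helper2.S4130CORE
import Cfsg.Agent.Helper23.S4130INHN
import Cfsg.Agent.Helper23.S4130INHQ
import Cfsg.Agent.Helper9.Burnside
import Cfsg.Agent.Helper1.S4130ABEL

set_option autoImplicit false

namespace Cfsg.Agent.S4130P

open Subgroup

universe u

theorem SOLV_aux : ∀ (n : ℕ) (G : Type u) [Group G] [Finite G], Nat.card G = n → SqfCls G →
    Group.IsSolvable G := by
  intro n
  induction n using Nat.strong_induction_on with
  | _ n ih =>
  intro G _ _ hn h
  by_cases hZ : center G = ⊥
  · -- trivial centre: p-nilpotent for the smallest prime p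
    rcases Nat.lt_or_ge 1 (Nat.card G) with h1 | h1
    · set p := (Nat.card G).minFac with hp
      have hpp : p.Prime := Nat.minFac_prime (by omega)
      haveI : Fact p.Prime := ⟨hpp⟩
      have hpd : p ∣ Nat.card G := Nat.minFac_dvd _
      let P : Sylow p G := default
      have hcls : ∀ y : G, ¬ p ^ 2 ∣ (centralizer ({y} : Set G)).index := by
        intro y hy
        have := h y
        rw [sq] at hy
        exact hpp.not_isUnit (this p hy)
      have hcore : Core G p P :=
        { comm := ABEL P hZ hcls
          min := fun r hr hrd => Nat.minFac_le_of_dvd hr.two_le hrd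
          cls := fun y _ => hcls y }
      have hNC := CORE P hcore
      obtain ⟨P', K, hK, hKP⟩ :=
        Cfsg.Agent.Helper9.hasNormalPComplement_of_normalizer_le_centralizer P hNC
      haveI := hK
      have hcard : Nat.card K * Nat.card (P' : Subgroup G) = Nat.card G := hKP.card_mul
      have hP' : p ∣ Nat.card (P' : Subgroup G) := by
        rw [Sylow.card_eq_multiplicity]
        exact dvd_pow_self p ((Nat.Prime.factorization_pos_of_dvd hpp (by omega) hpd).ne')
      have hKlt : Nat.card K < n := by
        rw [← hn, ← hcard]
        have : 2 ≤ Nat.card (P' : Subgroup G) := le_trans hpp.two_le (Nat.le_of_dvd Nat.card_pos hP')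
        have hKpos : 0 < Nat.card K := Nat.card_pos
        nlinarith
      haveI : Group.IsSolvable K := ih _ hKlt K rfl (Chk.INHN h K)
      haveI : Group.IsSolvable (G ⧸ K) := by
        have hq : IsPGroup p (G ⧸ K) := by
          apply IsPGroup.of_card (n := (Nat.card G).factorization p)
          have hidx : K.index = Nat.card (P' : Subgroup G) := by
            have := K.card_mul_index
            have hKpos : 0 < Nat.card K := Nat.card_pos
            exact Nat.eq_of_mul_eq_mul_left hKpos (this.trans hcard.symm)
          rw [← Subgroup.index_eq_card, hidx, Sylow.card_eq_multiplicity]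
        haveI := hq.isNilpotent
        infer_instance
      exact Group.isSolvable_of_ker_le_range K.subtype (QuotientGroup.mk' K) (by simp)
    · haveI : Subsingleton G := (Finite.card_le_one_iff_subsingleton).mp h1
      infer_instance
  · -- non-trivial centre: pass to the quotient
    have hlt : Nat.card (G ⧸ center G) < n := by
      rw [← hn, ← Subgroup.index_eq_card]
      have hmul := (center G).card_mul_index
      have hc1 : 1 < Nat.card (center G) := by
        rw [Subgroup.one_lt_card_iff_ne_bot]; exact hZ
      have hipos : 0 < (center G).index := Nat.pos_of_ne_zero Subgroup.index_ne_zero_of_finite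
      nlinarith
    haveI : Group.IsSolvable (G ⧸ center G) := ih _ hlt (G ⧸ center G) rfl (Chk.INHQ h (center G))
    haveI : Group.IsSolvable (center G) := Group.isSolvable_of_comm (fun a b => Subtype.ext ((Subgroup.mem_center_iff.mp a.2 b.1).symm))
    exact Group.isSolvable_of_ker_le_range (center G).subtype (QuotientGroup.mk' (center G)) (by simp)

/-- SOLV: square-free class sizes imply solvable. -/
theorem SOLV {G : Type u} [Group G] [Finite G] (h : SqfCls G) : Group.IsSolvable G :=
  SOLV_aux _ G rfl h

end Cfsg.Agent.S4130P
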