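import Mathlib
import Cfsg.Agent.Helper2.S4130Defs
import Cfsg.Agent.Helper2.S4130LIN
import Cfsg.Agent.Helper2.S4130SOLV
import Cfsg.Agent.Helper23.S4130INHN
import Cfsg.Agent.Helper23.S4130INHQ
import Cfsg.Agent.Helper1.MinNormal
import Cfsg.Agent.Helper29.Supersolvable
import Cfsg.Agent.S0586

/-!
# S4130: square-free class sizes imply supersolvable
-/

set_option autoImplicit false

namespace Cfsg.Agent.S4130P

open Subgroup

/-- DIV: for `N` normal, `|N : C_N(g)|` divides `|G : C_G(g)|`, hence is square-free. -/
theorem DIV_sqf {G : Type*} [Group G] [Finite G] (h : SqfCls G) (N : Subgroup G) [N.Normal] (g : G) :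
    Squarefree ((centralizer ({g} : Set G)).relIndex N) := by
  rw [Chk.INHN_aux_relIndex_sup]
  exact Squarefree.squarefree_of_dvd (relIndex_dvd_index_of_le le_sup_left) (h g)

/-- MINN: a minimal normal subgroup of a finite group with square-free class sizes has prime
order. -/
theorem MINN {G : Type*} [Group G] [Finite G] (h : SqfCls G) (N : Subgroup G) [hNn : N.Normal]
    (hN : N ≠ ⊥) (hmin : ∀ M : Subgroup G, M.Normal → M ≤ N → M = ⊥ ∨ M = N) :
    (Nat.card N).Prime := by
  haveI hsolvG : Group.IsSolvable G := SOLV h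
  obtain ⟨hcommN, r, hr, hexpN⟩ := Cfsg.Agent.Helper1.minNormal_elementary N hN inferInstance hmin
  haveI : Fact r.Prime := ⟨hr⟩
  have hcomm : ∀ a b : N, a * b = b * a := fun a b => mul_comm' a b
  have hexp : ∀ v : N, v ^ r = 1 := fun v => Subtype.ext (by simpa using hexpN v v.2)
  have hV : Nontrivial N := (Subgroup.nontrivial_iff_ne_bot N).mpr hN
  set φ : G →* MulAut N := MulAut.conjNormal with hφ
  have hφapp : ∀ (g : G) (v : N), ((φ g v : N) : G) = g * v * g⁻¹ := fun g v =>
    MulAut.conjNormal_apply g v
  -- Γ = the image of G in Aut N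
  have hsolvΓ : Group.IsSolvable φ.range :=
    Group.isSolvable_of_surjective (f := φ.rangeRestrict) φ.rangeRestrict_surjective
  have hsmul : ∀ (γ : φ.range) (v : N), γ • v = (γ : MulAut N) v := fun γ v => rfl
  have hirr : ∀ W : Subgroup N, (∀ γ : φ.range, ∀ w ∈ W, γ • w ∈ W) → W = ⊥ ∨ W = ⊤ := by
    intro W hW
    have hWn : (W.map N.subtype).Normal := by
      refine ⟨fun x hx g => ?_⟩
      obtain ⟨w, hw, rfl⟩ := hx
      have := hW ⟨φ g, ⟨g, rfl⟩⟩ w hw
      refine ⟨_, this, ?_⟩
      rw [hsmul]
      exact hφapp g w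
    rcases hmin _ hWn (Subgroup.map_subtype_le W) with h1 | h1
    · left
      rw [eq_bot_iff]
      intro w hw
      have : (w : G) ∈ W.map N.subtype := ⟨w, hw, rfl⟩
      rw [h1, Subgroup.mem_bot] at this
      rw [Subgroup.mem_bot]
      exact Subtype.ext this
    · right
      rw [eq_top_iff]
      intro w _
      have : (w : G) ∈ W.map N.subtype := by rw [h1]; exact w.2
      obtain ⟨w', hw', hww'⟩ := this
      have : w' = w := Subtype.ext hww'
      rw [← this]; exact hw'
  have hfix : ∀ γ : φ.range, Nat.card N ≤ r * Nat.card {v : N // γ • v = v} := by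
    rintro ⟨_, g, rfl⟩
    have h1 : Nat.card {v : N // (⟨φ g, ⟨g, rfl⟩⟩ : φ.range) • v = v} =
        Nat.card ((centralizer ({g} : Set G)).subgroupOf N) := by
      apply Nat.card_congr
      refine Equiv.subtypeEquivRight (fun v => ?_)
      rw [hsmul, Subgroup.mem_subgroupOf, Subgroup.mem_centralizer_singleton_iff]
      constructor
      · intro hv
        have := congrArg Subtype.val hv
        rw [hφapp] at this
        calc (v : G) * g = (g * (v : G) * g⁻¹) * g := by rw [this]
          _ = g * (v : G) := by group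
      · intro hv
        apply Subtype.ext
        rw [hφapp]
        calc g * (v : G) * g⁻¹ = ((v : G) * g) * g⁻¹ := by rw [hv]
          _ = (v : G) := by group
    rw [h1]
    have h2 := ((centralizer ({g} : Set G)).subgroupOf N).card_mul_index
    have h3 : ((centralizer ({g} : Set G)).subgroupOf N).index =
        (centralizer ({g} : Set G)).relIndex N := rfl
    rw [h3] at h2
    have hsq := DIV_sqf h N g
    have hdvd : (centralizer ({g} : Set G)).relIndex N ∣ r := by
      have hpN : IsPGroup r N := fun v => ⟨1, by rw [pow_one]; exact hexp v⟩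
      obtain ⟨k, hk⟩ := IsPGroup.iff_card.mp hpN
      have h4 : (centralizer ({g} : Set G)).relIndex N ∣ r ^ k := by
        rw [← hk, ← h2]; exact Dvd.intro_left _ rfl
      obtain ⟨j, _, hj⟩ := (Nat.dvd_prime_pow hr).mp h4
      rw [hj] at hsq ⊢
      rcases Nat.lt_or_ge j 2 with hj2 | hj2
      · interval_cases j
        · simp
        · simp
      · exfalso
        have : r * r ∣ r ^ j := by
          rw [← sq]; exact pow_dvd_pow r hj2
        exact hr.not_isUnit (hsq r this)
    have hle : (centralizer ({g} : Set G)).relIndex N ≤ r := Nat.le_of_dvd hr.pos hdvd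
    calc Nat.card N = Nat.card ((centralizer ({g} : Set G)).subgroupOf N) *
          (centralizer ({g} : Set G)).relIndex N := h2.symm
      _ ≤ Nat.card ((centralizer ({g} : Set G)).subgroupOf N) * r := Nat.mul_le_mul_left _ hle
      _ = r * Nat.card ((centralizer ({g} : Set G)).subgroupOf N) := mul_comm _ _
  have := LIN (V := N) (Γ := φ.range) hcomm r hr hexp hV hsolvΓ hirr hfix
  rw [this]; exact hr

universe u

theorem SS_aux : ∀ (n : ℕ) (G : Type u) [Group G] [Finite G], Nat.card G = n → SqfCls G →
    Cfsg.IsSupersolvable G := by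
  intro n
  induction n using Nat.strong_induction_on with
  | _ n ih =>
  intro G _ _ hn h
  by_cases hG : Subsingleton G
  · rw [Cfsg.Agent.Helper29.isSupersolvable_iff_reach, Subsingleton.elim (⊤ : Subgroup G) ⊥]
    exact Cfsg.Agent.Helper29.Reach.refl
  · rw [not_subsingleton_iff_nontrivial] at hG
    obtain ⟨N, hNn, hN, _, hmin⟩ := Cfsg.Agent.S0586.exists_minimal_normal_le (⊤ : Subgroup G)
      top_ne_bot
    haveI := hNn
    have hp := MINN h N hN hmin
    haveI : IsCyclic N := isCyclic_of_prime_card (hp := ⟨hp⟩) rfl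
    have hlt : Nat.card (G ⧸ N) < n := by
      rw [← hn, ← Subgroup.index_eq_card]
      have hmul := N.card_mul_index
      have hc1 : 1 < Nat.card N := hp.one_lt
      have hipos : 0 < N.index := Nat.pos_of_ne_zero Subgroup.index_ne_zero_of_finite
      nlinarith
    have hq := ih _ hlt (G ⧸ N) rfl (Chk.INHQ h N)
    exact Cfsg.Agent.Helper29.isSupersolvable_of_cyclic_normal N hq

/-- SS: square-free class sizes imply supersolvable. -/
theorem SS {G : Type u} [Group G] [Finite G] (h : SqfCls G) : Cfsg.IsSupersolvable G :=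
  SS_aux _ G rfl h

end Cfsg.Agent.S4130P
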