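import Mathlib
import Cfsg.Agent.Helper2.S4130Defs
import Cfsg.Agent.Helper2.S4130SS
import Cfsg.Agent.Helper7.Fitting
import Cfsg.Agent.S0044
import Cfsg.Agent.S0070
import Cfsg.Agent.S0526
import Cfsg.Agent.S0586
import Cfsg.Agent.Helper29.Supersolvable2

/-!
# S4130: `G / F(G)` is cyclic of square-free order
-/

set_option autoImplicit false

namespace Cfsg.Agent.S4130P

open Subgroup

/-- The abelian minimal normal subgroups. -/
def MinAb (G : Type*) [Group G] : Set (Subgroup G) :=
  {N : Subgroup G | N.Normal ∧ N ≠ ⊥ ∧ IsMulCommutative N ∧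
    ∀ K : Subgroup G, K.Normal → K ≤ N → K = ⊥ ∨ K = N}

/-- Finset induction: an element `x` of the join of finitely many minimal normal subgroups of prime
order whose centralizer centralizes all of them. -/
theorem exists_elt_centralizer_le {G : Type*} [Group G] [Finite G] (h : SqfCls G)
    (S : Finset (Subgroup G)) (hS : ∀ N ∈ S, N ∈ MinAb G) :
    ∃ x : G, x ∈ sSup (S : Set (Subgroup G)) ∧
      ∀ g ∈ centralizer ({x} : Set G), ∀ N ∈ S, N ≤ centralizer ({g} : Set G) := by
  classical
  induction S using Finset.induction_on with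
  | empty =>
    refine ⟨1, Subgroup.one_mem _, ?_⟩
    intro g _ N hN
    simp at hN
  | insert N S hNS ih =>
    obtain ⟨x, hxS, hx⟩ := ih (fun M hM => hS M (Finset.mem_insert_of_mem hM))
    have hNmin := hS N (Finset.mem_insert_self N S)
    obtain ⟨hNn, hNbot, _, hNm⟩ := hNmin
    haveI := hNn
    set K : Subgroup G := sSup (S : Set (Subgroup G)) with hK
    have hKn : K.Normal := by
      have : ∀ M ∈ (S : Set (Subgroup G)), M.Normal := fun M hM =>
        (hS M (Finset.mem_insert_of_mem hM)).1
      rw [hK]
      exact Subgroup.sSup_normal _ this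
    have hsup : sSup ((insert N S : Finset (Subgroup G)) : Set (Subgroup G)) = N ⊔ K := by
      rw [Finset.coe_insert, sSup_insert]
    have hinfn : (N ⊓ K).Normal := inferInstance
    rcases hNm (N ⊓ K) hinfn inf_le_left with hcase | hcase
    · -- N ∩ K = 1 : take x * n
      have hp := MINN h N hNbot hNm
      haveI : IsCyclic N := isCyclic_of_prime_card (hp := ⟨hp⟩) rfl
      obtain ⟨⟨n, hnN⟩, hn⟩ := IsCyclic.exists_generator (α := N)
      refine ⟨x * n, ?_, ?_⟩
      · rw [hsup]
        exact Subgroup.mul_mem _ (le_sup_right (a := N) hxS) (le_sup_left (b := K) hnN)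
      · intro g hg
        rw [Subgroup.mem_centralizer_singleton_iff] at hg
        -- x⁻¹ * (g x g⁻¹) = n * (g n g⁻¹)⁻¹ ∈ K ∩ N
        have hkey : x⁻¹ * (g * x * g⁻¹) = n * (g * n * g⁻¹)⁻¹ := by
          have h1 : g * (x * n) * g⁻¹ = x * n := by rw [hg]; group
          have h2 : g * (x * n) * g⁻¹ = (g * x * g⁻¹) * (g * n * g⁻¹) := by group
          rw [h2] at h1
          calc x⁻¹ * (g * x * g⁻¹) = x⁻¹ * ((g * x * g⁻¹) * (g * n * g⁻¹)) * (g * n * g⁻¹)⁻¹ := by
                group
            _ = x⁻¹ * (x * n) * (g * n * g⁻¹)⁻¹ := by rw [h1]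
            _ = n * (g * n * g⁻¹)⁻¹ := by group
        have hmemK : x⁻¹ * (g * x * g⁻¹) ∈ K :=
          K.mul_mem (K.inv_mem hxS) (hKn.conj_mem x hxS g)
        have hmemN : n * (g * n * g⁻¹)⁻¹ ∈ N :=
          N.mul_mem hnN (N.inv_mem (hNn.conj_mem n hnN g))
        have hone : x⁻¹ * (g * x * g⁻¹) = 1 := by
          have : x⁻¹ * (g * x * g⁻¹) ∈ N ⊓ K := ⟨hkey ▸ hmemN, hmemK⟩
          rwa [hcase, Subgroup.mem_bot] at this
        have hgx : g ∈ centralizer ({x} : Set G) := by
          rw [Subgroup.mem_centralizer_singleton_iff]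
          have : g * x * g⁻¹ = x := by
            have := congrArg (fun t => x * t) hone
            simpa using this
          calc g * x = (g * x * g⁻¹) * g := by group
            _ = x * g := by rw [this]
        have hgn : g * n = n * g := by
          have h1 : n * (g * n * g⁻¹)⁻¹ = 1 := by rw [← hkey]; exact hone
          have h2 : g * n * g⁻¹ = n := by
            have := mul_eq_one_iff_eq_inv.mp h1
            rw [inv_inv] at this
            exact this.symm
          calc g * n = (g * n * g⁻¹) * g := by group
            _ = n * g := by rw [h2]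
        intro M hM
        rcases Finset.mem_insert.mp hM with rfl | hM
        · -- M = N = zpowers n
          intro m hm
          have : (⟨m, hm⟩ : M) ∈ zpowers (⟨n, hnN⟩ : M) := hn _
          obtain ⟨k, hk⟩ := Subgroup.mem_zpowers_iff.mp this
          have hk' : n ^ k = m := by
            have := congrArg Subtype.val hk
            simpa using this
          rw [Subgroup.mem_centralizer_singleton_iff, ← hk']
          exact ((Commute.zpow_left (show Commute n g from hgn.symm) k)).eq
        · exact hx g hgx M hM
    · -- N ≤ K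
      have hNK : N ≤ K := by
        rw [← hcase]; exact inf_le_right
      refine ⟨x, ?_, ?_⟩
      · rw [hsup]; exact le_sup_right (a := N) hxS
      · intro g hg M hM
        rcases Finset.mem_insert.mp hM with rfl | hM
        · refine hNK.trans ?_
          rw [hK]
          exact sSup_le (fun M' hM' => hx g hg M' hM')
        · exact hx g hg M hM

/-- GF0: the Frattini-free case. -/
theorem GF0 {G : Type*} [Group G] [Finite G] (h : SqfCls G) (hΦ : frattini G = ⊥) :
    Squarefree (Cfsg.fittingSubgroup G).index := by
  classical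
  haveI : Group.IsSolvable G := SOLV h
  have hF := Cfsg.Agent.S0586.result hΦ
  have hfin : (MinAb G).Finite := Set.toFinite _
  obtain ⟨x, hxF, hx⟩ := exists_elt_centralizer_le h hfin.toFinset
    (fun N hN => hfin.mem_toFinset.mp hN)
  have hle : centralizer ({x} : Set G) ≤ Cfsg.fittingSubgroup G := by
    intro g hg
    apply Cfsg.Agent.S0044.result
    rw [Subgroup.mem_centralizer_iff]
    intro y hy
    have hyF : y ∈ sSup (MinAb G) := by
      have : y ∈ Cfsg.fittingSubgroup G := hy
      rw [hF] at this
      exact this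
    have hsub : sSup (MinAb G) ≤ centralizer ({g} : Set G) := by
      apply sSup_le
      intro N hN
      exact hx g hg N (hfin.mem_toFinset.mpr hN)
    have := hsub hyF
    exact (Subgroup.mem_centralizer_singleton_iff.mp this)
  exact Squarefree.squarefree_of_dvd (Subgroup.index_dvd_of_le hle) (h x)

theorem mem_frattini_iff' {G : Type*} [Group G] (x : G) :
    x ∈ frattini G ↔ ∀ K : Subgroup G, IsCoatom K → x ∈ K := by
  unfold frattini Order.radical
  simp [Subgroup.mem_iInf]

/-- The Frattini subgroup of the Frattini quotient is trivial. -/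
theorem frattini_quotient_frattini {G : Type*} [Group G] [Finite G] :
    frattini (G ⧸ frattini G) = ⊥ := by
  rw [eq_bot_iff]
  intro y hy
  obtain ⟨x, rfl⟩ := QuotientGroup.mk'_surjective (frattini G) y
  rw [Subgroup.mem_bot]
  have hx : x ∈ frattini G := by
    rw [mem_frattini_iff']
    intro K hK
    have hker : (QuotientGroup.mk' (frattini G)).ker ≤ K := by
      rw [QuotientGroup.ker_mk']; exact frattini_le_coatom hK
    have hco := Cfsg.Agent.Helper29.isCoatom_map_of_ker_le (QuotientGroup.mk' (frattini G))
      (QuotientGroup.mk'_surjective _) hK hker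
    have h1 := (mem_frattini_iff' _).mp hy _ hco
    have h2 : x ∈ (K.map (QuotientGroup.mk' (frattini G))).comap (QuotientGroup.mk' (frattini G)) := h1
    rwa [Subgroup.comap_map_eq_self hker] at h2
  exact (QuotientGroup.eq_one_iff x).mpr hx

/-- GF1: `|G : F(G)|` is square-free. -/
theorem GF1 {G : Type*} [Group G] [Finite G] (h : SqfCls G) :
    Squarefree (Cfsg.fittingSubgroup G).index := by
  have h1 := GF0 (Chk.INHQ h (frattini G)) frattini_quotient_frattini
  rw [Cfsg.Agent.S0070.result] at h1
  have hle : frattini G ≤ Cfsg.fittingSubgroup G :=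
    Cfsg.Agent.Helper7.le_fittingSubgroup inferInstance frattini_nilpotent
  have h2 := Subgroup.index_map_eq (H := Cfsg.fittingSubgroup G) (QuotientGroup.mk'_surjective (frattini G))
    (by rw [QuotientGroup.ker_mk']; exact hle)
  rw [h2] at h1
  exact h1

/-- A finite commutative group of square-free order is cyclic. -/
theorem isCyclic_of_comm_of_squarefree {A : Type*} [Group A] [Finite A]
    (hcomm : ∀ a b : A, a * b = b * a) (hsq : Squarefree (Nat.card A)) : IsCyclic A := by
  classical
  letI : CommGroup A := { (inferInstance : Group A) with mul_comm := hcomm }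
  apply IsCyclic.of_exponent_eq_card
  apply Nat.dvd_antisymm (Group.exponent_dvd_nat_card)
  rw [← Nat.prod_primeFactors_of_squarefree hsq]
  apply Finset.prod_primes_dvd
  · intro p hp
    exact (Nat.prime_of_mem_primeFactors hp).prime
  · intro p hp
    haveI : Fact p.Prime := ⟨Nat.prime_of_mem_primeFactors hp⟩
    obtain ⟨a, ha⟩ := exists_prime_orderOf_dvd_card' p (Nat.dvd_of_mem_primeFactors hp)
    rw [← ha]
    exact Monoid.order_dvd_exponent a

/-- GF2: `G / F(G)` is cyclic. -/
theorem GF2 {G : Type*} [Group G] [Finite G] (h : SqfCls G) :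
    IsCyclic (G ⧸ Cfsg.fittingSubgroup G) := by
  have hnil : Group.IsNilpotent (commutator G) := Cfsg.Agent.S0526.result (SS h)
  have hle : commutator G ≤ Cfsg.fittingSubgroup G :=
    Cfsg.Agent.Helper7.le_fittingSubgroup inferInstance hnil
  have hcomm : ∀ a b : G ⧸ Cfsg.fittingSubgroup G, a * b = b * a := by
    have := Subgroup.Normal.quotient_commutative_iff_commutator_le.mpr hle
    exact fun a b => mul_comm' a b
  apply isCyclic_of_comm_of_squarefree hcomm
  rw [← Subgroup.index_eq_card]
  exact GF1 h

end Cfsg.Agent.S4130P
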