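import Mathlib
import Cfsg.Agent.Helper2.S4130Defs
import Cfsg.Agent.Helper2.S4130SS
import Cfsg.Agent.Helper2.S4130GF

/-!
# S4130: adapters giving helper7's row names (PSS, PMINB, PFQ, PC1, PGFA, PGFB, PGF) from
helper2's SS / MINN / GF0 / GF1 / GF2.
-/

set_option autoImplicit false

namespace Cfsg.Agent.S4130P

universe u

open Subgroup

/-- (PMINB) an abelian minimal normal subgroup of an (SQ)-group has prime order. -/
theorem PMINB {G : Type*} [Group G] [Finite G] (h : SqfCls G) (N : Subgroup G) [N.Normal]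
    (hN1 : N ≠ ⊥) (_hab : IsMulCommutative N)
    (hmin : ∀ K : Subgroup G, K.Normal → K ≤ N → K = ⊥ ∨ K = N) : (Nat.card N).Prime :=
  MINN h N hN1 hmin

/-- (PSS) an (SQ)-group is supersolvable. -/
theorem PSS {G : Type u} [Group G] [Finite G] (h : SqfCls G) : Cfsg.IsSupersolvable G :=
  SS h

/-- (PFQ) the Frattini quotient is Frattini-free. -/
theorem PFQ {G : Type*} [Group G] [Finite G] : frattini (G ⧸ frattini G) = ⊥ :=
  frattini_quotient_frattini

/-- (PC1) Frattini-free solvable (SQ)-group: `|G : F(G)|` is square-free. -/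
theorem PC1 {G : Type*} [Group G] [Finite G] (h : SqfCls G) [Group.IsSolvable G]
    (hΦ : frattini G = ⊥) : Squarefree (Cfsg.fittingSubgroup G).index :=
  GF0 h hΦ

/-- (PGFA) `G' ≤ F(G)` in an (SQ)-group. -/
theorem PGFA {G : Type u} [Group G] [Finite G] (h : SqfCls G) :
    commutator G ≤ Cfsg.fittingSubgroup G :=
  Cfsg.Agent.Helper7.le_fittingSubgroup inferInstance (Cfsg.Agent.S0526.result (SS h))

/-- (PGFB) `|G : F(G)|` is square-free in an (SQ)-group. -/
theorem PGFB {G : Type u} [Group G] [Finite G] (h : SqfCls G) :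
    Squarefree (Cfsg.fittingSubgroup G).index :=
  GF1 h

/-- (PGF) `G / F(G)` is cyclic of square-free order. -/
theorem PGF {G : Type u} [Group G] [Finite G] (h : SqfCls G)
    [hF : (Cfsg.fittingSubgroup G).Normal] :
    IsCyclic (G ⧸ Cfsg.fittingSubgroup G) ∧ Squarefree (Cfsg.fittingSubgroup G).index :=
  ⟨GF2 h, GF1 h⟩

end Cfsg.Agent.S4130P
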