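import Mathlib
import Cfsg.Agent.Helper9.S4415Defs
import Cfsg.Agent.Helper9.S4409V
import Cfsg.Agent.Helper27.S4415V4A

/-! Board `s4415pieces`, row V4C (core): `[E,T]` is an irreducible `TB`-module, given that the three eigenlines have order `3`. -/

set_option autoImplicit false
set_option linter.unusedSectionVars false

namespace Cfsg.Agent.S4415P

open Subgroup
open Cfsg.Agent.S4409P (Zc Fr Der IsV4 IsQ8 SpecialInt IsAb)

variable {S : Type*} [Group S] [Finite S] {E : Type*} [AddCommGroup E] [Module (ZMod 3) E] [Finite E]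

theorem V4C_aux_mul (ρ : Representation (ZMod 3) S E) (g h : S) (v : E) : ρ (g * h) v = ρ g (ρ h v) := by
  rw [map_mul]; rfl

theorem V4C_aux_one (ρ : Representation (ZMod 3) S E) (v : E) : ρ 1 v = v := by
  rw [map_one]; rfl

/-- an element normalising `Y` leaves `[E,Y]` invariant. -/
theorem V4C_aux_inv_comE (ρ : Representation (ZMod 3) S E) (Y : Subgroup S) (g : S)
    (hg : g ∈ normalizer (Y : Set S)) : ∀ v ∈ ComE ρ Y, ρ g v ∈ ComE ρ Y := by
  intro v hv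
  refine Submodule.span_induction ?_ ?_ ?_ ?_ hv
  · rintro w ⟨y, hy, u, rfl⟩
    have hy' : g * y * g⁻¹ ∈ Y := (mem_normalizer_iff.mp hg y).mp hy
    have : ρ g (ρ y u - u) = ρ (g * y * g⁻¹) (ρ g u) - ρ g u := by
      rw [map_sub, ← V4C_aux_mul, ← V4C_aux_mul]
      congr 2
      group
    rw [this]
    exact sub_mem_ComE ρ hy' _
  · rw [map_zero]; exact Submodule.zero_mem _
  · intro x y _ _ hx hy
    rw [map_add]; exact Submodule.add_mem _ hx hy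
  · intro a x _ hx
    rw [map_smul]; exact Submodule.smul_mem _ _ hx

/-- `ρ g` maps the eigenline of `t` into the eigenline of `g t g⁻¹`. -/
theorem V4C_aux_map_Ln (ρ : Representation (ZMod 3) S E) (T : Subgroup S) (g : S)
    (hg : g ∈ normalizer (T : Set S)) (t : S) (v : E) (hv : v ∈ Ln ρ T t) : ρ g v ∈ Ln ρ T (g * t * g⁻¹) := by
  refine ⟨V4C_aux_inv_comE ρ T g hg v hv.1, ?_⟩
  apply V4A_aux_mem_CE_zpowers
  have h1 : ρ t v = v := hv.2 t (mem_zpowers t)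
  rw [← V4C_aux_mul]
  have : g * t * g⁻¹ * g = g * t := by group
  rw [this, V4C_aux_mul, h1]

/-- a submodule of order `3` containing a nonzero vector of `U` lies in `U`. -/
theorem V4C_aux_line (L U : Submodule (ZMod 3) E) (hL : Nat.card ↥L = 3) (u : E) (huL : u ∈ L) (huU : u ∈ U)
    (hu : u ≠ 0) : L ≤ U := by
  have hfr : Module.finrank (ZMod 3) ↥L = 1 := by
    have h := Module.natCard_eq_pow_finrank (K := ZMod 3) (V := ↥L)
    rw [hL, Nat.card_zmod] at h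
    have h2 : (3 : ℕ) ^ 1 = 3 ^ Module.finrank (ZMod 3) ↥L := by rw [pow_one]; exact h
    exact (Nat.pow_right_injective (by norm_num : 2 ≤ 3) h2).symm
  have hne : (⟨u, huL⟩ : ↥L) ≠ 0 := by
    intro h
    exact hu (congrArg Subtype.val h)
  have hall := (finrank_eq_one_iff_of_nonzero' (⟨u, huL⟩ : ↥L) hne).mp hfr
  intro w hw
  obtain ⟨c, hc⟩ := hall ⟨w, hw⟩
  have : w = c • u := by
    have := congrArg Subtype.val hc
    simpa using this.symm
  rw [this]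
  exact U.smul_mem c huU

/-- the decomposition of `v ∈ [E,T]` into eigencomponents. -/
theorem V4C_aux_dec (ρ : Representation (ZMod 3) S E) (T : Subgroup S) (hT : IsV4 T) (t₁ t₂ : S) (h₁ : t₁ ∈ T)
    (h₂ : t₂ ∈ T) (h₁1 : t₁ ≠ 1) (h₂1 : t₂ ≠ 1) (h12 : t₁ ≠ t₂) (v : E) (hv : v ∈ ComE ρ T) :
    v = -(v + ρ t₁ v) + -(v + ρ t₂ v) + -(v + ρ (t₁ * t₂) v) := by
  have e1 : t₁ * t₁ = 1 := hT.2 _ h₁
  have e2 : t₂ * t₂ = 1 := hT.2 _ h₂
  have h₃ : t₁ * t₂ ∈ T := T.mul_mem h₁ h₂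
  have e3 : (t₁ * t₂) * (t₁ * t₂) = 1 := hT.2 _ h₃
  have hcomm : t₂ * t₁ = t₁ * t₂ := (Cfsg.Agent.S4409P.IsV4.isAb hT) t₂ h₂ t₁ h₁
  have hm : ∀ g h : S, ∀ x : E, ρ g (ρ h x) = ρ (g * h) x := fun g h x => (V4C_aux_mul ρ g h x).symm
  have ho : ∀ x : E, ρ 1 x = x := V4C_aux_one ρ
  have g1 : t₁ * t₂ * t₁ = t₂ := by
    rw [mul_assoc, hcomm, ← mul_assoc, e1, one_mul]
  have g2 : t₁ * t₂ * t₂ = t₁ := by
    rw [mul_assoc, e2, mul_one]
  have g3 : t₁ * (t₁ * t₂) = t₂ := by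
    rw [← mul_assoc, e1, one_mul]
  have g4 : t₂ * (t₁ * t₂) = t₁ := by
    rw [← mul_assoc, hcomm, g2]
  have hs : ∀ v ∈ ComE ρ T, v + ρ t₁ v + ρ t₂ v + ρ (t₁ * t₂) v = 0 := by
    intro v hv
    refine Submodule.span_induction ?_ ?_ ?_ ?_ hv
    · rintro w ⟨y, hy, u, rfl⟩
      rcases V4A_aux_mem_four T hT t₁ t₂ h₁ h₂ h₁1 h₂1 h12 y hy with rfl | rfl | rfl | rfl
      · simp only [ho, sub_self, map_zero, add_zero]
      · simp only [map_sub, hm, e1, ho, g1, hcomm]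
        abel
      · simp only [map_sub, hm, e2, ho, g2]
        abel
      · simp only [map_sub, hm, e3, ho, g3, g4]
        abel
    · simp only [map_zero, add_zero]
    · intro x y _ _ hx hy
      have : x + y + ρ t₁ (x + y) + ρ t₂ (x + y) + ρ (t₁ * t₂) (x + y)
          = (x + ρ t₁ x + ρ t₂ x + ρ (t₁ * t₂) x) + (y + ρ t₁ y + ρ t₂ y + ρ (t₁ * t₂) y) := by
        simp only [map_add]
        abel
      rw [this, hx, hy, add_zero]
    · intro a x _ hx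
      have : a • x + ρ t₁ (a • x) + ρ t₂ (a • x) + ρ (t₁ * t₂) (a • x)
          = a • (x + ρ t₁ x + ρ t₂ x + ρ (t₁ * t₂) x) := by
        simp only [map_smul, smul_add]
      rw [this, hx, smul_zero]
  have h3v : v + v + v = 0 := by
    calc v + v + v = (1 + 1 + 1 : ZMod 3) • v := by simp only [add_smul, one_smul]
      _ = 0 := by rw [show (1 + 1 + 1 : ZMod 3) = 0 from by decide, zero_smul]
  have hsv := hs v hv
  have : v + (v + ρ t₁ v) + (v + ρ t₂ v) + (v + ρ (t₁ * t₂) v) = 0 := by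
    calc v + (v + ρ t₁ v) + (v + ρ t₂ v) + (v + ρ (t₁ * t₂) v)
        = (v + v + v) + (v + ρ t₁ v + ρ t₂ v + ρ (t₁ * t₂) v) := by abel
      _ = 0 := by rw [hsv, h3v, add_zero]
  calc v = v - (v + (v + ρ t₁ v) + (v + ρ t₂ v) + (v + ρ (t₁ * t₂) v)) := by rw [this, sub_zero]
    _ = -(v + ρ t₁ v) + -(v + ρ t₂ v) + -(v + ρ (t₁ * t₂) v) := by abel

/-- the eigencomponent `-(v + ρ t v)` lies in `Ln ρ T t`. -/
theorem V4C_aux_comp_mem (ρ : Representation (ZMod 3) S E) (T : Subgroup S) (t : S) (ht : t ∈ T)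
    (htt : t * t = 1) (v : E) (hv : v ∈ ComE ρ T) : -(v + ρ t v) ∈ Ln ρ T t := by
  have hinv : ρ t v ∈ ComE ρ T := by
    have : ρ t v = (ρ t v - v) + v := by abel
    rw [this]
    exact Submodule.add_mem _ (sub_mem_ComE ρ ht v) hv
  refine ⟨Submodule.neg_mem _ (Submodule.add_mem _ hv hinv), ?_⟩
  apply V4A_aux_mem_CE_zpowers
  rw [map_neg, map_add, ← V4C_aux_mul, htt, V4C_aux_one, add_comm]

/-- V4C (core). -/
theorem V4C_aux_core (ρ : Representation (ZMod 3) S E) (B : Subgroup S) (hB : Nat.card ↥B = 3) (T : Subgroup S)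
    (hT : IsV4 T) (hY : YC B T)
    (hcard : ∀ t ∈ T, t ≠ 1 → Nat.card ↥(Ln ρ T t) = 3)
    (U : Submodule (ZMod 3) E) (hU : U ≤ ComE ρ T) (hTU : Inv ρ T U) (hBU : Inv ρ B U) :
    U = ⊥ ∨ U = ComE ρ T := by
  by_cases hbot : U = ⊥
  · left; exact hbot
  right
  apply le_antisymm hU
  -- a nonzero vector
  obtain ⟨u, huU, hu0⟩ := (Submodule.ne_bot_iff U).mp hbot
  -- two distinct involutions
  have hTne : T ≠ ⊥ := by
    intro h
    have h4 := hT.1
    rw [h] at h4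
    simp at h4
  have hodd : Odd (Nat.card ↥B) := by rw [hB]; decide
  have hcne : ⁅T, B⁆ ≠ ⊥ := by rw [hY.comm]; exact hTne
  obtain ⟨t₁', ht₁'⟩ := (Subgroup.ne_bot_iff_exists_ne_one).mp hTne
  set t₁ : S := t₁'.1 with ht₁def
  have h₁ : t₁ ∈ T := t₁'.2
  have h₁1 : t₁ ≠ 1 := fun h => ht₁' (Subtype.ext h)
  -- transitivity
  have htrans : ∀ x ∈ T, x ≠ 1 → ∀ y ∈ T, y ≠ 1 → ∃ g ∈ B, g * x * g⁻¹ = y := by
    intro x hx hx1 y hy hy1
    exact Cfsg.Agent.S4409P.V0_aux_trans T B hT hodd hY.norm hcne hx hx1 hy hy1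
  -- a second involution
  have hex2 : ∃ t₂ ∈ T, t₂ ≠ 1 ∧ t₁ ≠ t₂ := by
    by_contra hcon
    push Not at hcon
    -- then `B` centralises `T`
    apply hcne
    rw [Subgroup.commutator_eq_bot_iff_le_centralizer]
    intro x hx
    rw [Subgroup.mem_centralizer_iff]
    intro g hg
    by_cases hx1 : x = 1
    · rw [hx1, mul_one, one_mul]
    · have e1 : t₁ = x := hcon x hx hx1
      have hgx : g * x * g⁻¹ ∈ T := (mem_normalizer_iff.mp (hY.norm hg) x).mp hx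
      have hgx1 : g * x * g⁻¹ ≠ 1 := by
        intro h
        apply hx1
        have : x = g⁻¹ * (g * x * g⁻¹) * g := by group
        rw [this, h]; group
      have e2 : t₁ = g * x * g⁻¹ := hcon _ hgx hgx1
      have : g * x * g⁻¹ = x := by rw [← e2, e1]
      calc g * x = (g * x * g⁻¹) * g := by group
        _ = x * g := by rw [this]
  obtain ⟨t₂, h₂, h₂1, h12⟩ := hex2
  -- `Ln t ≤ U` transfers along conjugation by `B`
  have htransfer : ∀ t ∈ T, Ln ρ T t ≤ U → ∀ g ∈ B, Ln ρ T (g * t * g⁻¹) ≤ U := by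
    intro t _ hle g hg w hw
    have hginv : g⁻¹ ∈ normalizer (T : Set S) := inv_mem (hY.norm hg)
    have h1 := V4C_aux_map_Ln ρ T g⁻¹ hginv (g * t * g⁻¹) w hw
    have h2 : g⁻¹ * (g * t * g⁻¹) * g⁻¹⁻¹ = t := by group
    rw [h2] at h1
    have h3 : ρ g (ρ g⁻¹ w) ∈ U := hBU g hg _ (hle h1)
    rw [← V4C_aux_mul, mul_inv_cancel, V4C_aux_one] at h3
    exact h3
  -- one eigenline lies in `U`
  have hone : ∃ t ∈ T, t ≠ 1 ∧ Ln ρ T t ≤ U := by
    have h₃ : t₁ * t₂ ∈ T := T.mul_mem h₁ h₂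
    have h12' : t₁ * t₂ ≠ 1 := by
      intro h
      apply h12
      have e1 : t₁ * t₁ = 1 := hT.2 _ h₁
      calc t₁ = t₁ * (t₁ * t₂) := by rw [h, mul_one]
        _ = t₂ := by rw [← mul_assoc, e1, one_mul]
    have hdec := V4C_aux_dec ρ T hT t₁ t₂ h₁ h₂ h₁1 h₂1 h12 u (hU huU)
    have hcU : ∀ t ∈ T, -(u + ρ t u) ∈ U := fun t ht =>
      U.neg_mem (U.add_mem huU (hTU t ht u huU))
    by_cases c1 : -(u + ρ t₁ u) = 0
    · by_cases c2 : -(u + ρ t₂ u) = 0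
      · have c3 : -(u + ρ (t₁ * t₂) u) ≠ 0 := by
          intro c3
          apply hu0
          rw [hdec, c1, c2, c3, add_zero, add_zero]
        exact ⟨t₁ * t₂, h₃, h12', V4C_aux_line _ U (hcard _ h₃ h12') _
          (V4C_aux_comp_mem ρ T _ h₃ (hT.2 _ h₃) u (hU huU)) (hcU _ h₃) c3⟩
      · exact ⟨t₂, h₂, h₂1, V4C_aux_line _ U (hcard _ h₂ h₂1) _
          (V4C_aux_comp_mem ρ T _ h₂ (hT.2 _ h₂) u (hU huU)) (hcU _ h₂) c2⟩
    · exact ⟨t₁, h₁, h₁1, V4C_aux_line _ U (hcard _ h₁ h₁1) _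
        (V4C_aux_comp_mem ρ T _ h₁ (hT.2 _ h₁) u (hU huU)) (hcU _ h₁) c1⟩
  obtain ⟨t, ht, ht1, hle⟩ := hone
  have hall : ∀ s ∈ T, s ≠ 1 → Ln ρ T s ≤ U := by
    intro s hs hs1
    obtain ⟨g, hg, hgs⟩ := htrans t ht ht1 s hs hs1
    rw [← hgs]
    exact htransfer t ht hle g hg
  have h12' : t₁ * t₂ ≠ 1 := by
    intro h
    apply h12
    have e1 : t₁ * t₁ = 1 := hT.2 _ h₁
    calc t₁ = t₁ * (t₁ * t₂) := by rw [h, mul_one]
      _ = t₂ := by rw [← mul_assoc, e1, one_mul]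
  refine le_trans (v4_span ρ T hT t₁ t₂ h₁ h₂ h₁1 h₂1 h12) ?_
  exact sup_le (sup_le (hall t₁ h₁ h₁1) (hall t₂ h₂ h₂1)) (hall _ (T.mul_mem h₁ h₂) h12')

end Cfsg.Agent.S4415P
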