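import Mathlib
import Cfsg.Agent.Helper9.S4415Defs
import Cfsg.Agent.Helper9.S4415MOD4
import Cfsg.Agent.Helper9.S4415MOD5
import Cfsg.Agent.Helper3.S4415TV1
import Cfsg.Agent.Helper16.S4415TV2
import Cfsg.Agent.Helper2.S4415V4Ccore

/-! Board `s4415pieces`, row IRR (core): in type V, `[E,R]` is an irreducible `RB`-module (given the statement of V4C for `T = [A,B]`). -/

set_option autoImplicit false
set_option linter.unusedSectionVars false

namespace Cfsg.Agent.S4415P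

open Subgroup
open Cfsg.Agent.S4409P (Zc Fr Der IsV4 IsQ8 SpecialInt IsAb)

variable {S : Type*} [Group S] [Finite S] {E : Type*} [AddCommGroup E] [Module (ZMod 3) E] [Finite E]

/-- IRR (core). -/
theorem IRR_aux_core (ρ : Representation (ZMod 3) S E) (b : S) (B R A : Subgroup S) (h : EHyp ρ b B R)
    (hA : InA B R A) (hea : ∀ x ∈ A, x * x = 1)
    (hirr : ∀ U : Submodule (ZMod 3) E, U ≤ ComE ρ ⁅A, B⁆ → Inv ρ ⁅A, B⁆ U → Inv ρ B U →
      U = ⊥ ∨ U = ComE ρ ⁅A, B⁆)
    (U : Submodule (ZMod 3) E) (hU : U ≤ ComE ρ R) (hRU : Inv ρ R U) (hBU : Inv ρ B U) :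
    U = ⊥ ∨ U = ComE ρ R := by
  obtain ⟨hT4, hTY, hTA, hTZ⟩ := tv_T B R A h.base.card h.zcard h.zcent hA hea
  set T := ⁅A, B⁆ with hTdef
  have hTR : T ≤ R := hTA.trans hA.le
  have hTne : T ≠ ⊥ := by
    intro h0
    have h4 := hT4.1
    rw [h0] at h4
    simp at h4
  -- `U ⊓ [E,T]` is `TB`-invariant
  have hTinvW : Inv ρ T (ComE ρ T) := fun g hg v hv =>
    V4C_aux_inv_comE ρ T g (le_normalizer hg) v hv
  have hBinvW : Inv ρ B (ComE ρ T) := fun g hg v hv =>
    V4C_aux_inv_comE ρ T g (hTY.norm hg) v hv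
  have hTU : Inv ρ T U := fun g hg v hv => hRU g (hTR hg) v hv
  have h1 : Inv ρ T (U ⊓ ComE ρ T) := fun g hg v hv => ⟨hTU g hg v hv.1, hTinvW g hg v hv.2⟩
  have h2 : Inv ρ B (U ⊓ ComE ρ T) := fun g hg v hv => ⟨hBU g hg v hv.1, hBinvW g hg v hv.2⟩
  rcases hirr (U ⊓ ComE ρ T) inf_le_right h1 h2 with h0 | h0
  · -- `T` is trivial on `U`
    left
    have htriv : ∀ t ∈ T, ∀ u ∈ U, ρ t u = u := by
      intro t ht u hu
      have hm : ρ t u - u ∈ U ⊓ ComE ρ T := ⟨U.sub_mem (hTU t ht u hu) hu, sub_mem_ComE ρ ht u⟩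
      rw [h0, Submodule.mem_bot] at hm
      exact sub_eq_zero.mp hm
    obtain ⟨t', ht'⟩ := (Subgroup.ne_bot_iff_exists_ne_one).mp hTne
    have ht1 : (t' : S) ≠ 1 := fun h => ht' (Subtype.ext h)
    have htA : (t' : S) ∈ A := hTA t'.2
    have htZ : (t' : S) ∉ Zc R := by
      intro hz
      have : (t' : S) ∈ T ⊓ Zc R := ⟨t'.2, hz⟩
      rw [hTZ, Subgroup.mem_bot] at this
      exact ht1 this
    obtain ⟨r, hr, z, hz, hz1, hconj⟩ := (tv_index B R A h.base.card h.yc h.zcard hA hea).2 _ htA htZ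
    rw [eq_bot_iff]
    intro u hu
    rw [Submodule.mem_bot]
    have e1 : ρ (r⁻¹ * (t' : S) * r) u = u := by
      rw [V4C_aux_mul, V4C_aux_mul, htriv _ t'.2 _ (hRU r hr u hu), ← V4C_aux_mul, inv_mul_cancel, V4C_aux_one]
    have e2 : ρ ((t' : S) * z) u = -u := by
      rw [V4C_aux_mul, h.zneg z hz hz1 u (hU hu), map_neg, htriv _ t'.2 u hu]
    rw [hconj, e2] at e1
    -- `-u = u` gives `u = 0`
    have h3v : u + u + u = 0 := by
      calc u + u + u = (1 + 1 + 1 : ZMod 3) • u := by simp only [add_smul, one_smul]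
        _ = 0 := by rw [show (1 + 1 + 1 : ZMod 3) = 0 from by decide, zero_smul]
    have h2v : u + u = 0 := by
      nth_rewrite 2 [← e1]
      exact add_neg_cancel u
    calc u = (u + u + u) - (u + u) := by abel
      _ = 0 := by rw [h3v, h2v, sub_zero]
  · -- `[E,T] ≤ U`
    right
    apply le_antisymm hU
    have hTU' : ComE ρ T ≤ U := by
      have : U ⊓ ComE ρ T ≤ U := inf_le_left
      rw [h0] at this
      exact this
    have hkey := (key ρ b B h.base T hTY hTne).2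
    have hbU : ∀ v : E, ρ b v - v ∈ U := by
      intro v
      apply hTU'
      apply hkey
      exact ⟨v, by rw [Nb_apply]⟩
    have hq := quot_comm ρ R b U hRU hbU
    rw [h.base.gen, h.yc.comm] at hq
    apply Submodule.span_le.mpr
    rintro w ⟨y, hy, v, rfl⟩
    exact hq y hy v

end Cfsg.Agent.S4415P
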