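import Mathlib
import Cfsg.Agent.Helper9.S4415Defs
import Cfsg.Agent.Helper1.S4415V4B
import Cfsg.Agent.Helper2.S4415V4Ccore

/-! Board `s4415pieces`, row V4C: `[E,T]` is an irreducible `TB`-module. -/

set_option autoImplicit false
set_option linter.unusedSectionVars false

namespace Cfsg.Agent.S4415P

open Subgroup
open Cfsg.Agent.S4409P (Zc Fr Der IsV4 IsQ8 SpecialInt IsAb)

variable {S : Type*} [Group S] [Finite S] {E : Type*} [AddCommGroup E] [Module (ZMod 3) E] [Finite E]

/-- V4C : `[E,T]` is an irreducible `TB`-module. -/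
theorem irr_v4 (ρ : Representation (ZMod 3) S E) (b : S) (B : Subgroup S) (hb : Base ρ b B) (T : Subgroup S)
    (hT : IsV4 T) (hY : YC B T) (U : Submodule (ZMod 3) E) (hU : U ≤ ComE ρ T) (hTU : Inv ρ T U) (hBU : Inv ρ B U) :
    U = ⊥ ∨ U = ComE ρ T :=
  V4C_aux_core ρ B hb.card T hT hY (fun t ht ht1 => ((v4_cards ρ b B hb T hT hY).2 t ht ht1).1) U hU hTU hBU

end Cfsg.Agent.S4415P
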