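import Mathlib
import Cfsg.Agent.Helper9.S4415Defs
import Cfsg.Agent.Helper3.S4415TV1
import Cfsg.Agent.Helper2.S4415V4C
import Cfsg.Agent.Helper2.S4415IRRcore

/-! Board `s4415pieces`, row IRR: in type V, `[E,R]` is an irreducible `RB`-module. -/

set_option autoImplicit false
set_option linter.unusedSectionVars false

namespace Cfsg.Agent.S4415P

open Subgroup
open Cfsg.Agent.S4409P (Zc Fr Der IsV4 IsQ8 SpecialInt IsAb)

variable {S : Type*} [Group S] [Finite S] {E : Type*} [AddCommGroup E] [Module (ZMod 3) E] [Finite E]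

/-- IRR : in type V, `[E,R]` is an irreducible `RB`-module. -/
theorem irr_es (ρ : Representation (ZMod 3) S E) (b : S) (B R A : Subgroup S) (h : EHyp ρ b B R) (hA : InA B R A)
    (hea : ∀ x ∈ A, x * x = 1) (U : Submodule (ZMod 3) E) (hU : U ≤ ComE ρ R) (hRU : Inv ρ R U) (hBU : Inv ρ B U) :
    U = ⊥ ∨ U = ComE ρ R := by
  obtain ⟨hT4, hTY, hTA, hTZ⟩ := tv_T B R A h.base.card h.zcard h.zcent hA hea
  exact IRR_aux_core ρ b B R A h hA hea (fun U' h1 h2 h3 => irr_v4 ρ b B h.base _ hT4 hTY U' h1 h2 h3) U hU hRU hBU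

end Cfsg.Agent.S4415P
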