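import Mathlib
import Cfsg.Agent.Helper9.S4415Defs

/-! Board `s4415pieces`, row MOD7: `[E, ⟨Y₁,Y₂⟩] = [E,Y₁] + [E,Y₂]`. -/

set_option autoImplicit false

namespace Cfsg.Agent.S4415P

open Subgroup

variable {S : Type*} [Group S] [Finite S] {E : Type*} [AddCommGroup E] [Module (ZMod 3) E] [Finite E]

/-- if `ρ g v - v ∈ U` for all `v` and all `g` in a generating set closed under nothing in particular, with `U`
a submodule such that the set of good `g` is a subgroup. -/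
theorem MOD7_aux_closure (ρ : Representation (ZMod 3) S E) (U : Submodule (ZMod 3) E) (s : Set S)
    (hs : ∀ g ∈ s, ∀ v : E, ρ g v - v ∈ U) : ∀ g ∈ closure s, ∀ v : E, ρ g v - v ∈ U := by
  intro g hg
  induction hg using Subgroup.closure_induction with
  | mem x hx => exact hs x hx
  | one => intro v; simp
  | mul x y _ _ hx hy =>
    intro v
    have h1 : ρ (x * y) v - v = (ρ x (ρ y v) - ρ y v) + (ρ y v - v) := by
      rw [map_mul]; simp
    rw [h1]
    exact U.add_mem (hx _) (hy _)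
  | inv x _ hx =>
    intro v
    have h1 : ρ x⁻¹ v - v = -(ρ x (ρ x⁻¹ v) - ρ x⁻¹ v) := by
      have : ρ x (ρ x⁻¹ v) = v := by
        rw [← Module.End.mul_apply, ← map_mul, mul_inv_cancel, map_one]; rfl
      rw [this]; abel
    rw [h1]
    exact U.neg_mem (hx _)

/-- MOD7 : `[E, ⟨Y₁,Y₂⟩] = [E,Y₁] + [E,Y₂]`. -/
theorem comE_sup (ρ : Representation (ZMod 3) S E) (Y₁ Y₂ : Subgroup S) :
    ComE ρ (Y₁ ⊔ Y₂) = ComE ρ Y₁ ⊔ ComE ρ Y₂ := by
  apply le_antisymm
  · apply Submodule.span_le.mpr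
    rintro w ⟨y, hy, v, rfl⟩
    have hcl : Y₁ ⊔ Y₂ = closure ((Y₁ : Set S) ∪ (Y₂ : Set S)) := by
      rw [Subgroup.closure_union, Subgroup.closure_eq, Subgroup.closure_eq]
    rw [hcl] at hy
    refine MOD7_aux_closure ρ (ComE ρ Y₁ ⊔ ComE ρ Y₂) _ ?_ y hy v
    rintro g (hg | hg) u
    · exact Submodule.mem_sup_left (sub_mem_ComE ρ hg u)
    · exact Submodule.mem_sup_right (sub_mem_ComE ρ hg u)
  · exact sup_le (ComE_mono ρ le_sup_left) (ComE_mono ρ le_sup_right)

end Cfsg.Agent.S4415P
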