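import Mathlib
import Cfsg.Agent.Helper9.S4415Defs
import Cfsg.Agent.Helper2.S4415MOD7

/-! Board `s4415pieces`, row MOD7P: `[E, Y] ≤ range (ρ g - 1) + range (ρ h - 1)` for `Y ≤ ⟨g, h⟩`. -/

set_option autoImplicit false

namespace Cfsg.Agent.S4415P

open Subgroup

variable {S : Type*} [Group S] [Finite S] {E : Type*} [AddCommGroup E] [Module (ZMod 3) E] [Finite E]

/-- MOD7P : `[E, Y] ≤ range (ρ g - 1) + range (ρ h - 1)` for `Y ≤ ⟨g, h⟩`. -/
theorem comE_le_of_le_closure_pair (ρ : Representation (ZMod 3) S E) (Y : Subgroup S) (g h : S)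
    (hY : Y ≤ closure ({g, h} : Set S)) :
    ComE ρ Y ≤ LinearMap.range (Nb ρ g) ⊔ LinearMap.range (Nb ρ h) := by
  apply Submodule.span_le.mpr
  rintro w ⟨y, hy, v, rfl⟩
  refine MOD7_aux_closure ρ _ ({g, h} : Set S) ?_ y (hY hy) v
  intro x hx u
  rcases hx with rfl | hx
  · exact Submodule.mem_sup_left ⟨u, by rw [Nb_apply]⟩
  · rw [Set.mem_singleton_iff] at hx
    subst hx
    exact Submodule.mem_sup_right ⟨u, by rw [Nb_apply]⟩

end Cfsg.Agent.S4415P
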