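import Mathlib
import Cfsg.Agent.Helper9.S4415Defs

/-! Board `s4415pieces`, row MOD9: `|U₁ + U₂| |V| ≤ |U₁| |U₂|` for `V ≤ U₁ ∩ U₂`. -/

set_option autoImplicit false

namespace Cfsg.Agent.S4415P

open Subgroup

variable {S : Type*} [Group S] [Finite S] {E : Type*} [AddCommGroup E] [Module (ZMod 3) E] [Finite E]

omit [Finite E] in
/-- the product formula `|U₁ + U₂| |U₁ ∩ U₂| = |U₁| |U₂|`. -/
theorem MOD9_aux_card (U₁ U₂ : Submodule (ZMod 3) E) [Finite E] :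
    Nat.card ↥(U₁ ⊔ U₂ : Submodule (ZMod 3) E) * Nat.card ↥(U₁ ⊓ U₂ : Submodule (ZMod 3) E)
      = Nat.card ↥U₁ * Nat.card ↥U₂ := by
  have hf := Submodule.finrank_sup_add_finrank_inf_eq U₁ U₂
  have hc : ∀ W : Submodule (ZMod 3) E, Nat.card ↥W = 3 ^ Module.finrank (ZMod 3) ↥W := by
    intro W
    have := Module.natCard_eq_pow_finrank (K := ZMod 3) (V := ↥W)
    rw [this, Nat.card_zmod]
  rw [hc, hc, hc, hc, ← pow_add, ← pow_add, hf]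

/-- MOD9 : `|U₁ + U₂| |V| ≤ |U₁| |U₂|` for `V ≤ U₁ ∩ U₂`. -/
theorem card_sup_mul_le (U₁ U₂ V : Submodule (ZMod 3) E) (h₁ : V ≤ U₁) (h₂ : V ≤ U₂) :
    Nat.card ↥(U₁ ⊔ U₂ : Submodule (ZMod 3) E) * Nat.card ↥V ≤ Nat.card ↥U₁ * Nat.card ↥U₂ := by
  rw [← MOD9_aux_card U₁ U₂]
  apply Nat.mul_le_mul_left
  have hle : V ≤ U₁ ⊓ U₂ := le_inf h₁ h₂
  exact Nat.card_le_card_of_injective (Submodule.inclusion hle) (Submodule.inclusion_injective hle)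

end Cfsg.Agent.S4415P
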