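import Mathlib
import Cfsg.Agent.Helper9.S4415Defs
import Cfsg.Agent.Helper27.S4415V4A
import Cfsg.Agent.Helper2.S4415MOD9
import Cfsg.Agent.Helper2.S4415V4Ccore

/-! Board `s4415pieces`, row TV3 (core): `|[E,R]| = 81`. -/

set_option autoImplicit false
set_option linter.unusedSectionVars false

namespace Cfsg.Agent.S4415P

open Subgroup
open Cfsg.Agent.S4409P (Zc Fr Der IsV4 IsQ8 SpecialInt IsAb)

variable {S : Type*} [Group S] [Finite S] {E : Type*} [AddCommGroup E] [Module (ZMod 3) E] [Finite E]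

/-- the elements of `⟨t⟩` for an involution `t`. -/
theorem TV3_aux_zpowers (t : S) (htt : t * t = 1) : ∀ y ∈ zpowers t, y = 1 ∨ y = t := by
  intro y hy
  rw [Subgroup.zpowers_eq_closure] at hy
  induction hy using Subgroup.closure_induction with
  | mem x hx => right; exact hx
  | one => left; rfl
  | mul x y _ _ hx hy =>
    rcases hx with rfl | rfl <;> rcases hy with rfl | rfl
    · left; rw [mul_one]
    · right; rw [one_mul]
    · right; rw [mul_one]
    · left; exact htt
  | inv x _ hx =>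
    rcases hx with rfl | rfl
    · left; rw [inv_one]
    · right; exact inv_eq_of_mul_eq_one_left htt

/-- an involution `t` acts as `-1` on `[E,⟨t⟩]`. -/
theorem TV3_aux_neg (ρ : Representation (ZMod 3) S E) (t : S) (htt : t * t = 1) :
    ∀ v ∈ ComE ρ (zpowers t), ρ t v = -v := by
  intro v hv
  refine Submodule.span_induction ?_ ?_ ?_ ?_ hv
  · rintro w ⟨y, hy, u, rfl⟩
    rcases TV3_aux_zpowers t htt y hy with rfl | rfl
    · rw [V4C_aux_one, sub_self, map_zero, neg_zero]
    · rw [map_sub, ← V4C_aux_mul, htt, V4C_aux_one, neg_sub]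
  · rw [map_zero, neg_zero]
  · intro x y _ _ hx hy
    rw [map_add, hx, hy, neg_add]
  · intro a x _ hx
    rw [map_smul, hx, smul_neg]

/-- a vector negated by `t` lies in `[E,⟨t⟩]`. -/
theorem TV3_aux_mem (ρ : Representation (ZMod 3) S E) (t : S) (v : E) (h : ρ t v = -v) :
    v ∈ ComE ρ (zpowers t) := by
  have h3v : v + v + v = 0 := by
    calc v + v + v = (1 + 1 + 1 : ZMod 3) • v := by simp only [add_smul, one_smul]
      _ = 0 := by rw [show (1 + 1 + 1 : ZMod 3) = 0 from by decide, zero_smul]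
  have : v = ρ t v - v := by
    rw [h]
    calc v = v - (v + v + v) := by rw [h3v, sub_zero]
      _ = -v - v := by abel
  rw [this]
  exact sub_mem_ComE ρ (mem_zpowers t) v

/-- TV3 (core). -/
theorem TV3_aux_core (ρ : Representation (ZMod 3) S E) (R : Subgroup S) (t r z : S) (htR : t ∈ R)
    (htt : t * t = 1) (hrR : r ∈ R) (hz : ∀ v ∈ ComE ρ R, ρ z v = -v) (hconj : r⁻¹ * t * r = t * z)
    (h9 : Nat.card ↥(ComE ρ (zpowers t)) = 9) : Nat.card ↥(ComE ρ R) = 81 := by
  set W := ComE ρ R with hW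
  set Wm := ComE ρ (zpowers t) with hWm
  set Wp := W ⊓ CE ρ (zpowers t) with hWp
  have hWinv : ∀ g ∈ R, ∀ v ∈ W, ρ g v ∈ W := by
    intro g hg v hv
    have : ρ g v = (ρ g v - v) + v := by abel
    rw [this]
    exact Submodule.add_mem _ (sub_mem_ComE ρ hg v) hv
  have hWm_le : Wm ≤ W := ComE_mono ρ ((zpowers_le).mpr htR)
  have h2 : ∀ v : E, v = -v → v = 0 := by
    intro v hv
    have h3v : v + v + v = 0 := by
      calc v + v + v = (1 + 1 + 1 : ZMod 3) • v := by simp only [add_smul, one_smul]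
        _ = 0 := by rw [show (1 + 1 + 1 : ZMod 3) = 0 from by decide, zero_smul]
    have h2v : v + v = 0 := by
      nth_rewrite 2 [hv]
      exact add_neg_cancel v
    calc v = (v + v + v) - (v + v) := by abel
      _ = 0 := by rw [h3v, h2v, sub_zero]
  have hinf : Wp ⊓ Wm = ⊥ := by
    rw [eq_bot_iff]
    rintro v ⟨⟨_, hv1⟩, hv2⟩
    rw [Submodule.mem_bot]
    have e1 : ρ t v = v := hv1 t (mem_zpowers t)
    have e2 : ρ t v = -v := TV3_aux_neg ρ t htt v hv2
    exact h2 v (e1.symm.trans e2)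
  have hsup : Wp ⊔ Wm = W := by
    apply le_antisymm
    · exact sup_le inf_le_left hWm_le
    · intro v hv
      have h3v : v + v + v = 0 := by
        calc v + v + v = (1 + 1 + 1 : ZMod 3) • v := by simp only [add_smul, one_smul]
          _ = 0 := by rw [show (1 + 1 + 1 : ZMod 3) = 0 from by decide, zero_smul]
      have hdec : v = -(v + ρ t v) + (ρ t v - v) := by
        calc v = v - (v + v + v) := by rw [h3v, sub_zero]
          _ = -(v + ρ t v) + (ρ t v - v) := by abel
      rw [hdec]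
      refine Submodule.add_mem _ (Submodule.mem_sup_left ?_) (Submodule.mem_sup_right ?_)
      · refine ⟨Submodule.neg_mem _ (Submodule.add_mem _ hv (hWinv t htR v hv)), ?_⟩
        apply V4A_aux_mem_CE_zpowers
        rw [map_neg, map_add, ← V4C_aux_mul, htt, V4C_aux_one, add_comm]
      · exact sub_mem_ComE ρ (mem_zpowers t) v
  have hcard : Nat.card ↥W = Nat.card ↥Wp * Nat.card ↥Wm := by
    have := MOD9_aux_card Wp Wm
    rw [hinf, hsup] at this
    have hb : Nat.card ↥(⊥ : Submodule (ZMod 3) E) = 1 := by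
      rw [Nat.card_eq_one_iff_unique]
      exact ⟨inferInstance, inferInstance⟩
    rw [hb, mul_one] at this
    exact this
  -- the key conjugation identity
  have hkey : ∀ v : E, ρ t (ρ r v) = ρ r (ρ t (ρ z v)) := by
    intro v
    rw [← V4C_aux_mul, ← V4C_aux_mul, ← V4C_aux_mul]
    have : t * r = r * t * z := by rw [mul_assoc r t z, ← hconj]; group
    rw [this]
  have hinj : ∀ v w : E, ρ r v = ρ r w → v = w := by
    intro v w h
    have := congrArg (ρ r⁻¹) h
    rw [← V4C_aux_mul, ← V4C_aux_mul, inv_mul_cancel, V4C_aux_one, V4C_aux_one] at this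
    exact this
  have hpm : ∀ v ∈ Wp, ρ r v ∈ Wm := by
    rintro v ⟨hvW, hvt⟩
    apply TV3_aux_mem
    have e1 : ρ t v = v := hvt t (mem_zpowers t)
    rw [hkey, hz v hvW, map_neg, e1, map_neg]
  have hmp : ∀ v ∈ Wm, ρ r v ∈ Wp := by
    intro v hv
    refine ⟨hWinv r hrR v (hWm_le hv), ?_⟩
    apply V4A_aux_mem_CE_zpowers
    rw [hkey, hz v (hWm_le hv), map_neg, TV3_aux_neg ρ t htt v hv, neg_neg]
  have hle1 : Nat.card ↥Wp ≤ Nat.card ↥Wm := by
    apply Nat.card_le_card_of_injective (fun v : ↥Wp => (⟨ρ r v.1, hpm v.1 v.2⟩ : ↥Wm))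
    intro v w h
    apply Subtype.ext
    exact hinj _ _ (congrArg Subtype.val h)
  have hle2 : Nat.card ↥Wm ≤ Nat.card ↥Wp := by
    apply Nat.card_le_card_of_injective (fun v : ↥Wm => (⟨ρ r v.1, hmp v.1 v.2⟩ : ↥Wp))
    intro v w h
    apply Subtype.ext
    exact hinj _ _ (congrArg Subtype.val h)
  rw [hcard, le_antisymm hle1 hle2, h9]

end Cfsg.Agent.S4415P
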