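import Mathlib
import Cfsg.Agent.Helper9.S4415Defs
import Cfsg.Agent.Helper1.S4415V4B
import Cfsg.Agent.Helper3.S4415TV1
import Cfsg.Agent.Helper16.S4415TV2
import Cfsg.Agent.Helper2.S4415TV3core

/-! Board `s4415pieces`, row TV3: `|[E,R]| = 81`. -/

set_option autoImplicit false
set_option linter.unusedSectionVars false

namespace Cfsg.Agent.S4415P

open Subgroup
open Cfsg.Agent.S4409P (Zc Fr Der IsV4 IsQ8 SpecialInt IsAb)

variable {S : Type*} [Group S] [Finite S] {E : Type*} [AddCommGroup E] [Module (ZMod 3) E] [Finite E]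

/-- TV3 : `|[E,R]| = 81`. -/
theorem tv_cardW (ρ : Representation (ZMod 3) S E) (b : S) (B R A : Subgroup S) (h : EHyp ρ b B R) (hA : InA B R A)
    (hea : ∀ x ∈ A, x * x = 1) : Nat.card ↥(ComE ρ R) = 81 := by
  obtain ⟨hT4, hTY, hTA, hTZ⟩ := tv_T B R A h.base.card h.zcard h.zcent hA hea
  have hTne : ⁅A, B⁆ ≠ ⊥ := by
    intro h0
    have h4 := hT4.1
    rw [h0] at h4
    simp at h4
  obtain ⟨t', ht'⟩ := (Subgroup.ne_bot_iff_exists_ne_one).mp hTne
  have ht1 : (t' : S) ≠ 1 := fun h => ht' (Subtype.ext h)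
  have htA : (t' : S) ∈ A := hTA t'.2
  have htZ : (t' : S) ∉ Zc R := by
    intro hz
    have : (t' : S) ∈ ⁅A, B⁆ ⊓ Zc R := ⟨t'.2, hz⟩
    rw [hTZ, Subgroup.mem_bot] at this
    exact ht1 this
  obtain ⟨r, hr, z, hz, hz1, hconj⟩ := (tv_index B R A h.base.card h.yc h.zcard hA hea).2 _ htA htZ
  have h9 := ((v4_cards ρ b B h.base _ hT4 hTY).2 _ t'.2 ht1).2
  exact TV3_aux_core ρ R _ r z (hA.le htA) (hea _ htA) hr (h.zneg z hz hz1) hconj h9

end Cfsg.Agent.S4415P
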