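import Mathlib
import Cfsg.Prelude.Def_GeometricClasses
import Cfsg.Agent.Helper2.S5886.Defs
import Cfsg.Agent.Helper26.S5886PROJA
import Cfsg.Agent.Helper22.S5886PROJB
import Cfsg.Agent.Helper22.S5886YADD
import Cfsg.Agent.Helper20.S5886YBIMOD
import Cfsg.Agent.Helper6.S5886KTVLE
import Cfsg.Agent.Lead.S5886YFULL

set_option autoImplicit false

namespace Cfsg.Agent.S5886P

variable {F K V : Type*} [Field F] [Field K] [Algebra F K]
  [AddCommGroup V] [Module F V] [Module K V] [IsScalarTower F K V]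

namespace MULTA

theorem semi_comp {a b : K ≃ₐ[F] K} {X A : V →ₗ[F] V} (hX : IsSemi a X) (hA : IsSemi b A) :
    IsSemi (a * b) (X ∘ₗ A) := by
  intro k x
  simp only [LinearMap.comp_apply, AlgEquiv.mul_apply]
  rw [hA k x, hX]

theorem proj_add [Finite F] [Finite K] (σ : K ≃ₐ[F] K) (A B : V →ₗ[F] V) :
    proj σ (A + B) = proj σ A + proj σ B := by
  unfold proj
  simp only [LinearMap.add_comp, smul_add, Finset.sum_add_distrib]

theorem proj_zero [Finite F] [Finite K] (σ : K ≃ₐ[F] K) : proj σ (0 : V →ₗ[F] V) = 0 := by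
  unfold proj
  simp

theorem proj_sum [Finite F] [Finite K] (σ : K ≃ₐ[F] K) {ι : Type*} (s : Finset ι)
    (C : ι → (V →ₗ[F] V)) : proj σ (∑ i ∈ s, C i) = ∑ i ∈ s, proj σ (C i) := by
  classical
  induction s using Finset.induction_on with
  | empty => simp [proj_zero]
  | insert a s ha ih => rw [Finset.sum_insert ha, Finset.sum_insert ha, proj_add, ih]

theorem proj_of_decomp [Finite F] [Finite K] [Fintype (K ≃ₐ[F] K)] (C : (K ≃ₐ[F] K) → (V →ₗ[F] V))
    (f : (K ≃ₐ[F] K) → (K ≃ₐ[F] K)) (hf : Function.Injective f) (hC : ∀ ρ, IsSemi (f ρ) (C ρ))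
    (ρ : K ≃ₐ[F] K) : proj (f ρ) (∑ ρ', C ρ') = C ρ := by
  classical
  rw [proj_sum, Finset.sum_eq_single ρ]
  · exact PROJ.of_semi_eq _ _ (hC ρ)
  · intro b _ hb
    exact PROJ.of_semi_ne _ _ _ (hC b) (fun h => hb (hf h).symm)
  · intro h; exact (h (Finset.mem_univ _)).elim

theorem sum_proj [Finite F] [Finite K] [Fintype (K ≃ₐ[F] K)] (A : V →ₗ[F] V) :
    ∑ σ : K ≃ₐ[F] K, proj σ A = A := by
  rw [← finsum_eq_sum_of_fintype]
  exact PROJ.sum A

theorem trans_eq_one [Finite F] [Finite K] (hr : (Module.finrank F K).Prime) (S : Set (K ≃ₐ[F] K))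
    (h1 : (1 : K ≃ₐ[F] K) ∈ S) (hS : S ≠ Set.univ) (ρ : K ≃ₐ[F] K) (hρ : ∀ τ ∈ S, ρ * τ ∈ S) :
    ρ = 1 := by
  by_contra hne
  apply hS
  have hcard : Nat.card (K ≃ₐ[F] K) = Module.finrank F K := IsGalois.card_aut_eq_finrank F K
  have hpow : ∀ n : ℕ, ρ ^ n ∈ S := by
    intro n
    induction n with
    | zero => simpa using h1
    | succ n ih => rw [pow_succ']; exact hρ _ ih
  have : Fact (Module.finrank F K).Prime := ⟨hr⟩
  have htop : Subgroup.zpowers ρ = ⊤ := zpowers_eq_top_of_prime_card (p := Module.finrank F K) hcard hne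
  ext τ
  simp only [Set.mem_univ, iff_true]
  have hτ : τ ∈ Subgroup.zpowers ρ := htop ▸ Subgroup.mem_top τ
  obtain ⟨z, rfl⟩ := Subgroup.mem_zpowers_iff.mp hτ
  have hfin : IsOfFinOrder ρ := isOfFinOrder_of_finite ρ
  obtain ⟨n, hn⟩ := (hfin.mem_powers_iff_mem_zpowers (y := ρ ^ z)).mpr ⟨z, rfl⟩
  rw [← hn]; exact hpow n

theorem mem_kline_iff (v x : V) : x ∈ Kline (F := F) (K := K) v ↔ ∃ c : K, c • v = x := by
  show x ∈ Submodule.span K {v} ↔ _
  exact Submodule.mem_span_singleton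

theorem kline_smul_mem (v x : V) (c : K) (hx : x ∈ Kline (F := F) (K := K) v) :
    c • x ∈ Kline (F := F) (K := K) v := by
  show c • x ∈ Submodule.span K {v}
  exact Submodule.smul_mem _ c hx

theorem self_mem_kline (v : V) : v ∈ Kline (F := F) (K := K) v :=
  (mem_kline_iff v v).mpr ⟨1, one_smul _ _⟩

/-- the inverse of an automorphism preserving a subspace of a finite space preserves it. -/
theorem symm_mem [Finite V] (L : Submodule F V) (g : V ≃ₗ[F] V) (hgL : ∀ x ∈ L, g x ∈ L) :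
    ∀ x ∈ L, g.symm x ∈ L := by
  intro x hx
  let f : L → L := fun y => ⟨g y, hgL y y.2⟩
  have hinj : Function.Injective f := by
    intro a b hab
    have : g a = g b := congrArg Subtype.val hab
    exact Subtype.ext (g.injective this)
  have hsurj : Function.Surjective f := Finite.surjective_of_injective hinj
  obtain ⟨y, hy⟩ := hsurj ⟨x, hx⟩
  have : g y = x := congrArg Subtype.val hy
  rw [← this, LinearEquiv.symm_apply_apply]
  exact y.2

/-- `yset` as an additive subgroup. -/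
def ygrp (M : Subgroup (V ≃ₗ[F] V)) (L : Submodule F V) : AddSubgroup (V →ₗ[F] V) where
  carrier := yset M L
  add_mem' := fun {a b} ha hb => YADD.add M L a b ha hb
  zero_mem' := YADD.zero M L
  neg_mem' := fun {a} ha => YADD.neg M L a ha

theorem proj_mem_yset [Finite F] [Finite K] [Finite V] (hm : 2 ≤ Module.finrank K V)
    (h2 : 2 ≤ Module.finrank F K)
    (M : Subgroup (V ≃ₗ[F] V)) (hN : Nrm F K V ⊓ DetIn (⊥ : Subgroup Fˣ) ≤ M) (v : V) (hv : v ≠ 0)
    (σ : K ≃ₐ[F] K) (A : V →ₗ[F] V) (hA : A ∈ yset M (Kline (F := F) (K := K) v)) :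
    proj σ A ∈ yset M (Kline (F := F) (K := K) v) :=
  PROJ.mem (ygrp M (Kline (F := F) (K := K) v))
    (fun c A hA => YBIMOD.lsmul hm h2 M hN v hv c A hA)
    (fun d A hA => YBIMOD.rsmul hm h2 M hN v hv d A hA) σ A hA

/-- a non-zero `K`-functional vanishing at `v`, not vanishing at a given `y ∉ K v`. -/
theorem exists_fun (v y : V) (hy : y ∉ Kline (F := F) (K := K) v) :
    ∃ ψ : V →ₗ[K] K, ψ v = 0 ∧ ψ y ≠ 0 := by
  have hy' : y ∉ Submodule.span K {v} := hy
  obtain ⟨ψ, h1, h2⟩ := Submodule.exists_le_ker_of_notMem hy'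
  exact ⟨ψ, h2 (Submodule.mem_span_singleton_self v), h1⟩

/-- the `σ`-semilinear map `x ↦ σ (ψ x) • v`. -/
def smap (σ : K ≃ₐ[F] K) (ψ : V →ₗ[K] K) (v : V) : V →ₗ[F] V where
  toFun x := σ (ψ x) • v
  map_add' x y := by simp [add_smul]
  map_smul' a x := by
    have : ψ (a • x) = a • ψ x := by
      rw [← algebraMap_smul K a x, map_smul, smul_eq_mul, Algebra.smul_def]
    simp only [this, RingHom.id_apply, map_smul, smul_assoc]

theorem smap_semi (σ : K ≃ₐ[F] K) (ψ : V →ₗ[K] K) (v : V) : IsSemi σ (smap σ ψ v) := by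
  intro k x
  show σ (ψ (k • x)) • v = σ k • σ (ψ x) • v
  rw [map_smul, smul_eq_mul, map_mul, mul_smul]

theorem smap_mem_ulie (σ : K ≃ₐ[F] K) (ψ : V →ₗ[K] K) (v : V) (hψ : ψ v = 0) :
    smap σ ψ v ∈ ulie (Kline (F := F) (K := K) v) := by
  refine ⟨fun x => (mem_kline_iff v _).mpr ⟨_, rfl⟩, fun x hx => ?_⟩
  obtain ⟨c, rfl⟩ := (mem_kline_iff v x).mp hx
  show σ (ψ (c • v)) • v = 0
  rw [map_smul, hψ, smul_zero, map_zero, zero_smul]

/-- `1 + A` as an automorphism when `A ∘ A = 0`. -/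
def mkUni (A : V →ₗ[F] V) (hA : A ∘ₗ A = 0) : V ≃ₗ[F] V :=
  LinearEquiv.ofLinearMap (LinearMap.id + A) (LinearMap.id - A)
    (by
      ext x
      have h := LinearMap.congr_fun hA x
      simp only [LinearMap.comp_apply, LinearMap.zero_apply] at h
      simp [h])
    (by
      ext x
      have h := LinearMap.congr_fun hA x
      simp only [LinearMap.comp_apply, LinearMap.zero_apply] at h
      simp [h])

theorem mkUni_apply (A : V →ₗ[F] V) (hA : A ∘ₗ A = 0) (x : V) : mkUni A hA x = x + A x := rfl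

theorem ulie_sq (L : Submodule F V) (A : V →ₗ[F] V) (hA : A ∈ ulie L) : A ∘ₗ A = 0 := by
  ext x
  exact hA.2 _ (hA.1 x)

theorem exists_not_mem_kline [Finite K] [Finite V] (hm : 2 ≤ Module.finrank K V) (v : V) :
    ∃ y : V, y ∉ Kline (F := F) (K := K) v := by
  by_contra hcon
  have hcon' : ∀ y : V, y ∈ Kline (F := F) (K := K) v := fun y => by
    by_contra h; exact hcon ⟨y, h⟩
  have htop : Submodule.span K {v} = ⊤ := by
    rw [eq_top_iff]
    intro y _
    exact hcon' y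
  have h1 : Module.finrank K (Submodule.span K {v}) ≤ 1 := by
    have := finrank_span_le_card (R := K) ({v} : Set V)
    simpa using this
  rw [htop, finrank_top] at h1
  omega

theorem one_mem_Sig [Finite K] [Finite V] (hm : 2 ≤ Module.finrank K V)
    (M : Subgroup (V ≃ₗ[F] V)) (hKTV : KTV F K V ≤ M) (v : V) (hv : v ≠ 0) :
    (1 : K ≃ₐ[F] K) ∈ Sig (K := K) M (Kline (F := F) (K := K) v) := by
  obtain ⟨y, hy⟩ := exists_not_mem_kline (F := F) (K := K) hm v
  obtain ⟨ψ, hψ, hψy⟩ := exists_fun (F := F) v y hy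
  have hA := smap_mem_ulie (F := F) (1 : K ≃ₐ[F] K) ψ v hψ
  refine ⟨smap 1 ψ v, ⟨hA, mkUni _ (ulie_sq _ _ hA), ?_, fun x => rfl⟩, smap_semi _ _ _, ?_⟩
  · apply hKTV
    apply Subgroup.subset_closure
    exact ⟨ψ, v, hψ, fun x => rfl⟩
  · intro h0
    have := LinearMap.congr_fun h0 y
    simp only [LinearMap.zero_apply] at this
    have h1 : (1 : K ≃ₐ[F] K) (ψ y) • v = 0 := this
    rw [AlgEquiv.one_apply, smul_eq_zero] at h1
    rcases h1 with h1 | h1
    · exact hψy h1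
    · exact hv h1

/-- left multiplication by `k` as an `F`-linear map -/
abbrev lm (k : K) : V →ₗ[F] V := DistribSMul.toLinearMap F V k

/-- `x_k = g ∘ k ∘ g⁻¹` -/
def xk (g : V ≃ₗ[F] V) (k : K) : V →ₗ[F] V := (g : V →ₗ[F] V) ∘ₗ lm (F := F) k ∘ₗ (g.symm : V →ₗ[F] V)

theorem xk_apply (g : V ≃ₗ[F] V) (k : K) (x : V) : xk g k x = g (k • g.symm x) := rfl

section main

variable [Finite F] [Finite K] [Finite V] (hm : 2 ≤ Module.finrank K V)
  (hr : (Module.finrank F K).Prime)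
  (M : Subgroup (V ≃ₗ[F] V)) (hN : Nrm F K V ⊓ DetIn (⊥ : Subgroup Fˣ) ≤ M) (v : V) (hv : v ≠ 0)
  (hS : Sig (K := K) M (Kline (F := F) (K := K) v) ≠ Set.univ) (g : V ≃ₗ[F] V) (hg : g ∈ M)
  (hgL : ∀ x ∈ Kline (F := F) (K := K) v, g x ∈ Kline (F := F) (K := K) v)

include hm hr hN hv hg hgL in
theorem xk_comp_mem (k : K) (A : V →ₗ[F] V) (hA : A ∈ yset M (Kline (F := F) (K := K) v)) :
    xk g k ∘ₗ A ∈ yset M (Kline (F := F) (K := K) v) := by
  have hsymm := symm_mem (Kline (F := F) (K := K) v) g hgL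
  have h1 : ((g⁻¹ : V ≃ₗ[F] V) : V →ₗ[F] V) ∘ₗ A ∘ₗ (((g⁻¹ : V ≃ₗ[F] V)).symm : V →ₗ[F] V) ∈
      yset M (Kline (F := F) (K := K) v) :=
    YADD.conj M _ g⁻¹ (M.inv_mem hg) (fun x hx => hsymm x hx) A hA
  have h2 := YBIMOD.lsmul hm hr.two_le M hN v hv k _ h1
  have h3 := YADD.conj M _ g hg hgL _ h2
  convert h3 using 1
  ext x
  simp only [xk, LinearMap.comp_apply, LinearEquiv.coe_coe, LinearMap.smul_apply]
  show g (k • g.symm (A x)) = g (k • g.symm (A (g (g.symm x))))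
  rw [LinearEquiv.apply_symm_apply]

include hm hr hN hv hS hg hgL in
theorem proj_xk_zero (k : K) (ρ : K ≃ₐ[F] K) (hρ : ρ ≠ 1) (l : V)
    (hl : l ∈ Kline (F := F) (K := K) v) : proj ρ (xk g k) l = 0 := by
  classical
  by_contra hne
  apply hρ
  have hKTV : KTV F K V ≤ M := le_trans KTVLE hN
  refine trans_eq_one hr (Sig (K := K) M (Kline (F := F) (K := K) v))
    (one_mem_Sig hm M hKTV v hv) hS ρ ?_
  intro τ hτ
  -- choose a τ-semilinear A ∈ yset with A y₀ = l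
  obtain ⟨c, hc⟩ := (mem_kline_iff (F := F) v l).mp hl
  obtain ⟨y₀, hy₀⟩ := exists_not_mem_kline (F := F) (K := K) hm v
  obtain ⟨ψ, hψ, hψy⟩ := exists_fun (F := F) v y₀ hy₀
  set ψ' : V →ₗ[K] K := (τ.symm c * (ψ y₀)⁻¹) • ψ with hψ'
  have hψ'v : ψ' v = 0 := by simp [hψ', hψ]
  have hψ'y : ψ' y₀ = τ.symm c := by
    simp only [hψ', LinearMap.smul_apply, smul_eq_mul]
    rw [mul_assoc, inv_mul_cancel₀ hψy, mul_one]
  set A : V →ₗ[F] V := smap τ ψ' v with hAdef
  have hAu : A ∈ ulie (Kline (F := F) (K := K) v) := smap_mem_ulie τ ψ' v hψ'v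
  have hAs : IsSemi τ A := smap_semi τ ψ' v
  have hAy : A ∈ yset M (Kline (F := F) (K := K) v) := YFULL hm hr.two_le M hN v hv τ hτ A hAu hAs
  have hAy₀ : A y₀ = l := by
    show τ (ψ' y₀) • v = l
    rw [hψ'y, AlgEquiv.apply_symm_apply, hc]
  -- B := proj ρ x_k ∘ A
  have : Fintype (K ≃ₐ[F] K) := Fintype.ofFinite _
  have hxA := xk_comp_mem hm hr M hN v hv g hg hgL k A hAy
  have hdec : xk g k ∘ₗ A = ∑ ρ' : K ≃ₐ[F] K, (proj ρ' (xk g k)) ∘ₗ A := by
    conv_lhs => rw [← sum_proj (F := F) (K := K) (xk g k)]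
    ext x
    simp [LinearMap.sum_apply]
  have hB : proj (ρ * τ) (xk g k ∘ₗ A) = proj ρ (xk g k) ∘ₗ A := by
    rw [hdec]
    exact proj_of_decomp (fun ρ' => proj ρ' (xk g k) ∘ₗ A) (fun ρ' => ρ' * τ)
      (fun a b hab => mul_right_cancel hab)
      (fun ρ' => semi_comp (PROJ.semi ρ' _) hAs) ρ
  refine ⟨proj ρ (xk g k) ∘ₗ A, ?_, semi_comp (PROJ.semi ρ _) hAs, ?_⟩
  · rw [← hB]
    exact proj_mem_yset hm hr.two_le M hN v hv _ _ hxA
  · intro h0
    apply hne
    have := LinearMap.congr_fun h0 y₀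
    simpa [hAy₀] using this

include hm hr hN hv hS hg hgL in
theorem xk_eq_proj_one (k : K) (l : V) (hl : l ∈ Kline (F := F) (K := K) v) :
    xk g k l = proj (1 : K ≃ₐ[F] K) (xk g k) l := by
  classical
  have : Fintype (K ≃ₐ[F] K) := Fintype.ofFinite _
  have h := LinearMap.congr_fun (sum_proj (F := F) (K := K) (xk g k)) l
  rw [LinearMap.sum_apply, Finset.sum_eq_single (1 : K ≃ₐ[F] K)] at h
  · exact h.symm
  · intro ρ _ hρ
    exact proj_xk_zero hm hr M hN v hv hS g hg hgL k ρ hρ l hl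
  · intro h'; exact (h' (Finset.mem_univ _)).elim

include hm hr hN hv hS hg hgL in
theorem xk_lin (k c : K) (l : V) (hl : l ∈ Kline (F := F) (K := K) v) :
    xk g k (c • l) = c • xk g k l := by
  rw [xk_eq_proj_one hm hr M hN v hv hS g hg hgL k l hl,
    xk_eq_proj_one hm hr M hN v hv hS g hg hgL k (c • l) (kline_smul_mem v l c hl)]
  have := PROJ.semi (1 : K ≃ₐ[F] K) (xk g k) c l
  simpa using this

include hm hr hN hv hS hg hgL in
theorem exists_lam (k : K) :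
    ∃ lam : K, ∀ y ∈ Kline (F := F) (K := K) v, g (k • y) = lam • g y := by
  have hsymm := symm_mem (Kline (F := F) (K := K) v) g hgL
  have hxv : xk g k v ∈ Kline (F := F) (K := K) v := by
    rw [xk_apply]
    exact hgL _ (kline_smul_mem v _ k (hsymm v (self_mem_kline v)))
  obtain ⟨lam, hlam⟩ := (mem_kline_iff (F := F) v _).mp hxv
  refine ⟨lam, fun y hy => ?_⟩
  obtain ⟨c, hc⟩ := (mem_kline_iff (F := F) v _).mp (hgL y hy)
  have h1 : xk g k (g y) = g (k • y) := by rw [xk_apply, LinearEquiv.symm_apply_apply]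
  rw [← h1, ← hc, xk_lin hm hr M hN v hv hS g hg hgL k c v (self_mem_kline v), ← hlam, smul_smul,
    smul_smul, mul_comm]

include hm hr hN hv hS hg hgL in
theorem exists_sigma :
    ∃ σ : K ≃ₐ[F] K, ∀ (c : K), ∀ x ∈ Kline (F := F) (K := K) v, g (c • x) = σ c • g x := by
  have hsymm := symm_mem (Kline (F := F) (K := K) v) g hgL
  have hex := exists_lam hm hr M hN v hv hS g hg hgL
  choose lamf hlamf using hex
  set y₀ : V := g.symm v with hy₀
  have hy₀L : y₀ ∈ Kline (F := F) (K := K) v := hsymm v (self_mem_kline v)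
  have hgy₀ : g y₀ = v := LinearEquiv.apply_symm_apply g v
  have huniq : ∀ a b : K, a • v = b • v → a = b := by
    intro a b hab
    have : (a - b) • v = 0 := by rw [sub_smul, hab, sub_self]
    rcases smul_eq_zero.mp this with h | h
    · exact sub_eq_zero.mp h
    · exact (hv h).elim
  have hkey : ∀ k : K, g (k • y₀) = lamf k • v := fun k => by rw [hlamf k y₀ hy₀L, hgy₀]
  let φ : K →ₐ[F] K :=
    { toFun := lamf
      map_one' := by
        apply huniq
        rw [← hkey 1, one_smul, hgy₀, one_smul]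
      map_mul' := by
        intro a b
        apply huniq
        rw [← hkey (a * b), mul_smul, hlamf a (b • y₀) (kline_smul_mem v y₀ b hy₀L), hkey b, mul_smul]
      map_zero' := by
        apply huniq
        rw [← hkey 0, zero_smul, map_zero, zero_smul]
      map_add' := by
        intro a b
        apply huniq
        rw [← hkey (a + b), add_smul, map_add, hkey a, hkey b, add_smul]
      commutes' := by
        intro a
        apply huniq
        rw [← hkey (algebraMap F K a), algebraMap_smul, algebraMap_smul, map_smul, hgy₀] }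
  refine ⟨AlgEquiv.ofBijective φ (AlgHom.bijective φ), fun c x hx => ?_⟩
  exact hlamf c x hx

include hm hr hN hv hS hg hgL in
theorem part2 (σ : K ≃ₐ[F] K)
    (hσ : ∀ (c : K), ∀ x ∈ Kline (F := F) (K := K) v, g (c • x) = σ c • g x)
    (τ : K ≃ₐ[F] K) (hτ : τ ≠ σ) (x₀ : V) :
    proj τ (g : V →ₗ[F] V) x₀ ∈ Kline (F := F) (K := K) v := by
  classical
  by_contra hy
  have : Fintype (K ≃ₐ[F] K) := Fintype.ofFinite _
  have hKTV : KTV F K V ≤ M := le_trans KTVLE hN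
  have hcard : Nat.card (K ≃ₐ[F] K) = Module.finrank F K := IsGalois.card_aut_eq_finrank F K
  have : Fact (Module.finrank F K).Prime := ⟨hr⟩
  have hcyc : IsCyclic (K ≃ₐ[F] K) := isCyclic_of_prime_card hcard
  have hcomm : ∀ a b : K ≃ₐ[F] K, a * b = b * a := fun a b => by
    have := IsCyclic.isMulCommutative (α := K ≃ₐ[F] K)
    exact mul_comm' a b
  have hsymm := symm_mem (Kline (F := F) (K := K) v) g hgL
  apply hτ
  have hρ : σ⁻¹ * τ = 1 := by
    refine trans_eq_one hr (Sig (K := K) M (Kline (F := F) (K := K) v))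
      (one_mem_Sig hm M hKTV v hv) hS (σ⁻¹ * τ) ?_
    intro σ' hσ'
    obtain ⟨ψ, hψv, hψy⟩ := exists_fun (F := F) v _ hy
    set B : V →ₗ[F] V := smap σ' ψ v with hBdef
    have hBu : B ∈ ulie (Kline (F := F) (K := K) v) := smap_mem_ulie σ' ψ v hψv
    have hBs : IsSemi σ' B := smap_semi σ' ψ v
    have hBy : B ∈ yset M (Kline (F := F) (K := K) v) :=
      YFULL hm hr.two_le M hN v hv σ' hσ' B hBu hBs
    set A' : V →ₗ[F] V := ((g⁻¹ : V ≃ₗ[F] V) : V →ₗ[F] V) ∘ₗ B ∘ₗ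
      (((g⁻¹ : V ≃ₗ[F] V)).symm : V →ₗ[F] V) with hA'def
    have hA'y : A' ∈ yset M (Kline (F := F) (K := K) v) :=
      YADD.conj M _ g⁻¹ (M.inv_mem hg) (fun x hx => hsymm x hx) B hBy
    have hBg : B ∘ₗ (g : V →ₗ[F] V) = (g : V →ₗ[F] V) ∘ₗ A' := by
      ext x
      simp only [hA'def, LinearMap.comp_apply, LinearEquiv.coe_coe]
      show B (g x) = g (g.symm (B (g x)))
      rw [LinearEquiv.apply_symm_apply]
    -- left decomposition
    have hdecL : B ∘ₗ (g : V →ₗ[F] V) = ∑ τ' : K ≃ₐ[F] K, B ∘ₗ proj τ' (g : V →ₗ[F] V) := by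
      conv_lhs => rw [← sum_proj (F := F) (K := K) (g : V →ₗ[F] V)]
      ext x
      simp [LinearMap.sum_apply]
    have hL : proj (σ' * τ) (B ∘ₗ (g : V →ₗ[F] V)) = B ∘ₗ proj τ (g : V →ₗ[F] V) := by
      rw [hdecL]
      exact proj_of_decomp (fun τ' => B ∘ₗ proj τ' (g : V →ₗ[F] V)) (fun τ' => σ' * τ')
        (fun a b hab => mul_left_cancel hab)
        (fun τ' => semi_comp hBs (PROJ.semi τ' _)) τ
    -- right decomposition
    have hdecR : (g : V →ₗ[F] V) ∘ₗ A' = ∑ ρ' : K ≃ₐ[F] K, (g : V →ₗ[F] V) ∘ₗ proj ρ' A' := by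
      conv_lhs => rw [← sum_proj (F := F) (K := K) A']
      ext x
      simp [LinearMap.sum_apply]
    have hsemiR : ∀ ρ' : K ≃ₐ[F] K, IsSemi (σ * ρ') ((g : V →ₗ[F] V) ∘ₗ proj ρ' A') := by
      intro ρ' k x
      have hu := PROJ.ulie (F := F) (K := K) v ρ' A' hA'y.1
      simp only [LinearMap.comp_apply, LinearEquiv.coe_coe, AlgEquiv.mul_apply]
      rw [PROJ.semi ρ' A' k x, hσ (ρ' k) _ (hu.1 x)]
    have hR : proj (σ * (σ⁻¹ * σ' * τ)) ((g : V →ₗ[F] V) ∘ₗ A') =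
        (g : V →ₗ[F] V) ∘ₗ proj (σ⁻¹ * σ' * τ) A' := by
      rw [hdecR]
      exact proj_of_decomp (fun ρ' => (g : V →ₗ[F] V) ∘ₗ proj ρ' A') (fun ρ' => σ * ρ')
        (fun a b hab => mul_left_cancel hab) hsemiR (σ⁻¹ * σ' * τ)
    have hidx : σ * (σ⁻¹ * σ' * τ) = σ' * τ := by group
    rw [hidx, ← hBg, hL] at hR
    have hρ₀ : σ⁻¹ * τ * σ' = σ⁻¹ * σ' * τ := by
      rw [mul_assoc, hcomm τ σ', ← mul_assoc]
    rw [hρ₀]
    refine ⟨proj (σ⁻¹ * σ' * τ) A', proj_mem_yset hm hr.two_le M hN v hv _ _ hA'y,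
      PROJ.semi _ _, ?_⟩
    intro h0
    rw [h0] at hR
    have h1 := LinearMap.congr_fun hR x₀
    simp only [LinearMap.comp_apply, LinearMap.zero_apply, map_zero] at h1
    have h2 : σ' (ψ (proj τ (g : V →ₗ[F] V) x₀)) • v = 0 := h1
    rcases smul_eq_zero.mp h2 with h3 | h3
    · exact hψy ((map_eq_zero_iff σ' σ'.injective).mp h3)
    · exact hv h3
  calc τ = σ * (σ⁻¹ * τ) := by group
    _ = σ := by rw [hρ, mul_one]

end main

end MULTA

/-- MULTA -/
theorem MULTA [Finite F] [Finite K] [Finite V] (hm : 2 ≤ Module.finrank K V)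
    (hr : (Module.finrank F K).Prime)
    (M : Subgroup (V ≃ₗ[F] V)) (hN : Nrm F K V ⊓ DetIn (⊥ : Subgroup Fˣ) ≤ M) (v : V) (hv : v ≠ 0)
    (hS : Sig (K := K) M (Kline (F := F) (K := K) v) ≠ Set.univ) (g : V ≃ₗ[F] V) (hg : g ∈ M)
    (hgL : ∀ x ∈ Kline (F := F) (K := K) v, g x ∈ Kline (F := F) (K := K) v) :
    ∃ σ : K ≃ₐ[F] K, (∀ (c : K), ∀ x ∈ Kline (F := F) (K := K) v, g (c • x) = σ c • g x) ∧
      ∀ τ : K ≃ₐ[F] K, τ ≠ σ → ∀ x, proj τ (g : V →ₗ[F] V) x ∈ Kline (F := F) (K := K) v := by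
  obtain ⟨σ, hσ⟩ := MULTA.exists_sigma hm hr M hN v hv hS g hg hgL
  exact ⟨σ, hσ, fun τ hτ x => MULTA.part2 hm hr M hN v hv hS g hg hgL σ hσ τ hτ x⟩

end Cfsg.Agent.S5886P
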