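import Mathlib
import Cfsg.Prelude.Def_GeometricClasses
import Cfsg.Agent.Helper2.S5886.Defs
import Cfsg.Agent.Helper2.S5664.Defs
import Cfsg.Agent.Helper2.S5886MULTA
import Cfsg.Agent.Helper4.S5664PARTNER
import Cfsg.Agent.Helper5.S5664YKTV
import Cfsg.Agent.Helper4.S5664YTOR
import Cfsg.Agent.Helper11.S5664YPIECE

/-! S5664 piece MULT' (helper2): the multiplier argument in the symplectic setting. -/

set_option autoImplicit false
set_option linter.unusedSectionVars false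

namespace Cfsg.Agent.S5664P

open Cfsg.Agent.S5886P

variable {F K V : Type*} [Field F] [Field K] [Algebra F K]
  [AddCommGroup V] [Module F V] [Module K V] [IsScalarTower F K V]

namespace MULTP

open Cfsg.Agent.S5886P.MULTA

theorem smap_semi (B : V →ₗ[K] V →ₗ[K] K) (v : V) (σ : K ≃ₐ[F] K) (a : K) :
    IsSemi σ (smap B v σ a) := by
  intro k x
  rw [smap_apply, smap_apply, map_smul, LinearMap.smul_apply, smul_eq_mul, map_mul, smul_smul]
  congr 1
  ring

theorem smap_smul (B : V →ₗ[K] V →ₗ[K] K) (v : V) (σ : K ≃ₐ[F] K) (c : K) :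
    smap B v σ c = c • smap B v σ (1 : K) := by
  ext x
  rw [LinearMap.smul_apply, smap_apply, smap_apply, smul_smul, one_mul]

theorem B_swap (B : V →ₗ[K] V →ₗ[K] K) (hB : IsAltND B) (x y : V) : B x y = - B y x := by
  have h := hB.alt (x + y)
  simp only [map_add, LinearMap.add_apply, hB.alt x, hB.alt y, zero_add, add_zero] at h
  linear_combination h

theorem exists_x0 (B : V →ₗ[K] V →ₗ[K] K) (hB : IsAltND B) (v : V) (hv : v ≠ 0) :
    ∃ x₀ : V, B x₀ v = 1 := by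
  obtain ⟨v', hv'⟩ := PARTNER B hB v hv
  refine ⟨-v', ?_⟩
  rw [map_neg, LinearMap.neg_apply, B_swap B hB v' v, neg_neg, hv']

/-- composition of a `ρ`-semilinear map with `c • S` -/
theorem semi_comp_smul {ρ : K ≃ₐ[F] K} {X : V →ₗ[F] V} (hX : IsSemi ρ X) (c : K) (S : V →ₗ[F] V) :
    X ∘ₗ (c • S) = ρ c • (X ∘ₗ S) := by
  ext x
  simp only [LinearMap.comp_apply, LinearMap.smul_apply]
  exact hX c (S x)

theorem smul_comp' (c : K) (S X : V →ₗ[F] V) : (c • S) ∘ₗ X = c • (S ∘ₗ X) := by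
  ext x
  simp only [LinearMap.comp_apply, LinearMap.smul_apply]

theorem semi_smul {τ : K ≃ₐ[F] K} {S : V →ₗ[F] V} (hS : IsSemi τ S) (c : K) : IsSemi τ (c • S) := by
  intro k x
  simp only [LinearMap.smul_apply]
  rw [hS k x, smul_smul, smul_smul, mul_comm]

theorem xk_zero (g : V ≃ₗ[F] V) : xk (K := K) g 0 = 0 := by
  ext x
  rw [xk_apply, zero_smul, map_zero, LinearMap.zero_apply]

theorem xk_add_one (g : V ≃ₗ[F] V) (k : K) : xk g (k + 1) = xk g k + LinearMap.id := by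
  ext x
  rw [LinearMap.add_apply, xk_apply, xk_apply, add_smul, one_smul, map_add,
    LinearEquiv.apply_symm_apply, LinearMap.id_apply]

section main

variable [Finite F] [Finite K] [Finite V] (hr : (Module.finrank F K).Prime)
  (B : V →ₗ[K] V →ₗ[K] K) (hB : IsAltND B)
  (M : Subgroup (V ≃ₗ[F] V)) (hK : SpK F B ≤ M) (hM : M ≤ SpF F B) (v : V) (hv : v ≠ 0)
  (hS : Sig' (K := K) M (Kline (F := F) (K := K) v) ≠ Set.univ) (g : V ≃ₗ[F] V) (hg : g ∈ M)
  (hgL : ∀ x ∈ Kline (F := F) (K := K) v, g x ∈ Kline (F := F) (K := K) v)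

include hB hK hM hv hg hgL in
theorem xAx_mem (k : K) (A : V →ₗ[F] V) (hA : A ∈ yset M (Kline (F := F) (K := K) v)) :
    xk g k ∘ₗ A ∘ₗ xk g k ∈ yset M (Kline (F := F) (K := K) v) := by
  by_cases hk : k = 0
  · subst hk
    rw [xk_zero, LinearMap.zero_comp]
    exact YADD.zero M _
  have hsymm := symm_mem (Kline (F := F) (K := K) v) g hgL
  have h1 : ((g⁻¹ : V ≃ₗ[F] V) : V →ₗ[F] V) ∘ₗ A ∘ₗ (((g⁻¹ : V ≃ₗ[F] V)).symm : V →ₗ[F] V) ∈
      yset M (Kline (F := F) (K := K) v) :=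
    YADD.conj M _ g⁻¹ (M.inv_mem hg) (fun x hx => hsymm x hx) A hA
  have h2 := YTOR B hB M hK hM v hv k hk _ h1
  have h3 := YADD.conj M _ g hg hgL _ h2
  convert h3 using 1
  ext x
  simp only [xk, LinearMap.comp_apply, LinearEquiv.coe_coe, LinearMap.smul_apply]
  show g (k • g.symm (A (g (k • g.symm x)))) = g (k • g.symm (A (g (k • g.symm x))))
  rfl

include hB hK hM hv hg hgL in
theorem dx_mem (k : K) (A : V →ₗ[F] V) (hA : A ∈ yset M (Kline (F := F) (K := K) v)) :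
    xk g k ∘ₗ A + A ∘ₗ xk g k ∈ yset M (Kline (F := F) (K := K) v) := by
  have h1 := xAx_mem B hB M hK hM v hv g hg hgL (k + 1) A hA
  have h2 := xAx_mem B hB M hK hM v hv g hg hgL k A hA
  have h3 := YADD.add M _ _ _ (YADD.add M _ _ _ h1 (YADD.neg M _ _ h2)) (YADD.neg M _ _ hA)
  convert h3 using 1
  rw [xk_add_one]
  ext x
  simp only [LinearMap.add_apply, LinearMap.comp_apply, LinearMap.id_apply, LinearMap.neg_apply,
    map_add]
  abel

include hB hK hv in
theorem one_mem_Sig' : (1 : K ≃ₐ[F] K) ∈ Sig' (K := K) M (Kline (F := F) (K := K) v) := by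
  refine ⟨smap B v (1 : K ≃ₐ[F] K) 1, YKTV B hB M hK v 1, ?_⟩
  rw [PROJ.of_semi_eq _ _ (smap_semi B v 1 1)]
  intro h0
  obtain ⟨x₀, hx₀⟩ := exists_x0 B hB v hv
  have := LinearMap.congr_fun h0 x₀
  rw [smap_apply, hx₀, LinearMap.zero_apply] at this
  simp at this
  exact hv this

/-- decomposition of `X ∘ C` for a `τ`-semilinear `C` -/
theorem proj_comp_right (X C : V →ₗ[F] V) (τ ρ : K ≃ₐ[F] K) (hC : IsSemi τ C) :
    proj (ρ * τ) (X ∘ₗ C) = proj ρ X ∘ₗ C := by
  have hdec : X ∘ₗ C = ∑ ρ' : K ≃ₐ[F] K, (proj ρ' X) ∘ₗ C := by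
    conv_lhs => rw [← sum_proj (F := F) (K := K) X]
    ext x
    simp [LinearMap.sum_apply]
  rw [hdec]
  exact proj_of_decomp (fun ρ' => proj ρ' X ∘ₗ C) (fun ρ' => ρ' * τ)
    (fun a b hab => mul_right_cancel hab)
    (fun ρ' => semi_comp (PROJ.semi ρ' _) hC) ρ

/-- decomposition of `C ∘ X` for a `τ`-semilinear `C` -/
theorem proj_comp_left (X C : V →ₗ[F] V) (τ ρ : K ≃ₐ[F] K) (hC : IsSemi τ C) :
    proj (τ * ρ) (C ∘ₗ X) = C ∘ₗ proj ρ X := by
  have hdec : C ∘ₗ X = ∑ ρ' : K ≃ₐ[F] K, C ∘ₗ (proj ρ' X) := by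
    conv_lhs => rw [← sum_proj (F := F) (K := K) X]
    ext x
    simp [LinearMap.sum_apply]
  rw [hdec]
  exact proj_of_decomp (fun ρ' => C ∘ₗ proj ρ' X) (fun ρ' => τ * ρ')
    (fun a b hab => mul_left_cancel hab)
    (fun ρ' => semi_comp hC (PROJ.semi ρ' _)) ρ


/-- separation of one character from three others (dual-basis orthogonality) -/
theorem sep4 (ρ χ₂ χ₃ χ₄ : K ≃ₐ[F] K) (P w₂ w₃ w₄ : V) (h2 : ρ ≠ χ₂) (h3 : ρ ≠ χ₃) (h4 : ρ ≠ χ₄)
    (h : ∀ c : K, ρ c • P + χ₂ c • w₂ + χ₃ c • w₃ + χ₄ c • w₄ = 0) : P = 0 := by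
  classical
  have key : ∑ i, ρ (PROJB.bd F K i) •
      (ρ (PROJB.bb F K i) • P + χ₂ (PROJB.bb F K i) • w₂ + χ₃ (PROJB.bb F K i) • w₃ +
        χ₄ (PROJB.bb F K i) • w₄) = 0 := by
    apply Finset.sum_eq_zero
    intro i _
    rw [h, smul_zero]
  simp only [smul_add, smul_smul, Finset.sum_add_distrib, ← Finset.sum_smul] at key
  rw [PROJB.sum_basis ρ ρ, PROJB.sum_basis ρ χ₂, PROJB.sum_basis ρ χ₃, PROJB.sum_basis ρ χ₄,
    if_pos rfl, if_neg h2, if_neg h3, if_neg h4] at key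
  simpa using key

include hB hK hM hv hg hgL in
/-- the case `τ = 1` -/
theorem key1 (k : K) (ρ : K ≃ₐ[F] K) (hρ : ρ ≠ 1) (hP : proj ρ (xk g k) v ≠ 0) :
    ρ ∈ Sig' (K := K) M (Kline (F := F) (K := K) v) := by
  by_contra hnot
  apply hP
  obtain ⟨x₀, hx₀⟩ := exists_x0 B hB v hv
  set X := xk g k with hX
  set S := smap B v (1 : K ≃ₐ[F] K) (1 : K) with hSdef
  have hSsemi : IsSemi (1 : K ≃ₐ[F] K) S := smap_semi B v 1 1
  have hSx₀ : S x₀ = v := by
    rw [hSdef, smap_apply, hx₀]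
    simp
  have hall : ∀ c : K, ρ c • proj ρ X v + (1 : K ≃ₐ[F] K) c • S (proj ρ X x₀) +
      (1 : K ≃ₐ[F] K) c • (0 : V) + (1 : K ≃ₐ[F] K) c • (0 : V) = 0 := by
    intro c
    have hAc : c • S ∈ yset M (Kline (F := F) (K := K) v) := by
      rw [hSdef, ← smap_smul]
      exact YKTV B hB M hK v c
    have hD := dx_mem B hB M hK hM v hv g hg hgL k (c • S) hAc
    have h0 : proj ρ (X ∘ₗ (c • S) + (c • S) ∘ₗ X) = 0 := by
      by_contra hne
      exact hnot ⟨_, hD, hne⟩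
    rw [proj_add] at h0
    have e1 := proj_comp_right X (c • S) 1 ρ (semi_smul hSsemi c)
    have e2 := proj_comp_left X (c • S) 1 ρ (semi_smul hSsemi c)
    rw [mul_one] at e1
    rw [one_mul] at e2
    rw [e1, e2] at h0
    have h1 := LinearMap.congr_fun h0 x₀
    simp only [LinearMap.add_apply, LinearMap.comp_apply, LinearMap.smul_apply,
      LinearMap.zero_apply] at h1
    rw [hSx₀, PROJ.semi ρ X c v] at h1
    simp only [smul_zero, add_zero, AlgEquiv.one_apply]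
    exact h1
  exact sep4 ρ 1 1 1 _ _ _ _ hρ hρ hρ hall

include hr hB hK hM hv hg hgL in
/-- the case `τ ≠ 1` (`r` odd) -/
theorem key2 (hodd : Module.finrank F K ≠ 2) (k : K) (ρ τ : K ≃ₐ[F] K) (hρ : ρ ≠ 1) (hτ : τ ≠ 1)
    (hρτ : ρ * τ ≠ 1) (hτS : τ ∈ Sig' (K := K) M (Kline (F := F) (K := K) v))
    (hP : proj ρ (xk g k) v ≠ 0) :
    ρ * τ ∈ Sig' (K := K) M (Kline (F := F) (K := K) v) := by
  by_contra hnot
  apply hP
  have hcard : Nat.card (K ≃ₐ[F] K) = Module.finrank F K := IsGalois.card_aut_eq_finrank F K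
  have : Fact (Module.finrank F K).Prime := ⟨hr⟩
  have hcyc : IsCyclic (K ≃ₐ[F] K) := isCyclic_of_prime_card hcard
  have hcomm : ∀ a b : K ≃ₐ[F] K, a * b = b * a := fun a b => by
    have := IsCyclic.isMulCommutative (α := K ≃ₐ[F] K)
    exact mul_comm' a b
  obtain ⟨x₀, hx₀⟩ := exists_x0 B hB v hv
  set X := xk g k with hX
  set S₁ := smap B v τ (1 : K) with hS₁
  set S₂ := smap B v τ⁻¹ (1 : K) with hS₂
  have hS₁semi : IsSemi τ S₁ := smap_semi B v τ 1
  have hS₂semi : IsSemi τ⁻¹ S₂ := smap_semi B v τ⁻¹ 1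
  have hS₁x₀ : S₁ x₀ = v := by
    rw [hS₁, smap_apply, hx₀]
    simp
  have hS₂x₀ : S₂ x₀ = v := by
    rw [hS₂, smap_apply, hx₀]
    simp
  have hall : ∀ c : K, ρ c • proj ρ X v + (ρ * τ) c • proj (ρ * τ * τ) X v +
      (1 : K ≃ₐ[F] K) c • S₁ (proj ρ X x₀) + τ⁻¹ c • S₂ (proj (ρ * τ * τ) X x₀) = 0 := by
    intro c
    have hAc : c • S₁ + (τ⁻¹ c) • S₂ ∈ yset M (Kline (F := F) (K := K) v) := by
      rw [hS₁, hS₂, ← smap_smul, ← smap_smul]
      exact YPIECE hr hodd B hB M hK hM v hv τ hτ hτS c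
    have hD := dx_mem B hB M hK hM v hv g hg hgL k _ hAc
    have h0 : proj (ρ * τ) (X ∘ₗ (c • S₁ + (τ⁻¹ c) • S₂) + (c • S₁ + (τ⁻¹ c) • S₂) ∘ₗ X) = 0 := by
      by_contra hne
      exact hnot ⟨_, hD, hne⟩
    rw [LinearMap.comp_add, LinearMap.add_comp, proj_add, proj_add, proj_add] at h0
    have e1 := proj_comp_right X (c • S₁) τ ρ (semi_smul hS₁semi c)
    have e2 := proj_comp_right X ((τ⁻¹ c) • S₂) τ⁻¹ (ρ * τ * τ) (semi_smul hS₂semi _)
    have e3 := proj_comp_left X (c • S₁) τ ρ (semi_smul hS₁semi c)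
    have e4 := proj_comp_left X ((τ⁻¹ c) • S₂) τ⁻¹ (ρ * τ * τ) (semi_smul hS₂semi _)
    have i2 : ρ * τ * τ * τ⁻¹ = ρ * τ := by group
    have i3 : τ * ρ = ρ * τ := hcomm τ ρ
    have i4 : τ⁻¹ * (ρ * τ * τ) = ρ * τ := by
      rw [hcomm τ⁻¹ (ρ * τ * τ)]
      group
    rw [i2] at e2
    rw [i3] at e3
    rw [i4] at e4
    rw [e1, e2, e3, e4] at h0
    have h1 := LinearMap.congr_fun h0 x₀
    simp only [LinearMap.add_apply, LinearMap.comp_apply, LinearMap.smul_apply,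
      LinearMap.zero_apply] at h1
    rw [hS₁x₀, hS₂x₀, PROJ.semi ρ X c v, PROJ.semi (ρ * τ * τ) X (τ⁻¹ c) v] at h1
    have i5 : (ρ * τ * τ) (τ⁻¹ c) = (ρ * τ) c := by
      simp only [AlgEquiv.mul_apply]
      congr 2
      show τ (τ⁻¹ c) = c
      exact AlgEquiv.apply_symm_apply τ c
    rw [i5] at h1
    simp only [AlgEquiv.one_apply]
    rw [← h1]
    abel
  have hne2 : ρ ≠ ρ * τ := fun h => hτ (by
    have : ρ * 1 = ρ * τ := by rw [mul_one]; exact h
    exact (mul_left_cancel this).symm)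
  have hne4 : ρ ≠ τ⁻¹ := fun h => hρτ (by rw [h, inv_mul_cancel])
  exact sep4 ρ (ρ * τ) 1 τ⁻¹ _ _ _ _ hne2 hρ hne4 hall

include hr hB hK hM hv hS hg hgL in
theorem proj_xk_zero (k : K) (ρ : K ≃ₐ[F] K) (hρ : ρ ≠ 1) (l : V)
    (hl : l ∈ Kline (F := F) (K := K) v) : proj ρ (xk g k) l = 0 := by
  classical
  obtain ⟨c, rfl⟩ := (mem_kline_iff (F := F) v l).mp hl
  rw [PROJ.semi ρ (xk g k) c v]
  by_contra hne
  have hP : proj ρ (xk g k) v ≠ 0 := fun h => hne (by rw [h, smul_zero])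
  apply hρ
  refine trans_eq_one hr (Sig' (K := K) M (Kline (F := F) (K := K) v))
    (one_mem_Sig' B hB M hK v hv) hS ρ ?_
  intro τ hτ
  by_cases hτ1 : τ = 1
  · subst hτ1
    rw [mul_one]
    exact key1 B hB M hK hM v hv g hg hgL k ρ hρ hP
  by_cases hρτ : ρ * τ = 1
  · rw [hρτ]
    exact one_mem_Sig' B hB M hK v hv
  by_cases hodd : Module.finrank F K = 2
  · -- a group of order two: `ρ = τ`, so `ρ * τ = 1`
    exfalso
    have hcard : Nat.card (K ≃ₐ[F] K) = 2 := by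
      rw [IsGalois.card_aut_eq_finrank F K, hodd]
    have h1 : ρ ^ 2 = 1 := by
      have := pow_card_eq_one' (G := K ≃ₐ[F] K) (x := ρ)
      rwa [hcard] at this
    have h2 : τ ^ 2 = 1 := by
      have := pow_card_eq_one' (G := K ≃ₐ[F] K) (x := τ)
      rwa [hcard] at this
    have : Fintype (K ≃ₐ[F] K) := Fintype.ofFinite _
    have hc2 : Fintype.card (K ≃ₐ[F] K) = 2 := by rw [← Nat.card_eq_fintype_card, hcard]
    have hsub : ({1, ρ, τ} : Finset (K ≃ₐ[F] K)).card ≤ 2 := by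
      rw [← hc2]
      exact Finset.card_le_univ _
    by_cases hρτe : ρ = τ
    · apply hρτ
      rw [hρτe, ← pow_two, h2]
    · have : ({1, ρ, τ} : Finset (K ≃ₐ[F] K)).card = 3 := by
        rw [Finset.card_insert_of_notMem, Finset.card_insert_of_notMem, Finset.card_singleton]
        · simpa using hρτe
        · simp only [Finset.mem_insert, Finset.mem_singleton, not_or]
          exact ⟨fun h => hρ h.symm, fun h => hτ1 h.symm⟩
      omega
  · exact key2 hr B hB M hK hM v hv g hg hgL hodd k ρ τ hρ hτ1 hρτ hτ hP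

include hr hB hK hM hv hS hg hgL in
theorem xk_eq_proj_one (k : K) (l : V) (hl : l ∈ Kline (F := F) (K := K) v) :
    xk g k l = proj (1 : K ≃ₐ[F] K) (xk g k) l := by
  classical
  have h := LinearMap.congr_fun (sum_proj (F := F) (K := K) (xk g k)) l
  rw [LinearMap.sum_apply, Finset.sum_eq_single (1 : K ≃ₐ[F] K)] at h
  · exact h.symm
  · intro ρ _ hρ
    exact proj_xk_zero hr B hB M hK hM v hv hS g hg hgL k ρ hρ l hl
  · intro h'; exact (h' (Finset.mem_univ _)).elim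

include hr hB hK hM hv hS hg hgL in
theorem xk_lin (k c : K) (l : V) (hl : l ∈ Kline (F := F) (K := K) v) :
    xk g k (c • l) = c • xk g k l := by
  rw [xk_eq_proj_one hr B hB M hK hM v hv hS g hg hgL k l hl,
    xk_eq_proj_one hr B hB M hK hM v hv hS g hg hgL k (c • l) (kline_smul_mem v l c hl)]
  have := PROJ.semi (1 : K ≃ₐ[F] K) (xk g k) c l
  simpa using this

include hr hB hK hM hv hS hg hgL in
theorem exists_lam (k : K) :
    ∃ lam : K, ∀ y ∈ Kline (F := F) (K := K) v, g (k • y) = lam • g y := by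
  have hsymm := symm_mem (Kline (F := F) (K := K) v) g hgL
  have hxv : xk g k v ∈ Kline (F := F) (K := K) v := by
    rw [xk_apply]
    exact hgL _ (kline_smul_mem v _ k (hsymm v (self_mem_kline v)))
  obtain ⟨lam, hlam⟩ := (mem_kline_iff (F := F) v _).mp hxv
  refine ⟨lam, fun y hy => ?_⟩
  obtain ⟨c, hc⟩ := (mem_kline_iff (F := F) v _).mp (hgL y hy)
  have h1 : xk g k (g y) = g (k • y) := by rw [xk_apply, LinearEquiv.symm_apply_apply]
  rw [← h1, ← hc, xk_lin hr B hB M hK hM v hv hS g hg hgL k c v (self_mem_kline v), ← hlam,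
    smul_smul, smul_smul, mul_comm]

include hr hB hK hM hv hS hg hgL in
theorem exists_sigma :
    ∃ σ : K ≃ₐ[F] K, ∀ (c : K), ∀ x ∈ Kline (F := F) (K := K) v, g (c • x) = σ c • g x := by
  have hsymm := symm_mem (Kline (F := F) (K := K) v) g hgL
  have hex := exists_lam hr B hB M hK hM v hv hS g hg hgL
  choose lamf hlamf using hex
  set y₀ : V := g.symm v with hy₀
  have hy₀L : y₀ ∈ Kline (F := F) (K := K) v := hsymm v (self_mem_kline v)
  have hgy₀ : g y₀ = v := LinearEquiv.apply_symm_apply g v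
  have huniq : ∀ a b : K, a • v = b • v → a = b := by
    intro a b hab
    have : (a - b) • v = 0 := by rw [sub_smul, hab, sub_self]
    rcases smul_eq_zero.mp this with h | h
    · exact sub_eq_zero.mp h
    · exact (hv h).elim
  have hkey : ∀ k : K, g (k • y₀) = lamf k • v := fun k => by rw [hlamf k y₀ hy₀L, hgy₀]
  let φ : K →ₐ[F] K :=
    { toFun := lamf
      map_one' := by
        apply huniq
        rw [← hkey 1, one_smul, hgy₀, one_smul]
      map_mul' := by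
        intro a b
        apply huniq
        rw [← hkey (a * b), mul_smul, hlamf a (b • y₀) (kline_smul_mem v y₀ b hy₀L), hkey b, mul_smul]
      map_zero' := by
        apply huniq
        rw [← hkey 0, zero_smul, map_zero, zero_smul]
      map_add' := by
        intro a b
        apply huniq
        rw [← hkey (a + b), add_smul, map_add, hkey a, hkey b, add_smul]
      commutes' := by
        intro a
        apply huniq
        rw [← hkey (algebraMap F K a), algebraMap_smul, algebraMap_smul, map_smul, hgy₀] }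
  refine ⟨AlgEquiv.ofBijective φ (AlgHom.bijective φ), fun c x hx => ?_⟩
  exact hlamf c x hx

end main

end MULTP

/-- MULT' (L, helper2): in the non-full case an element of `M` stabilising `K v` acts semilinearly on it. -/
theorem MULT' [Finite F] [Finite K] [Finite V] (hr : (Module.finrank F K).Prime)
    (B : V →ₗ[K] V →ₗ[K] K) (hB : IsAltND B)
    (M : Subgroup (V ≃ₗ[F] V)) (hK : SpK F B ≤ M) (hM : M ≤ SpF F B) (v : V) (hv : v ≠ 0)
    (hS : Sig' (K := K) M (Kline (F := F) (K := K) v) ≠ Set.univ) (g : V ≃ₗ[F] V) (hg : g ∈ M)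
    (hgL : ∀ x ∈ Kline (F := F) (K := K) v, g x ∈ Kline (F := F) (K := K) v) :
    ∃ σ : K ≃ₐ[F] K, ∀ (c : K), ∀ x ∈ Kline (F := F) (K := K) v, g (c • x) = σ c • g x :=
  MULTP.exists_sigma hr B hB M hK hM v hv hS g hg hgL


end Cfsg.Agent.S5664P
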