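import Mathlib
import Cfsg.Prelude.Def_GeometricClasses
import Cfsg.Agent.Helper2.S5886.Defs
import Cfsg.Agent.Helper2.S5664.Defs
import Cfsg.Agent.Helper23.S5664SPKLE
import Cfsg.Agent.Helper2.S5664MULTP
import Cfsg.Agent.Helper16.S5664KCHOICE
import Cfsg.Agent.Helper20.S5664KTRANS2P
import Cfsg.Agent.Helper13.S5664C1P
import Cfsg.Agent.Helper17.S5664FIXLP
import Cfsg.Agent.Helper20.S5664DIM2
import Cfsg.Agent.Helper16.S5664MOVEP
import Cfsg.Agent.Helper17.S5664FULLTV
import Cfsg.Agent.Helper18.S5664TVALL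
import Cfsg.Agent.Helper10.S5664BRIDGEP
import Cfsg.Agent.Helper5.S5664PROPER
import Cfsg.Agent.Helper23.S5664SPGEN
import Cfsg.Agent.Helper12.S5664C3P

/-! # S5664: the abstract main theorem and the transfer to the matrix statement (helper2)

Assembly of the pieces of the S5664 project (board `s5664pieces`, doc
`departures/helper2_s5664_pieces.md`). -/

set_option autoImplicit false

namespace Cfsg.Agent.S5664P

open Cfsg.Agent.S5886P

variable {F K V : Type*} [Field F] [Field K] [Algebra F K]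
  [AddCommGroup V] [Module F V] [Module K V] [IsScalarTower F K V]

theorem mem_kline_self' (v : V) : v ∈ Kline (F := F) (K := K) v := by
  show v ∈ Submodule.span K {v}
  exact Submodule.mem_span_singleton_self v

/-- the non-full case is contradictory -/
theorem contra [Finite F] [Finite K] [Finite V] (B : V →ₗ[K] V →ₗ[K] K) (hB : IsAltND B)
    (hr : (Module.finrank F K).Prime) (hd : Module.finrank F K = 2 → 4 ≤ Module.finrank K V)
    (M : Subgroup (V ≃ₗ[F] V)) (hN : Nrm F K V ⊓ SpF F B ≤ M) (hM : M ≤ SpF F B)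
    (v : V) (k₀ : K) (h : V ≃ₗ[F] V) (hv : v ≠ 0)
    (hh : h ∈ M) (hhv : h v = v) (hhk : h (k₀ • v) ∉ Kline (F := F) (K := K) v)
    (hS : Sig' (K := K) M (Kline (F := F) (K := K) v) ≠ Set.univ) : False := by
  have hK : SpK F B ≤ M := le_trans (SPKLE B) hN
  have S1 : ∀ g ∈ M, (∀ x ∈ Kline (F := F) (K := K) v, g x ∈ Kline (F := F) (K := K) v) → g v = v →
      ∃ σ : K ≃ₐ[F] K, ∀ c : K, g (c • v) = σ c • v := by
    intro g hg hgL hgv
    obtain ⟨σ, h1⟩ := MULT' hr B hB M hK hM v hv hS g hg hgL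
    refine ⟨σ, fun c => ?_⟩
    have := h1 c v (mem_kline_self' v)
    rw [this, hgv]
  obtain ⟨p, hp⟩ := CharP.exists F
  have := hp
  have : Fact p.Prime := ⟨CharP.char_is_prime F p⟩
  by_cases hcase : 3 ≤ Module.finrank F K ∨ Module.finrank F K ≠ p
  · -- the Sylow argument
    have hW : Wsub (K := K) h v ≠ ⊤ := by
      intro htop
      have : k₀ ∈ Wsub (K := K) h v := htop ▸ Submodule.mem_top
      exact hhk this
    obtain ⟨k, hkW, hAS⟩ := KCHOICE p hr hcase (Wsub (K := K) h v) hW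
    have hhk' : h (k • v) ∉ Kline (F := F) (K := K) v := hkW
    have hkF : k ∉ Set.range (algebraMap F K) := by
      rintro ⟨a, rfl⟩
      apply hkW
      show h ((algebraMap F K a) • v) ∈ Kline (F := F) (K := K) v
      rw [algebraMap_smul, map_smul, hhv]
      exact Submodule.smul_mem _ a (mem_kline_self' v)
    obtain ⟨t, htK, htv, htw, htp⟩ := KTRANS2' p B hB v (h (k • v)) hhk' (1 : F)
    rw [one_smul] at htw
    exact C1' p hr M v k h hv hh hhv hhk' hkF hAS S1
      (fun Q hQ x hx => FIXL' p B hB M hK hM v hv Q hQ x hx) t (hK htK) htv htw htp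
  · -- r = p = 2
    push Not at hcase
    obtain ⟨h3, hrp⟩ := hcase
    have hr2 : Module.finrank F K = 2 := by
      have := hr.two_le
      omega
    have hp2 : p = 2 := by omega
    subst hp2
    exact C3' hr2 (hd hr2) B hB M hN hM v k₀ h hv hh hhv hhk hS

/-- the abstract main theorem: an overgroup of `Nrm ⊓ SpF` inside `SpF` that is not inside `Nrm`
contains every `F`-transvection of the trace form. -/
theorem main_abs [Finite F] [Finite K] [Finite V] (B : V →ₗ[K] V →ₗ[K] K) (hB : IsAltND B)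
    (hr : (Module.finrank F K).Prime) (hd : Module.finrank F K = 2 → 4 ≤ Module.finrank K V)
    (M : Subgroup (V ≃ₗ[F] V)) (hN : Nrm F K V ⊓ SpF F B ≤ M) (hM : M ≤ SpF F B)
    (hMN : ¬ M ≤ Nrm F K V) (u : V) (c : F) (g : V ≃ₗ[F] V)
    (hg : ∀ x, g x = x + (c * trf F B x u) • u) : g ∈ M := by
  have hK : SpK F B ≤ M := le_trans (SPKLE B) hN
  have hm : 2 ≤ Module.finrank K V := DIM2 B hB M hMN
  obtain ⟨v, k, h, hv, hh, hhv, hhk⟩ := MOVE' hm B hB M hK hMN
  by_cases hS : Sig' (K := K) M (Kline (F := F) (K := K) v) = Set.univ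
  · obtain ⟨g₀, hg₀, hg₀v⟩ := FULLTV hr B hB M hK hM v hv hS
    exact TVALL B hB M hK hM v hv g₀ hg₀ hg₀v u c g hg
  · exact (contra B hB hr hd M hN hM v k h hv hh hhv hhk hS).elim

universe u

/-- the concrete statement (S5664 without using `7 ≤ m` except through `hd`) -/
theorem FINAL {F : Type u} [Field F] [Fintype F] (m : ℕ) (r : ℕ) (hr : r.Prime)
    (hd : r = 2 → 4 ≤ m)
    (K : Subalgebra F (Matrix (Fin m ⊕ Fin m) (Fin m ⊕ Fin m) F))
    (hK : Cfsg.Geo.IsFieldSubalgebra r K)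
    (hsa : Cfsg.Geo.IsSelfAdjointFor (Cfsg.sympForm m F) K)
    (halt : ∀ k ∈ K, ∀ v : (Fin m ⊕ Fin m → F), Cfsg.sympForm m F (Matrix.mulVec k v) v = 0)
    (hm : 1 ≤ m) :
    Cfsg.Geo.IsMaximalIn (Cfsg.spGL m F) (Cfsg.Geo.subalgebraNormalizer K ⊓ Cfsg.spGL m F) := by
  obtain ⟨K', fld, alg, mod, tower, fin, hrank, B, hB, htrf, e, he, hNrm⟩ :=
    BRIDGE' m r hr K hK hsa halt
  have hr' : (Module.finrank F K').Prime := hrank ▸ hr
  -- membership translations
  have hSp : ∀ g : Matrix.GeneralLinearGroup (Fin m ⊕ Fin m) F,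
      g ∈ Cfsg.spGL m F ↔ e g ∈ SpF F B := by
    intro g
    constructor
    · intro hg x y
      rw [htrf, htrf, he, he]
      exact hg x y
    · intro hg x y
      have := hg x y
      rw [htrf, htrf, he, he] at this
      exact this
  have hNr : ∀ g : Matrix.GeneralLinearGroup (Fin m ⊕ Fin m) F,
      g ∈ Cfsg.Geo.subalgebraNormalizer K ↔ e g ∈ Nrm F K' (Fin m ⊕ Fin m → F) := by
    intro g
    rw [← hNrm, Subgroup.mem_map_equiv, MulEquiv.symm_apply_apply]
  -- dimensions
  have hdim : Module.finrank F K' * Module.finrank K' (Fin m ⊕ Fin m → F) = m + m := by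
    have h1 := Module.finrank_mul_finrank F K' (Fin m ⊕ Fin m → F)
    rw [h1, Module.finrank_fintype_fun_eq_card]
    simp
  have hd' : Module.finrank F K' = 2 → 4 ≤ Module.finrank K' (Fin m ⊕ Fin m → F) := by
    intro h2
    have h4 := hd (hrank ▸ h2)
    rw [h2] at hdim
    omega
  have hV : Nontrivial (Fin m ⊕ Fin m → F) := by
    have : Nonempty (Fin m ⊕ Fin m) := ⟨Sum.inl ⟨0, hm⟩⟩
    infer_instance
  refine ⟨lt_of_le_of_ne inf_le_right ?_, ?_⟩
  · intro heq
    obtain ⟨g, hg1, hg2⟩ := PROPER (F := F) (K := K') B hB hr'.two_le hV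
    obtain ⟨g', rfl⟩ := e.surjective g
    have : g' ∈ Cfsg.Geo.subalgebraNormalizer K ⊓ Cfsg.spGL m F := by
      rw [heq]
      exact (hSp g').mpr hg1
    exact hg2 ((hNr g').mp this.1)
  · intro M' h1 h2
    by_cases hMN : M' ≤ Cfsg.Geo.subalgebraNormalizer K
    · left
      exact le_antisymm (le_inf hMN h2) h1
    · right
      apply SPGEN m M' h2
      intro u c g hg
      have hN : Nrm F K' (Fin m ⊕ Fin m → F) ⊓ SpF F B ≤ M'.map e.toMonoidHom := by
        rintro x ⟨hx1, hx2⟩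
        obtain ⟨x', rfl⟩ := e.surjective x
        exact ⟨x', h1 ⟨(hNr x').mpr hx1, (hSp x').mpr hx2⟩, rfl⟩
      have hM : M'.map e.toMonoidHom ≤ SpF F B := by
        rintro x ⟨x', hx', rfl⟩
        exact (hSp x').mp (h2 hx')
      have hMN' : ¬ M'.map e.toMonoidHom ≤ Nrm F K' (Fin m ⊕ Fin m → F) := by
        intro hle
        apply hMN
        intro x hx
        exact (hNr x).mpr (hle ⟨x, hx, rfl⟩)
      have hmem : e g ∈ M'.map e.toMonoidHom := by
        refine main_abs B hB hr' hd' (M'.map e.toMonoidHom) hN hM hMN' u c (e g) ?_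
        intro x
        rw [he, hg, htrf]
      obtain ⟨g', hg', hgg'⟩ := hmem
      have : g' = g := e.injective hgg'
      exact this ▸ hg'

end Cfsg.Agent.S5664P
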