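import Cfsg.Agent.Helper29.S5677.Defs

set_option autoImplicit false
set_option linter.unusedSectionVars false
set_option linter.unusedVariables false

/-! # S5677 piece BRIDGEHD -/

namespace Cfsg.Agent.S5677P

open Matrix Cfsg.Agent.Helper28.Sg Cfsg.Agent.Helper28.Spin Cfsg.Agent.Helper12.OrthGen
  Cfsg.Agent.S2614 Cfsg.Agent.S5683P Cfsg.Agent.Helper28.NDM

variable {F : Type*} [Field F] {m t k : ℕ} {D : Fin t → Submodule F (Idx m → F)}

namespace BRIDGEHD

open DirectSum in
theorem finrank_eq_sum {V : Type*} [AddCommGroup V] [Module F V]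
    [FiniteDimensional F V] {t : ℕ} (D : Fin t → Submodule F V) (hi : iSupIndep D)
    (ht : iSup D = ⊤) : Module.finrank F V = ∑ i, Module.finrank F (D i) := by
  classical
  have hint : DirectSum.IsInternal D :=
    DirectSum.isInternal_submodule_of_iSupIndep_of_iSup_eq_top hi ht
  have e : (⨁ i, D i) ≃ₗ[F] V := LinearEquiv.ofBijective (DirectSum.coeLinearMap D) hint
  rw [← e.finrank_eq, Module.finrank_directSum]

end BRIDGEHD

/-- from the frozen hypothesis to `HD` (`k t = 2m+1` by `finrank`; `k, t` odd, so `≥ 3`) -/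
theorem BRIDGEHD.hd (hk : 1 < k)
    (hD : Cfsg.Geo.IsOrthogonalMDecomposition (Cfsg.quadFormOdd m F) k D) : HD k D := by
  classical
  have hdec := hD.decomp.decomp
  have hkt : k * t = 2 * m + 1 := by
    have h1 := BRIDGEHD.finrank_eq_sum D hdec.indep hdec.iSup_eq_top
    rw [Module.finrank_fintype_fun_eq_card] at h1
    simp only [hdec.finrank_eq, Finset.sum_const, Finset.card_univ, Fintype.card_fin,
      smul_eq_mul] at h1
    simp only [Idx, Fintype.card_sum, Fintype.card_unit, Fintype.card_fin] at h1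
    rw [mul_comm]; omega
  have hkodd : k % 2 = 1 := by
    rcases Nat.even_or_odd k with he | ho
    · obtain ⟨j, hj⟩ := he
      rw [hj] at hkt
      have : (j + j) * t = 2 * (j * t) := by ring
      omega
    · exact Nat.odd_iff.1 ho
  have htodd : t % 2 = 1 := by
    rcases Nat.even_or_odd t with he | ho
    · obtain ⟨j, hj⟩ := he
      rw [hj] at hkt
      have : k * (j + j) = 2 * (k * j) := by ring
      omega
    · exact Nat.odd_iff.1 ho
  have ht2 := hdec.two_le
  refine ⟨by omega, by omega, hkt, hdec.finrank_eq, hdec.indep, hdec.iSup_eq_top, ?_, ?_, ?_⟩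
  · intro i x hx hx0
    obtain ⟨-, y, hy, hne⟩ := hD.decomp.nondegenerate i x hx hx0
    refine ⟨y, hy, ?_⟩
    show QuadraticMap.polar (⇑(QfOdd m F)) x y ≠ 0
    rw [QfOdd_coe]; exact hne
  · intro i j hij u hu v hv
    show QuadraticMap.polar (⇑(QfOdd m F)) u v = 0
    rw [QfOdd_coe]; exact hD.decomp.orthogonal i j hij u hu v hv
  · intro i j
    obtain ⟨e, he⟩ := hD.isometric i j
    refine ⟨e, fun w => ?_⟩
    have := he w
    rw [← QfOdd_coe] at this
    exact this

end Cfsg.Agent.S5677P
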