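import Cfsg.Agent.Helper29.S5677.Defs
import Cfsg.Agent.Helper22.S5677STAB
import Cfsg.Agent.Helper20.S5677CMP1
import Cfsg.Agent.Helper2.S5677BLK

set_option autoImplicit false
set_option linter.unusedSectionVars false
set_option linter.unusedVariables false

/-! # S5677 piece PROPER -/

namespace Cfsg.Agent.S5677P

open Matrix Cfsg.Agent.Helper28.Sg Cfsg.Agent.Helper28.Spin Cfsg.Agent.Helper12.OrthGen
  Cfsg.Agent.S2614 Cfsg.Agent.S5683P Cfsg.Agent.Helper28.NDM

variable {F : Type*} [Field F] {m t k : ℕ} {D : Fin t → Submodule F (Idx m → F)}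

/-- `E(u, w)`, `u ∈ D c` singular, `w ∈ D b` nonsingular (`b ≠ c`), does not stabilise `D` -/
theorem PROPER.exists [Fintype F] (h2 : (2 : F) ≠ 0) (hD : HD k D) :
    ∃ g ∈ S (QfOdd m F), g ∉ StabO D := by
  classical
  have ht := hD.t3
  set c : Fin t := ⟨0, by omega⟩ with hc
  set b : Fin t := ⟨1, by omega⟩ with hb
  have hbc : b ≠ c := by
    intro h; rw [hb, hc, Fin.mk.injEq] at h; omega
  obtain ⟨e, f, heN, hfN, hp⟩ := BLK.hyp hD c
  obtain ⟨w, hwN, hQw⟩ := BLK.nonsing h2 hD b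
  have hwe : B (QfOdd m F) w e = 0 := BLK.orth' hD hbc hwN heN
  have hwf : B (QfOdd m F) w f = 0 := BLK.orth' hD hbc hwN hfN
  have hew : B (QfOdd m F) e w = 0 := by rw [B_comm]; exact hwe
  refine ⟨siegO (QfOdd m F) e w hp.Qe hew, siegO_mem_S _ _ _ _ _, ?_⟩
  intro hmem
  obtain ⟨σ, hσ⟩ := STAB.perm hD hmem
  have himg : mt (QfOdd m F) (siegO (QfOdd m F) e w hp.Qe hew) *ᵥ f =
      f + w - QfOdd m F w • e := by
    rw [siegO_mulVec, hp.Bef, hwf]
    simp
  have hpure : Pure D (f + w - QfOdd m F w • e) := by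
    rw [← himg]; exact ⟨σ c, (hσ c f).1 hfN⟩
  have hcb : cmp D b (f + w - QfOdd m F w • e) = w := by
    rw [map_sub, map_add, map_smul, CMP1.of_mem_ne hD hbc.symm hfN, CMP1.of_mem hD hwN,
      CMP1.of_mem_ne hD hbc.symm heN]
    simp
  have hcc : cmp D c (f + w - QfOdd m F w • e) = f - QfOdd m F w • e := by
    rw [map_sub, map_add, map_smul, CMP1.of_mem hD hfN, CMP1.of_mem_ne hD hbc hwN,
      CMP1.of_mem hD heN]
    simp
  have hw0 : w ≠ 0 := by
    intro h0; rw [h0] at hQw; exact hQw (map_zero _)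
  have hfe0 : f - QfOdd m F w • e ≠ 0 := by
    intro h0
    have h1 : f = QfOdd m F w • e := sub_eq_zero.1 h0
    have h3 := hp.Bef
    rw [h1] at h3
    simp only [B, QuadraticMap.polar_smul_right] at h3
    have h4 : QuadraticMap.polar (⇑(QfOdd m F)) e e = 0 := B_self_of_singular (QfOdd m F) hp.Qe
    rw [h4] at h3
    simp at h3
  exact CMP1.not_pure hD hbc (by rw [hcb]; exact hw0) (by rw [hcc]; exact hfe0) hpure

end Cfsg.Agent.S5677P
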