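import Cfsg.Agent.Helper29.S5677.Defs
import Cfsg.Agent.Helper22.S5677STAB
import Cfsg.Agent.Helper22.S5677GEOA
import Cfsg.Agent.Helper2.S5677BLK

set_option autoImplicit false
set_option linter.unusedSectionVars false
set_option linter.unusedVariables false

/-! # S5677 pieces STEP0A, STEP0B -/

namespace Cfsg.Agent.S5677P

open Matrix Cfsg.Agent.Helper28.Sg Cfsg.Agent.Helper28.Spin Cfsg.Agent.Helper12.OrthGen
  Cfsg.Agent.S2614 Cfsg.Agent.S5683P Cfsg.Agent.Helper28.NDM

variable {F : Type*} [Field F] {m t k : ℕ} {D : Fin t → Submodule F (Idx m → F)}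

namespace STEP0A

/-- two pure vectors with non-zero product lie in the same block -/
theorem same_block (hD : HD k D) {b b' : Fin t} {x y : Idx m → F} (hx : x ∈ D b) (hy : y ∈ D b')
    (hxy : B (QfOdd m F) x y ≠ 0) : b = b' := by
  by_contra hne
  exact hxy (hD.orth b b' hne x hx y hy)

end STEP0A

/-- if `g` maps all singular vectors of `D c` to pure vectors, it maps `D c` into one block -/
theorem STEP0A.block [Fintype F] (hD : HD k D) (g : OG m F) (c : Fin t)
    (h : ∀ u ∈ D c, QfOdd m F u = 0 → Pure D (mt (QfOdd m F) g *ᵥ u)) :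
    ∃ b, ∀ x ∈ D c, mt (QfOdd m F) g *ᵥ x ∈ D b := by
  classical
  obtain ⟨e, f, heN, hfN, hp⟩ := BLK.hyp hD c
  have he0 : e ≠ 0 := by
    intro h0
    have := hp.Bef
    rw [h0] at this
    simp [B] at this
  obtain ⟨b, hb⟩ := h e heN hp.Qe
  refine ⟨b, ?_⟩
  have hN := BLK.ndon hD c
  have h3 := BLK.three hD c
  -- every singular vector of `D c` goes to `D b`
  have hsing : ∀ v ∈ D c, QfOdd m F v = 0 → v ∈ (D b).comap (Matrix.mulVecLin (mt (QfOdd m F) g)) := by
    intro v hv hQv
    rw [Submodule.mem_comap, Matrix.mulVecLin_apply]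
    by_cases hv0 : v = 0
    · rw [hv0, Matrix.mulVec_zero]; exact (D b).zero_mem
    obtain ⟨f', hf'N, hQf', hef', hvf'⟩ := GEOA.connect (D c) hN h3 heN hv he0 hv0 hp.Qe hQv
    obtain ⟨b', hb'⟩ := h f' hf'N hQf'
    obtain ⟨b'', hb''⟩ := h v hv hQv
    have e1 : b = b' := STEP0A.same_block hD hb hb' (by rw [B_isom]; exact hef')
    have e2 : b'' = b' := STEP0A.same_block hD hb'' hb' (by rw [B_isom]; exact hvf')
    rw [e1, ← e2]; exact hb''
  intro x hx
  have := le_of_singular_mem (QfOdd m F) (D c) hN h3 _ hsing hx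
  rwa [Submodule.mem_comap, Matrix.mulVecLin_apply] at this

namespace STEP0B

/-- the image of a block lying in a block is the whole block -/
theorem image_eq (hD : HD k D) (g : OG m F) {c b : Fin t}
    (h : ∀ x ∈ D c, mt (QfOdd m F) g *ᵥ x ∈ D b) :
    ∀ y ∈ D b, ∃ x ∈ D c, mt (QfOdd m F) g *ᵥ x = y := by
  classical
  have hle : (D c).map (Matrix.mulVecLin (mt (QfOdd m F) g)) ≤ D b := by
    rintro _ ⟨x, hx, rfl⟩
    rw [Matrix.mulVecLin_apply]; exact h x hx
  have hinj : Function.Injective (Matrix.mulVecLin (mt (QfOdd m F) g)) := by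
    intro x y hxy
    rw [Matrix.mulVecLin_apply, Matrix.mulVecLin_apply] at hxy
    have := congrArg (fun z => mt (QfOdd m F) g⁻¹ *ᵥ z) hxy
    simp only [mt_inv_mulVec] at this
    exact this
  have hrank : Module.finrank F ((D c).map (Matrix.mulVecLin (mt (QfOdd m F) g))) =
      Module.finrank F (D b) := by
    rw [(Submodule.equivMapOfInjective _ hinj (D c)).finrank_eq.symm, hD.rank, hD.rank]
  have heq : (D c).map (Matrix.mulVecLin (mt (QfOdd m F) g)) = D b :=
    Submodule.eq_of_le_of_finrank_eq hle hrank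
  intro y hy
  rw [← heq] at hy
  obtain ⟨x, hx, rfl⟩ := hy
  exact ⟨x, hx, by rw [Matrix.mulVecLin_apply]⟩

end STEP0B

/-- an isometry mapping every block into a block stabilises `D` -/
theorem STEP0B.mem (hD : HD k D) (g : OG m F)
    (h : ∀ c, ∃ b, ∀ x ∈ D c, mt (QfOdd m F) g *ᵥ x ∈ D b) : g ∈ StabO D := by
  classical
  choose σ0 hσ0 using h
  have hinj : Function.Injective σ0 := by
    intro c c' hcc'
    by_contra hne
    -- a non-zero vector of `D (σ0 c)`
    have hpos : 0 < Module.finrank F (D (σ0 c)) := by rw [hD.rank]; have := hD.k3; omega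
    obtain ⟨⟨y, hy⟩, hy0⟩ := (Module.finrank_pos_iff_exists_ne_zero).1 hpos
    have hy0' : y ≠ 0 := fun h0 => hy0 (Subtype.ext h0)
    obtain ⟨x, hx, hxy⟩ := STEP0B.image_eq hD g (hσ0 c) y hy
    obtain ⟨x', hx', hx'y⟩ := STEP0B.image_eq hD g (hσ0 c') y (hcc' ▸ hy)
    have hxx' : x = x' := by
      have := congrArg (fun z => mt (QfOdd m F) g⁻¹ *ᵥ z) (hxy.trans hx'y.symm)
      simp only [mt_inv_mulVec] at this
      exact this
    have hx0 : x ≠ 0 := by
      intro h0; rw [h0, Matrix.mulVec_zero] at hxy; exact hy0' hxy.symm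
    exact hne (BLK.unique hD hx0 hx (hxx' ▸ hx'))
  have hbij : Function.Bijective σ0 := Finite.injective_iff_bijective.1 hinj
  exact STAB.of_perm hD (Equiv.ofBijective σ0 hbij) (fun i x hx => by
    rw [Equiv.ofBijective_apply]; exact hσ0 i x hx)

/-- **STEP0**: an isometry outside the stabiliser maps some pure singular vector to a non-pure one -/
theorem STEP0B.exists_nonpure [Fintype F] (hD : HD k D) {g : OG m F} (hg : g ∉ StabO D) :
    ∃ c, ∃ u ∈ D c, u ≠ 0 ∧ QfOdd m F u = 0 ∧ ¬ Pure D (mt (QfOdd m F) g *ᵥ u) := by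
  classical
  by_contra hcon
  push Not at hcon
  apply hg
  apply STEP0B.mem hD g
  intro c
  apply STEP0A.block hD g c
  intro u hu hQu
  by_cases hu0 : u = 0
  · rw [hu0, Matrix.mulVec_zero]; exact ⟨c, (D c).zero_mem⟩
  · exact hcon c u hu hu0 hQu

end Cfsg.Agent.S5677P
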