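import Cfsg.Agent.Helper28.S5700.Lib
import Cfsg.Agent.Helper2.FieldSubA

set_option autoImplicit false
set_option linter.unusedSectionVars false
set_option linter.unusedVariables false

/-! # S5700 piece ALLPRAT3 -/

namespace Cfsg.Agent.S5700P

open Matrix Module Cfsg.Agent.Helper28.Sg Cfsg.Agent.Helper28.Spin Cfsg.Agent.Helper12.OrthGen

variable {F : Type*} [Field F] [Fintype F] {ι : Type} [Fintype ι] [DecidableEq ι]
  {Q : QuadraticForm F (ι → F)} {J : Matrix ι ι F} {t p : F}

namespace ALLPRAT3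

theorem comb_mulVec (α β : F) (x : ι → F) :
    (α • (1 : Matrix ι ι F) + β • J) *ᵥ x = α • x + β • J *ᵥ x := by
  rw [Matrix.add_mulVec, Matrix.smul_mulVec, Matrix.smul_mulVec, Matrix.one_mulVec]

/-- `1, J` are linearly independent -/
theorem coeff_zero (U : UData Q J t p) (hn : 14 ≤ Fintype.card ι) {α β : F}
    (h : α • (1 : Matrix ι ι F) + β • J = 0) : α = 0 ∧ β = 0 := by
  have hpos : 0 < Fintype.card ι := by omega
  obtain ⟨i0⟩ := Fintype.card_pos_iff.mp hpos
  have hx0 : (Pi.single i0 (1 : F) : ι → F) ≠ 0 := by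
    intro h0
    have := congrFun h0 i0
    simp at this
  have h1 := congrArg (fun A : Matrix ι ι F => A *ᵥ (Pi.single i0 (1 : F) : ι → F)) h
  simp only [comb_mulVec, Matrix.zero_mulVec] at h1
  exact U.comb_eq_zero hx0 h1

/-- no zero divisors among the `α + β J` -/
theorem nzd (U : UData Q J t p) (hn : 14 ≤ Fintype.card ι) {α β γ δ : F}
    (h : (α • (1 : Matrix ι ι F) + β • J) * (γ • (1 : Matrix ι ι F) + δ • J) = 0) :
    (α = 0 ∧ β = 0) ∨ (γ = 0 ∧ δ = 0) := by
  have hpos : 0 < Fintype.card ι := by omega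
  obtain ⟨i0⟩ := Fintype.card_pos_iff.mp hpos
  have hx0 : (Pi.single i0 (1 : F) : ι → F) ≠ 0 := by
    intro h0
    have := congrFun h0 i0
    simp at this
  have h1 := congrArg (fun A : Matrix ι ι F => A *ᵥ (Pi.single i0 (1 : F) : ι → F)) h
  simp only [← Matrix.mulVec_mulVec, comb_mulVec, Matrix.zero_mulVec] at h1
  by_cases hab : α = 0 ∧ β = 0
  · exact Or.inl hab
  · right
    have h2 := U.eq_zero_of_comb h1 hab
    exact U.comb_eq_zero hx0 h2

end ALLPRAT3

theorem ALLPRAT3.inN (U : UData Q J t p) (hn : 14 ≤ Fintype.card ι)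
    (g : ↥(Cfsg.isometryGroup F ⇑Q)) (a b : F)
    (h : mt Q g * J = (a • (1 : Matrix ι ι F) + b • J) * mt Q g) : InN Q J t g := by
  have h1 : mt Q g * mt Q g⁻¹ = 1 := by rw [← mt_mul, mul_inv_cancel, mt_one]
  have hkk : (a • (1 : Matrix ι ι F) + b • J) * (a • (1 : Matrix ι ι F) + b • J) =
      p • (1 : Matrix ι ι F) + t • (a • (1 : Matrix ι ι F) + b • J) := by
    have e : (a • (1 : Matrix ι ι F) + b • J) * (a • (1 : Matrix ι ι F) + b • J) * mt Q g =
        (p • (1 : Matrix ι ι F) + t • (a • (1 : Matrix ι ι F) + b • J)) * mt Q g := by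
      calc (a • (1 : Matrix ι ι F) + b • J) * (a • (1 : Matrix ι ι F) + b • J) * mt Q g
          = (a • (1 : Matrix ι ι F) + b • J) * ((a • (1 : Matrix ι ι F) + b • J) * mt Q g) :=
            Matrix.mul_assoc _ _ _
        _ = (a • (1 : Matrix ι ι F) + b • J) * (mt Q g * J) := by rw [h]
        _ = ((a • (1 : Matrix ι ι F) + b • J) * mt Q g) * J := (Matrix.mul_assoc _ _ _).symm
        _ = (mt Q g * J) * J := by rw [← h]
        _ = mt Q g * (J * J) := Matrix.mul_assoc _ _ _
        _ = mt Q g * (p • (1 : Matrix ι ι F) + t • J) := by rw [U.sq]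
        _ = p • mt Q g + t • (mt Q g * J) := by
            rw [Matrix.mul_add, Matrix.mul_smul, Matrix.mul_smul, Matrix.mul_one]
        _ = p • mt Q g + t • ((a • (1 : Matrix ι ι F) + b • J) * mt Q g) := by rw [h]
        _ = (p • (1 : Matrix ι ι F) + t • (a • (1 : Matrix ι ι F) + b • J)) * mt Q g := by
            simp only [Matrix.add_mul, Matrix.smul_mul, Matrix.one_mul]
    have e2 := congrArg (fun A : Matrix ι ι F => A * mt Q g⁻¹) e
    simp only [Matrix.mul_assoc, h1, Matrix.mul_one] at e2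
    exact e2
  have hexp : (a • (1 : Matrix ι ι F) + b • J) * (a • (1 : Matrix ι ι F) + b • J) =
      (a * a + b * b * p) • (1 : Matrix ι ι F) + (2 * a * b + b * b * t) • J := by
    simp only [Matrix.add_mul, Matrix.mul_add, Matrix.smul_mul, Matrix.mul_smul, Matrix.one_mul,
      Matrix.mul_one, U.sq]
    module
  have hzero : (a * a + b * b * p - p - t * a) • (1 : Matrix ι ι F) +
      (2 * a * b + b * b * t - t * b) • J = 0 := by
    have e3 := hexp.symm.trans hkk
    have e4 : (a * a + b * b * p - p - t * a) • (1 : Matrix ι ι F) +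
        (2 * a * b + b * b * t - t * b) • J =
        ((a * a + b * b * p) • (1 : Matrix ι ι F) + (2 * a * b + b * b * t) • J) -
          (p • (1 : Matrix ι ι F) + t • (a • (1 : Matrix ι ι F) + b • J)) := by
      module
    rw [e4, e3, sub_self]
  obtain ⟨hα, hβ⟩ := ALLPRAT3.coeff_zero U hn hzero
  have hprod : (a • (1 : Matrix ι ι F) + (b - 1) • J) *
      ((a - t) • (1 : Matrix ι ι F) + (b + 1) • J) = 0 := by
    have e5 : (a • (1 : Matrix ι ι F) + (b - 1) • J) *
        ((a - t) • (1 : Matrix ι ι F) + (b + 1) • J) =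
        (a * a + b * b * p - p - t * a) • (1 : Matrix ι ι F) +
          (2 * a * b + b * b * t - t * b) • J := by
      simp only [Matrix.add_mul, Matrix.mul_add, Matrix.smul_mul, Matrix.mul_smul,
        Matrix.one_mul, Matrix.mul_one, U.sq]
      module
    rw [e5, hα, hβ, zero_smul, zero_smul, add_zero]
  rcases ALLPRAT3.nzd U hn hprod with ⟨ha, hb⟩ | ⟨ha, hb⟩
  · left
    have hb1 : b = 1 := sub_eq_zero.mp hb
    rw [h, ha, hb1, zero_smul, zero_add, one_smul]
  · right
    have ha1 : a = t := sub_eq_zero.mp ha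
    have hb1 : b = -1 := eq_neg_of_add_eq_zero_left hb
    rw [h, ha1, hb1, neg_one_smul, sub_eq_add_neg]

end Cfsg.Agent.S5700P
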