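import Cfsg.Agent.Helper28.S5700.Lib
import Cfsg.Agent.Helper5.S5700EXHYP5
import Cfsg.Agent.Helper5.S5700EXK
import Cfsg.Agent.Helper25.S5700DUAL

set_option autoImplicit false
set_option linter.unusedSectionVars false
set_option linter.unusedVariables false

/-! # S5700 piece PROPER (hedge by helper2) -/

namespace Cfsg.Agent.S5700P

open Matrix Module Cfsg.Agent.Helper28.Sg Cfsg.Agent.Helper28.Spin Cfsg.Agent.Helper12.OrthGen

variable {F : Type*} [Field F] [Fintype F] {ι : Type} [Fintype ι] [DecidableEq ι]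
  {Q : QuadraticForm F (ι → F)} {J : Matrix ι ι F} {t p : F}

theorem PROPER.exists_not_inN (U : UData Q J t p) (hQ : (QuadraticMap.polarBilin Q).Nondegenerate)
    (hn : 14 ≤ Fintype.card ι) : ∃ g ∈ S Q, ¬ InN Q J t g := by
  -- a singular `x ≠ 0`
  obtain ⟨x, x', hQx, hQx', hxx', -, -⟩ :=
    EXHYP5.of_le5 hQ hn (⊥ : Submodule F (ι → F)) (by rw [finrank_bot]; omega)
  have hx0 : x ≠ 0 := by
    rintro rfl
    rw [B_zero_left] at hxx'
    exact zero_ne_one hxx'
  -- a singular `y`, `hperp x y`, `y ∉ K x`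
  obtain ⟨y, y', hQy, hQy', hyy', hxy, hxy'⟩ := EXK.K1 hQ hn J x
  have hyK : ¬ InK J x y := by
    rintro ⟨α, β, rfl⟩
    rw [B_add_left, B_smul_left, B_smul_left, hxy'.1, hxy'.2] at hyy'
    simp at hyy'
  obtain ⟨u, hu1, hu2, hu3, hu4⟩ := DUAL.exists_dual4 U hQ hx0 hyK 0 0 0 (-1)
  have hyJu : B Q y (J *ᵥ u) = 1 := by rw [U.B_J_right, hu3, hu4]; ring
  have hxJu : B Q x (J *ᵥ u) = 0 := by rw [U.B_J_right, hu1, hu2]; ring
  have hgu : mt Q (siegO Q x y hQx hxy.1) *ᵥ u = u := by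
    rw [siegO_mulVec, hu1, hu3]; simp
  have hgJu : mt Q (siegO Q x y hQx hxy.1) *ᵥ (J *ᵥ u) = J *ᵥ u - x := by
    rw [siegO_mulVec, hxJu, hyJu]; simp
  refine ⟨siegO Q x y hQx hxy.1, siegO_mem_S Q x y hQx hxy.1, ?_⟩
  rintro (h | h)
  · have h1 := congrArg (fun A : Matrix ι ι F => A *ᵥ u) h
    simp only [← Matrix.mulVec_mulVec, hgu, hgJu] at h1
    apply hx0
    have : J *ᵥ u - x = J *ᵥ u := h1
    have h2 : x = J *ᵥ u - (J *ᵥ u - x) := by abel
    rw [h2, this, sub_self]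
  · have h1 := congrArg (fun A : Matrix ι ι F => A *ᵥ u) h
    simp only [← Matrix.mulVec_mulVec, hgu, hgJu, Matrix.sub_mulVec, Matrix.smul_mulVec,
      Matrix.one_mulVec] at h1
    -- `x = 2 J u - t u`
    have hxu : InK J u x := ⟨-t, 2, by
      have h2 : x = J *ᵥ u - (J *ᵥ u - x) := by abel
      rw [h2, h1]; module⟩
    have hux : InK J x u := hxu.symm U hx0
    have hyx : hperp Q J y x := hxy.symm U
    have h3 : hperp Q J y u := hyx.of_InK_right U hux
    rw [h3.2] at hu4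
    have h4 : (1 : F) = 0 := by linear_combination hu4
    exact one_ne_zero h4

end Cfsg.Agent.S5700P
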