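import Cfsg.Agent.Helper28.S5700.Lib
import Cfsg.Agent.Helper2.FieldSubA

set_option autoImplicit false
set_option linter.unusedSectionVars false
set_option linter.unusedVariables false

/-! # S5700 piece REDUCE1 -/

namespace Cfsg.Agent.S5700P

open Matrix Module Cfsg.Agent.Helper28.Sg Cfsg.Agent.Helper28.Spin Cfsg.Agent.Helper12.OrthGen

variable {F : Type*} [Field F] [Fintype F] {ι : Type} [Fintype ι] [DecidableEq ι]
  {Q : QuadraticForm F (ι → F)} {J : Matrix ι ι F} {t p : F}

section reduce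

variable {n : ℕ}

namespace REDUCE1

/-- a vector perpendicular to everything (on the right) is zero -/
theorem eq_zero_of_right {f : (Fin n → F) → (Fin n → F) → F}
    (hnd : Cfsg.Geo.IsNondegenerateForm f) {z : Fin n → F} (h : ∀ u, f u z = 0) : z = 0 := by
  by_contra hz
  obtain ⟨⟨x, hx⟩, _⟩ := hnd z hz
  exact hx (h x)

theorem sub_right {f : (Fin n → F) → (Fin n → F) → F} (hb : Cfsg.Geo.IsBilinearForm f)
    (u x y : Fin n → F) : f u (x - y) = f u x - f u y := by
  have h1 : x - y = x + (-1 : F) • y := by module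
  rw [h1, hb.add_right, hb.smul_right]; ring

/-- two matrices with the same form values on the right are equal -/
theorem mat_eq_of_right {f : (Fin n → F) → (Fin n → F) → F} (hb : Cfsg.Geo.IsBilinearForm f)
    (hnd : Cfsg.Geo.IsNondegenerateForm f) {A A' : Matrix (Fin n) (Fin n) F}
    (h : ∀ u v, f u (A *ᵥ v) = f u (A' *ᵥ v)) : A = A' := by
  apply Cfsg.Agent.Helper28.Spin.matrix_ext_mulVec
  intro v
  have h0 : A *ᵥ v - A' *ᵥ v = 0 := by
    apply eq_zero_of_right hnd
    intro u
    rw [sub_right hb, h u v, sub_self]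
  exact sub_eq_zero.mp h0

end REDUCE1

theorem REDUCE1.adj (Q : (Fin n → F) → F) (hQ : Cfsg.Geo.IsNondegenerateQuadraticForm Q)
    (K : Subalgebra F (Matrix (Fin n) (Fin n) F)) {ω : Matrix (Fin n) (Fin n) F} {p t : F}
    (hG : Cfsg.Agent.Helper2.FSub.Gen K ω p t)
    (hac : Cfsg.Geo.IsAdjointClosedFor (QuadraticMap.polar Q) K)
    (hnsa : ¬ Cfsg.Geo.IsSelfAdjointFor (QuadraticMap.polar Q) K) :
    ∀ u v : Fin n → F, QuadraticMap.polar Q (ω *ᵥ u) v =
      t * QuadraticMap.polar Q u v - QuadraticMap.polar Q u (ω *ᵥ v) := by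
  have hb := hQ.polar_bilinear
  obtain ⟨ω', hω'K, hadj⟩ := hac ω hG.mem
  have hsq : ω' * ω' = p • (1 : Matrix (Fin n) (Fin n) F) + t • ω' := by
    apply REDUCE1.mat_eq_of_right hb hQ.nondegenerate
    intro u v
    have e1 : (ω' * ω') *ᵥ v = ω' *ᵥ (ω' *ᵥ v) := (Matrix.mulVec_mulVec _ _ _).symm
    rw [e1, ← hadj, ← hadj, Matrix.mulVec_mulVec, hG.sq, Matrix.add_mulVec, Matrix.add_mulVec,
      Matrix.smul_mulVec, Matrix.smul_mulVec, Matrix.smul_mulVec, Matrix.smul_mulVec,
      Matrix.one_mulVec, Matrix.one_mulVec, hb.add_left, hb.add_right, hb.smul_left,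
      hb.smul_left, hb.smul_right, hb.smul_right, hadj]
  rcases hG.root_cases hω'K hsq with h | h
  · exfalso
    apply hnsa
    intro k hk u v
    obtain ⟨a, b, rfl⟩ := hG.span k hk
    rw [Matrix.add_mulVec, Matrix.add_mulVec, Matrix.smul_mulVec, Matrix.smul_mulVec,
      Matrix.smul_mulVec, Matrix.smul_mulVec, Matrix.one_mulVec, Matrix.one_mulVec,
      hb.add_left, hb.add_right, hb.smul_left, hb.smul_left, hb.smul_right, hb.smul_right,
      hadj, h]
  · intro u v
    rw [hadj, h, Matrix.sub_mulVec, Matrix.smul_mulVec, Matrix.one_mulVec,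
      REDUCE1.sub_right hb, hb.smul_right]

end reduce

end Cfsg.Agent.S5700P
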