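import Cfsg.Agent.Helper28.S5700.Lib
import Cfsg.Agent.Helper2.FieldSubA

set_option autoImplicit false
set_option linter.unusedSectionVars false
set_option linter.unusedVariables false

/-! # S5700 piece REDUCE2 -/

namespace Cfsg.Agent.S5700P

open Matrix Module Cfsg.Agent.Helper28.Sg Cfsg.Agent.Helper28.Spin Cfsg.Agent.Helper12.OrthGen

variable {F : Type*} [Field F] [Fintype F] {ι : Type} [Fintype ι] [DecidableEq ι]
  {Q : QuadraticForm F (ι → F)} {J : Matrix ι ι F} {t p : F}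

section reduce

variable {n : ℕ}

theorem REDUCE2.norm (hn : 1 ≤ n) (Q : (Fin n → F) → F)
    (hQ : Cfsg.Geo.IsNondegenerateQuadraticForm Q)
    (K : Subalgebra F (Matrix (Fin n) (Fin n) F)) {ω : Matrix (Fin n) (Fin n) F} {p t : F}
    (hG : Cfsg.Agent.Helper2.FSub.Gen K ω p t)
    (hadj : ∀ u v : Fin n → F, QuadraticMap.polar Q (ω *ᵥ u) v =
      t * QuadraticMap.polar Q u v - QuadraticMap.polar Q u (ω *ᵥ v))
    (hsc : ∀ k ∈ K, ∃ c : F, ∀ v : Fin n → F, Q (k *ᵥ v) = c * Q v) :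
    ∀ (a b : F) (x : Fin n → F),
      Q (a • x + b • ω *ᵥ x) = (a * a + t * a * b - p * b * b) * Q x := by
  intro a b x
  have hb := hQ.polar_bilinear
  have hk : a • (1 : Matrix (Fin n) (Fin n) F) + b • ω ∈ K :=
    K.add_mem (K.smul_mem K.one_mem a) (K.smul_mem hG.mem b)
  obtain ⟨c, hc⟩ := hsc _ hk
  have hkv : ∀ v : Fin n → F,
      (a • (1 : Matrix (Fin n) (Fin n) F) + b • ω) *ᵥ v = a • v + b • ω *ᵥ v := by
    intro v
    rw [Matrix.add_mulVec, Matrix.smul_mulVec, Matrix.smul_mulVec, Matrix.one_mulVec]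
  -- a pair with non-zero product
  obtain ⟨x0, y0, hxy⟩ : ∃ x0 y0 : Fin n → F, QuadraticMap.polar Q x0 y0 ≠ 0 := by
    have hv : (fun _ : Fin n => (1 : F)) ≠ 0 := by
      intro h
      have := congrFun h ⟨0, by omega⟩
      simp at this
    obtain ⟨⟨x0, hx0⟩, _⟩ := hQ.nondegenerate _ hv
    exact ⟨x0, _, hx0⟩
  -- polarising `hc`
  have h1 : QuadraticMap.polar Q (a • x0 + b • ω *ᵥ x0) (a • y0 + b • ω *ᵥ y0) =
      c * QuadraticMap.polar Q x0 y0 := by
    unfold QuadraticMap.polar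
    have e : a • x0 + b • ω *ᵥ x0 + (a • y0 + b • ω *ᵥ y0) =
        (a • (1 : Matrix (Fin n) (Fin n) F) + b • ω) *ᵥ (x0 + y0) := by
      rw [hkv, Matrix.mulVec_add]; module
    rw [e, hc, ← hkv x0, ← hkv y0, hc, hc]
    ring
  -- computing with `hadj`
  have hωω : ∀ u v : Fin n → F, QuadraticMap.polar Q (ω *ᵥ u) (ω *ᵥ v) =
      -p * QuadraticMap.polar Q u v := by
    intro u v
    rw [hadj, Matrix.mulVec_mulVec, hG.sq, Matrix.add_mulVec, Matrix.smul_mulVec,
      Matrix.smul_mulVec, Matrix.one_mulVec, hb.add_right, hb.smul_right, hb.smul_right]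
    ring
  have h2 : QuadraticMap.polar Q (a • x0 + b • ω *ᵥ x0) (a • y0 + b • ω *ᵥ y0) =
      (a * a + t * a * b - p * b * b) * QuadraticMap.polar Q x0 y0 := by
    simp only [hb.add_left, hb.add_right, hb.smul_left, hb.smul_right, hωω]
    rw [hadj x0 y0]
    ring
  have hceq : c = a * a + t * a * b - p * b * b := by
    have h3 : (c - (a * a + t * a * b - p * b * b)) * QuadraticMap.polar Q x0 y0 = 0 := by
      rw [sub_mul, ← h1, ← h2, sub_self]
    rcases mul_eq_zero.mp h3 with h | h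
    · exact sub_eq_zero.mp h
    · exact absurd h hxy
  rw [← hkv, hc, hceq]

end reduce

end Cfsg.Agent.S5700P
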