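import Cfsg.Agent.Helper28.S5700.Lib
import Cfsg.Agent.Helper2.FieldSubA

set_option autoImplicit false
set_option linter.unusedSectionVars false
set_option linter.unusedVariables false

/-! # S5700 piece REDUCE3 -/

namespace Cfsg.Agent.S5700P

open Matrix Module Cfsg.Agent.Helper28.Sg Cfsg.Agent.Helper28.Spin Cfsg.Agent.Helper12.OrthGen

variable {F : Type*} [Field F] [Fintype F] {ι : Type} [Fintype ι] [DecidableEq ι]
  {Q : QuadraticForm F (ι → F)} {J : Matrix ι ι F} {t p : F}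

section reduce

variable {n : ℕ}

theorem REDUCE3.mem_normalizer_iff (hn : 1 ≤ n) (K : Subalgebra F (Matrix (Fin n) (Fin n) F))
    {ω : Matrix (Fin n) (Fin n) F} {p t : F} (hG : Cfsg.Agent.Helper2.FSub.Gen K ω p t)
    (g : GL (Fin n) F) :
    g ∈ Cfsg.Geo.subalgebraNormalizer K ↔
      ((g : Matrix (Fin n) (Fin n) F) * ω = ω * (g : Matrix (Fin n) (Fin n) F) ∨
        (g : Matrix (Fin n) (Fin n) F) * ω =
          (t • (1 : Matrix (Fin n) (Fin n) F) - ω) * (g : Matrix (Fin n) (Fin n) F)) := by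
  constructor
  · intro hg
    obtain ⟨Gm, hGm⟩ : ∃ Gm : Matrix (Fin n) (Fin n) F, Gm = (g : Matrix (Fin n) (Fin n) F) :=
      ⟨_, rfl⟩
    obtain ⟨Gi, hGi⟩ : ∃ Gi : Matrix (Fin n) (Fin n) F,
        Gi = ((g⁻¹ : GL (Fin n) F) : Matrix (Fin n) (Fin n) F) := ⟨_, rfl⟩
    have h1 : Gm * Gi = 1 := by rw [hGm, hGi, ← Units.val_mul, mul_inv_cancel, Units.val_one]
    have h2 : Gi * Gm = 1 := by rw [hGm, hGi, ← Units.val_mul, inv_mul_cancel, Units.val_one]
    have hmem : Gm * ω * Gi ∈ K := by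
      have := (hg ω).mp hG.mem
      rw [← hGm, ← hGi] at this
      exact this
    have hsq : (Gm * ω * Gi) * (Gm * ω * Gi) =
        p • (1 : Matrix (Fin n) (Fin n) F) + t • (Gm * ω * Gi) := by
      rw [Cfsg.Agent.Helper2.FSub.conj_mul h2, hG.sq, Matrix.mul_add, Matrix.add_mul,
        Matrix.mul_smul, Matrix.mul_smul, Matrix.smul_mul, Matrix.smul_mul, Matrix.mul_one, h1]
    have hback : Gm * ω = (Gm * ω * Gi) * Gm := by
      rw [Matrix.mul_assoc (Gm * ω), h2, Matrix.mul_one]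
    rw [← hGm]
    rcases hG.root_cases hmem hsq with h | h
    · left; rw [hback, h]
    · right; rw [hback, h]
  · intro h
    exact hG.mem_normalizer g h

end reduce

end Cfsg.Agent.S5700P
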