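import Mathlib

set_option autoImplicit false

namespace Cfsg.Agent.Helper2.SL25Sp43

open Matrix

set_option maxRecDepth 1000000 in
theorem key5 : ∀ a b c d : ZMod 5, a*d - b*c = 1 →
    (a*a + b*c)*a + (a*b + b*d)*c = 1 → (a*a + b*c)*b + (a*b + b*d)*d = 0 →
    (c*a + d*c)*a + (c*b + d*d)*c = 0 → (c*a + d*c)*b + (c*b + d*d)*d = 1 →
    ¬ (a = 1 ∧ b = 0 ∧ c = 0 ∧ d = 1) →
    ∃ p q r : ZMod 5, p*(-p) - q*r = 1 ∧ p*p + q*r = -1 ∧ p*q + q*(-p) = 0 ∧ r*p + (-p)*r = 0 ∧
      r*q + (-p)*(-p) = -1 ∧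
      (a*p+b*r)*a + (a*q+b*(-p))*c = p ∧ (a*p+b*r)*b + (a*q+b*(-p))*d = q ∧
      (c*p+d*r)*a + (c*q+d*(-p))*c = r ∧ (c*p+d*r)*b + (c*q+d*(-p))*d = -p := by
  decide +kernel

section F3
variable {F : Type*} [Field F] [Fintype F]

theorem three_eq_zero (hF : Fintype.card F = 3) : (3 : F) = 0 := by
  have h : ((Fintype.card F : ℕ) : F) = 0 := FiniteField.cast_card_eq_zero F
  rw [hF] at h; exact_mod_cast h

theorem two_ne_zero3 (hF : Fintype.card F = 3) : (2 : F) ≠ 0 := by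
  intro h2
  have h3 := three_eq_zero hF
  have : (1 : F) = 0 := by linear_combination h3 - h2
  exact one_ne_zero this

theorem no_sqrt_neg_one (hF : Fintype.card F = 3) (a : F) : a * a ≠ -1 := by
  intro h
  by_cases ha : a = 0
  · rw [ha] at h; simp at h
  · have h1 : a ^ (Fintype.card F - 1) = 1 := FiniteField.pow_card_sub_one_eq_one a ha
    rw [hF] at h1
    have h1' : a ^ 2 = 1 := h1
    have h2 : a * a = 1 := by rw [← pow_two]; exact h1'
    have : (2 : F) = 0 := by linear_combination h - h2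
    exact two_ne_zero3 hF this

variable {V : Type*} [AddCommGroup V] [Module F V] [Module.Finite F V]

theorem add_self3 (hF : Fintype.card F = 3) (v : V) : v + v + v = 0 := by
  have h : (3 : F) • v = v + v + v := by
    rw [show (3 : F) = 1 + 1 + 1 by norm_num, add_smul, add_smul, one_smul]
  rw [← h, three_eq_zero hF, zero_smul]

theorem even_finrank_of_sq_neg_one (hF : Fintype.card F = 3) (S : V →ₗ[F] V)
    (hS : ∀ v, S (S v) = -v) (W : Submodule F V) (hW : ∀ w ∈ W, S w ∈ W) :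
    Even (Module.finrank F W) := by
  by_contra hodd
  rw [Nat.not_even_iff_odd] at hodd
  obtain ⟨T, hT⟩ : ∃ T : W →ₗ[F] W, T = S.restrict hW := ⟨_, rfl⟩
  have hTv : ∀ w : W, ((T w : W) : V) = S w := by intro w; rw [hT]; rfl
  have hTT : T * T = (-1 : F) • (1 : Module.End F W) := by
    apply LinearMap.ext; intro w
    apply Subtype.ext
    rw [Module.End.mul_apply, hTv, hTv, hS, LinearMap.smul_apply, Module.End.one_apply,
      Submodule.coe_smul, neg_smul, one_smul]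
  have hdet : LinearMap.det T * LinearMap.det T = -1 := by
    rw [← map_mul, hTT, LinearMap.det_smul, hodd.neg_one_pow, map_one, mul_one]
  exact no_sqrt_neg_one hF _ hdet

theorem fixes_of_pow_five (hF : Fintype.card F = 3) (Y : V →ₗ[F] V)
    (hY : ∀ v, Y (Y (Y (Y (Y v)))) = v) (W : Submodule F V) (hW : ∀ w ∈ W, Y w ∈ W)
    (hdim : Module.finrank F W ≤ 3) : ∀ w ∈ W, Y w = w := by
  classical
  obtain ⟨T, hT⟩ : ∃ T : W →ₗ[F] W, T = Y.restrict hW := ⟨_, rfl⟩
  have hTv : ∀ w : W, ((T w : W) : V) = Y w := by intro w; rw [hT]; rfl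
  have hT5 : ∀ w : W, T (T (T (T (T w)))) = w := by
    intro w; apply Subtype.ext; simp only [hTv]; exact hY _
  have : Finite V := Module.finite_of_finite F
  have : Fintype W := Fintype.ofFinite _
  obtain ⟨f, hf⟩ : ∃ f : Function.End W, f = (T : W → W) := ⟨_, rfl⟩
  have hf5 : f ^ 5 ^ 1 = 1 := by
    rw [pow_one]
    have e : f ^ 5 = f * (f * (f * (f * f))) := by
      simp only [pow_succ, pow_zero, one_mul, mul_assoc]
    rw [e, hf]; funext w; exact hT5 w
  have : Fact (Nat.Prime 5) := ⟨by norm_num⟩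
  have hmod := Equiv.Perm.card_fixedPoints_modEq (p := 5) (n := 1) hf5
  obtain ⟨W', hW'⟩ : ∃ W' : Submodule F W, W' = LinearMap.ker (T - 1) := ⟨_, rfl⟩
  have hfix : (Function.fixedPoints f) = (W' : Set W) := by
    ext w
    rw [hW', hf]
    simp only [Function.mem_fixedPoints, Function.IsFixedPt, SetLike.mem_coe, LinearMap.mem_ker,
      LinearMap.sub_apply, Module.End.one_apply, sub_eq_zero]
  rw [Fintype.card_eq_nat_card, Fintype.card_eq_nat_card] at hmod
  have hc1 : Nat.card W = 3 ^ Module.finrank F W := by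
    rw [Module.natCard_eq_pow_finrank (K := F), Nat.card_eq_fintype_card, hF]
  have hc2 : Nat.card (Function.fixedPoints f) = 3 ^ Module.finrank F W' := by
    rw [hfix]; show Nat.card W' = _
    rw [Module.natCard_eq_pow_finrank (K := F), Nat.card_eq_fintype_card, hF]
  rw [hc1, hc2] at hmod
  have hle : Module.finrank F W' ≤ Module.finrank F W := Submodule.finrank_le W'
  have heq : Module.finrank F W' = Module.finrank F W := by
    obtain ⟨a, ha⟩ : ∃ a, a = Module.finrank F W := ⟨_, rfl⟩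
    obtain ⟨b, hb⟩ : ∃ b, b = Module.finrank F W' := ⟨_, rfl⟩
    rw [← ha, ← hb] at hmod hle
    rw [← ha] at hdim
    rw [← ha, ← hb]
    unfold Nat.ModEq at hmod
    clear ha hb
    interval_cases a <;> interval_cases b <;> first | rfl | (exfalso; revert hmod; decide)
  have htop : W' = ⊤ := Submodule.eq_top_of_finrank_eq heq
  intro w hw
  have hmem : (⟨w, hw⟩ : W) ∈ W' := by rw [htop]; trivial
  rw [hW', LinearMap.mem_ker, LinearMap.sub_apply, Module.End.one_apply, sub_eq_zero] at hmem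
  have := congrArg Subtype.val hmem
  rw [hTv] at this
  exact this

theorem eq_neg_of_central_involution (hF : Fintype.card F = 3) (hV : Module.finrank F V = 4)
    (T Y : V →ₗ[F] V) (hTT : ∀ v, T (T v) = v) (hT1 : T ≠ 1)
    (hcomm : ∀ v, T (Y v) = Y (T v)) (hY5 : ∀ v, Y (Y (Y (Y (Y v)))) = v) (hY1 : Y ≠ 1) :
    ∀ v, T v = -v := by
  by_contra hne
  obtain ⟨Vp, hVp⟩ : ∃ Vp : Submodule F V, Vp = LinearMap.ker (T - 1) := ⟨_, rfl⟩
  obtain ⟨Vm, hVm⟩ : ∃ Vm : Submodule F V, Vm = LinearMap.ker (T + 1) := ⟨_, rfl⟩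
  have memp : ∀ v, v ∈ Vp ↔ T v = v := by
    intro v; rw [hVp, LinearMap.mem_ker, LinearMap.sub_apply, Module.End.one_apply, sub_eq_zero]
  have memm : ∀ v, v ∈ Vm ↔ T v = -v := by
    intro v
    rw [hVm, LinearMap.mem_ker, LinearMap.add_apply, Module.End.one_apply,
      add_eq_zero_iff_eq_neg]
  have invp : ∀ v ∈ Vp, Y v ∈ Vp := by
    intro v hv; rw [memp] at hv ⊢; rw [hcomm, hv]
  have invm : ∀ v ∈ Vm, Y v ∈ Vm := by
    intro v hv; rw [memm] at hv ⊢; rw [hcomm, hv, map_neg]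
  have hp_ne : Vp ≠ ⊤ := by
    intro h; apply hT1; apply LinearMap.ext; intro v
    have hv : v ∈ Vp := by rw [h]; trivial
    rw [memp] at hv; rw [hv]; rfl
  have hm_ne : Vm ≠ ⊤ := by
    intro h; apply hne; intro v
    have hv : v ∈ Vm := by rw [h]; trivial
    exact (memm v).1 hv
  have dp : Module.finrank F Vp ≤ 3 := by
    have := Submodule.finrank_lt hp_ne; omega
  have dm : Module.finrank F Vm ≤ 3 := by
    have := Submodule.finrank_lt hm_ne; omega
  have fp := fixes_of_pow_five hF Y hY5 Vp invp dp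
  have fm := fixes_of_pow_five hF Y hY5 Vm invm dm
  apply hY1; apply LinearMap.ext; intro v
  have hv3 : v + v + v = 0 := add_self3 hF v
  have h1 : -(v + T v) ∈ Vp := by
    rw [memp, map_neg, map_add, hTT]; abel
  have h2 : -(v - T v) ∈ Vm := by
    rw [memm, map_neg, map_sub, hTT]; abel
  have hdec : v = -(v + T v) + -(v - T v) := by
    have e : -(v + T v) + -(v - T v) = v - (v + v + v) := by abel
    rw [e, hv3, sub_zero]
  show Y v = v
  calc Y v = Y (-(v + T v) + -(v - T v)) := by rw [← hdec]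
    _ = -(v + T v) + -(v - T v) := by rw [map_add, fp _ h1, fm _ h2]
    _ = v := hdec.symm

theorem fixed_space (hF : Fintype.card F = 3) (hV : Module.finrank F V = 4)
    (L S : V →ₗ[F] V) (hL3 : ∀ v, L (L (L v)) = v) (hL1 : L ≠ 1)
    (hS : ∀ v, S (S v) = -v) (hLSL : ∀ v, L (S (L v)) = S v) :
    Module.finrank F (LinearMap.ker (L - 1)) = 2 ∧
      LinearMap.ker (L - 1) = LinearMap.range (L - 1) := by
  obtain ⟨N, hN⟩ : ∃ N : V →ₗ[F] V, N = L - 1 := ⟨_, rfl⟩
  have hNv : ∀ v, N v = L v - v := by intro v; rw [hN]; rfl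
  rw [← hN]
  have hN3 : ∀ v, N (N (N v)) = 0 := by
    intro v
    have key : N (N (N v)) = (L v + L v + L v) - (L (L v) + L (L v) + L (L v)) := by
      simp only [hNv, map_sub, hL3]; abel
    rw [key, add_self3 hF, add_self3 hF, sub_zero]
  obtain ⟨U, hU⟩ : ∃ U : Submodule F V, U = LinearMap.ker N := ⟨_, rfl⟩
  obtain ⟨R, hR⟩ : ∃ R : Submodule F V, R = LinearMap.range N := ⟨_, rfl⟩
  rw [← hU, ← hR]
  have memU : ∀ v, v ∈ U ↔ L v = v := by
    intro v; rw [hU, LinearMap.mem_ker, hNv, sub_eq_zero]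
  have memU0 : ∀ v, v ∈ U ↔ N v = 0 := by
    intro v; rw [hU, LinearMap.mem_ker]
  have memR : ∀ v, v ∈ R ↔ ∃ a, N a = v := by
    intro v; rw [hR, LinearMap.mem_range]
  have hSL : ∀ v, S (L v) = L (L (S v)) := by
    intro v
    have h := congrArg (fun u => L (L u)) (hLSL v)
    simp only [hL3] at h
    exact h
  have invU : ∀ v ∈ U, S v ∈ U := by
    intro v hv; rw [memU] at hv ⊢
    have h := hLSL v; rw [hv] at h; exact h
  have invR : ∀ v ∈ R, S v ∈ R := by
    intro v hv; rw [memR] at hv ⊢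
    obtain ⟨a, rfl⟩ := hv
    refine ⟨L (S a) + S a, ?_⟩
    simp only [hNv, map_sub, map_add, hSL]; abel
  have evU := even_finrank_of_sq_neg_one hF S hS U invU
  have evR := even_finrank_of_sq_neg_one hF S hS R invR
  have invI : ∀ v ∈ U ⊓ R, S v ∈ U ⊓ R := fun v hv => ⟨invU v hv.1, invR v hv.2⟩
  have evI := even_finrank_of_sq_neg_one hF S hS (U ⊓ R) invI
  have hsum : Module.finrank F R + Module.finrank F U = 4 := by
    rw [hR, hU, LinearMap.finrank_range_add_finrank_ker, hV]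
  have hN0 : ∃ v, N v ≠ 0 := by
    by_contra h; push Not at h
    apply hL1; apply LinearMap.ext; intro v
    have h' := h v; rw [hNv, sub_eq_zero] at h'; rw [h']; rfl
  have hIne : U ⊓ R ≠ ⊥ := by
    obtain ⟨v, hv⟩ := hN0
    by_cases h2 : N (N v) = 0
    · intro hbot
      have hm : N v ∈ U ⊓ R := ⟨(memU0 _).2 h2, (memR _).2 ⟨v, rfl⟩⟩
      rw [hbot, Submodule.mem_bot] at hm; exact hv hm
    · intro hbot
      have hm : N (N v) ∈ U ⊓ R := ⟨(memU0 _).2 (hN3 v), (memR _).2 ⟨N v, rfl⟩⟩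
      rw [hbot, Submodule.mem_bot] at hm; exact h2 hm
  have hIpos : 0 < Module.finrank F ↥(U ⊓ R) := by
    rw [Module.finrank_pos_iff]
    exact (Submodule.nontrivial_iff_ne_bot).2 hIne
  have hUne : U ≠ ⊤ := by
    intro h; obtain ⟨v, hv⟩ := hN0
    have hm : v ∈ U := by rw [h]; trivial
    exact hv ((memU0 _).1 hm)
  have hUlt : Module.finrank F U < 4 := by rw [← hV]; exact Submodule.finrank_lt hUne
  have hIU : Module.finrank F ↥(U ⊓ R) ≤ Module.finrank F U := Submodule.finrank_mono inf_le_left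
  have hIR : Module.finrank F ↥(U ⊓ R) ≤ Module.finrank F R := Submodule.finrank_mono inf_le_right
  obtain ⟨i, hi⟩ := evI
  obtain ⟨u, hu⟩ := evU
  obtain ⟨r, hr⟩ := evR
  have hU2 : Module.finrank F U = 2 := by omega
  have hI2 : Module.finrank F ↥(U ⊓ R) = 2 := by omega
  have hR2 : Module.finrank F R = 2 := by omega
  refine ⟨hU2, ?_⟩
  have e1 : U ⊓ R = U := Submodule.eq_of_le_of_finrank_eq inf_le_left (by rw [hI2, hU2])
  have e2 : U ⊓ R = R := Submodule.eq_of_le_of_finrank_eq inf_le_right (by rw [hI2, hR2])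
  exact e1.symm.trans e2

end F3

section main

theorem sl_facts (x : SpecialLinearGroup (Fin 2) (ZMod 5)) (hx3 : x * x * x = 1) (hx1 : x ≠ 1) :
    ∃ h : SpecialLinearGroup (Fin 2) (ZMod 5), (h * h).val = -1 ∧ x * (h * x) = h := by
  obtain ⟨a, ha⟩ : ∃ a, a = x.val 0 0 := ⟨_, rfl⟩
  obtain ⟨b, hb⟩ : ∃ b, b = x.val 0 1 := ⟨_, rfl⟩
  obtain ⟨c, hc⟩ : ∃ c, c = x.val 1 0 := ⟨_, rfl⟩
  obtain ⟨d, hd⟩ : ∃ d, d = x.val 1 1 := ⟨_, rfl⟩
  have hdet : a*d - b*c = 1 := by
    have h := x.2; rw [Matrix.det_fin_two] at h; rw [ha, hb, hc, hd]; exact h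
  have h3 : x.val * x.val * x.val = 1 := by
    have h := congrArg Subtype.val hx3
    simpa using h
  have e00 := congrFun (congrFun h3 0) 0
  have e01 := congrFun (congrFun h3 0) 1
  have e10 := congrFun (congrFun h3 1) 0
  have e11 := congrFun (congrFun h3 1) 1
  simp [Matrix.mul_apply, Fin.sum_univ_two, ← ha, ← hb, ← hc, ← hd] at e00 e01 e10 e11
  have hne : ¬ (a = 1 ∧ b = 0 ∧ c = 0 ∧ d = 1) := by
    rintro ⟨h1, h2, h3', h4⟩
    apply hx1; apply Subtype.ext
    ext i j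
    fin_cases i <;> fin_cases j
    · show x.val 0 0 = _; rw [← ha, h1]; simp
    · show x.val 0 1 = _; rw [← hb, h2]; simp
    · show x.val 1 0 = _; rw [← hc, h3']; simp
    · show x.val 1 1 = _; rw [← hd, h4]; simp
  obtain ⟨p, q, r, k1, k2, k3, k4, k5, k6, k7, k8, k9⟩ := key5 a b c d hdet
    (by linear_combination e00) (by linear_combination e01) (by linear_combination e10)
    (by linear_combination e11) hne
  obtain ⟨H, hH⟩ : ∃ H : Matrix (Fin 2) (Fin 2) (ZMod 5), H = !![p, q; r, -p] := ⟨_, rfl⟩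
  have h00 : H 0 0 = p := by rw [hH]; rfl
  have h01 : H 0 1 = q := by rw [hH]; rfl
  have h10 : H 1 0 = r := by rw [hH]; rfl
  have h11 : H 1 1 = -p := by rw [hH]; rfl
  have hHdet : H.det = 1 := by rw [Matrix.det_fin_two, h00, h01, h10, h11]; exact k1
  clear hH
  refine ⟨⟨H, hHdet⟩, ?_, ?_⟩
  · show H * H = -1
    ext i j
    fin_cases i <;> fin_cases j <;>
      simp [Matrix.mul_apply, Fin.sum_univ_two, h00, h01, h10, h11] <;>
      first | linear_combination k2 | linear_combination k3 | linear_combination k4 |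
        linear_combination k5
  · apply Subtype.ext
    show x.val * (H * x.val) = H
    ext i j
    fin_cases i <;> fin_cases j <;>
      simp [Matrix.mul_apply, Fin.sum_univ_two, ← ha, ← hb, ← hc, ← hd, h00, h01, h10, h11] <;>
      first | linear_combination k6 | linear_combination k7 | linear_combination k8 |
        linear_combination k9

variable {F : Type*} [Field F] [Fintype F]

theorem result5 (hF : Fintype.card F = 3)
    (φ : SpecialLinearGroup (Fin 2) (ZMod 5) →* ↥(symplecticGroup (Fin 2) F))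
    (hφ : Function.Injective φ)
    (x : SpecialLinearGroup (Fin 2) (ZMod 5)) (hx : orderOf x = 3) :
    Module.finrank F ↥(LinearMap.ker (Matrix.toLin'
        ((φ x : Matrix (Fin 2 ⊕ Fin 2) (Fin 2 ⊕ Fin 2) F)) - LinearMap.id)) = 2 ∧
      ∀ v w : Fin 2 ⊕ Fin 2 → F,
        (φ x : Matrix (Fin 2 ⊕ Fin 2) (Fin 2 ⊕ Fin 2) F).mulVec v = v →
        (φ x : Matrix (Fin 2 ⊕ Fin 2) (Fin 2 ⊕ Fin 2) F).mulVec w = w →
          dotProduct v ((Matrix.J (Fin 2) F).mulVec w) = 0 := by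
  have hx3 : x * x * x = 1 := by
    have h := pow_orderOf_eq_one x; rw [hx] at h
    rw [← h]; simp only [pow_succ, pow_zero, one_mul]
  have hx1 : x ≠ 1 := by
    intro h; rw [h, orderOf_one] at hx; exact absurd hx (by norm_num)
  obtain ⟨h, hh, hxh⟩ := sl_facts x hx3 hx1
  obtain ⟨y, hy⟩ : ∃ y : SpecialLinearGroup (Fin 2) (ZMod 5),
      y = ⟨!![1, 1; 0, 1], by rw [Matrix.det_fin_two_of]; decide⟩ := ⟨_, rfl⟩
  have hy5 : y * (y * (y * (y * y))) = 1 := by
    rw [hy]; decide +kernel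
  have hy1 : y ≠ 1 := by
    intro h1
    have h2 := congrFun (congrFun (congrArg Subtype.val h1) 0) 1
    exact absurd h2 (by rw [hy]; decide)
  obtain ⟨z, hz⟩ : ∃ z, z = h * h := ⟨_, rfl⟩
  have hzv : z.val = -1 := by rw [hz]; exact hh
  have hzz : z * z = 1 := by
    apply Subtype.ext; show z.val * z.val = 1; rw [hzv]; simp
  have hz1 : z ≠ 1 := by
    intro h1
    have h2 := congrFun (congrFun (congrArg Subtype.val h1) 0) 0
    rw [hzv] at h2
    simp at h2
    revert h2; decide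
  have hzy : z * y = y * z := by
    apply Subtype.ext; show z.val * y.val = y.val * z.val; rw [hzv]; simp
  -- images
  obtain ⟨g, hg⟩ : ∃ g : Matrix (Fin 2 ⊕ Fin 2) (Fin 2 ⊕ Fin 2) F, g = (φ x).val := ⟨_, rfl⟩
  obtain ⟨s, hs⟩ : ∃ s : Matrix (Fin 2 ⊕ Fin 2) (Fin 2 ⊕ Fin 2) F, s = (φ h).val := ⟨_, rfl⟩
  obtain ⟨t, ht⟩ : ∃ t : Matrix (Fin 2 ⊕ Fin 2) (Fin 2 ⊕ Fin 2) F, t = (φ z).val := ⟨_, rfl⟩
  obtain ⟨Y, hY⟩ : ∃ Y : Matrix (Fin 2 ⊕ Fin 2) (Fin 2 ⊕ Fin 2) F, Y = (φ y).val := ⟨_, rfl⟩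
  have hval_ne : ∀ u : SpecialLinearGroup (Fin 2) (ZMod 5), u ≠ 1 →
      (φ u).val ≠ (1 : Matrix (Fin 2 ⊕ Fin 2) (Fin 2 ⊕ Fin 2) F) := by
    intro u hu h1
    apply hu; apply hφ; rw [map_one]; apply Subtype.ext; rw [h1]; rfl
  have hg3 : g * (g * g) = 1 := by
    have e := congrArg (fun u => (φ u).val) hx3
    simp only [map_mul, map_one, Submonoid.coe_mul, Submonoid.coe_one] at e
    rw [hg, ← Matrix.mul_assoc]; exact e
  have hg1 : g ≠ 1 := by rw [hg]; exact hval_ne x hx1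
  have hts : t = s * s := by
    rw [ht, hs, hz, map_mul, Submonoid.coe_mul]
  have htt : t * t = 1 := by
    have e := congrArg (fun u => (φ u).val) hzz
    simp only [map_mul, map_one, Submonoid.coe_mul, Submonoid.coe_one] at e
    rw [ht]; exact e
  have ht1 : t ≠ 1 := by rw [ht]; exact hval_ne z hz1
  have htY : t * Y = Y * t := by
    have e := congrArg (fun u => (φ u).val) hzy
    simp only [map_mul, Submonoid.coe_mul] at e
    rw [ht, hY]; exact e
  have hY5 : Y * (Y * (Y * (Y * Y))) = 1 := by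
    have e := congrArg (fun u => (φ u).val) hy5
    simp only [map_mul, map_one, Submonoid.coe_mul, Submonoid.coe_one] at e
    rw [hY]; exact e
  have hY1 : Y ≠ 1 := by rw [hY]; exact hval_ne y hy1
  have hgsg : g * (s * g) = s := by
    have e := congrArg (fun u => (φ u).val) hxh
    simp only [map_mul, Submonoid.coe_mul] at e
    rw [hg, hs]; exact e
  have hV : Module.finrank F (Fin 2 ⊕ Fin 2 → F) = 4 := by
    rw [Module.finrank_fintype_fun_eq_card]; rfl
  have hne1 : ∀ M : Matrix (Fin 2 ⊕ Fin 2) (Fin 2 ⊕ Fin 2) F, M ≠ 1 →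
      Matrix.toLin' M ≠ (1 : (Fin 2 ⊕ Fin 2 → F) →ₗ[F] (Fin 2 ⊕ Fin 2 → F)) := by
    intro M hM h1
    apply hM; apply Matrix.toLin'.injective; rw [h1, Matrix.toLin'_one]; rfl
  -- t = -1
  have hneg : ∀ v, t *ᵥ v = -v := by
    have := eq_neg_of_central_involution hF hV (Matrix.toLin' t) (Matrix.toLin' Y)
      (by intro v; simp only [Matrix.toLin'_apply, Matrix.mulVec_mulVec, htt, Matrix.one_mulVec])
      (hne1 t ht1)
      (by intro v; simp only [Matrix.toLin'_apply, Matrix.mulVec_mulVec, htY])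
      (by intro v; simp only [Matrix.toLin'_apply, Matrix.mulVec_mulVec, hY5, Matrix.one_mulVec])
      (hne1 Y hY1)
    intro v; have h1 := this v; rw [Matrix.toLin'_apply] at h1; exact h1
  have hss : ∀ v, s *ᵥ (s *ᵥ v) = -v := by
    intro v; rw [Matrix.mulVec_mulVec, ← hts]; exact hneg v
  obtain ⟨hdim, hUR⟩ := fixed_space hF hV (Matrix.toLin' g) (Matrix.toLin' s)
    (by intro v; simp only [Matrix.toLin'_apply, Matrix.mulVec_mulVec, hg3, Matrix.one_mulVec])
    (hne1 g hg1)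
    (by intro v; simp only [Matrix.toLin'_apply]; exact hss v)
    (by intro v; simp only [Matrix.toLin'_apply, Matrix.mulVec_mulVec, hgsg])
  rw [← hg]
  refine ⟨hdim, ?_⟩
  intro v w hv hw
  have hvU : v ∈ LinearMap.ker (Matrix.toLin' g - 1) := by
    rw [LinearMap.mem_ker, LinearMap.sub_apply, Module.End.one_apply, Matrix.toLin'_apply, hv,
      sub_self]
  rw [hUR] at hvU
  obtain ⟨a, ha⟩ := hvU
  have ha' : g *ᵥ a - a = v := by
    rw [← ha, LinearMap.sub_apply, Module.End.one_apply, Matrix.toLin'_apply]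
  have hsymp : gᵀ * J (Fin 2) F * g = J (Fin 2) F := by
    rw [hg]; exact SymplecticGroup.mem_iff'.1 (φ x).2
  have key : a ⬝ᵥ (J (Fin 2) F *ᵥ w) = (g *ᵥ a) ⬝ᵥ (J (Fin 2) F *ᵥ w) := by
    calc a ⬝ᵥ (J (Fin 2) F *ᵥ w) = a ⬝ᵥ ((gᵀ * J (Fin 2) F * g) *ᵥ w) := by rw [hsymp]
      _ = a ⬝ᵥ (gᵀ *ᵥ (J (Fin 2) F *ᵥ (g *ᵥ w))) := by
          rw [Matrix.mulVec_mulVec, Matrix.mulVec_mulVec]
      _ = (g *ᵥ a) ⬝ᵥ (J (Fin 2) F *ᵥ (g *ᵥ w)) := by
          rw [Matrix.dotProduct_mulVec, Matrix.vecMul_transpose]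
      _ = _ := by rw [hw]
  rw [← ha', sub_dotProduct, ← key, sub_self]

theorem result_gen (hF : Fintype.card F = 3)
    {K : Type*} [Field K] [Fintype K] (hK : Fintype.card K = 5)
    (φ : SpecialLinearGroup (Fin 2) K →* ↥(symplecticGroup (Fin 2) F))
    (hφ : Function.Injective φ)
    (x : SpecialLinearGroup (Fin 2) K) (hx : orderOf x = 3) :
    Module.finrank F ↥(LinearMap.ker (Matrix.toLin'
        ((φ x : Matrix (Fin 2 ⊕ Fin 2) (Fin 2 ⊕ Fin 2) F)) - LinearMap.id)) = 2 ∧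
      ∀ v w : Fin 2 ⊕ Fin 2 → F,
        (φ x : Matrix (Fin 2 ⊕ Fin 2) (Fin 2 ⊕ Fin 2) F).mulVec v = v →
        (φ x : Matrix (Fin 2 ⊕ Fin 2) (Fin 2 ⊕ Fin 2) F).mulVec w = w →
          dotProduct v ((Matrix.J (Fin 2) F).mulVec w) = 0 := by
  obtain ⟨e⟩ : Nonempty (ZMod 5 ≃+* K) := ⟨ZMod.ringEquivOfPrime K (by norm_num) hK⟩
  obtain ⟨m, hm⟩ : ∃ m, m = SpecialLinearGroup.map (n := Fin 2) (e : ZMod 5 →+* K) := ⟨_, rfl⟩
  obtain ⟨m', hm'⟩ : ∃ m', m' = SpecialLinearGroup.map (n := Fin 2) (e.symm : K →+* ZMod 5) :=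
    ⟨_, rfl⟩
  have hmm : ∀ z, m (m' z) = z := by
    intro z; rw [hm, hm']; apply Subtype.ext; ext i j; simp
  have hmm' : ∀ z, m' (m z) = z := by
    intro z; rw [hm, hm']; apply Subtype.ext; ext i j; simp
  have hinj : Function.Injective m := fun a b hab => by rw [← hmm' a, hab, hmm' b]
  have h := result5 hF (φ.comp m) (hφ.comp hinj) (m' x)
    (by rw [← orderOf_injective m hinj, hmm, hx])
  have key : (φ.comp m) (m' x) = φ x := by rw [MonoidHom.comp_apply, hmm]
  rw [key] at h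
  exact h

end main

end Cfsg.Agent.Helper2.SL25Sp43
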