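import Mathlib
import Cfsg.Agent.Helper27.Suz2Defs
import Cfsg.Agent.Helper3.S3557K1
import Cfsg.Agent.Helper18.Suz2F3
import Cfsg.Agent.Helper20.SUZ2F5
import Cfsg.Agent.Helper17.SUZ2HYP
import Cfsg.Agent.Helper2.SUZ2X72

/-!
# SUZ2 board, piece END2 (blueprint 7.4, case `C ≠ T`).
-/

set_option autoImplicit false

namespace Cfsg.Agent.SUZ2P

open Cfsg.Agent.Helper17.Suz2

universe u v

variable {K : Type v} {P : Type u} [Group K] [Group P] [MulDistribMulAction K P]

/-- `cm (g * g') s = g * cm g' s * g⁻¹ * cm g s` -/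
theorem endC_aux_cm_mul (g g' s : P) : cm (g * g') s = g * cm g' s * g⁻¹ * cm g s := by
  unfold cm; group

/-- `cm g⁻¹ s = g⁻¹ * (cm g s)⁻¹ * g` -/
theorem endC_aux_cm_inv (g s : P) : cm g⁻¹ s = g⁻¹ * (cm g s)⁻¹ * g := by
  unfold cm; group

/-- the elements of `C` that are central modulo `T` -/
def endC_aux_N (P : Type u) [Group P] (hT : (Z2 P).Normal) : Subgroup P where
  carrier := {g | g ∈ CT P ∧ ∀ s : P, cm g s ∈ Z2 P}
  one_mem' := by
    refine ⟨one_mem _, fun s => ?_⟩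
    have : cm (1 : P) s = 1 := by unfold cm; group
    rw [this]; exact one_mem _
  mul_mem' := by
    rintro a b ⟨ha, ha'⟩ ⟨hb, hb'⟩
    refine ⟨mul_mem ha hb, fun s => ?_⟩
    rw [endC_aux_cm_mul]
    exact mul_mem (hT.conj_mem _ (hb' s) a) (ha' s)
  inv_mem' := by
    rintro a ⟨ha, ha'⟩
    refine ⟨inv_mem ha, fun s => ?_⟩
    rw [endC_aux_cm_inv]
    have := hT.conj_mem _ (inv_mem (ha' s)) a⁻¹
    rwa [inv_inv] at this

theorem endC (h : MinCE K P) {X : Subgroup P} (hX : XHyp K X) (hCT : CT P ≠ Z2 P) : False := by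
  classical
  have hfin : Finite P := h.star.fin
  have hT : (Z2 P).Normal := Z2_normal
  have hTC : Z2 P ≤ CT P := Z2_le_CT h
  -- a central element of `P / T` inside `C / T`
  set π : P →* P ⧸ Z2 P := QuotientGroup.mk' (Z2 P) with hπ
  have hπs : Function.Surjective π := QuotientGroup.mk'_surjective _
  have hker : π.ker = Z2 P := QuotientGroup.ker_mk' _
  have hCn : ((CT P).map π).Normal := Subgroup.Normal.map CT_normal π hπs
  have hne : (CT P).map π ≠ ⊥ := by
    intro hbot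
    rw [Subgroup.map_eq_bot_iff, hker] at hbot
    exact hCT (le_antisymm hbot hTC)
  have hPq : IsPGroup 2 (P ⧸ Z2 P) := h.star.pgrp.to_quotient _
  obtain ⟨c, hcC, hcZ, hc1⟩ := Cfsg.Agent.S3557P.K1_normal_inf_center 2 hPq ((CT P).map π) hne
  obtain ⟨g₀, hg₀C, rfl⟩ := hcC
  have hg₀T : g₀ ∉ Z2 P := by
    intro hg
    apply hc1
    rw [hπ, QuotientGroup.mk'_apply, QuotientGroup.eq_one_iff]; exact hg
  have hg₀N : g₀ ∈ endC_aux_N P hT := by
    refine ⟨hg₀C, fun s => ?_⟩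
    rw [← hker, MonoidHom.mem_ker]
    have hcomm := Subgroup.mem_center_iff.mp hcZ (π s)
    unfold cm
    rw [map_mul, map_mul, map_mul, map_inv, map_inv, ← hcomm, mul_inv_cancel_right,
      mul_inv_cancel]
  -- an element of `N \ T` with square in `T`
  have hex : ∃ j : ℕ, g₀ ^ 2 ^ j ∈ Z2 P := by
    obtain ⟨j, hj⟩ := (IsPGroup.iff_orderOf.mp h.star.pgrp) g₀
    refine ⟨j, ?_⟩
    rw [← hj, pow_orderOf_eq_one]; exact one_mem _
  have hj0 : Nat.find hex ≠ 0 := by
    intro h0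
    have := Nat.find_spec hex
    rw [h0, pow_zero, pow_one] at this
    exact hg₀T this
  obtain ⟨j, hj⟩ := Nat.exists_eq_succ_of_ne_zero hj0
  set g := g₀ ^ 2 ^ j with hg
  have hgN : g ∈ endC_aux_N P hT := Subgroup.pow_mem _ hg₀N _
  have hgT : g ∉ Z2 P := fun hgT => Nat.find_min hex (by omega : j < Nat.find hex) hgT
  have hggT : g * g ∈ Z2 P := by
    have := Nat.find_spec hex
    rw [hj, pow_succ, pow_mul, ← hg, pow_two] at this
    exact this
  -- the hyperplane lemma for `N`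
  have hNinv : KInv K (endC_aux_N P hT) := by
    rintro k a ⟨ha, ha'⟩
    refine ⟨CT_inv k a ha, fun s => ?_⟩
    have h1 : cm (k • a) s = k • cm a (k⁻¹ • s) := by
      rw [cm_smul, smul_inv_smul]
    rw [h1]
    exact Z2_inv k _ (ha' _)
  have hhyp := hyper h hX hNinv (fun a ha x _ => ha.2 x)
  -- a noncentral element of `X`
  obtain ⟨x, hxX, hxZ⟩ := SetLike.exists_of_lt hX.kmin.lt
  have hgx : cm g x ∈ Om P := hhyp g hgN x hxX
  have hcmgg : cm (g * g) x = 1 := by
    rw [endC_aux_cm_mul]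
    have hc : cm g x ∈ Subgroup.center P := hgx.1
    have h1 : g * cm g x = cm g x * g := Subgroup.mem_center_iff.mp hc g
    rw [h1, mul_inv_cancel_right]
    exact hgx.2
  have hggZ : g * g ∈ Om P := (X72m h hX hxX hxZ).1 (g * g) hggT hcmgg
  exact hgT (F5i h hgN.1 hggZ)

end Cfsg.Agent.SUZ2P
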