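import Mathlib
import Cfsg.Agent.Helper28.Siegel6
import Cfsg.Agent.Helper28.OrthSim1
import Cfsg.Agent.Helper13.QuadWitt
import Cfsg.Agent.S0794

set_option autoImplicit false
set_option linter.unusedSectionVars false

/-! `Ω = ⟨Siegel transformations⟩` for nondegenerate quadratic forms in dimension `≥ 5` over a
finite field of odd characteristic (no `Frame3` needed). -/

namespace Cfsg.Agent.Helper2.SiegelGen

open Matrix Module Cfsg.Agent.Helper28.IsoTransport Cfsg.Agent.Helper28.Spin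
  Cfsg.Agent.Helper28.Sg Cfsg.Agent.Helper28.OSim
open scoped commutatorElement

variable {F : Type*} [Field F] {n : ℕ} (Q : QuadraticForm F (Fin n → F))

/-- a hyperbolic pair in the orthogonal complement of a nondegenerate subspace of codimension
at least three -/
theorem exists_hyp_perp_nd [Finite F] (hQ : (QuadraticMap.polarBilin Q).Nondegenerate)
    (S₀ : Submodule F (Fin n → F)) (hS : finrank F S₀ + 3 ≤ n)
    (hnd : ∀ s ∈ S₀, (∀ s' ∈ S₀, B Q s' s = 0) → s = 0) :
    ∃ e f : Fin n → F, Q e = 0 ∧ Q f = 0 ∧ B Q e f = 1 ∧ (∀ s ∈ S₀, B Q s e = 0) ∧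
      (∀ s ∈ S₀, B Q s f = 0) := by
  classical
  set Bf := QuadraticMap.polarBilin Q with hBf
  set P := LinearMap.BilinForm.orthogonal Bf S₀ with hP
  have hPmem : ∀ x, x ∈ P ↔ ∀ s ∈ S₀, B Q s x = 0 := fun x => Iff.rfl
  have hPdim : finrank F P = n - finrank F S₀ := by
    rw [hP, LinearMap.BilinForm.finrank_orthogonal hQ S₀, Module.finrank_fin_fun]
  have hZdim : 3 ≤ finrank F P := by rw [hPdim]; omega
  obtain ⟨v, hv0, hQv⟩ := Cfsg.Agent.Helper13.exists_singular (Q.comp P.subtype) hZdim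
  set e : Fin n → F := (v : Fin n → F) with he
  have heP : e ∈ P := v.2
  have he0 : e ≠ 0 := fun h0 => hv0 (Subtype.ext h0)
  have hQe : Q e = 0 := hQv
  have heS : e ∉ S₀ := by
    intro heS
    exact he0 (hnd e heS ((hPmem e).mp heP))
  obtain ⟨f₀, hf₀P, hf₀⟩ : ∃ f₀ ∈ P, B Q f₀ e ≠ 0 := by
    by_contra hcon
    push Not at hcon
    apply heS
    apply mem_of_forall_perp hQ S₀ e
    intro x hx
    exact hcon x hx
  obtain ⟨f₁, hf₁⟩ : ∃ f₁ : Fin n → F, f₁ = (B Q f₀ e)⁻¹ • f₀ := ⟨_, rfl⟩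
  have hf₁P : f₁ ∈ P := by rw [hf₁]; exact P.smul_mem _ hf₀P
  have hf₁e : B Q e f₁ = 1 := by
    rw [B_comm, hf₁]
    show QuadraticMap.polar ⇑Q ((B Q f₀ e)⁻¹ • f₀) e = 1
    rw [QuadraticMap.polar_smul_left, smul_eq_mul]
    exact inv_mul_cancel₀ hf₀
  refine ⟨e, f₁ - Q f₁ • e, hQe, ?_, ?_, (hPmem e).mp heP, ?_⟩
  · rw [Cfsg.Agent.Helper28.Spin.map_sub'' Q f₁ (Q f₁ • e), Q_smul, hQe]
    show _ + _ - QuadraticMap.polar ⇑Q f₁ (Q f₁ • e) = 0
    rw [QuadraticMap.polar_smul_right, smul_eq_mul, QuadraticMap.polar_comm]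
    simp only [B] at hf₁e
    rw [hf₁e]
    ring
  · show QuadraticMap.polar ⇑Q e (f₁ - Q f₁ • e) = 1
    rw [QuadraticMap.polar_sub_right, QuadraticMap.polar_smul_right,
      show QuadraticMap.polar ⇑Q e e = 0 from B_self_of_singular Q hQe]
    simp only [B] at hf₁e
    rw [hf₁e]
    simp
  · intro s hs
    show QuadraticMap.polar ⇑Q s (f₁ - Q f₁ • e) = 0
    rw [QuadraticMap.polar_sub_right, QuadraticMap.polar_smul_right]
    have h1 := (hPmem f₁).mp hf₁P s hs
    have h2 := (hPmem e).mp heP s hs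
    simp only [B] at h1 h2
    rw [h1, h2]
    simp

variable {Q}

/-- the key dichotomy for two independent nonsingular vectors -/
theorem key_dichotomy [Finite F] (h2 : (2 : F) ≠ 0) (hn : 5 ≤ n)
    (hQ : (QuadraticMap.polarBilin Q).Nondegenerate)
    (u v : Fin n → F) (hu : Q u ≠ 0) (hv : Q v ≠ 0) :
    (∃ e' f', Q e' = 0 ∧ Q f' = 0 ∧ B Q e' f' = 1 ∧ B Q e' v = 0 ∧ B Q e' u = 0 ∧
      B Q f' v = 0 ∧ B Q f' u = 0) ∨
    reflO Q v hv * reflO Q u hu ∈ S Q := by
  classical
  have huu : B Q u u = 2 * Q u := B_self Q u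
  have hvv : B Q v v = 2 * Q v := B_self Q v
  have hvu : B Q v u = B Q u v := B_comm Q v u
  by_cases hΔ : B Q u u * B Q v v - B Q u v * B Q u v = 0
  · -- degenerate plane: the product of the two reflections is a Siegel transformation
    right
    obtain ⟨α, hα⟩ : ∃ α : F, α = B Q u v := ⟨_, rfl⟩
    obtain ⟨β, hβ⟩ : ∃ β : F, β = B Q u u := ⟨_, rfl⟩
    have hβ0 : β ≠ 0 := by
      rw [hβ, huu]; exact mul_ne_zero h2 hu
    have hα0 : α ≠ 0 := by
      intro h0
      rw [← hα, h0] at hΔ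
      rw [huu, hvv] at hΔ
      have : (2 * Q u) * (2 * Q v) = 0 := by linear_combination hΔ
      rcases mul_eq_zero.1 this with h | h
      · exact (mul_ne_zero h2 hu) h
      · exact (mul_ne_zero h2 hv) h
    obtain ⟨w, hw⟩ : ∃ w : Fin n → F, w = α • u - β • v := ⟨_, rfl⟩
    have hwu : B Q w u = 0 := by
      rw [hw]
      show QuadraticMap.polar ⇑Q (α • u - β • v) u = 0
      rw [QuadraticMap.polar_sub_left, QuadraticMap.polar_smul_left, QuadraticMap.polar_smul_left]
      simp only [B] at hvu hα hβ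
      rw [hvu, ← hα, ← hβ]
      simp only [smul_eq_mul]
      ring
    have hwv : B Q w v = 0 := by
      rw [hw]
      show QuadraticMap.polar ⇑Q (α • u - β • v) v = 0
      rw [QuadraticMap.polar_sub_left, QuadraticMap.polar_smul_left, QuadraticMap.polar_smul_left]
      simp only [B] at hα hβ hΔ
      rw [← hα]
      simp only [smul_eq_mul]
      rw [hα, hβ]
      linear_combination -hΔ
    have hQw : Q w = 0 := by
      have h1 : B Q w w = 0 := by
        have e1 : B Q w (α • u - β • v) = α * B Q w u - β * B Q w v := by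
          show QuadraticMap.polar ⇑Q w (α • u - β • v) = _
          rw [QuadraticMap.polar_sub_right, QuadraticMap.polar_smul_right,
            QuadraticMap.polar_smul_right]
          simp only [smul_eq_mul, B]
        rw [← hw] at e1
        rw [e1, hwu, hwv]; ring
      rw [B_self] at h1
      exact (mul_eq_zero.1 h1).resolve_left h2
    obtain ⟨t, ht⟩ : ∃ t : F, t = -α⁻¹ := ⟨_, rfl⟩
    obtain ⟨c, hc⟩ : ∃ c : F, c = α * β⁻¹ := ⟨_, rfl⟩
    have hc0 : c ≠ 0 := by rw [hc]; exact mul_ne_zero hα0 (inv_ne_zero hβ0)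
    have hvc : v = c • (u + t • w) := by
      rw [hw, hc, ht]
      have e1 : (α * β⁻¹) • (u + (-α⁻¹) • (α • u - β • v)) =
          (α * β⁻¹ - α * β⁻¹ * α⁻¹ * α) • u + (α * β⁻¹ * α⁻¹ * β) • v := by module
      rw [e1]
      have e2 : α * β⁻¹ - α * β⁻¹ * α⁻¹ * α = 0 := by field_simp; ring
      have e3 : α * β⁻¹ * α⁻¹ * β = 1 := by field_simp
      rw [e2, e3, zero_smul, zero_add, one_smul]
    have huw : B Q u w = 0 := by rw [B_comm]; exact hwu
    have hQu' : Q (u + t • w) = Q u := by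
      rw [Q_add, Q_smul, hQw]
      show _ + _ + QuadraticMap.polar ⇑Q u (t • w) = _
      rw [QuadraticMap.polar_smul_right]
      simp only [B] at huw
      rw [huw]
      simp
    have hu' : Q (u + t • w) ≠ 0 := by rw [hQu']; exact hu
    have hv' : Q (c • (u + t • w)) ≠ 0 := by rw [← hvc]; exact hv
    have e1 : reflO Q v hv = reflO Q (u + t • w) hu' := by
      rw [reflO_congr' hvc hv hv', reflO_smul Q (u + t • w) hu' hc0 hv']
    have h' : B Q w ((t * (Q u)⁻¹) • u) = 0 := B_smul_right_zero Q _ hwu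
    have e2 := reflO_mul_reflO Q t hQw hwu hu hu' h'
    have h3 : reflO Q u hu * reflO Q v hv ∈ S Q := by
      rw [e1, e2]; exact siegO_mem_S Q _ _ _ _
    have h4 := Subgroup.inv_mem _ h3
    rw [_root_.mul_inv_rev, reflO_inv, reflO_inv] at h4
    exact h4
  · -- nondegenerate plane: a hyperbolic pair in its orthogonal complement
    left
    obtain ⟨S₀, hS₀⟩ : ∃ S₀ : Submodule F (Fin n → F), S₀ = Submodule.span F {v, u} := ⟨_, rfl⟩
    have hdim : finrank F S₀ ≤ 2 := by
      have h := finrank_span_finset_le_card (R := F) ({v, u} : Finset (Fin n → F))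
      have h2' : ({v, u} : Finset (Fin n → F)).card ≤ 2 := Finset.card_le_two
      rw [Finset.coe_pair] at h
      rw [hS₀]; exact h.trans h2'
    have hvS : v ∈ S₀ := by rw [hS₀]; exact Submodule.subset_span (by simp)
    have huS : u ∈ S₀ := by rw [hS₀]; exact Submodule.subset_span (by simp)
    have hnd : ∀ s ∈ S₀, (∀ s' ∈ S₀, B Q s' s = 0) → s = 0 := by
      intro s hs hall
      rw [hS₀, Submodule.mem_span_pair] at hs
      obtain ⟨a, b, rfl⟩ := hs
      have h1 := hall v hvS
      have h2'' := hall u huS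
      have e1 : B Q v (a • v + b • u) = a * B Q v v + b * B Q u v := by
        show QuadraticMap.polar ⇑Q v (a • v + b • u) = _
        rw [QuadraticMap.polar_add_right, QuadraticMap.polar_smul_right,
          QuadraticMap.polar_smul_right]
        simp only [B] at hvu
        rw [hvu]
        simp only [smul_eq_mul, B]
      have e2 : B Q u (a • v + b • u) = a * B Q u v + b * B Q u u := by
        show QuadraticMap.polar ⇑Q u (a • v + b • u) = _
        rw [QuadraticMap.polar_add_right, QuadraticMap.polar_smul_right,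
          QuadraticMap.polar_smul_right]
        simp only [smul_eq_mul, B]
      rw [e1] at h1
      rw [e2] at h2''
      have ha : a * (B Q u u * B Q v v - B Q u v * B Q u v) = 0 := by
        linear_combination (B Q u u) * h1 - (B Q u v) * h2''
      have hb : b * (B Q u u * B Q v v - B Q u v * B Q u v) = 0 := by
        linear_combination (B Q v v) * h2'' - (B Q u v) * h1
      have ha0 : a = 0 := (mul_eq_zero.1 ha).resolve_right hΔ
      have hb0 : b = 0 := (mul_eq_zero.1 hb).resolve_right hΔ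
      rw [ha0, hb0]; simp
    obtain ⟨e, f, hQe, hQf, hef, heS, hfS⟩ := exists_hyp_perp_nd Q hQ S₀ (by omega) hnd
    refine ⟨e, f, hQe, hQf, hef, ?_, ?_, ?_, ?_⟩
    · rw [B_comm]; exact heS v hvS
    · rw [B_comm]; exact heS u huS
    · rw [B_comm]; exact hfS v hvS
    · rw [B_comm]; exact hfS u huS

/-- `Ω ≤ S` in dimension at least five (finite field, odd characteristic) -/
theorem Omega_le_S5 [Finite F] (h2 : (2 : F) ≠ 0) (hn : 5 ≤ n)
    (hQ : (QuadraticMap.polarBilin Q).Nondegenerate)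
    (hgen : ∀ (H : Subgroup ↥(Cfsg.isometryGroup F ⇑Q)),
      (∀ (v : Fin n → F) (hv : Q v ≠ 0), reflO Q v hv ∈ H) → ∀ g, g ∈ H) :
    Cfsg.Omega F ⇑Q ≤ S Q := by
  set π := QuotientGroup.mk' (S Q) with hπ
  have hA : ∀ (u v : Fin n → F) (hu : Q u ≠ 0) (hv : Q v ≠ 0),
      π (reflO Q u hu) * π (reflO Q v hv) = π (reflO Q v hv) * π (reflO Q u hu) := by
    intro u v hu hv
    rw [← map_mul, ← map_mul, hπ, QuotientGroup.mk'_apply, QuotientGroup.mk'_apply,
      QuotientGroup.eq, _root_.mul_inv_rev, reflO_inv, reflO_inv]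
    rcases key_dichotomy h2 hn hQ u v hu hv with ⟨e', f', he', hf', hef, hev, heu, hfv, hfu⟩ | hS
    · have hv' : Q (((reflO Q u hu : GL (Fin n) F) : Matrix (Fin n) (Fin n) F) *ᵥ v) ≠ 0 := by
        rw [isom_apply]; exact hv
      have h1 : reflO Q v hv * reflO Q u hu * (reflO Q v hv * reflO Q u hu) =
          reflO Q v hv *
            reflO Q (((reflO Q u hu : GL (Fin n) F) : Matrix (Fin n) (Fin n) F) *ᵥ v) hv' := by
        rw [reflO_conj Q (reflO Q u hu) v hv hv', reflO_inv]
        group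
      rw [h1]
      have hc : ((reflO Q u hu : GL (Fin n) F) : Matrix (Fin n) (Fin n) F) *ᵥ v =
          v - ((Q u)⁻¹ * QuadraticMap.polar ⇑Q u v) • u := by
        rw [reflO_val, Cfsg.Agent.Helper28.Spin.refl_mulVec]
      apply refl_mul_mem_S hv hv' (by rw [isom_apply]) he' hf' hef hev _ hfv _
      · rw [hc]
        simp only [B, QuadraticMap.polar_sub_right, QuadraticMap.polar_smul_right] at hev heu ⊢
        rw [hev, heu]; simp
      · rw [hc]
        simp only [B, QuadraticMap.polar_sub_right, QuadraticMap.polar_smul_right] at hfv hfu ⊢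
        rw [hfv, hfu]; simp
    · exact Subgroup.mul_mem _ hS hS
  have hB : ∀ (u : Fin n → F) (hu : Q u ≠ 0) (h : ↥(Cfsg.isometryGroup F ⇑Q)),
      π (reflO Q u hu) * π h = π h * π (reflO Q u hu) := by
    intro u hu h
    have := hgen
      ((Subgroup.centralizer {π (reflO Q u hu)}).comap π)
      (by
        intro v hv
        rw [Subgroup.mem_comap, Subgroup.mem_centralizer_iff]
        intro x hx
        rw [Set.mem_singleton_iff] at hx
        rw [hx]
        exact hA u v hu hv) h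
    rw [Subgroup.mem_comap, Subgroup.mem_centralizer_iff] at this
    exact this _ rfl
  have hC : ∀ g h : ↥(Cfsg.isometryGroup F ⇑Q), π g * π h = π h * π g := by
    intro g h
    have := hgen
      ((Subgroup.centralizer {π h}).comap π)
      (by
        intro v hv
        rw [Subgroup.mem_comap, Subgroup.mem_centralizer_iff]
        intro x hx
        rw [Set.mem_singleton_iff] at hx
        rw [hx]
        exact (hB v hv h).symm) g
    rw [Subgroup.mem_comap, Subgroup.mem_centralizer_iff] at this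
    exact (this _ rfl).symm
  unfold Cfsg.Omega
  rw [commutator_def, Subgroup.commutator_le]
  intro g _ h _
  have hker : ⁅g, h⁆ ∈ π.ker := by
    rw [MonoidHom.mem_ker, commutatorElement_def, map_mul, map_mul, map_mul, map_inv, map_inv,
      hC g h]
    group
  rw [hπ, QuotientGroup.ker_mk'] at hker
  exact hker

variable (Q)

/-- the subgroup generated by the long root elements `T_{u,v}(c)` (both `u`, `v` singular) -/
def K : Subgroup ↥(Cfsg.isometryGroup F ⇑Q) :=
  Subgroup.closure {g : ↥(Cfsg.isometryGroup F ⇑Q) | ∃ (u v : Fin n → F) (c : F), Q u = 0 ∧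
    Q v = 0 ∧ QuadraticMap.polar ⇑Q u v = 0 ∧
    ((g : Matrix.GeneralLinearGroup (Fin n) F) : Matrix (Fin n) (Fin n) F) =
      Cfsg.siegelMatrix ⇑Q u v c}

variable {Q}

theorem siegO_mem_K {u s : Fin n → F} (hu : Q u = 0) (hs : Q s = 0) (hus : B Q u s = 0) :
    siegO Q u s hu hus ∈ K Q := by
  apply Subgroup.subset_closure
  refine ⟨u, s, 1, hu, hs, hus, ?_⟩
  show siegM Q u s = _
  apply Cfsg.Agent.Helper28.Spin.matrix_ext_mulVec
  intro x
  rw [siegM_mulVec, Cfsg.Agent.Helper28.siegelMatrix_mulVec, hs]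
  simp only [B]
  module

theorem S_le_K [Finite F] (hn : 5 ≤ n) (hQ : (QuadraticMap.polarBilin Q).Nondegenerate) :
    S Q ≤ K Q := by
  unfold S
  rw [Subgroup.closure_le]
  rintro g ⟨u, v, hu, huv, rfl⟩
  by_cases hu0 : u = 0
  · subst hu0
    rw [siegO_zero_left]
    exact Subgroup.one_mem _
  obtain ⟨S₁, hS₁⟩ : ∃ S₁ : Submodule F (Fin n → F), S₁ = Submodule.span F {u} := ⟨_, rfl⟩
  have hdim : finrank F S₁ = 1 := by rw [hS₁]; exact finrank_span_singleton hu0
  have huS : u ∈ S₁ := by rw [hS₁]; exact Submodule.mem_span_singleton_self u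
  obtain ⟨e, f, hQe, hQf, hef, heS, hfS⟩ := exists_hyp_perp hQ S₁ (by rw [hdim]; omega)
  have hvS : ∀ s ∈ S₁, B Q s v = 0 := by
    intro s hs
    rw [hS₁, Submodule.mem_span_singleton] at hs
    obtain ⟨a, rfl⟩ := hs
    exact B_smul_left_zero Q a huv
  obtain ⟨s₁, s₂, s₃, hsum, h1, h2, h3, h1S, h2S, h3S⟩ :=
    sum_three_singular S₁ hQe hQf hef heS hfS v hvS
  have b1 : B Q u s₁ = 0 := h1S u huS
  have b2 : B Q u s₂ = 0 := h2S u huS
  have b3 : B Q u s₃ = 0 := h3S u huS
  have b12 : B Q u (s₁ + s₂) = 0 := B_add_right_zero Q b1 b2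
  have b123 : B Q u (s₁ + s₂ + s₃) = 0 := B_add_right_zero Q b12 b3
  have e1 : siegO Q u v hu huv = siegO Q u (s₁ + s₂ + s₃) hu b123 :=
    siegO_congr Q hu huv hu b123 rfl hsum
  rw [SetLike.mem_coe, e1, ← siegO_mul Q hu b12 b3 b123, ← siegO_mul Q hu b1 b2 b12]
  exact Subgroup.mul_mem _ (Subgroup.mul_mem _ (siegO_mem_K hu h1 b1) (siegO_mem_K hu h2 b2))
    (siegO_mem_K hu h3 b3)

/-- **S0795**: `Ω` is generated by the long root elements. -/
theorem Omega_eq_K [Fintype F] (h2 : (2 : F) ≠ 0) (hn : 5 ≤ n)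
    (hQ : (QuadraticMap.polarBilin Q).Nondegenerate) :
    Cfsg.Omega F ⇑Q = K Q := by
  apply le_antisymm
  · exact (Omega_le_S5 h2 hn hQ (hgen_odd h2 hQ)).trans (S_le_K hn hQ)
  · unfold K
    rw [Subgroup.closure_le]
    rintro g ⟨u, v, c, hu, hv, huv, hg⟩
    exact (Cfsg.Agent.S0794.result h2 hn Q hQ u v hu hv huv c g hg).2

end Cfsg.Agent.Helper2.SiegelGen
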