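import Mathlib
import Cfsg.Prelude.Def_GeometricClasses
import Cfsg.Agent.Helper2.SimInvC

/-!
# The derangement and the main theorem (for S5967)
-/

set_option autoImplicit false

namespace Cfsg.Agent.Helper2.SimInv

open Module Matrix

variable {F : Type*} [Field F]

theorem derangement {n : ℕ} (hn : 3 ≤ n) {f : (Fin n → F) → (Fin n → F) → F}
    (hf : Cfsg.Geo.IsSymplecticForm f) (c : F) (hc : c ^ n = -1) (h2 : (2 : F) ≠ 0) :
    ∃ x : Matrix.SpecialLinearGroup (Fin n) F,
      (∃ z : F, ((x ^ 2 : Matrix.SpecialLinearGroup (Fin n) F) : Matrix (Fin n) (Fin n) F) =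
        z • (1 : Matrix (Fin n) (Fin n) F)) ∧
      (∀ z : F, (x : Matrix (Fin n) (Fin n) F) ≠ z • (1 : Matrix (Fin n) (Fin n) F)) ∧
      ¬ ∃ P : Matrix.SpecialLinearGroup (Fin n) F, P⁻¹ * x * P ∈
        ((Cfsg.Geo.similarityGroup f).comap (Matrix.SpecialLinearGroup.toGL :
          Matrix.SpecialLinearGroup (Fin n) F →* GL (Fin n) F)) := by
  classical
  have hc0 : c ≠ 0 := by
    rintro rfl
    rw [zero_pow (by omega)] at hc
    have : (1 : F) = 0 := by linear_combination hc
    exact one_ne_zero this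
  obtain ⟨i0, hi0⟩ : ∃ i0 : Fin n, i0 = ⟨0, by omega⟩ := ⟨_, rfl⟩
  obtain ⟨i1, hi1⟩ : ∃ i1 : Fin n, i1 = ⟨1, by omega⟩ := ⟨_, rfl⟩
  obtain ⟨i2, hi2⟩ : ∃ i2 : Fin n, i2 = ⟨2, by omega⟩ := ⟨_, rfl⟩
  have h10 : i1 ≠ i0 := by rw [hi1, hi0]; intro h; simpa using congrArg Fin.val h
  have h20 : i2 ≠ i0 := by rw [hi2, hi0]; intro h; simpa using congrArg Fin.val h
  have h12 : i1 ≠ i2 := by rw [hi1, hi2]; intro h; simpa using congrArg Fin.val h
  obtain ⟨d, hd⟩ : ∃ d : Fin n → F, d = fun i => if i = i0 then -c else c := ⟨_, rfl⟩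
  have hd0 : d i0 = -c := by rw [hd]; simp
  have hdne : ∀ i, i ≠ i0 → d i = c := fun i hi => by rw [hd]; simp [hi]
  have hdd : ∀ i, d i * d i = c * c := by
    intro i
    by_cases hi : i = i0
    · rw [hi, hd0]; ring
    · rw [hdne i hi]
  obtain ⟨M, hM⟩ : ∃ M : Matrix (Fin n) (Fin n) F, M = Matrix.diagonal d := ⟨_, rfl⟩
  have hdet : M.det = 1 := by
    rw [hM, Matrix.det_diagonal]
    have h3 : ∀ i, d i = c * (if i = i0 then -1 else 1) := by
      intro i
      rw [hd]
      by_cases hi : i = i0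
      · simp [hi]
      · simp [hi]
    simp only [h3]
    rw [Finset.prod_mul_distrib, Finset.prod_const, Finset.card_univ, Fintype.card_fin,
      Finset.prod_ite_eq' Finset.univ i0 (fun _ => (-1 : F)), if_pos (Finset.mem_univ _), hc]
    ring
  obtain ⟨x, hx⟩ : ∃ x : Matrix.SpecialLinearGroup (Fin n) F, x = ⟨M, hdet⟩ := ⟨_, rfl⟩
  have hxM : (x : Matrix (Fin n) (Fin n) F) = M := by rw [hx]
  refine ⟨x, ⟨c * c, ?_⟩, ?_, ?_⟩
  · rw [Matrix.SpecialLinearGroup.coe_pow, hxM, hM, pow_two, Matrix.diagonal_mul_diagonal,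
      Matrix.smul_one_eq_diagonal]
    congr 1
    funext i
    exact hdd i
  · intro z hz
    rw [hxM, hM, Matrix.smul_one_eq_diagonal] at hz
    have h3 := Matrix.diagonal_injective hz
    have h4 := congrFun h3 i0
    have h5 := congrFun h3 i1
    rw [hd0] at h4
    rw [hdne i1 h10] at h5
    have h6 : (2 : F) * c = 0 := by linear_combination h5 - h4
    rcases mul_eq_zero.mp h6 with h | h
    · exact h2 h
    · exact hc0 h
  · rintro ⟨P, hP⟩
    rw [Subgroup.mem_comap] at hP
    obtain ⟨μ, hμ⟩ := hP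
    obtain ⟨Pm, hPm⟩ : ∃ Pm : Matrix (Fin n) (Fin n) F, Pm = (P : Matrix (Fin n) (Fin n) F) :=
      ⟨_, rfl⟩
    obtain ⟨Qm, hQm⟩ : ∃ Qm : Matrix (Fin n) (Fin n) F,
        Qm = ((P⁻¹ : Matrix.SpecialLinearGroup (Fin n) F) : Matrix (Fin n) (Fin n) F) := ⟨_, rfl⟩
    have hPQ : Pm * Qm = 1 := by
      rw [hPm, hQm, ← Matrix.SpecialLinearGroup.coe_mul, mul_inv_cancel]
      rfl
    have hQP : Qm * Pm = 1 := by
      rw [hPm, hQm, ← Matrix.SpecialLinearGroup.coe_mul, inv_mul_cancel]
      rfl
    have hcoe : ((Matrix.SpecialLinearGroup.toGL (P⁻¹ * x * P) : GL (Fin n) F) :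
        Matrix (Fin n) (Fin n) F) = Qm * M * Pm := by
      rw [Matrix.SpecialLinearGroup.coe_GL_coe_matrix, Matrix.SpecialLinearGroup.coe_mul,
        Matrix.SpecialLinearGroup.coe_mul, hxM, hPm, hQm]
    rw [hcoe] at hμ
    -- the transported form
    obtain ⟨L, hL⟩ : ∃ L : LinearMap.BilinForm F (Fin n → F),
        L = (bilOf hf).compl₁₂ (Matrix.toLin' Qm) (Matrix.toLin' Qm) := ⟨_, rfl⟩
    have hLa : ∀ u v, L u v = f (Qm *ᵥ u) (Qm *ᵥ v) := by
      intro u v
      rw [hL, LinearMap.compl₁₂_apply, bilOf_apply, Matrix.toLin'_apply, Matrix.toLin'_apply]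
    have hLsim : ∀ u v, L (M *ᵥ u) (M *ᵥ v) = (μ : F) * L u v := by
      intro u v
      have h3 := hμ (Qm *ᵥ u) (Qm *ᵥ v)
      have h4 : ∀ y : Fin n → F, (Qm * M * Pm) *ᵥ (Qm *ᵥ y) = Qm *ᵥ (M *ᵥ y) := by
        intro y
        rw [Matrix.mulVec_mulVec, Matrix.mul_assoc, hPQ, Matrix.mul_one, Matrix.mulVec_mulVec]
      rw [h4, h4] at h3
      rw [hLa, hLa, h3]
    have hLskew : ∀ u v, L u v = - L v u := fun u v => by rw [hLa, hLa, hf.skew]
    have hLalt : ∀ u, L u u = 0 := fun u => by rw [hLa, hf.alternating]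
    obtain ⟨ε, hε⟩ : ∃ ε : Fin n → (Fin n → F), ε = fun i => Pi.single i 1 := ⟨_, rfl⟩
    have hεa : ∀ i, ε i = Pi.single i 1 := fun i => by rw [hε]
    have hMε : ∀ i, M *ᵥ ε i = d i • ε i := by
      intro i
      rw [hM, hεa, Matrix.diagonal_mulVec_single, mul_one]
      funext j
      rw [Pi.smul_apply, smul_eq_mul]
      by_cases hj : j = i
      · rw [hj, Pi.single_eq_same, Pi.single_eq_same, mul_one]
      · rw [Pi.single_eq_of_ne hj, Pi.single_eq_of_ne hj, mul_zero]
    have hrad : ∀ v, (∀ j, L v (ε j) = 0) → v = 0 := by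
      intro v hv
      have h3 : L v = 0 := by
        apply (Pi.basisFun F (Fin n)).ext
        intro j
        rw [Pi.basisFun_apply, LinearMap.zero_apply]
        have := hv j
        rw [hεa] at this
        exact this
      by_contra hne
      have hQv : Qm *ᵥ v ≠ 0 := by
        intro h
        apply hne
        have h4 : Pm *ᵥ (Qm *ᵥ v) = v := by
          rw [Matrix.mulVec_mulVec, hPQ, Matrix.one_mulVec]
        rw [← h4, h, Matrix.mulVec_zero]
      obtain ⟨-, y, hy⟩ := hf.nondegenerate _ hQv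
      apply hy
      have h4 : L v (Pm *ᵥ y) = 0 := by rw [h3, LinearMap.zero_apply]
      rw [hLa, Matrix.mulVec_mulVec, hQP, Matrix.one_mulVec] at h4
      exact h4
    have hrel : ∀ i j, (d i * d j - (μ : F)) * L (ε i) (ε j) = 0 := by
      intro i j
      have h3 := hLsim (ε i) (ε j)
      simp only [hMε, map_smul, LinearMap.smul_apply, smul_eq_mul] at h3
      linear_combination h3
    have hεne : ∀ i, ε i ≠ 0 := by
      intro i h
      have := congrFun h i
      rw [hεa] at this
      simp at this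
    by_cases hμc : (μ : F) = c * c
    · -- `ε i0` is in the radical
      apply hεne i0
      apply hrad
      intro j
      by_cases hj : j = i0
      · rw [hj, hLalt]
      · have h3 := hrel i0 j
        rw [hd0, hdne j hj, hμc] at h3
        have h4 : (-c * c - c * c) ≠ 0 := by
          intro h
          have h5 : (2 : F) * (c * c) = 0 := by linear_combination -h
          rcases mul_eq_zero.mp h5 with h6 | h6
          · exact h2 h6
          · exact hc0 (mul_self_eq_zero.mp h6)
        rcases mul_eq_zero.mp h3 with h5 | h5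
        · exact absurd h5 h4
        · exact h5
    · have hzero : ∀ i j, i ≠ i0 → j ≠ i0 → L (ε i) (ε j) = 0 := by
        intro i j hi hj
        have h3 := hrel i j
        rw [hdne i hi, hdne j hj] at h3
        rcases mul_eq_zero.mp h3 with h5 | h5
        · exact absurd (sub_eq_zero.mp h5).symm hμc
        · exact h5
      obtain ⟨a02, h02⟩ : ∃ a : F, a = L (ε i0) (ε i2) := ⟨_, rfl⟩
      obtain ⟨a01, h01⟩ : ∃ a : F, a = L (ε i0) (ε i1) := ⟨_, rfl⟩
      obtain ⟨v, hv⟩ : ∃ v : Fin n → F, v = a02 • ε i1 - a01 • ε i2 := ⟨_, rfl⟩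
      have hv0 : v = 0 := by
        apply hrad
        intro j
        rw [hv, map_sub, map_smul, map_smul, LinearMap.sub_apply, LinearMap.smul_apply,
          LinearMap.smul_apply, smul_eq_mul, smul_eq_mul]
        by_cases hj : j = i0
        · rw [hj, hLskew (ε i1) (ε i0), hLskew (ε i2) (ε i0), ← h01, ← h02]
          ring
        · rw [hzero i1 j h10 hj, hzero i2 j h20 hj]
          ring
      have ha02 : L (ε i0) (ε i2) = 0 := by
        rw [← h02]
        have h3 := congrFun hv0 i1
        rw [hv, hεa i1, hεa i2] at h3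
        simp only [Pi.sub_apply, Pi.smul_apply, Pi.single_eq_same, smul_eq_mul, mul_one,
          Pi.single_eq_of_ne h12, mul_zero, sub_zero, Pi.zero_apply] at h3
        exact h3
      have ha01 : L (ε i0) (ε i1) = 0 := by
        rw [← h01]
        have h3 := congrFun hv0 i2
        rw [hv, hεa i1, hεa i2] at h3
        simp only [Pi.sub_apply, Pi.smul_apply, Pi.single_eq_same, smul_eq_mul, mul_one,
          Pi.single_eq_of_ne (Ne.symm h12), mul_zero, zero_sub, Pi.zero_apply, neg_eq_zero] at h3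
        exact h3
      apply hεne i1
      apply hrad
      intro j
      by_cases hj : j = i0
      · rw [hj, hLskew, ha01, neg_zero]
      · exact hzero i1 j h10 hj

theorem main [Fintype F] {q : ℕ} (hq : Fintype.card F = q)
    (n : ℕ) (hn : 4 ≤ n) (he : Even n) (f : (Fin n → F) → (Fin n → F) → F)
    (hf : Cfsg.Geo.IsSymplecticForm f) :
    (∀ x : Matrix.SpecialLinearGroup (Fin n) F,
      (∃ z : F, ((x ^ 2 : Matrix.SpecialLinearGroup (Fin n) F) : Matrix (Fin n) (Fin n) F) =
        z • (1 : Matrix (Fin n) (Fin n) F)) →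
      (∀ z : F, (x : Matrix (Fin n) (Fin n) F) ≠ z • (1 : Matrix (Fin n) (Fin n) F)) →
      ∃ P : Matrix.SpecialLinearGroup (Fin n) F, P⁻¹ * x * P ∈
        ((Cfsg.Geo.similarityGroup f).comap (Matrix.SpecialLinearGroup.toGL :
          Matrix.SpecialLinearGroup (Fin n) F →* GL (Fin n) F))) ↔
    padicValNat 2 (q - 1) ≤ padicValNat 2 n := by
  classical
  have hn0 : n ≠ 0 := by omega
  constructor
  · intro hall
    by_contra hlt
    push Not at hlt
    obtain ⟨c, hc, h2⟩ := exists_pow_eq_neg_one hq hn0 hlt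
    obtain ⟨x, hx1, hx2, hx3⟩ := derangement (by omega) hf c hc h2
    exact hx3 (hall x hx1 hx2)
  · intro hv x hx1 hx2
    obtain ⟨z, hz⟩ := hx1
    have hmul : (x : Matrix (Fin n) (Fin n) F) * (x : Matrix (Fin n) (Fin n) F) =
        z • (1 : Matrix (Fin n) (Fin n) F) := by
      rw [← hz, pow_two]; rfl
    have hz0 : z ≠ 0 := by
      rintro rfl
      have : Nonempty (Fin n) := ⟨⟨0, by omega⟩⟩
      have h1 := congrArg Matrix.det hmul
      rw [Matrix.det_mul, x.2, zero_smul, Matrix.det_zero] at h1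
      simp at h1
    obtain ⟨X, hX⟩ : ∃ X : (Fin n → F) →ₗ[F] (Fin n → F),
        X = Matrix.toLin' (x : Matrix (Fin n) (Fin n) F) := ⟨_, rfl⟩
    have hXX : ∀ v, X (X v) = z • v := by
      intro v
      rw [hX, Matrix.toLin'_apply, Matrix.toLin'_apply, Matrix.mulVec_mulVec, hmul,
        Matrix.smul_mulVec, Matrix.one_mulVec]
    have hfr : finrank F (Fin n → F) = n := by
      rw [Module.finrank_fintype_fun_eq_card, Fintype.card_fin]
    have hdetX : LinearMap.det X = 1 := by rw [hX, LinearMap.det_toLin', x.2]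
    by_cases hsq : IsSquare z
    · obtain ⟨c, hc⟩ := hsq
      have hc0 : c ≠ 0 := by
        rintro rfl
        rw [mul_zero] at hc
        exact hz0 hc
      rw [hc] at hXX
      by_cases h2 : (2 : F) = 0
      · have hpl := hasPlanes_char_two h2 hc0 hXX (by rw [hfr]; exact he)
        rw [hX] at hpl
        exact exists_conj_of_planes hf (by omega) x (mul_ne_zero hc0 hc0) hpl
      · obtain ⟨a, b, bE, h1, h2'⟩ := exists_eigenbasis h2 hc0 hXX
        have hdet := det_of_eigenbasis bE h1 h2'
        rw [hdetX] at hdet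
        have hab : a + b = n := by
          have := finrank_eq_card_basis bE
          rw [hfr, Fintype.card_sum, Fintype.card_fin, Fintype.card_fin] at this
          exact this.symm
        have hbeven : Even b := by
          by_contra hodd
          rw [Nat.not_even_iff_odd] at hodd
          apply no_neg_one_pow hq h2 hn0 hv c
          rw [hodd.neg_pow] at hdet
          rw [← hab, pow_add]
          linear_combination hdet
        have haeven : Even a := by
          rcases Nat.even_or_odd a with h | h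
          · exact h
          · exfalso
            have : Odd (a + b) := h.add_even hbeven
            rw [hab] at this
            exact (Nat.not_even_iff_odd.mpr this) he
        obtain ⟨a', rfl⟩ := haeven
        obtain ⟨b', rfl⟩ := hbeven
        have hpl := hasPlanes_of_eigenbasis bE h1 h2'
        rw [hX] at hpl
        exact exists_conj_of_planes hf (by omega) x (mul_ne_zero hc0 hc0) hpl
    · have hpl := hasPlanes_nonsquare hz0 hXX hsq
      rw [hX] at hpl
      exact exists_conj_of_planes hf (by omega) x (neg_ne_zero.mpr hz0) hpl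

end Cfsg.Agent.Helper2.SimInv
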