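import Mathlib
import Cfsg.Agent.Helper12.PrimeOrderLinA

/-!
# Operators of prime order `n` on `F^n` when `q` has order `n - 1` modulo `n` (for S5970)

Such an operator has a cyclic vector, hence any two are conjugate.
-/

set_option autoImplicit false

namespace Cfsg.Agent.Helper2.Singer

open Module Matrix

variable {F : Type*} [Field F] {V : Type*} [AddCommGroup V] [Module F V]

theorem ord_dvd_of_dvd {n q d : ℕ} (hq : 0 < q) (h : n ∣ q ^ d - 1) :
    orderOf (q : ZMod n) ∣ d := by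
  apply orderOf_dvd_of_pow_eq_one
  have h1 : ((q ^ d - 1 : ℕ) : ZMod n) = 0 := (ZMod.natCast_eq_zero_iff _ _).mpr h
  rw [Nat.cast_sub (Nat.one_le_pow _ _ hq), Nat.cast_pow, Nat.cast_one, sub_eq_zero] at h1
  exact h1

theorem exists_cyclic' [Fintype F] [FiniteDimensional F V] {n : ℕ} [hn : Fact n.Prime]
    (hn3 : 2 < n) (hnF : (n : F) ≠ 0)
    (hord : orderOf ((Fintype.card F : ℕ) : ZMod n) = n - 1) (hV : finrank F V = n)
    (T : Module.End F V) (hT : T ^ n = 1) (hT1 : T ≠ 1) :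
    ∃ v : V, LinearIndependent F (fun k : Fin n => (T ^ (k : ℕ)) v) := by
  classical
  obtain ⟨N, hN⟩ : ∃ N : Module.End F V, N = ∑ i ∈ Finset.range n, T ^ i := ⟨_, rfl⟩
  have hTN : T * N = N := by
    have h := mul_geom_sum T n
    rw [← hN, hT, sub_self, sub_mul, one_mul, sub_eq_zero] at h
    exact h
  have hNT : N * T = N := by
    have h := geom_sum_mul T n
    rw [← hN, hT, sub_self, mul_sub, mul_one, sub_eq_zero] at h
    exact h
  have hNfix : ∀ v, T v = v → N v = (n : F) • v := by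
    intro v hv
    have hk : ∀ k : ℕ, (T ^ k) v = v := by
      intro k
      induction k with
      | zero => rw [pow_zero, Module.End.one_apply]
      | succ k ih => rw [pow_succ, Module.End.mul_apply, hv, ih]
    rw [hN, LinearMap.sum_apply]
    simp only [hk, Finset.sum_const, Finset.card_range]
    rw [Nat.cast_smul_eq_nsmul]
  obtain ⟨W, hW⟩ : ∃ W : Submodule F V, W = LinearMap.ker N := ⟨_, rfl⟩
  have hWmem : ∀ v, v ∈ W ↔ N v = 0 := fun v => by rw [hW, LinearMap.mem_ker]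
  have hWinv : ∀ v ∈ W, T v ∈ W := by
    intro v hv
    rw [hWmem] at hv ⊢
    have h1 : N (T v) = (N * T) v := rfl
    rw [h1, hNT, hv]
  have hWfix : ∀ v ∈ W, T v = v → v = 0 := by
    intro v hv hTv
    have h1 := hNfix v hTv
    rw [(hWmem v).1 hv] at h1
    exact (smul_eq_zero.mp h1.symm).resolve_left hnF
  have hkey : ∀ S : Submodule F V, (∀ v ∈ S, T v ∈ S) → S ≤ W → (n - 1) ∣ finrank F S := by
    intro S hS hSW
    have h1 := Cfsg.Agent.Helper12.PrimeOrderLin.dvd_pow_finrank_sub_one T n hT S hS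
      (fun v hv => hWfix v (hSW hv))
    have h2 := ord_dvd_of_dvd Fintype.card_pos h1
    rwa [hord] at h2
  obtain ⟨v₁, hv₁⟩ : ∃ v₁, T v₁ ≠ v₁ := by
    by_contra hcon
    push Not at hcon
    exact hT1 (LinearMap.ext hcon)
  obtain ⟨w, hw⟩ : ∃ w, w = T v₁ - v₁ := ⟨_, rfl⟩
  have hw0 : w ≠ 0 := by rw [hw]; exact sub_ne_zero.mpr hv₁
  have hwW : w ∈ W := by
    rw [hWmem, hw, map_sub]
    have h1 : N (T v₁) = (N * T) v₁ := rfl
    rw [h1, hNT, sub_self]
  have hWle : finrank F W ≤ n := hV ▸ Submodule.finrank_le W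
  have hWpos : 0 < finrank F W := by
    rw [Module.finrank_pos_iff_exists_ne_zero]
    exact ⟨⟨w, hwW⟩, fun h => hw0 (congrArg Subtype.val h)⟩
  have hWdim : finrank F W = n - 1 := by
    obtain ⟨c, hc⟩ := hkey W hWinv le_rfl
    rcases c with _ | _ | c
    · rw [mul_zero] at hc; omega
    · rw [zero_add, mul_one] at hc; exact hc
    · exfalso
      have h2 : (n - 1) * 2 ≤ (n - 1) * (c + 1 + 1) := Nat.mul_le_mul_left _ (by omega)
      omega
  obtain ⟨v₀, hv₀⟩ : ∃ v₀, N v₀ ≠ 0 := by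
    by_contra hcon
    push Not at hcon
    have h1 : W = ⊤ := by
      rw [eq_top_iff]; intro v _; exact (hWmem v).2 (hcon v)
    rw [h1, finrank_top, hV] at hWdim
    omega
  obtain ⟨u, hu⟩ : ∃ u, u = N v₀ := ⟨_, rfl⟩
  have hTu : T u = u := by
    rw [hu]
    have h1 : T (N v₀) = (T * N) v₀ := rfl
    rw [h1, hTN]
  have hNu : N u = (n : F) • u := hNfix u hTu
  have hu0 : u ≠ 0 := by rw [hu]; exact hv₀
  have huW : u ∉ W := by
    intro h
    rw [hWmem, hNu] at h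
    exact hu0 ((smul_eq_zero.mp h).resolve_left hnF)
  obtain ⟨v, hv⟩ : ∃ v, v = u + w := ⟨_, rfl⟩
  refine ⟨v, ?_⟩
  obtain ⟨Z, hZ⟩ : ∃ Z : Submodule F V,
      Z = Submodule.span F (Set.range fun k : Fin n => (T ^ (k : ℕ)) v) := ⟨_, rfl⟩
  have hgen : ∀ k : ℕ, (T ^ k) v ∈ Z := by
    intro k
    rw [pow_eq_pow_mod k hT, hZ]
    exact Submodule.subset_span ⟨⟨k % n, Nat.mod_lt _ hn.out.pos⟩, rfl⟩
  have hZinv : ∀ z ∈ Z, T z ∈ Z := by
    intro z hz
    rw [hZ] at hz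
    induction hz using Submodule.span_induction with
    | mem x hx =>
      obtain ⟨k, rfl⟩ := hx
      have h1 := hgen ((k : ℕ) + 1)
      rwa [pow_succ', Module.End.mul_apply] at h1
    | zero => rw [map_zero]; exact Z.zero_mem
    | add x y _ _ hx hy => rw [map_add]; exact Z.add_mem hx hy
    | smul c x _ hx => rw [map_smul]; exact Z.smul_mem c hx
  have hNv : N v = (n : F) • u := by
    rw [hv, map_add, hNu, (hWmem w).1 hwW, add_zero]
  have hNvZ : N v ∈ Z := by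
    rw [hN, LinearMap.sum_apply]
    exact Z.sum_mem (fun k _ => hgen k)
  have huZ : u ∈ Z := by
    have h1 : u = (n : F)⁻¹ • N v := by rw [hNv, smul_smul, inv_mul_cancel₀ hnF, one_smul]
    rw [h1]; exact Z.smul_mem _ hNvZ
  have hvZ : v ∈ Z := by
    have h1 := hgen 0
    rwa [pow_zero, Module.End.one_apply] at h1
  have hwZ : w ∈ Z := by
    have h1 : w = v - u := by rw [hv]; abel
    rw [h1]; exact Z.sub_mem hvZ huZ
  have hZW : finrank F ↥(Z ⊓ W) = n - 1 := by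
    obtain ⟨c, hc⟩ := hkey (Z ⊓ W) (fun z hz => ⟨hZinv z hz.1, hWinv z hz.2⟩) inf_le_right
    have hle : finrank F ↥(Z ⊓ W) ≤ finrank F W := Submodule.finrank_mono inf_le_right
    have hpos : 0 < finrank F ↥(Z ⊓ W) := by
      rw [Module.finrank_pos_iff_exists_ne_zero]
      exact ⟨⟨w, hwZ, hwW⟩, fun h => hw0 (congrArg Subtype.val h)⟩
    rcases c with _ | _ | c
    · rw [mul_zero] at hc; omega
    · rw [zero_add, mul_one] at hc; exact hc
    · exfalso
      have h2 : (n - 1) * 2 ≤ (n - 1) * (c + 1 + 1) := Nat.mul_le_mul_left _ (by omega)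
      omega
  have hWZ : W ≤ Z := by
    have h1 : Z ⊓ W = W := Submodule.eq_of_le_of_finrank_eq inf_le_right (by rw [hZW, hWdim])
    rw [← h1]; exact inf_le_left
  have hZtop : Z = ⊤ := by
    apply Submodule.eq_top_of_finrank_eq
    have hlt : W < Z := lt_of_le_of_ne hWZ (fun h => huW (h ▸ huZ))
    have h1 := Submodule.finrank_lt_finrank_of_lt hlt
    have h2 := Submodule.finrank_le Z
    omega
  apply linearIndependent_of_top_le_span_of_card_eq_finrank
  · rw [← hZ, hZtop]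
  · rw [Fintype.card_fin, hV]

theorem exists_conj_of_cyclic [FiniteDimensional F V] {n : ℕ} [NeZero n]
    (hV : finrank F V = n) (T T' : Module.End F V) (hT : T ^ n = 1) (hT' : T' ^ n = 1)
    {v v' : V} (hv : LinearIndependent F (fun k : Fin n => (T ^ (k : ℕ)) v))
    (hv' : LinearIndependent F (fun k : Fin n => (T' ^ (k : ℕ)) v')) :
    ∃ G : V ≃ₗ[F] V, ∀ x, G (T x) = T' (G x) := by
  have hn0 : 0 < n := Nat.pos_of_ne_zero (NeZero.ne n)
  have hcard : Fintype.card (Fin n) = finrank F V := by rw [Fintype.card_fin, hV]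
  obtain ⟨b, hb⟩ : ∃ b : Basis (Fin n) F V, ⇑b = fun k : Fin n => (T ^ (k : ℕ)) v :=
    ⟨basisOfLinearIndependentOfCardEqFinrank hv hcard,
      coe_basisOfLinearIndependentOfCardEqFinrank hv hcard⟩
  obtain ⟨b', hb'⟩ : ∃ b' : Basis (Fin n) F V, ⇑b' = fun k : Fin n => (T' ^ (k : ℕ)) v' :=
    ⟨basisOfLinearIndependentOfCardEqFinrank hv' hcard,
      coe_basisOfLinearIndependentOfCardEqFinrank hv' hcard⟩
  have hstep : ∀ k : Fin n, T (b k) = b ⟨((k : ℕ) + 1) % n, Nat.mod_lt _ hn0⟩ := by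
    intro k
    rw [hb]
    show T ((T ^ (k : ℕ)) v) = (T ^ (((k : ℕ) + 1) % n)) v
    rw [← pow_eq_pow_mod _ hT, pow_succ', Module.End.mul_apply]
  have hstep' : ∀ k : Fin n, T' (b' k) = b' ⟨((k : ℕ) + 1) % n, Nat.mod_lt _ hn0⟩ := by
    intro k
    rw [hb']
    show T' ((T' ^ (k : ℕ)) v') = (T' ^ (((k : ℕ) + 1) % n)) v'
    rw [← pow_eq_pow_mod _ hT', pow_succ', Module.End.mul_apply]
  refine ⟨b.equiv b' (Equiv.refl _), ?_⟩
  have h1 : (b.equiv b' (Equiv.refl _)).toLinearMap ∘ₗ T =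
      T' ∘ₗ (b.equiv b' (Equiv.refl _)).toLinearMap := by
    apply b.ext
    intro k
    simp only [LinearMap.comp_apply, LinearEquiv.coe_coe]
    rw [hstep, Basis.equiv_apply, Basis.equiv_apply, Equiv.refl_apply, Equiv.refl_apply, hstep']
  exact fun x => LinearMap.congr_fun h1 x

theorem exists_gl_conj' [Fintype F] {n : ℕ} [hn : Fact n.Prime] (hn3 : 2 < n)
    (hnF : (n : F) ≠ 0) (hord : orderOf ((Fintype.card F : ℕ) : ZMod n) = n - 1)
    (A B : Matrix (Fin n) (Fin n) F) (hA : A ^ n = 1) (hA1 : A ≠ 1) (hB : B ^ n = 1)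
    (hB1 : B ≠ 1) :
    ∃ g : GL (Fin n) F, (g : Matrix (Fin n) (Fin n) F) * A =
      B * (g : Matrix (Fin n) (Fin n) F) := by
  haveI : NeZero n := ⟨hn.out.ne_zero⟩
  have hV : finrank F (Fin n → F) = n := by
    rw [Module.finrank_fintype_fun_eq_card, Fintype.card_fin]
  obtain ⟨T, hTd⟩ : ∃ T : Module.End F (Fin n → F), T = Matrix.toLinAlgEquiv' A := ⟨_, rfl⟩
  obtain ⟨T', hTd'⟩ : ∃ T' : Module.End F (Fin n → F), T' = Matrix.toLinAlgEquiv' B :=
    ⟨_, rfl⟩
  have hT : T ^ n = 1 := by rw [hTd, ← map_pow, hA, map_one]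
  have hT' : T' ^ n = 1 := by rw [hTd', ← map_pow, hB, map_one]
  have hT1 : T ≠ 1 := by
    rw [hTd]; intro h
    apply hA1
    apply Matrix.toLinAlgEquiv'.injective
    rw [h, map_one]
  have hT1' : T' ≠ 1 := by
    rw [hTd']; intro h
    apply hB1
    apply Matrix.toLinAlgEquiv'.injective
    rw [h, map_one]
  obtain ⟨v, hv⟩ := exists_cyclic' hn3 hnF hord hV T hT hT1
  obtain ⟨v', hv'⟩ := exists_cyclic' hn3 hnF hord hV T' hT' hT1'
  obtain ⟨G, hG⟩ := exists_conj_of_cyclic hV T T' hT hT' hv hv'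
  obtain ⟨g, hg⟩ : ∃ g : Matrix (Fin n) (Fin n) F, g = LinearMap.toMatrix' G.toLinearMap :=
    ⟨_, rfl⟩
  obtain ⟨g', hg'⟩ : ∃ g' : Matrix (Fin n) (Fin n) F,
      g' = LinearMap.toMatrix' G.symm.toLinearMap := ⟨_, rfl⟩
  have h1 : g * g' = 1 := by
    rw [hg, hg', ← LinearMap.toMatrix'_comp]
    simp
  have h2 : g' * g = 1 := by
    rw [hg, hg', ← LinearMap.toMatrix'_comp]
    simp
  refine ⟨⟨g, g', h1, h2⟩, ?_⟩
  show g * A = B * g
  apply Matrix.mulVec_injective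
  funext x
  rw [← Matrix.mulVec_mulVec, ← Matrix.mulVec_mulVec, hg, LinearMap.toMatrix'_mulVec,
    LinearMap.toMatrix'_mulVec]
  have h3 := hG (x)
  rw [hTd, hTd', Matrix.toLinAlgEquiv'_apply, Matrix.toLinAlgEquiv'_apply] at h3
  exact h3

theorem exists_cyclic [Fintype F] [FiniteDimensional F V] {n : ℕ} [hn : Fact n.Prime]
    (hn3 : 3 < n) (hnF : (n : F) ≠ 0)
    (hord : orderOf ((Fintype.card F : ℕ) : ZMod n) = n - 1) (hV : finrank F V = n)
    (T : Module.End F V) (hT : T ^ n = 1) (hT1 : T ≠ 1) :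
    ∃ v : V, LinearIndependent F (fun k : Fin n => (T ^ (k : ℕ)) v) :=
  exists_cyclic' (by omega) hnF hord hV T hT hT1

theorem exists_gl_conj [Fintype F] {n : ℕ} [hn : Fact n.Prime] (hn3 : 3 < n)
    (hnF : (n : F) ≠ 0) (hord : orderOf ((Fintype.card F : ℕ) : ZMod n) = n - 1)
    (A B : Matrix (Fin n) (Fin n) F) (hA : A ^ n = 1) (hA1 : A ≠ 1) (hB : B ^ n = 1)
    (hB1 : B ≠ 1) :
    ∃ g : GL (Fin n) F, (g : Matrix (Fin n) (Fin n) F) * A =
      B * (g : Matrix (Fin n) (Fin n) F) :=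
  exists_gl_conj' (by omega) hnF hord A B hA hA1 hB hB1

end Cfsg.Agent.Helper2.Singer
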