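import Mathlib

/-!
# An element of order `n` in `SL_n(F)` with a two-dimensional fixed space (for S5970)

Exists when the order of `q` modulo the prime `n` is not `n - 1`.
-/

set_option autoImplicit false

namespace Cfsg.Agent.Helper2.Singer

open Module Matrix

variable {F : Type*} [Field F]

theorem fromBlocks_diag_pow {i m : ℕ} (A : Matrix (Fin i) (Fin i) F)
    (D : Matrix (Fin m) (Fin m) F) (k : ℕ) :
    (Matrix.fromBlocks A (0 : Matrix (Fin i) (Fin m) F) (0 : Matrix (Fin m) (Fin i) F) D) ^ k =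
      Matrix.fromBlocks (A ^ k) (0 : Matrix (Fin i) (Fin m) F) (0 : Matrix (Fin m) (Fin i) F)
        (D ^ k) := by
  induction k with
  | zero => rw [pow_zero, pow_zero, pow_zero, Matrix.fromBlocks_one]
  | succ k ih =>
    rw [pow_succ, ih, Matrix.fromBlocks_multiply, pow_succ, pow_succ]
    simp

theorem exists_two_fixed [Fintype F] {p : ℕ} [hp : Fact p.Prime] [CharP F p] {n : ℕ}
    [hn : Fact n.Prime] (hn3 : 3 < n) (hnp : n ≠ p)
    (hord : orderOf ((Fintype.card F : ℕ) : ZMod n) ≠ n - 1) :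
    ∃ (x : Matrix (Fin n) (Fin n) F) (j₁ j₂ : Fin n), x.det = 1 ∧ x ^ n = 1 ∧ x ≠ 1 ∧
      j₁ ≠ j₂ ∧ x *ᵥ Pi.single j₁ 1 = Pi.single j₁ 1 ∧
      x *ᵥ Pi.single j₂ 1 = Pi.single j₂ 1 := by
  classical
  obtain ⟨q, hq⟩ : ∃ q, q = Fintype.card F := ⟨_, rfl⟩
  rw [← hq] at hord
  obtain ⟨f, -, hqf⟩ := FiniteField.card F p
  rw [← hq] at hqf
  have hq0 : 0 < q := by rw [hq]; exact Fintype.card_pos
  have hqn : (q : ZMod n) ≠ 0 := by
    intro h
    rw [ZMod.natCast_eq_zero_iff, hqf] at h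
    have h1 := hn.out.dvd_of_dvd_pow h
    exact hnp ((Nat.prime_dvd_prime_iff_eq hn.out hp.out).mp h1)
  obtain ⟨i, hi⟩ : ∃ i, i = orderOf (q : ZMod n) := ⟨_, rfl⟩
  rw [← hi] at hord
  have hidvd : i ∣ n - 1 := by
    rw [hi]; exact orderOf_dvd_of_pow_eq_one (ZMod.pow_card_sub_one_eq_one hqn)
  have hipos : 0 < i := Nat.pos_of_dvd_of_pos hidvd (by omega)
  have hi2 : 2 * i ≤ n - 1 := by
    obtain ⟨c, hc⟩ := hidvd
    rcases c with _ | _ | c
    · omega
    · exfalso; apply hord; rw [hc, zero_add, mul_one]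
    · rw [hc]
      have : i * 2 ≤ i * (c + 1 + 1) := Nat.mul_le_mul_left _ (by omega)
      omega
  have hin : i + 3 ≤ n := by omega
  have hdvd1 : n ∣ q ^ i - 1 := by
    have h1 : (q : ZMod n) ^ i = 1 := by rw [hi]; exact pow_orderOf_eq_one _
    rw [← ZMod.natCast_eq_zero_iff, Nat.cast_sub (Nat.one_le_pow _ _ hq0), Nat.cast_pow,
      Nat.cast_one, h1, sub_self]
  have hdvd2 : n ∣ Nat.card (GL (Fin i) F) := by
    rw [Matrix.card_GL_field, ← hq]
    have h1 : (q ^ i - q ^ ((⟨0, hipos⟩ : Fin i) : ℕ)) ∣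
        ∏ k : Fin i, (q ^ i - q ^ (k : ℕ)) :=
      Finset.dvd_prod_of_mem (fun k : Fin i => q ^ i - q ^ (k : ℕ)) (Finset.mem_univ _)
    exact dvd_trans (by simpa using hdvd1) h1
  obtain ⟨A, hA⟩ := exists_prime_orderOf_dvd_card' n hdvd2
  obtain ⟨Am, hAm⟩ : ∃ Am : Matrix (Fin i) (Fin i) F, Am = (A : Matrix (Fin i) (Fin i) F) :=
    ⟨_, rfl⟩
  have hAn : Am ^ n = 1 := by
    have h1 : A ^ n = 1 := by rw [← hA]; exact pow_orderOf_eq_one A
    have h2 := congrArg Units.val h1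
    rw [Units.val_pow_eq_pow_val, Units.val_one] at h2
    rw [hAm]; exact h2
  have hA1 : Am ≠ 1 := by
    intro h
    have h1 : A = 1 := Units.ext (by rw [← hAm, h, Units.val_one])
    rw [h1, orderOf_one] at hA
    omega
  obtain ⟨d, hd⟩ : ∃ d : F, d = Am.det := ⟨_, rfl⟩
  have hdn : d ^ n = 1 := by rw [hd, ← Matrix.det_pow, hAn, Matrix.det_one]
  have hd0 : d ≠ 0 := by
    intro h
    rw [h, zero_pow (by omega)] at hdn
    exact zero_ne_one hdn
  obtain ⟨t0, ht0⟩ : ∃ t0 : Fin (n - i), t0 = ⟨0, by omega⟩ := ⟨_, rfl⟩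
  obtain ⟨t1, ht1⟩ : ∃ t1 : Fin (n - i), t1 = ⟨1, by omega⟩ := ⟨_, rfl⟩
  obtain ⟨t2, ht2⟩ : ∃ t2 : Fin (n - i), t2 = ⟨2, by omega⟩ := ⟨_, rfl⟩
  have h10 : t1 ≠ t0 := by rw [ht1, ht0]; intro h; simpa using congrArg Fin.val h
  have h20 : t2 ≠ t0 := by rw [ht2, ht0]; intro h; simpa using congrArg Fin.val h
  have h12 : t1 ≠ t2 := by rw [ht1, ht2]; intro h; simpa using congrArg Fin.val h
  obtain ⟨dv, hdv⟩ : ∃ dv : Fin (n - i) → F, dv = fun t => if t = t0 then d⁻¹ else 1 :=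
    ⟨_, rfl⟩
  obtain ⟨D, hD⟩ : ∃ D : Matrix (Fin (n - i)) (Fin (n - i)) F, D = Matrix.diagonal dv :=
    ⟨_, rfl⟩
  have hDdet : D.det = d⁻¹ := by
    rw [hD, Matrix.det_diagonal, hdv, Finset.prod_ite_eq' Finset.univ t0 (fun _ => d⁻¹)]
    simp
  have hDn : D ^ n = 1 := by
    rw [hD, Matrix.diagonal_pow]
    have h1 : dv ^ n = 1 := by
      funext t
      rw [Pi.pow_apply, hdv]
      by_cases h : t = t0
      · simp only [if_pos h, Pi.one_apply]
        rw [inv_pow, hdn, inv_one]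
      · simp only [if_neg h, Pi.one_apply, one_pow]
    rw [h1]
    exact Matrix.diagonal_one
  obtain ⟨e, -⟩ : ∃ e : Fin i ⊕ Fin (n - i) ≃ Fin n,
      e = finSumFinEquiv.trans (finCongr (by omega)) := ⟨_, rfl⟩
  obtain ⟨B, hB⟩ : ∃ B : Matrix (Fin i ⊕ Fin (n - i)) (Fin i ⊕ Fin (n - i)) F,
      B = Matrix.fromBlocks Am (0 : Matrix (Fin i) (Fin (n - i)) F)
        (0 : Matrix (Fin (n - i)) (Fin i) F) D := ⟨_, rfl⟩
  obtain ⟨x, hx⟩ : ∃ x : Matrix (Fin n) (Fin n) F, x = Matrix.reindexAlgEquiv F F e B :=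
    ⟨_, rfl⟩
  have hxe : ∀ r s, x (e r) (e s) = B r s := by
    intro r s
    rw [hx, Matrix.coe_reindexAlgEquiv, Matrix.reindex_apply, Matrix.submatrix_apply,
      Equiv.symm_apply_apply, Equiv.symm_apply_apply]
  have hfix : ∀ t : Fin (n - i), t ≠ t0 →
      x *ᵥ Pi.single (e (Sum.inr t)) 1 = Pi.single (e (Sum.inr t)) 1 := by
    intro t ht
    funext r
    obtain ⟨r', rfl⟩ := e.surjective r
    rw [Matrix.mulVec_single_one, Matrix.col_apply, hxe, hB]
    rcases r' with a | s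
    · rw [Matrix.fromBlocks_apply₁₂, Matrix.zero_apply, Pi.single_apply,
        if_neg (fun h => by simpa using e.injective h)]
    · rw [Matrix.fromBlocks_apply₂₂, hD, Matrix.diagonal_apply, Pi.single_apply]
      by_cases hst : s = t
      · rw [if_pos hst, if_pos (by rw [hst]), hdv, hst]
        simp only [if_neg ht]
      · rw [if_neg hst, if_neg (fun h => hst (by simpa using e.injective h))]
  refine ⟨x, e (Sum.inr t1), e (Sum.inr t2), ?_, ?_, ?_, ?_, hfix t1 h10, hfix t2 h20⟩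
  · rw [hx, Matrix.det_reindexAlgEquiv, hB, Matrix.det_fromBlocks_zero₂₁, hDdet, ← hd,
      mul_inv_cancel₀ hd0]
  · rw [hx, ← map_pow, hB, fromBlocks_diag_pow, hAn, hDn, Matrix.fromBlocks_one, map_one]
  · intro h1
    rw [hx] at h1
    have h2 : B = 1 := (Matrix.reindexAlgEquiv F F e).injective (h1.trans (map_one _).symm)
    rw [hB, ← Matrix.fromBlocks_one, Matrix.fromBlocks_inj] at h2
    exact hA1 h2.1
  · intro h
    have h1 := e.injective h
    exact h12 (Sum.inr_injective h1)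

end Cfsg.Agent.Helper2.Singer
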