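import Mathlib
import Cfsg.Prelude.Def_GeometricClasses
import Cfsg.Agent.Helper2.SingerA
import Cfsg.Agent.Helper2.SingerB
import Cfsg.Agent.Helper2.SingerC
import Cfsg.Agent.Helper2.FieldSubA

/-!
# Conjugacy into the normaliser of a Singer-type field subalgebra (for S5970/S5971)
-/

set_option autoImplicit false

namespace Cfsg.Agent.Helper2.Singer

open Module Matrix

variable {F : Type*} [Field F] [Fintype F] {n : ℕ}

/-- if `ord_n(q) = n - 1` then every nonscalar `x ∈ SL_n` with `x^n` scalar is conjugate into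
the normaliser of `K` -/
theorem conj_of_ord {p : ℕ} [hp : Fact p.Prime] [CharP F p] (hk : n.Prime) (hn2 : 2 < n)
    (hnp : n ≠ p) {K : Subalgebra F (Matrix (Fin n) (Fin n) F)}
    (hK : Cfsg.Geo.IsFieldSubalgebra n K)
    (hord : orderOf ((Fintype.card F : ℕ) : ZMod n) = n - 1)
    (x : Matrix.SpecialLinearGroup (Fin n) F) (z : F)
    (hz : (x : Matrix (Fin n) (Fin n) F) ^ n = z • (1 : Matrix (Fin n) (Fin n) F))
    (hns : ∀ z : F, (x : Matrix (Fin n) (Fin n) F) ≠ z • (1 : Matrix (Fin n) (Fin n) F)) :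
    ∃ P : Matrix.SpecialLinearGroup (Fin n) F, P⁻¹ * x * P ∈
      ((Cfsg.Geo.subalgebraNormalizer K).comap
        (Matrix.SpecialLinearGroup.toGL :
          Matrix.SpecialLinearGroup (Fin n) F →* GL (Fin n) F)) := by
  classical
  have : Fact n.Prime := ⟨hk⟩
  have hpP : p.Prime := hp.out
  have hn : 2 ≤ n := by omega
  have hnF : (n : F) ≠ 0 := by
    intro h
    rw [CharP.cast_eq_zero_iff F p n] at h
    exact hnp ((Nat.prime_dvd_prime_iff_eq hpP hk).mp h).symm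
  obtain ⟨xm, hxm⟩ : ∃ xm : Matrix (Fin n) (Fin n) F,
      xm = (x : Matrix (Fin n) (Fin n) F) := ⟨_, rfl⟩
  rw [← hxm] at hz hns
  have hxdet : xm.det = 1 := by rw [hxm]; exact x.2
  have hzn : z ^ n = 1 := by
    have h1 := congrArg Matrix.det hz
    rw [Matrix.det_pow, hxdet, one_pow, Matrix.det_smul, Matrix.det_one, mul_one,
      Fintype.card_fin] at h1
    exact h1.symm
  have hz0 : z ≠ 0 := by
    intro h
    rw [h, zero_pow (by omega)] at hzn
    exact zero_ne_one hzn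
  have hcop : (Nat.card Fˣ).Coprime n := by
    rw [Nat.card_units, Nat.card_eq_fintype_card]
    apply Nat.Coprime.symm
    rw [Nat.Prime.coprime_iff_not_dvd hk]
    intro hd
    have h1 := ord_dvd_of_dvd (n := n) (q := Fintype.card F)
      (d := 1) Fintype.card_pos (by rwa [pow_one])
    rw [hord] at h1
    have h2 := Nat.le_of_dvd one_pos h1
    omega
  have hroot : ∀ a : F, a ≠ 0 → ∃ c : F, c ≠ 0 ∧ c ^ n = a := by
    intro a ha
    obtain ⟨c, hc⟩ := (powCoprime hcop).surjective (Units.mk0 a ha)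
    rw [powCoprime_apply] at hc
    refine ⟨c, c.ne_zero, ?_⟩
    have h1 := congrArg Units.val hc
    rwa [Units.val_pow_eq_pow_val, Units.val_mk0] at h1
  obtain ⟨c, hc0, hcz⟩ := hroot z hz0
  obtain ⟨A, hA⟩ : ∃ A : Matrix (Fin n) (Fin n) F, A = c⁻¹ • xm := ⟨_, rfl⟩
  have hxA : xm = c • A := by rw [hA, smul_smul, mul_inv_cancel₀ hc0, one_smul]
  have hAn : A ^ n = 1 := by
    rw [hA, smul_pow, hz, smul_smul, inv_pow, hcz, inv_mul_cancel₀ hz0, one_smul]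
  have hA1 : A ≠ 1 := by
    intro h
    apply hns c
    rw [hxA, h]
  obtain ⟨Φ, hΦn, hΦ1, hΦK⟩ := exists_frob (p := p) hn hK
  obtain ⟨g, hg⟩ := exists_gl_conj' hn2 hnF hord A Φ hAn hA1 hΦn hΦ1
  obtain ⟨Gm, hGm⟩ : ∃ Gm : Matrix (Fin n) (Fin n) F,
      Gm = (g : Matrix (Fin n) (Fin n) F) := ⟨_, rfl⟩
  obtain ⟨Gi, hGi⟩ : ∃ Gi : Matrix (Fin n) (Fin n) F,
      Gi = ((g⁻¹ : GL (Fin n) F) : Matrix (Fin n) (Fin n) F) := ⟨_, rfl⟩
  have h12 : Gm * Gi = 1 := by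
    rw [hGm, hGi, ← Units.val_mul, mul_inv_cancel, Units.val_one]
  have h21 : Gi * Gm = 1 := by
    rw [hGm, hGi, ← Units.val_mul, inv_mul_cancel, Units.val_one]
  rw [← hGm] at hg
  have hdd : Gm.det * Gi.det = 1 := by
    have h1 := congrArg Matrix.det h12
    rwa [Matrix.det_mul, Matrix.det_one] at h1
  have hgd : Gm.det ≠ 0 := by
    intro h
    rw [h, zero_mul] at hdd
    exact zero_ne_one hdd
  obtain ⟨t, ht0, htn⟩ := hroot Gm.det hgd
  have hPa : (t • Gi) * (t⁻¹ • Gm) = 1 := by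
    rw [Matrix.smul_mul, Matrix.mul_smul, smul_smul, mul_inv_cancel₀ ht0, one_smul, h21]
  have hPb : (t⁻¹ • Gm) * (t • Gi) = 1 := by
    rw [Matrix.smul_mul, Matrix.mul_smul, smul_smul, inv_mul_cancel₀ ht0, one_smul, h12]
  obtain ⟨Pg, hPg⟩ : ∃ Pg : GL (Fin n) F, Pg = ⟨t • Gi, t⁻¹ • Gm, hPa, hPb⟩ := ⟨_, rfl⟩
  have hPgv : (Pg : Matrix (Fin n) (Fin n) F) = t • Gi := by rw [hPg]
  have hPgi : ((Pg⁻¹ : GL (Fin n) F) : Matrix (Fin n) (Fin n) F) = t⁻¹ • Gm := by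
    rw [hPg]; rfl
  have hdetPg : (Pg : Matrix (Fin n) (Fin n) F).det = 1 := by
    rw [hPgv, Matrix.det_smul, Fintype.card_fin, htn, hdd]
  apply Cfsg.Agent.Helper2.FSub.exists_sl_conj _ x Pg hdetPg
  have hxGL : ((Matrix.SpecialLinearGroup.toGL x : GL (Fin n) F) :
      Matrix (Fin n) (Fin n) F) = xm := by rw [hxm]; rfl
  have hY : ((Pg⁻¹ * Matrix.SpecialLinearGroup.toGL x * Pg : GL (Fin n) F) :
      Matrix (Fin n) (Fin n) F) = c • Φ := by
    rw [Units.val_mul, Units.val_mul, hPgi, hPgv, hxGL, Matrix.smul_mul, Matrix.smul_mul,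
      Matrix.mul_smul, smul_smul, inv_mul_cancel₀ ht0, one_smul, hxA, Matrix.mul_smul,
      Matrix.smul_mul, hg, Matrix.mul_assoc, h12, Matrix.mul_one]
  apply mem_normalizer
  intro k' hk'
  refine ⟨k' ^ Fintype.card F, K.pow_mem hk' _, ?_⟩
  rw [hY, Matrix.smul_mul, hΦK k' hk', Matrix.mul_smul]

/-- an element of `SL_n` (`n` prime) with a two-dimensional eigenspace for a scalar `lam`,
not equal to `lam`, has no conjugate in the normaliser of `K` -/
theorem not_conj_of_eigen_two (hk : n.Prime) {K : Subalgebra F (Matrix (Fin n) (Fin n) F)}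
    (hK : Cfsg.Geo.IsFieldSubalgebra n K) (x : Matrix.SpecialLinearGroup (Fin n) F)
    (lam : F) (hlam : lam ≠ 0)
    (hx : (x : Matrix (Fin n) (Fin n) F) ≠ lam • (1 : Matrix (Fin n) (Fin n) F))
    {j₁ j₂ : Fin n} (hj : j₁ ≠ j₂)
    (hf1 : (x : Matrix (Fin n) (Fin n) F) *ᵥ Pi.single j₁ (1 : F) = lam • Pi.single j₁ (1 : F))
    (hf2 : (x : Matrix (Fin n) (Fin n) F) *ᵥ Pi.single j₂ (1 : F) = lam • Pi.single j₂ (1 : F))
    (P : Matrix.SpecialLinearGroup (Fin n) F) :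
    P⁻¹ * x * P ∉ ((Cfsg.Geo.subalgebraNormalizer K).comap
        (Matrix.SpecialLinearGroup.toGL :
          Matrix.SpecialLinearGroup (Fin n) F →* GL (Fin n) F)) := by
  classical
  intro hP
  rw [Subgroup.mem_comap] at hP
  obtain ⟨xm, hxm⟩ : ∃ xm : Matrix (Fin n) (Fin n) F,
      xm = (x : Matrix (Fin n) (Fin n) F) := ⟨_, rfl⟩
  rw [← hxm] at hx hf1 hf2
  obtain ⟨Pm, hPm⟩ : ∃ Pm : Matrix (Fin n) (Fin n) F,
      Pm = (P : Matrix (Fin n) (Fin n) F) := ⟨_, rfl⟩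
  obtain ⟨Pi', hPi⟩ : ∃ Pi' : Matrix (Fin n) (Fin n) F,
      Pi' = ((P⁻¹ : Matrix.SpecialLinearGroup (Fin n) F) : Matrix (Fin n) (Fin n) F) :=
    ⟨_, rfl⟩
  have hP1 : Pi' * Pm = 1 := by
    rw [hPi, hPm, ← Matrix.SpecialLinearGroup.coe_mul, inv_mul_cancel,
      Matrix.SpecialLinearGroup.coe_one]
  have hP2 : Pm * Pi' = 1 := by
    rw [hPi, hPm, ← Matrix.SpecialLinearGroup.coe_mul, mul_inv_cancel,
      Matrix.SpecialLinearGroup.coe_one]
  have hgc : ((Matrix.SpecialLinearGroup.toGL (P⁻¹ * x * P) : GL (Fin n) F) :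
      Matrix (Fin n) (Fin n) F) = Pi' * xm * Pm := by
    show ((P⁻¹ * x * P : Matrix.SpecialLinearGroup (Fin n) F) :
      Matrix (Fin n) (Fin n) F) = Pi' * xm * Pm
    rw [Matrix.SpecialLinearGroup.coe_mul, Matrix.SpecialLinearGroup.coe_mul, ← hPi, ← hPm,
      hxm]
  -- the scalar lam⁻¹ as an element of the normaliser
  have hsa : (lam⁻¹ • (1 : Matrix (Fin n) (Fin n) F)) * (lam • (1 : Matrix (Fin n) (Fin n) F))
      = 1 := by
    rw [Matrix.smul_mul, Matrix.mul_smul, smul_smul, inv_mul_cancel₀ hlam, one_smul,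
      Matrix.one_mul]
  have hsb : (lam • (1 : Matrix (Fin n) (Fin n) F)) * (lam⁻¹ • (1 : Matrix (Fin n) (Fin n) F))
      = 1 := by
    rw [Matrix.smul_mul, Matrix.mul_smul, smul_smul, mul_inv_cancel₀ hlam, one_smul,
      Matrix.one_mul]
  obtain ⟨s, hs⟩ : ∃ s : GL (Fin n) F, s = ⟨lam⁻¹ • 1, lam • 1, hsa, hsb⟩ := ⟨_, rfl⟩
  have hsv : (s : Matrix (Fin n) (Fin n) F) = lam⁻¹ • (1 : Matrix (Fin n) (Fin n) F) := by
    rw [hs]
  have hsN : s ∈ Cfsg.Geo.subalgebraNormalizer K := by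
    apply mem_normalizer
    intro k' hk'
    refine ⟨k', hk', ?_⟩
    rw [hsv, Matrix.smul_mul, Matrix.mul_smul, Matrix.one_mul, Matrix.mul_one]
  have hgN : s * Matrix.SpecialLinearGroup.toGL (P⁻¹ * x * P) ∈
      Cfsg.Geo.subalgebraNormalizer K := Subgroup.mul_mem _ hsN hP
  have hgv : ((s * Matrix.SpecialLinearGroup.toGL (P⁻¹ * x * P) : GL (Fin n) F) :
      Matrix (Fin n) (Fin n) F) = lam⁻¹ • (Pi' * xm * Pm) := by
    rw [Units.val_mul, hsv, hgc, Matrix.smul_mul, Matrix.one_mul]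
  have hu1 : Pi' *ᵥ Pi.single j₁ (1 : F) ≠ 0 := by
    intro h
    have h1 : Pm *ᵥ (Pi' *ᵥ Pi.single j₁ (1 : F)) = Pi.single j₁ 1 := by
      rw [Matrix.mulVec_mulVec, hP2, Matrix.one_mulVec]
    rw [h, Matrix.mulVec_zero] at h1
    have h2 := congrFun h1 j₁
    simp at h2
  have hfa : ∀ j : Fin n, xm *ᵥ Pi.single j (1 : F) = lam • Pi.single j (1 : F) →
      (lam⁻¹ • (Pi' * xm * Pm)) *ᵥ (Pi' *ᵥ Pi.single j (1 : F)) =
        Pi' *ᵥ Pi.single j (1 : F) := by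
    intro j hfj
    rw [Matrix.smul_mulVec, Matrix.mulVec_mulVec, Matrix.mul_assoc (Pi' * xm), hP2,
      Matrix.mul_one, ← Matrix.mulVec_mulVec, hfj, Matrix.mulVec_smul, smul_smul,
      inv_mul_cancel₀ hlam, one_smul]
  have hind : ∀ c : F, Pi' *ᵥ Pi.single j₂ (1 : F) ≠ c • (Pi' *ᵥ Pi.single j₁ (1 : F)) := by
    intro c h
    have h1 : Pm *ᵥ (Pi' *ᵥ Pi.single j₂ (1 : F)) =
        Pm *ᵥ (c • (Pi' *ᵥ Pi.single j₁ (1 : F))) := by rw [h]
    rw [Matrix.mulVec_smul, Matrix.mulVec_mulVec, Matrix.mulVec_mulVec, hP2,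
      Matrix.one_mulVec, Matrix.one_mulVec] at h1
    have h2 := congrFun h1 j₂
    simp [hj.symm] at h2
  have hres := fix_two hk hK _ hgN hu1
    (by rw [hgv]; exact hfa j₁ hf1) (by rw [hgv]; exact hfa j₂ hf2) hind
  rw [hgv] at hres
  apply hx
  have h3 : Pi' * xm * Pm = lam • (1 : Matrix (Fin n) (Fin n) F) := by
    have h4 := congrArg (fun M => lam • M) hres
    simp only [smul_smul, mul_inv_cancel₀ hlam, one_smul] at h4
    exact h4
  calc xm = Pm * (Pi' * xm * Pm) * Pi' := by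
        simp only [Matrix.mul_assoc]
        rw [hP2, Matrix.mul_one, ← Matrix.mul_assoc, hP2, Matrix.one_mul]
    _ = lam • (1 : Matrix (Fin n) (Fin n) F) := by
        rw [h3, Matrix.mul_smul, Matrix.smul_mul, Matrix.mul_one, hP2]

end Cfsg.Agent.Helper2.Singer
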