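import Mathlib
import Cfsg.Agent.Helper2.SpForm
import Cfsg.Agent.Helper2.SpCard

/-! `Sp₄(2) ≃* S₆` via the permutation module `F₂⁶`. -/

set_option autoImplicit false
set_option linter.unusedSectionVars false
set_option linter.unusedVariables false

namespace Cfsg.Agent.Helper2.Sp46

open Matrix Equiv

variable {F : Type*} [Field F]

/-- permutation action on `F⁶` -/
def pvL (σ : Perm (Fin 6)) : (Fin 6 → F) →ₗ[F] (Fin 6 → F) where
  toFun v := fun k => v (σ.symm k)
  map_add' _ _ := rfl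
  map_smul' _ _ := rfl

theorem pvL_apply (σ : Perm (Fin 6)) (v : Fin 6 → F) (k : Fin 6) : pvL σ v k = v (σ.symm k) := rfl

theorem pvL_mul (σ τ : Perm (Fin 6)) (v : Fin 6 → F) : pvL (σ * τ) v = pvL σ (pvL τ v) := by
  funext k
  simp only [pvL_apply]
  rfl

theorem sum_pvL (σ : Perm (Fin 6)) (v : Fin 6 → F) : ∑ k, pvL σ v k = ∑ k, v k := by
  simp only [pvL_apply]
  exact Equiv.sum_comp σ.symm v

theorem dot_pvL (σ : Perm (Fin 6)) (u v : Fin 6 → F) : pvL σ u ⬝ᵥ pvL σ v = u ⬝ᵥ v := by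
  unfold dotProduct
  simp only [pvL_apply]
  exact Equiv.sum_comp σ.symm (fun k => u k * v k)

theorem pvL_ones (σ : Perm (Fin 6)) (c : F) : pvL σ (fun _ => c) = fun _ => c := rfl

/-- coordinates with respect to the symplectic basis -/
def coordL : (Fin 6 → F) →ₗ[F] (Fin 2 ⊕ Fin 2 → F) where
  toFun v := Sum.elim ![v 1 + v 2, v 4 + v 5] ![v 0 + v 1, v 3 + v 4]
  map_add' u v := by
    funext i
    rcases i with i | i <;> fin_cases i <;> simp <;> ring
  map_smul' c v := by
    funext i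
    rcases i with i | i <;> fin_cases i <;> simp <;> ring

/-- the span of the symplectic basis -/
def phiL : (Fin 2 ⊕ Fin 2 → F) →ₗ[F] (Fin 6 → F) where
  toFun x := ![x (Sum.inl 0), x (Sum.inl 0) + x (Sum.inr 0), x (Sum.inr 0),
    x (Sum.inl 1), x (Sum.inl 1) + x (Sum.inr 1), x (Sum.inr 1)]
  map_add' u v := by
    funext i
    fin_cases i <;> simp <;> ring
  map_smul' c v := by
    funext i
    fin_cases i <;> simp <;> ring

variable [CharP F 2]

theorem coord_phi (x : Fin 2 ⊕ Fin 2 → F) : coordL (phiL x) = x := by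
  have h2 : (2 : F) = 0 := CharTwo.two_eq_zero
  funext i
  rcases i with i | i <;> fin_cases i <;> simp [coordL, phiL]
  · linear_combination x (Sum.inr 0) * h2
  · linear_combination x (Sum.inr 1) * h2
  · linear_combination x (Sum.inl 0) * h2
  · linear_combination x (Sum.inl 1) * h2

theorem sum_phi (x : Fin 2 ⊕ Fin 2 → F) : ∑ k, phiL x k = 0 := by
  have h2 : (2 : F) = 0 := CharTwo.two_eq_zero
  simp [phiL, Fin.sum_univ_succ]
  linear_combination (x (Sum.inl 0) + x (Sum.inr 0) + x (Sum.inl 1) + x (Sum.inr 1)) * h2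

theorem coord_ones (c : F) : coordL (fun _ : Fin 6 => c) = 0 := by
  have h2 : (2 : F) = 0 := CharTwo.two_eq_zero
  funext i
  rcases i with i | i <;> fin_cases i <;> simp [coordL] <;> linear_combination c * h2

theorem last_eq {v : Fin 6 → F} (hv : ∑ k, v k = 0) : v 5 = v 0 + v 1 + v 2 + v 3 + v 4 := by
  have h2 : (2 : F) = 0 := CharTwo.two_eq_zero
  simp [Fin.sum_univ_succ] at hv
  have e5 : (5 : Fin 6) = Fin.last 5 := rfl
  linear_combination -hv + v 5 * h2

/-- decomposition of an even-weight vector -/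
theorem decomp {v : Fin 6 → F} (hv : ∑ k, v k = 0) :
    v = phiL (coordL v) + fun _ => (v 0 + v 1 + v 2) := by
  have h2 : (2 : F) = 0 := CharTwo.two_eq_zero
  have h5 := last_eq hv
  funext i
  fin_cases i <;> simp [coordL, phiL]
  · linear_combination (-v 1 - v 2) * h2
  · linear_combination (-v 0 - v 1 - v 2) * h2
  · linear_combination (-v 0 - v 1) * h2
  · rw [h5]; linear_combination (-v 0 - v 1 - v 2 - v 4) * h2
  · rw [h5]; linear_combination (-v 0 - v 1 - v 2 - v 3 - v 4) * h2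
  · rw [h5]; ring

/-- the symplectic form in coordinates is the dot product -/
theorem om_coord {u v : Fin 6 → F} (hu : ∑ k, u k = 0) (hv : ∑ k, v k = 0) :
    Sp.om (coordL u) (coordL v) = u ⬝ᵥ v := by
  have h2 : (2 : F) = 0 := CharTwo.two_eq_zero
  have hu5 := last_eq hu
  have hv5 := last_eq hv
  rw [Sp.om_eq_sum]
  simp [coordL, dotProduct, Fin.sum_univ_succ]
  rw [hu5, hv5]
  linear_combination (-(u 0 * v 0) + -(u 0 * v 3) + -(u 0 * v 4) + -(u 1 * v 0) + -(u 1 * v 1) + -(u 1 * v 3) + -(u 1 * v 4) + -(u 2 * v 0) + -(u 2 * v 1) + -(u 2 * v 2) + -(u 2 * v 3) + -(u 2 * v 4) + -(u 3 * v 3) + -(u 4 * v 3) + -(u 4 * v 4)) * h2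


/-- the linear map induced by a permutation on the 4-dimensional quotient -/
def rhoL (σ : Perm (Fin 6)) : (Fin 2 ⊕ Fin 2 → F) →ₗ[F] (Fin 2 ⊕ Fin 2 → F) :=
  coordL ∘ₗ pvL σ ∘ₗ phiL

theorem rhoL_apply (σ : Perm (Fin 6)) (x : Fin 2 ⊕ Fin 2 → F) :
    rhoL σ x = coordL (pvL σ (phiL x)) := rfl

theorem sum_pv_phi (σ : Perm (Fin 6)) (x : Fin 2 ⊕ Fin 2 → F) : ∑ k, pvL σ (phiL x) k = 0 := by
  rw [sum_pvL, sum_phi]

theorem phi_rho (σ : Perm (Fin 6)) (x : Fin 2 ⊕ Fin 2 → F) :
    ∃ c : F, phiL (rhoL σ x) = pvL σ (phiL x) - fun _ => c := by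
  have h := decomp (sum_pv_phi σ x)
  refine ⟨pvL σ (phiL x) 0 + pvL σ (phiL x) 1 + pvL σ (phiL x) 2, ?_⟩
  rw [rhoL_apply]
  exact eq_sub_of_add_eq h.symm

theorem rhoL_mul (σ τ : Perm (Fin 6)) : (rhoL (σ * τ) : _ →ₗ[F] _) = rhoL σ ∘ₗ rhoL τ := by
  apply LinearMap.ext
  intro x
  rw [LinearMap.comp_apply]
  obtain ⟨c, hc⟩ := phi_rho τ x
  rw [rhoL_apply σ, hc, map_sub, map_sub, pvL_ones, coord_ones, sub_zero, ← pvL_mul]
  rfl

theorem rhoL_one : (rhoL (1 : Perm (Fin 6)) : _ →ₗ[F] _) = LinearMap.id := by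
  apply LinearMap.ext
  intro x
  rw [rhoL_apply]
  have : pvL (1 : Perm (Fin 6)) (phiL x) = phiL x := rfl
  rw [this, coord_phi]
  rfl

theorem om_rhoL (σ : Perm (Fin 6)) (x y : Fin 2 ⊕ Fin 2 → F) :
    Sp.om (rhoL σ x) (rhoL σ y) = Sp.om x y := by
  rw [rhoL_apply, rhoL_apply, om_coord (sum_pv_phi σ x) (sum_pv_phi σ y), dot_pvL,
    ← om_coord (sum_phi x) (sum_phi y), coord_phi, coord_phi]

/-- the matrix of a permutation -/
noncomputable def rhoM (σ : Perm (Fin 6)) : Matrix (Fin 2 ⊕ Fin 2) (Fin 2 ⊕ Fin 2) F :=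
  LinearMap.toMatrix' (rhoL σ)

theorem rhoM_mem (σ : Perm (Fin 6)) : (rhoM σ : Matrix _ _ F) ∈ symplecticGroup (Fin 2) F := by
  rw [Sp.mem_symplectic_iff_om]
  intro x y
  unfold rhoM
  rw [LinearMap.toMatrix'_mulVec, LinearMap.toMatrix'_mulVec, om_rhoL]

/-- the homomorphism `S₆ → Sp₄(2)` -/
noncomputable def rho : Perm (Fin 6) →* symplecticGroup (Fin 2) F where
  toFun σ := ⟨rhoM σ, rhoM_mem σ⟩
  map_one' := by
    apply Subtype.ext
    change rhoM (1 : Perm (Fin 6)) = 1
    unfold rhoM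
    rw [rhoL_one, LinearMap.toMatrix'_id]
  map_mul' σ τ := by
    apply Subtype.ext
    change rhoM (σ * τ) = rhoM σ * rhoM τ
    unfold rhoM
    rw [rhoL_mul, LinearMap.toMatrix'_comp]

theorem exists_avoid : ∀ a b c d : Fin 6, ∃ k : Fin 6, k ≠ a ∧ k ≠ b ∧ k ≠ c ∧ k ≠ d := by
  decide

theorem exists_two_others : ∀ a : Fin 6, ∃ b b' : Fin 6, b ≠ a ∧ b' ≠ a ∧ b ≠ b' := by
  decide

theorem rho_injective : Function.Injective (rho : Perm (Fin 6) →* symplecticGroup (Fin 2) F) := by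
  rw [injective_iff_map_eq_one]
  intro σ hσ
  have h2 : (2 : F) = 0 := CharTwo.two_eq_zero
  have hL : (rhoL σ : _ →ₗ[F] _) = LinearMap.id := by
    have h1 : (rhoM σ : Matrix _ _ F) = 1 := congrArg Subtype.val hσ
    unfold rhoM at h1
    rw [← LinearMap.toMatrix'_id] at h1
    exact LinearMap.toMatrix'.injective h1
  -- `σ` fixes every even-weight vector modulo the all-ones vector
  have key : ∀ u : Fin 6 → F, ∑ k, u k = 0 → ∃ c : F, pvL σ u = u + fun _ => c := by
    intro u hu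
    obtain ⟨c, hc⟩ := phi_rho σ (coordL u)
    rw [hL, LinearMap.id_apply] at hc
    have hd := decomp hu
    refine ⟨c, ?_⟩
    have e1 : pvL σ u = pvL σ (phiL (coordL u)) + pvL σ (fun _ => (u 0 + u 1 + u 2)) := by
      rw [← map_add, ← hd]
    rw [e1, pvL_ones]
    funext k
    have hk := congrFun hc k
    have hdk := congrFun hd k
    simp only [Pi.add_apply, Pi.sub_apply] at hk hdk ⊢
    linear_combination -hk - hdk
  -- apply to `e_a + e_b`
  have hab : ∀ a b : Fin 6, a ≠ b → σ a = a ∨ σ a = b := by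
    intro a b hne
    set w : Fin 6 → F := Pi.single a (1 : F) + Pi.single b (1 : F) with hw
    have hsum : ∑ k, w k = 0 := by
      rw [hw]
      simp only [Pi.add_apply, Finset.sum_add_distrib, Finset.sum_pi_single', Finset.mem_univ,
        if_true]
      linear_combination h2
    obtain ⟨c, hc⟩ := key _ hsum
    have hval : ∀ k : Fin 6, w (σ.symm k) = w k + c := fun k => congrFun hc k
    obtain ⟨k, hka, hkb, hkσa, hkσb⟩ := exists_avoid a b (σ a) (σ b)
    have hc0 : c = 0 := by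
      have := hval k
      have h1 : σ.symm k ≠ a := fun h => hkσa (by rw [← h]; simp)
      have h2' : σ.symm k ≠ b := fun h => hkσb (by rw [← h]; simp)
      simp only [hw, Pi.add_apply, Pi.single_apply, if_neg h1, if_neg h2', if_neg hka, if_neg hkb,
        add_zero, zero_add] at this
      exact this.symm
    by_contra hcon
    push Not at hcon
    have := hval (σ a)
    have hσb : σ.symm (σ a) = a := by simp
    rw [hσb, hc0] at this
    simp only [hw, Pi.add_apply, Pi.single_apply, if_true, if_neg hne, if_neg hcon.1, if_neg hcon.2,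
      add_zero] at this
    exact one_ne_zero this
  ext a
  obtain ⟨b, b', hb, hb', hbb⟩ := exists_two_others a
  rcases hab a b hb.symm with h | h
  · rw [h]; rfl
  · rcases hab a b' hb'.symm with h' | h'
    · rw [h']; rfl
    · exact absurd (h.symm.trans h') hbb

theorem nonempty_mulEquiv [Fintype F] (hF : Fintype.card F = 2) :
    Nonempty (symplecticGroup (Fin 2) F ≃* Perm (Fin 6)) := by
  have hcard : Nat.card (Perm (Fin 6)) = Nat.card (symplecticGroup (Fin 2) F) := by
    rw [Sp.card_symplectic_fin, hF, Nat.card_eq_fintype_card, Fintype.card_perm, Fintype.card_fin]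
    simp [Finset.prod_range_succ]
    rfl
  have hbij : Function.Bijective (rho : Perm (Fin 6) →* symplecticGroup (Fin 2) F) :=
    (Nat.bijective_iff_injective_and_card _).mpr ⟨rho_injective, hcard⟩
  exact ⟨(MulEquiv.ofBijective _ hbij).symm⟩

end Cfsg.Agent.Helper2.Sp46
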