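import Mathlib
import Cfsg.Prelude.Def_ClassicalGeometry
import Cfsg.Agent.Helper2.SpForm

/-! The normalizer of the diagonal torus of `Sp_2m(q)` is the monomial group. -/

namespace Cfsg.Agent.Helper2.SpTorus

open Matrix Cfsg.Agent.Helper2

variable {m : ℕ} {F : Type*} [Field F]

/-- the coordinate line -/
abbrev L (F : Type*) [Field F] (m : ℕ) (i : Fin m ⊕ Fin m) : Submodule F (Fin m ⊕ Fin m → F) :=
  Submodule.span F {(Pi.single i (1 : F) : Fin m ⊕ Fin m → F)}

theorem mem_L_iff (i : Fin m ⊕ Fin m) (v : Fin m ⊕ Fin m → F) :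
    v ∈ L F m i ↔ ∀ k, k ≠ i → v k = 0 := by
  rw [Submodule.mem_span_singleton]
  constructor
  · rintro ⟨a, rfl⟩ k hk
    simp [Pi.single_apply, hk]
  · intro h
    refine ⟨v i, ?_⟩
    ext k
    by_cases hk : k = i
    · subst hk; simp
    · simp [Pi.single_apply, hk, h k hk]

/-- the torus -/
abbrev Tor (F : Type*) [Field F] (m : ℕ) : Subgroup (Matrix.symplecticGroup (Fin m) F) :=
  ⨅ i : Fin m ⊕ Fin m, Cfsg.stabilizing (Cfsg.spToMat m F) ((L F m i : Submodule F (Fin m ⊕ Fin m → F)) : Set (Fin m ⊕ Fin m → F))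

theorem mem_Tor_iff' (g : Matrix.symplecticGroup (Fin m) F) :
    g ∈ Tor F m ↔ ∀ i v, v ∈ L F m i ↔ g.1 *ᵥ v ∈ L F m i := by
  rw [Subgroup.mem_iInf]
  rfl

theorem coe_mul_inv (g : Matrix.symplecticGroup (Fin m) F) :
    g.1 * (g⁻¹).1 = 1 := by
  exact congrArg Subtype.val (mul_inv_cancel g)

theorem coe_inv_mul (g : Matrix.symplecticGroup (Fin m) F) :
    (g⁻¹).1 * g.1 = 1 := by
  exact congrArg Subtype.val (inv_mul_cancel g)

theorem mulVec_inv_mulVec (g : Matrix.symplecticGroup (Fin m) F) (v : Fin m ⊕ Fin m → F) :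
    g.1 *ᵥ ((g⁻¹).1 *ᵥ v) = v := by
  rw [mulVec_mulVec, coe_mul_inv, one_mulVec]

theorem inv_mulVec_mulVec (g : Matrix.symplecticGroup (Fin m) F) (v : Fin m ⊕ Fin m → F) :
    (g⁻¹).1 *ᵥ (g.1 *ᵥ v) = v := by
  rw [mulVec_mulVec, coe_inv_mul, one_mulVec]

/-- every column of an invertible matrix is nonzero -/
theorem exists_ne_zero (g : Matrix.symplecticGroup (Fin m) F) (j : Fin m ⊕ Fin m) :
    ∃ k, g.1 k j ≠ 0 := by
  by_contra h
  push Not at h
  have h1 : g.1 *ᵥ (Pi.single j 1) = 0 := by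
    rw [mulVec_single_one]; ext k; exact h k
  have h2 := inv_mulVec_mulVec g (Pi.single j 1)
  rw [h1, mulVec_zero] at h2
  have := congrFun h2 j
  simp at this

/-- diagonal criterion -/
theorem mem_Tor_iff (g : Matrix.symplecticGroup (Fin m) F) :
    g ∈ Tor F m ↔ ∀ i j, i ≠ j → g.1 i j = 0 := by
  rw [mem_Tor_iff']
  constructor
  · intro h i j hij
    have h1 := (h j (Pi.single j 1)).1 (Submodule.subset_span rfl)
    rw [mem_L_iff] at h1
    have := h1 i hij
    rwa [mulVec_single_one] at this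
  · intro h i v
    have hmv : ∀ k, (g.1 *ᵥ v) k = g.1 k k * v k := by
      intro k
      rw [mulVec, dotProduct, Finset.sum_eq_single k]
      · intro b _ hb; rw [h k b hb.symm, zero_mul]
      · intro hk; exact absurd (Finset.mem_univ k) hk
    have hd : ∀ k, g.1 k k ≠ 0 := by
      intro k
      obtain ⟨k', hk'⟩ := exists_ne_zero g k
      by_cases hkk : k' = k
      · rwa [hkk] at hk'
      · exact absurd (h k' k hkk) hk'
    rw [mem_L_iff, mem_L_iff]
    constructor
    · intro hv k hk; rw [hmv, hv k hk, mul_zero]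
    · intro hv k hk
      have := hv k hk
      rw [hmv] at this
      exact (mul_eq_zero.1 this).resolve_left (hd k)

/-- diagonal matrices in the symplectic group -/
theorem diag_mem (δ : Fin m ⊕ Fin m → F) (h : ∀ i, δ (Sum.inl i) * δ (Sum.inr i) = 1) :
    Matrix.diagonal δ ∈ Matrix.symplecticGroup (Fin m) F := by
  rw [Sp.mem_symplectic_iff_om]
  intro x y
  rw [Sp.om_eq_sum, Sp.om_eq_sum]
  apply Finset.sum_congr rfl
  intro i _
  simp only [mulVec_diagonal]
  have := h i
  linear_combination (x (Sum.inr i) * y (Sum.inl i) - x (Sum.inl i) * y (Sum.inr i)) * this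

theorem diag_mem_Tor (δ : Fin m ⊕ Fin m → F) (h : ∀ i, δ (Sum.inl i) * δ (Sum.inr i) = 1) :
    (⟨Matrix.diagonal δ, diag_mem δ h⟩ : Matrix.symplecticGroup (Fin m) F) ∈ Tor F m := by
  rw [mem_Tor_iff]
  intro i j hij
  exact Matrix.diagonal_apply_ne _ hij

/-- column-monomial matrices -/
def IsMono (A : Matrix (Fin m ⊕ Fin m) (Fin m ⊕ Fin m) F) : Prop :=
  ∀ j k k', A k j ≠ 0 → A k' j ≠ 0 → k = k'

theorem exists_sq_ne_one [Fintype F] (hq : 4 ≤ Fintype.card F) : ∃ a : F, a ≠ 0 ∧ a * a ≠ 1 := by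
  classical
  have h1 : ({0, 1, -1} : Finset F).card < (Finset.univ : Finset F).card := by
    have := Finset.card_le_three (a := (0 : F)) (b := 1) (c := -1)
    rw [Finset.card_univ]; omega
  obtain ⟨a, _, ha⟩ := Finset.exists_mem_notMem_of_card_lt_card h1
  simp only [Finset.mem_insert, Finset.mem_singleton, not_or] at ha
  refine ⟨a, ha.1, fun h => ?_⟩
  have : (a - 1) * (a + 1) = 0 := by linear_combination h
  rcases mul_eq_zero.1 this with h | h
  · exact ha.2.1 (by linear_combination h)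
  · exact ha.2.2 (by linear_combination h)

/-- the test element -/
noncomputable def tst (a : F) (k : Fin m ⊕ Fin m) : Fin m ⊕ Fin m → F :=
  fun x => if x = k then a else if x = Sum.swap k then a⁻¹ else 1

theorem tst_mul (a : F) (ha : a ≠ 0) (k : Fin m ⊕ Fin m) (i : Fin m) :
    tst a k (Sum.inl i) * tst a k (Sum.inr i) = 1 := by
  unfold tst
  rcases k with k | k
  · by_cases hik : i = k
    · subst hik; simp [ha]
    · simp [hik]
  · by_cases hik : i = k
    · subst hik; simp [ha]
    · simp [hik]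

theorem tst_ne (a : F) (ha : a ≠ 0) (ha1 : a * a ≠ 1) (k k' : Fin m ⊕ Fin m) (hkk : k ≠ k') :
    tst a k k ≠ tst a k k' := by
  unfold tst
  rw [if_pos rfl, if_neg (Ne.symm hkk)]
  split_ifs
  · intro h; apply ha1
    have h2 : a * a = a * a⁻¹ := congrArg (a * ·) h
    rw [h2, mul_inv_cancel₀ ha]
  · intro h; apply ha1; rw [h]; simp

theorem isMono_of_mem_normalizer [Fintype F] (hq : 4 ≤ Fintype.card F)
    (g : Matrix.symplecticGroup (Fin m) F) (hg : g ∈ Subgroup.normalizer (Tor F m : Set (Matrix.symplecticGroup (Fin m) F))) :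
    IsMono g.1 := by
  intro j k k' hk hk'
  by_contra hkk
  obtain ⟨a, ha, ha1⟩ := exists_sq_ne_one (F := F) hq
  set t : Matrix.symplecticGroup (Fin m) F := ⟨Matrix.diagonal (tst a k), diag_mem _ (tst_mul a ha k)⟩ with ht
  have htT : t ∈ Tor F m := diag_mem_Tor _ (tst_mul a ha k)
  have hg' := Subgroup.inv_mem _ hg
  rw [Subgroup.mem_normalizer_iff] at hg'
  have hs := (hg' t).1 htT
  rw [inv_inv, mem_Tor_iff] at hs
  set s := g⁻¹ * t * g with hsdef
  have hgs : g.1 * s.1 = t.1 * g.1 := by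
    have : g * s = t * g := by rw [hsdef]; group
    exact congrArg Subtype.val this
  have hent : ∀ x, g.1 x j ≠ 0 → tst a k x = s.1 j j := by
    intro x hx
    have h1 := congrFun (congrFun hgs x) j
    rw [Matrix.mul_apply, Finset.sum_eq_single j, ht] at h1
    · simp only [Matrix.diagonal_mul] at h1
      exact (mul_left_cancel₀ hx (by rw [h1]; ring)).symm
    · intro b _ hb; rw [hs b j hb, mul_zero]
    · intro hj; exact absurd (Finset.mem_univ j) hj
  exact tst_ne a ha ha1 k k' hkk ((hent k hk).trans (hent k' hk').symm)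

/-! ### the position function -/

noncomputable def pos (g : Matrix.symplecticGroup (Fin m) F) (j : Fin m ⊕ Fin m) : Fin m ⊕ Fin m :=
  (exists_ne_zero g j).choose

theorem pos_spec (g : Matrix.symplecticGroup (Fin m) F) (j : Fin m ⊕ Fin m) : g.1 (pos g j) j ≠ 0 :=
  (exists_ne_zero g j).choose_spec

theorem eq_pos {g : Matrix.symplecticGroup (Fin m) F} (hg : IsMono g.1) {k j : Fin m ⊕ Fin m}
    (h : g.1 k j ≠ 0) : k = pos g j := hg j k _ h (pos_spec g j)

theorem isMono_one : IsMono (1 : Matrix.symplecticGroup (Fin m) F).1 := by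
  intro j k k' hk hk'
  have h1 : k = j := by
    by_contra h; exact hk (Matrix.one_apply_ne h)
  have h2 : k' = j := by
    by_contra h; exact hk' (Matrix.one_apply_ne h)
  rw [h1, h2]

theorem pos_one (j : Fin m ⊕ Fin m) : pos (1 : Matrix.symplecticGroup (Fin m) F) j = j := by
  refine (eq_pos isMono_one ?_).symm
  change (1 : Matrix (Fin m ⊕ Fin m) (Fin m ⊕ Fin m) F) j j ≠ 0
  rw [Matrix.one_apply_eq]; exact one_ne_zero

theorem pos_mul {g h : Matrix.symplecticGroup (Fin m) F} (hh : IsMono h.1)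
    (hgh : IsMono (g * h).1) (j : Fin m ⊕ Fin m) : pos (g * h) j = pos g (pos h j) := by
  refine (eq_pos hgh ?_).symm
  change (g.1 * h.1) (pos g (pos h j)) j ≠ 0
  rw [Matrix.mul_apply, Finset.sum_eq_single (pos h j)]
  · exact mul_ne_zero (pos_spec g _) (pos_spec h j)
  · intro b _ hb
    by_cases hbj : h.1 b j = 0
    · rw [hbj, mul_zero]
    · exact absurd (eq_pos hh hbj) hb
  · intro hj; exact absurd (Finset.mem_univ _) hj

theorem pos_eq_self_iff {g : Matrix.symplecticGroup (Fin m) F} (hg : IsMono g.1) :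
    (∀ j, pos g j = j) ↔ g ∈ Tor F m := by
  rw [mem_Tor_iff]
  constructor
  · intro h i j hij
    by_contra h0
    exact hij ((eq_pos hg h0).trans (h j))
  · intro h j
    by_contra hne
    exact pos_spec g j (h _ _ hne)

theorem om_single (a b : Fin m ⊕ Fin m) :
    Sp.om (Pi.single a (1 : F)) (Pi.single b 1) = J (Fin m) F a b := by
  unfold Sp.om
  rw [mulVec_single_one, single_one_dotProduct]
  rfl

theorem J_apply (a b : Fin m ⊕ Fin m) :
    J (Fin m) F a b = if b = Sum.swap a then (if a.isLeft then -1 else 1) else 0 := by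
  rcases a with a | a <;> rcases b with b | b <;> simp [J, Matrix.one_apply, eq_comm]
  split_ifs <;> simp

theorem om_col (g : Matrix.symplecticGroup (Fin m) F) (j k : Fin m ⊕ Fin m) :
    ∑ i, (g.1 (Sum.inr i) j * g.1 (Sum.inl i) k - g.1 (Sum.inl i) j * g.1 (Sum.inr i) k)
      = J (Fin m) F j k := by
  have h := (Sp.mem_symplectic_iff_om.1 g.2) (Pi.single j 1) (Pi.single k 1)
  rw [om_single, Sp.om_eq_sum] at h
  rw [← h]
  apply Finset.sum_congr rfl
  intro i _
  rw [mulVec_single_one, mulVec_single_one]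
  rfl

theorem pos_swap {g : Matrix.symplecticGroup (Fin m) F} (hg : IsMono g.1) (j : Fin m ⊕ Fin m) :
    pos g (Sum.swap j) = Sum.swap (pos g j) := by
  have h := om_col g j (Sum.swap j)
  have hne : J (Fin m) F j (Sum.swap j) ≠ 0 := by
    rw [J_apply, if_pos rfl]; split_ifs <;> simp
  rw [← h] at hne
  obtain ⟨i, _, hi⟩ := Finset.exists_ne_zero_of_sum_ne_zero hne
  by_cases h1 : g.1 (Sum.inr i) j * g.1 (Sum.inl i) (Sum.swap j) = 0
  · rw [h1, zero_sub, neg_ne_zero] at hi
    have ha := eq_pos hg (left_ne_zero_of_mul hi)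
    have hb := eq_pos hg (right_ne_zero_of_mul hi)
    rw [← ha, ← hb]; rfl
  · have ha := eq_pos hg (left_ne_zero_of_mul h1)
    have hb := eq_pos hg (right_ne_zero_of_mul h1)
    rw [← ha, ← hb]; rfl

/-! ### normalizing elements from permutations of the lines -/

theorem conj_mem_Tor (g : Matrix.symplecticGroup (Fin m) F) (π : Equiv.Perm (Fin m ⊕ Fin m))
    (h : ∀ j v, v ∈ L F m j ↔ g.1 *ᵥ v ∈ L F m (π j)) {t : Matrix.symplecticGroup (Fin m) F}
    (ht : t ∈ Tor F m) : g * t * g⁻¹ ∈ Tor F m := by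
  rw [mem_Tor_iff'] at ht ⊢
  intro i v
  change _ ↔ (g.1 * t.1 * (g⁻¹).1) *ᵥ v ∈ _
  rw [← mulVec_mulVec, ← mulVec_mulVec]
  have h1 := h (π.symm i) ((g⁻¹).1 *ᵥ v)
  rw [mulVec_inv_mulVec, Equiv.apply_symm_apply] at h1
  rw [← h1, ht (π.symm i), h (π.symm i), Equiv.apply_symm_apply]

theorem mem_normalizer_of_perm (g : Matrix.symplecticGroup (Fin m) F) (π : Equiv.Perm (Fin m ⊕ Fin m))
    (h : ∀ j v, v ∈ L F m j ↔ g.1 *ᵥ v ∈ L F m (π j)) :
    g ∈ Subgroup.normalizer (Tor F m : Set (Matrix.symplecticGroup (Fin m) F)) := by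
  have hinv : ∀ j v, v ∈ L F m j ↔ (g⁻¹).1 *ᵥ v ∈ L F m (π.symm j) := by
    intro j v
    have h1 := h (π.symm j) ((g⁻¹).1 *ᵥ v)
    rw [mulVec_inv_mulVec, Equiv.apply_symm_apply] at h1
    exact h1.symm
  rw [Subgroup.mem_normalizer_iff]
  intro t
  constructor
  · exact conj_mem_Tor g π h
  · intro ht
    have := conj_mem_Tor g⁻¹ π.symm hinv ht
    have h2 : g⁻¹ * (g * t * g⁻¹) * g⁻¹⁻¹ = t := by group
    rwa [h2] at this

/-! ### signed permutation matrices -/

theorem mem_symplectic_of_basis {A : Matrix (Fin m ⊕ Fin m) (Fin m ⊕ Fin m) F}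
    (h : ∀ i j, Sp.om (A *ᵥ Pi.single i 1) (A *ᵥ Pi.single j 1) = Sp.om (Pi.single i (1 : F)) (Pi.single j 1)) :
    A ∈ symplecticGroup (Fin m) F := by
  rw [SymplecticGroup.mem_iff']
  ext i j
  have := h i j
  rw [Sp.om_mulVec] at this
  unfold Sp.om at this
  rw [mulVec_single_one, mulVec_single_one, single_one_dotProduct, single_one_dotProduct] at this
  exact this

noncomputable def sgn (w : Equiv.Perm (Fin m ⊕ Fin m)) (j : Fin m ⊕ Fin m) : F :=
  if j.isLeft = true ∧ (w j).isRight = true then -1 else 1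

theorem sgn_ne_zero (w : Equiv.Perm (Fin m ⊕ Fin m)) (j : Fin m ⊕ Fin m) : (sgn w j : F) ≠ 0 := by
  unfold sgn; split_ifs <;> simp

noncomputable def PW (w : Equiv.Perm (Fin m ⊕ Fin m)) : Matrix (Fin m ⊕ Fin m) (Fin m ⊕ Fin m) F :=
  Matrix.of fun k j => if k = w j then sgn w j else 0

theorem PW_mulVec_single (w : Equiv.Perm (Fin m ⊕ Fin m)) (j : Fin m ⊕ Fin m) :
    (PW w : Matrix _ _ F) *ᵥ Pi.single j 1 = (sgn w j : F) • (Pi.single (w j) (1 : F) : Fin m ⊕ Fin m → F) := by
  rw [mulVec_single_one]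
  ext k
  simp [PW, Pi.single_apply]

theorem PW_mulVec (w : Equiv.Perm (Fin m ⊕ Fin m)) (v : Fin m ⊕ Fin m → F) (k : Fin m ⊕ Fin m) :
    ((PW w : Matrix _ _ F) *ᵥ v) k = sgn w (w.symm k) * v (w.symm k) := by
  rw [mulVec, dotProduct, Finset.sum_eq_single (w.symm k)]
  · simp [PW]
  · intro b _ hb
    have : k ≠ w b := fun h => hb (by rw [h, Equiv.symm_apply_apply])
    simp [PW, this]
  · intro h; exact absurd (Finset.mem_univ _) h

theorem sgn_key (w : Equiv.Perm (Fin m ⊕ Fin m)) (hw : ∀ j, w (Sum.swap j) = Sum.swap (w j))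
    (j : Fin m ⊕ Fin m) :
    (sgn w j : F) * sgn w (Sum.swap j) * (if (w j).isLeft then -1 else 1) = if j.isLeft then -1 else 1 := by
  unfold sgn
  rcases j with i | i
  · rcases h : w (Sum.inl i) with a | a <;> simp
  · have h1 := hw (Sum.inr i)
    simp only [Sum.swap_inr] at h1
    rcases h : w (Sum.inr i) with a | a <;> rw [h] at h1 <;> simp [h1]

theorem PW_mem (w : Equiv.Perm (Fin m ⊕ Fin m)) (hw : ∀ j, w (Sum.swap j) = Sum.swap (w j)) :
    (PW w : Matrix _ _ F) ∈ symplecticGroup (Fin m) F := by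
  apply mem_symplectic_of_basis
  intro j k
  rw [PW_mulVec_single, PW_mulVec_single, Sp.om_smul_left, Sp.om_smul_right, om_single, om_single,
    J_apply, J_apply]
  by_cases hk : k = Sum.swap j
  · subst hk
    rw [if_pos rfl, if_pos (hw j), ← mul_assoc]
    exact sgn_key w hw j
  · rw [if_neg hk, if_neg, mul_zero, mul_zero]
    intro h
    rw [← hw] at h
    exact hk (w.injective h)

theorem PW_line (w : Equiv.Perm (Fin m ⊕ Fin m)) (j : Fin m ⊕ Fin m) (v : Fin m ⊕ Fin m → F) :
    v ∈ L F m j ↔ (PW w : Matrix _ _ F) *ᵥ v ∈ L F m (w j) := by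
  rw [mem_L_iff, mem_L_iff]
  constructor
  · intro h k hk
    rw [PW_mulVec, h, mul_zero]
    intro h2; apply hk; rw [← h2, Equiv.apply_symm_apply]
  · intro h k hk
    have := h (w k) (fun h2 => hk (w.injective h2))
    rw [PW_mulVec, Equiv.symm_apply_apply] at this
    exact (mul_eq_zero.1 this).resolve_left (sgn_ne_zero w k)

theorem PW_isMono (w : Equiv.Perm (Fin m ⊕ Fin m)) : IsMono (PW w : Matrix _ _ F) := by
  intro j k k' hk hk'
  have h1 : k = w j := by
    by_contra h; apply hk; simp [PW, h]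
  have h2 : k' = w j := by
    by_contra h; apply hk'; simp [PW, h]
  rw [h1, h2]

/-! ### counting -/

theorem card_centralizer_swap (m : ℕ) :
    Nat.card (Subgroup.centralizer {(Equiv.sumComm (Fin m) (Fin m) : Equiv.Perm (Fin m ⊕ Fin m))})
      = 2 ^ m * Nat.factorial m := by
  rw [Equiv.Perm.nat_card_centralizer]
  set τ : Equiv.Perm (Fin m ⊕ Fin m) := Equiv.sumComm (Fin m) (Fin m) with hτ
  have h2 : τ ^ 2 = 1 := by
    ext x; rcases x with x | x <;> simp [hτ, pow_two]
  have hct := Equiv.Perm.cycleType_of_pow_prime_eq_one h2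
  have hsupp : τ.support = Finset.univ := by
    ext x
    simp only [Equiv.Perm.mem_support, Finset.mem_univ, iff_true]
    rcases x with x | x <;> simp [hτ]
  have hsum : τ.cycleType.sum = 2 * m := by
    rw [Equiv.Perm.sum_cycleType, hsupp, Finset.card_univ]; simp; ring
  have hk : Multiset.card τ.cycleType = m := by
    rw [hct, Multiset.sum_replicate, smul_eq_mul] at hsum
    omega
  rw [hk] at hct
  rw [hsum, hct]
  simp only [Fintype.card_sum, Fintype.card_fin, Multiset.prod_replicate]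
  rw [show m + m - 2 * m = 0 by omega, Nat.factorial_zero, one_mul]
  rcases Nat.eq_zero_or_pos m with h0 | h0
  · subst h0; simp
  · have : (Multiset.replicate m 2).toFinset = {2} := by
      ext x; simp only [Multiset.mem_toFinset, Multiset.mem_replicate, Finset.mem_singleton]
      constructor
      · intro h; exact h.2
      · intro h; exact ⟨by omega, h⟩
    rw [this, Finset.prod_singleton, Multiset.count_replicate_self]

theorem diag_entries {t : Matrix.symplecticGroup (Fin m) F} (ht : t ∈ Tor F m) (i : Fin m) :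
    t.1 (Sum.inl i) (Sum.inl i) * t.1 (Sum.inr i) (Sum.inr i) = 1 := by
  rw [mem_Tor_iff] at ht
  have h := om_col t (Sum.inl i) (Sum.inr i)
  rw [Finset.sum_eq_single i] at h
  · rw [ht (Sum.inr i) (Sum.inl i) (by simp), zero_mul, zero_sub, J_apply] at h
    simp at h
    exact h
  · intro b _ hb
    rw [ht (Sum.inr b) (Sum.inl i) (by simp), zero_mul, zero_sub, ht (Sum.inl b) (Sum.inl i) (by simpa using hb),
      zero_mul, neg_zero]
  · intro h; exact absurd (Finset.mem_univ _) h

theorem card_Tor [Fintype F] : Nat.card (Tor F m) = (Fintype.card F - 1) ^ m := by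
  classical
  have key : ∀ c : Fin m → Fˣ, ∀ i, (Sum.elim (fun i => (c i : F)) (fun i => ((c i)⁻¹ : Fˣ)) : Fin m ⊕ Fin m → F) (Sum.inl i)
      * (Sum.elim (fun i => (c i : F)) (fun i => ((c i)⁻¹ : Fˣ)) : Fin m ⊕ Fin m → F) (Sum.inr i) = 1 := by
    intro c i; simp
  let f : (Fin m → Fˣ) → Tor F m := fun c =>
    ⟨⟨Matrix.diagonal (Sum.elim (fun i => (c i : F)) (fun i => ((c i)⁻¹ : Fˣ))), diag_mem _ (key c)⟩,
      diag_mem_Tor _ (key c)⟩
  have hinj : Function.Injective f := by
    intro c c' h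
    have h1 : (f c).1.1 = (f c').1.1 := by rw [h]
    funext i
    have h2 := congrFun (congrFun h1 (Sum.inl i)) (Sum.inl i)
    simp only [f, Matrix.diagonal_apply_eq, Sum.elim_inl] at h2
    exact Units.ext h2
  have hsurj : Function.Surjective f := by
    intro t
    have hd := diag_entries t.2
    have ht := (mem_Tor_iff t.1).1 t.2
    refine ⟨fun i => Units.mk0 (t.1.1 (Sum.inl i) (Sum.inl i)) (left_ne_zero_of_mul_eq_one (hd i)), ?_⟩
    apply Subtype.ext
    apply Subtype.ext
    ext a b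
    simp only [f]
    by_cases hab : a = b
    · subst hab
      rw [Matrix.diagonal_apply_eq]
      rcases a with a | a
      · simp
      · simp only [Sum.elim_inr, Units.val_inv_eq_inv_val, Units.val_mk0]
        exact inv_eq_of_mul_eq_one_right (hd a)
    · rw [Matrix.diagonal_apply_ne _ hab, ht a b hab]
  rw [← Nat.card_congr (Equiv.ofBijective f ⟨hinj, hsurj⟩), Nat.card_eq_fintype_card, Fintype.card_fun,
    Fintype.card_units, Fintype.card_fin]

/-! ### the main count -/

theorem card_normalizer [Fintype F] (hq : 4 ≤ Fintype.card F) :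
    Nat.card (Subgroup.normalizer (Tor F m : Set (Matrix.symplecticGroup (Fin m) F)))
      = 2 ^ m * Nat.factorial m * (Fintype.card F - 1) ^ m := by
  classical
  set N := Subgroup.normalizer (Tor F m : Set (Matrix.symplecticGroup (Fin m) F)) with hN
  have hmono : ∀ g : N, IsMono g.1.1 := fun g => isMono_of_mem_normalizer hq g.1 g.2
  let act : MulAction N (Fin m ⊕ Fin m) :=
    { smul := fun g j => pos g.1 j
      one_smul := fun j => pos_one j
      mul_smul := fun g h j => pos_mul (hmono h) (hmono (g * h)) j }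
  have hsmul : ∀ (g : N) j, g • j = pos g.1 j := fun _ _ => rfl
  let Φ : N →* Equiv.Perm (Fin m ⊕ Fin m) := MulAction.toPermHom N (Fin m ⊕ Fin m)
  have hΦ : ∀ (g : N) j, Φ g j = pos g.1 j := fun _ _ => rfl
  have hker : Φ.ker = (Tor F m).subgroupOf N := by
    ext g
    rw [MonoidHom.mem_ker, Subgroup.mem_subgroupOf, ← pos_eq_self_iff (hmono g)]
    constructor
    · intro h j; rw [← hΦ, h]; rfl
    · intro h; ext j; rw [hΦ, h]; rfl
  have hrange : Φ.range = Subgroup.centralizer {(Equiv.sumComm (Fin m) (Fin m) : Equiv.Perm (Fin m ⊕ Fin m))} := by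
    ext w
    rw [Subgroup.mem_centralizer_singleton_iff, MonoidHom.mem_range]
    constructor
    · rintro ⟨g, rfl⟩
      ext j
      simp only [Equiv.Perm.coe_mul, Function.comp_apply, Equiv.sumComm_apply, hΦ]
      exact pos_swap (hmono g) j
    · intro hw
      have hw' : ∀ j, w (Sum.swap j) = Sum.swap (w j) := by
        intro j
        have := congrArg (fun f : Equiv.Perm (Fin m ⊕ Fin m) => f j) hw
        simpa using this
      set P : Matrix.symplecticGroup (Fin m) F := ⟨PW w, PW_mem w hw'⟩ with hP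
      have hPN : P ∈ N := mem_normalizer_of_perm P w (fun j v => PW_line w j v)
      refine ⟨⟨P, hPN⟩, ?_⟩
      ext j
      rw [hΦ]
      refine (eq_pos (PW_isMono w) ?_).symm
      change (PW w : Matrix _ _ F) (w j) j ≠ 0
      simp [PW, sgn_ne_zero]
  have h1 := Subgroup.card_mul_index Φ.ker
  rw [Subgroup.index_ker, hker, hrange, card_centralizer_swap,
    Nat.card_congr (Subgroup.subgroupOfEquivOfLe Subgroup.le_normalizer).toEquiv, card_Tor] at h1
  rw [← h1]; ring

end Cfsg.Agent.Helper2.SpTorus
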