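import Mathlib
import Cfsg.Prelude.Def_GeometricClasses
import Cfsg.Agent.Helper2.SimInvC
import Cfsg.Agent.Helper2.FieldSubD
import Cfsg.Agent.Helper7.SubF1
import Cfsg.Agent.Helper7.SubF2
import Cfsg.Agent.Helper7.SubF4

/-!
# Involutions of `PSL_n(q)` are conjugate into subfield subgroups (for S5964)
-/

set_option autoImplicit false

namespace Cfsg.Agent.Helper2.SubfInv

open Module Matrix Cfsg.Geo

variable {F : Type*} [Field F] {n : ℕ}

theorem conj_mem_of_mul_eq (F₀ : Subfield F) (x : Matrix.SpecialLinearGroup (Fin n) F)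
    (P : Matrix (Fin n) (Fin n) F) (hdet : P.det = 1) (M₀ : Matrix (Fin n) (Fin n) F₀) (μ : F)
    (hμ : μ ≠ 0) (h : x.1 * P = P * (μ • M₀.map F₀.subtype)) :
    ∃ P' : Matrix.SpecialLinearGroup (Fin n) F,
      P'⁻¹ * x * P' ∈ (subfieldSubgroup F₀ (1 : GL (Fin n) F)).comap
        (Matrix.SpecialLinearGroup.toGL :
          Matrix.SpecialLinearGroup (Fin n) F →* GL (Fin n) F) := by
  obtain ⟨P', hP'⟩ : ∃ P' : Matrix.SpecialLinearGroup (Fin n) F, P' = ⟨P, hdet⟩ := ⟨_, rfl⟩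
  have hP'1 : P'.1 = P := by rw [hP']
  refine ⟨P', ?_⟩
  apply Cfsg.Agent.Helper7.SubF.mem_subfieldH_of F₀ _ M₀ μ hμ
  have h1 : ((P'⁻¹ * x * P' : Matrix.SpecialLinearGroup (Fin n) F) :
      Matrix (Fin n) (Fin n) F) = (P'⁻¹ : Matrix.SpecialLinearGroup (Fin n) F).1 * x.1 * P := by
    rw [← hP'1]; rfl
  have h2 : (P'⁻¹ : Matrix.SpecialLinearGroup (Fin n) F).1 * P = 1 := by
    have h3 : ((P'⁻¹ * P' : Matrix.SpecialLinearGroup (Fin n) F) :
        Matrix (Fin n) (Fin n) F) = 1 := by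
      rw [inv_mul_cancel]; rfl
    rw [← hP'1]
    exact h3
  rw [h1, Matrix.mul_assoc, h, ← Matrix.mul_assoc, h2, Matrix.one_mul]

/-- characteristic two -/
theorem conj_char_two [Fintype F] (h2 : (2 : F) = 0) (hn : 1 ≤ n) (F₀ : Subfield F)
    (x : Matrix.SpecialLinearGroup (Fin n) F)
    (hx1 : ∃ z : F, ((x ^ 2 : Matrix.SpecialLinearGroup (Fin n) F) : Matrix (Fin n) (Fin n) F) =
      z • (1 : Matrix (Fin n) (Fin n) F)) :
    ∃ P' : Matrix.SpecialLinearGroup (Fin n) F,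
      P'⁻¹ * x * P' ∈ (subfieldSubgroup F₀ (1 : GL (Fin n) F)).comap
        (Matrix.SpecialLinearGroup.toGL :
          Matrix.SpecialLinearGroup (Fin n) F →* GL (Fin n) F) := by
  classical
  obtain ⟨z, hz⟩ := hx1
  have hxx : x.1 * x.1 = z • (1 : Matrix (Fin n) (Fin n) F) := by
    rw [← hz, pow_two]; rfl
  have hchar : ringChar F = 2 :=
    CharP.ringChar_of_prime_eq_zero Nat.prime_two (by exact_mod_cast h2)
  have hz0 : z ≠ 0 := by
    rintro rfl
    have : Nonempty (Fin n) := ⟨⟨0, by omega⟩⟩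
    have h1 := congrArg Matrix.det hxx
    rw [Matrix.det_mul, x.2, zero_smul, Matrix.det_zero] at h1
    simp at h1
  obtain ⟨l, hl⟩ := FiniteField.isSquare_of_char_two hchar z
  have hl0 : l ≠ 0 := by
    rintro rfl
    rw [mul_zero] at hl
    exact hz0 hl
  have h11 : (1 : Matrix (Fin n) (Fin n) F) + 1 = 0 := by
    rw [← two_smul F (1 : Matrix (Fin n) (Fin n) F), h2, zero_smul]
  obtain ⟨N, hN⟩ : ∃ N : Matrix (Fin n) (Fin n) F, N = l⁻¹ • x.1 + 1 := ⟨_, rfl⟩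
  have e1 : l⁻¹ * l⁻¹ * z = 1 := by
    rw [hl]; field_simp
  have hNN : N * N = 0 := by
    have h3 : N * N = (l⁻¹ * l⁻¹) • (x.1 * x.1) + (2 * l⁻¹) • x.1 + 1 := by
      rw [hN]
      simp only [add_mul, mul_add, Matrix.smul_mul, Matrix.mul_smul, Matrix.one_mul,
        Matrix.mul_one, smul_smul]
      module
    rw [h3, hxx, smul_smul, e1, h2, zero_mul, zero_smul, add_zero, one_smul, h11]
  have hxN : x.1 = l • (1 + N) := by
    rw [hN, add_comm (l⁻¹ • x.1) 1, ← add_assoc, h11, zero_add, smul_smul, mul_inv_cancel₀ hl0,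
      one_smul]
  have hN2 : N ^ 2 = 0 := by rw [pow_two]; exact hNN
  obtain ⟨ι, _, d, D₀, hD₀, hpos, hsum, hle, hP⟩ :=
    Cfsg.Agent.Helper7.SubF.exists_rational_conj N ⟨2, hN2⟩ F₀
  have hne : Nonempty ι := by
    by_contra hemp
    rw [not_nonempty_iff] at hemp
    rw [Finset.univ_eq_empty, Finset.sum_empty] at hsum
    omega
  obtain ⟨i0⟩ := hne
  have hd2 : d i0 ≤ 2 := hle i0 2 hN2
  have hd1 : 0 < d i0 := hpos i0
  obtain ⟨c, hc⟩ : ∃ c : F, c ^ (d i0) = D₀⁻¹ := by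
    have hcases : d i0 = 1 ∨ d i0 = 2 := by omega
    rcases hcases with h | h
    · exact ⟨D₀⁻¹, by rw [h, pow_one]⟩
    · obtain ⟨s, hs⟩ := FiniteField.isSquare_of_char_two hchar D₀⁻¹
      exact ⟨s, by rw [h, pow_two, hs]⟩
  obtain ⟨P, M₀, hdet, hNP⟩ := hP i0 c 1
  rw [hc, Subfield.coe_one, mul_one, inv_mul_cancel₀ hD₀] at hdet
  apply conj_mem_of_mul_eq F₀ x P hdet (1 + M₀) l hl0
  rw [hxN, Matrix.map_add _ (fun a b => by simp), Matrix.map_one _ (by simp) (by simp),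
    Matrix.smul_mul, Matrix.mul_smul, Matrix.add_mul, Matrix.mul_add, Matrix.one_mul,
    Matrix.mul_one, hNP]

/-- odd characteristic, `x² = c²` -/
theorem conj_of_eigen (h2 : (2 : F) ≠ 0) (hn : 1 ≤ n) (F₀ : Subfield F)
    (x : Matrix.SpecialLinearGroup (Fin n) F) {c : F} (hc : c ≠ 0)
    (hxx : x.1 * x.1 = (c * c) • (1 : Matrix (Fin n) (Fin n) F)) :
    ∃ P' : Matrix.SpecialLinearGroup (Fin n) F,
      P'⁻¹ * x * P' ∈ (subfieldSubgroup F₀ (1 : GL (Fin n) F)).comap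
        (Matrix.SpecialLinearGroup.toGL :
          Matrix.SpecialLinearGroup (Fin n) F →* GL (Fin n) F) := by
  classical
  obtain ⟨X, hX⟩ : ∃ X : (Fin n → F) →ₗ[F] (Fin n → F), X = Matrix.toLin' x.1 := ⟨_, rfl⟩
  have hXX : ∀ v, X (X v) = (c * c) • v := by
    intro v
    rw [hX, Matrix.toLin'_apply, Matrix.toLin'_apply, Matrix.mulVec_mulVec, hxx,
      Matrix.smul_mulVec, Matrix.one_mulVec]
  obtain ⟨a, b, bE, h1, h2'⟩ := Cfsg.Agent.Helper2.SimInv.exists_eigenbasis h2 hc hXX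
  have hfr : finrank F (Fin n → F) = n := by
    rw [Module.finrank_fintype_fun_eq_card, Fintype.card_fin]
  have hab : a + b = n := by
    have := finrank_eq_card_basis bE
    rw [hfr, Fintype.card_sum, Fintype.card_fin, Fintype.card_fin] at this
    exact this.symm
  obtain ⟨e, -⟩ : ∃ e : Fin a ⊕ Fin b ≃ Fin n, e = finSumFinEquiv.trans (finCongr hab) :=
    ⟨_, rfl⟩
  obtain ⟨𝔸0, h𝔸0⟩ : ∃ 𝔸0 : Basis (Fin n) F (Fin n → F), 𝔸0 = bE.reindex e := ⟨_, rfl⟩
  obtain ⟨ε, hε⟩ : ∃ ε : Fin n → F₀, ε = fun j =>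
      Sum.elim (fun _ => (1 : F₀)) (fun _ => (-1 : F₀)) (e.symm j) := ⟨_, rfl⟩
  have hX0 : ∀ j, X (𝔸0 j) = (c * (ε j : F)) • 𝔸0 j := by
    intro j
    rw [h𝔸0, Basis.reindex_apply, hε]
    rcases hj : e.symm j with i | i
    · rw [h1]
      simp [hj]
    · rw [h2']
      simp [hj]
  obtain ⟨j0, -⟩ : ∃ j0 : Fin n, j0 = ⟨0, by omega⟩ := ⟨_, rfl⟩
  have hunit : IsUnit ((Pi.basisFun F (Fin n)).det 𝔸0) := (Pi.basisFun F (Fin n)).isUnit_det 𝔸0
  obtain ⟨t, ht⟩ : ∃ t : Fˣ, (t : F) * (Pi.basisFun F (Fin n)).det 𝔸0 = 1 :=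
    ⟨hunit.unit⁻¹, by
      rw [Units.val_inv_eq_inv_val, IsUnit.unit_spec]; exact inv_mul_cancel₀ hunit.ne_zero⟩
  obtain ⟨w, hw⟩ : ∃ w : Fin n → Fˣ, w = fun j => if j = j0 then t else 1 := ⟨_, rfl⟩
  obtain ⟨𝔸, h𝔸⟩ : ∃ 𝔸 : Basis (Fin n) F (Fin n → F), 𝔸 = 𝔸0.unitsSMul w := ⟨_, rfl⟩
  have h𝔸a : ∀ j, 𝔸 j = (w j : F) • 𝔸0 j := fun j => by
    rw [h𝔸, Basis.unitsSMul_apply, Units.smul_def]
  have hdet : (Pi.basisFun F (Fin n)).det 𝔸 = 1 := by
    have h4 : (⇑𝔸) = fun j => (w j : F) • 𝔸0 j := funext h𝔸a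
    rw [h4]
    have h5 := ((Pi.basisFun F (Fin n)).det).toMultilinearMap.map_smul_univ
      (fun j => (w j : F)) 𝔸0
    have h6 : ((Pi.basisFun F (Fin n)).det fun j => (w j : F) • 𝔸0 j) =
        (∏ j, (w j : F)) • (Pi.basisFun F (Fin n)).det 𝔸0 := h5
    rw [h6, smul_eq_mul]
    have h7 : ∏ j, (w j : F) = t := by
      rw [hw]
      have : ∀ j : Fin n, (((if j = j0 then t else 1 : Fˣ) : Fˣ) : F) =
          if j = j0 then (t : F) else 1 := by
        intro j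
        split_ifs <;> simp
      simp only [this]
      rw [Finset.prod_ite_eq' Finset.univ j0 (fun _ => (t : F))]
      simp
    rw [h7, ht]
  have hXA : ∀ j, X (𝔸 j) = (c * (ε j : F)) • 𝔸 j := by
    intro j
    rw [h𝔸a, map_smul, hX0, smul_comm]
  obtain ⟨Pm, hPm⟩ : ∃ Pm : Matrix (Fin n) (Fin n) F,
      Pm = (Pi.basisFun F (Fin n)).toMatrix 𝔸 := ⟨_, rfl⟩
  have hPdet : Pm.det = 1 := by rw [hPm, ← Basis.det_apply, hdet]
  have hPa : ∀ i j, Pm i j = 𝔸 j i := by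
    intro i j
    rw [hPm, Basis.toMatrix_apply, Pi.basisFun_repr]
  apply conj_mem_of_mul_eq F₀ x Pm hPdet (Matrix.diagonal ε) c hc
  ext i j
  have h3 : (x.1 * Pm) i j = (X (𝔸 j)) i := by
    rw [hX, Matrix.toLin'_apply, Matrix.mul_apply]
    simp only [Matrix.mulVec, dotProduct, hPa]
  rw [h3, hXA, Matrix.mul_smul, Matrix.smul_apply, Matrix.diagonal_map (by simp),
    Matrix.mul_diagonal, Pi.smul_apply, hPa]
  simp only [smul_eq_mul, Subfield.coe_subtype]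
  ring

/-- determinant of the block matrix `[[0, z], [1, 0]]` -/
theorem det_antidiag (s : ℕ) (z : F) :
    (Matrix.fromBlocks (0 : Matrix (Fin s) (Fin s) F) (z • (1 : Matrix (Fin s) (Fin s) F))
      (1 : Matrix (Fin s) (Fin s) F) (0 : Matrix (Fin s) (Fin s) F)).det = (-z) ^ s := by
  have hU : (Matrix.fromBlocks (1 : Matrix (Fin s) (Fin s) F) (1 : Matrix (Fin s) (Fin s) F)
      (0 : Matrix (Fin s) (Fin s) F) (1 : Matrix (Fin s) (Fin s) F)).det = 1 := by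
    rw [Matrix.det_fromBlocks_zero₂₁, Matrix.det_one, mul_one]
  have hmul : Matrix.fromBlocks (0 : Matrix (Fin s) (Fin s) F)
      (z • (1 : Matrix (Fin s) (Fin s) F)) (1 : Matrix (Fin s) (Fin s) F)
      (0 : Matrix (Fin s) (Fin s) F) *
      Matrix.fromBlocks (1 : Matrix (Fin s) (Fin s) F) (1 : Matrix (Fin s) (Fin s) F)
      (0 : Matrix (Fin s) (Fin s) F) (1 : Matrix (Fin s) (Fin s) F) =
      Matrix.fromBlocks (0 : Matrix (Fin s) (Fin s) F) (z • (1 : Matrix (Fin s) (Fin s) F))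
      (1 : Matrix (Fin s) (Fin s) F) (1 : Matrix (Fin s) (Fin s) F) := by
    rw [Matrix.fromBlocks_multiply]
    simp
  have h3 := congrArg Matrix.det hmul
  rw [Matrix.det_mul, hU, mul_one, Matrix.det_fromBlocks_one₂₂] at h3
  rw [h3]
  have h4 : (0 : Matrix (Fin s) (Fin s) F) - (z • 1) * 1 = (-z) • (1 : Matrix (Fin s) (Fin s) F) := by
    rw [Matrix.mul_one, zero_sub, neg_smul]
  rw [h4, Matrix.det_smul, Matrix.det_one, mul_one, Fintype.card_fin]

theorem det_of_cyclic {V : Type*} [AddCommGroup V] [Module F V] {s : ℕ}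
    (bas : Basis (Fin s ⊕ Fin s) F V) (X : V →ₗ[F] V) (z : F)
    (h1 : ∀ i, X (bas (.inl i)) = bas (.inr i))
    (h2 : ∀ i, X (bas (.inr i)) = z • bas (.inl i)) : LinearMap.det X = (-z) ^ s := by
  classical
  rw [← LinearMap.det_toMatrix bas]
  have h3 : LinearMap.toMatrix bas bas X = Matrix.fromBlocks (0 : Matrix (Fin s) (Fin s) F)
      (z • (1 : Matrix (Fin s) (Fin s) F)) (1 : Matrix (Fin s) (Fin s) F)
      (0 : Matrix (Fin s) (Fin s) F) := by
    ext k l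
    rw [LinearMap.toMatrix_apply]
    rcases l with l | l
    · rw [h1, Basis.repr_self]
      rcases k with k | k
      · simp
      · by_cases hkl : k = l
        · subst hkl; simp
        · simp [Finsupp.single_apply, Matrix.one_apply, hkl, Ne.symm hkl]
    · rw [h2, map_smul, Basis.repr_self]
      rcases k with k | k
      · by_cases hkl : k = l
        · subst hkl; simp
        · simp [Finsupp.single_apply, Matrix.one_apply, hkl, Ne.symm hkl]
      · simp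
  rw [h3, det_antidiag]

theorem no_nonsq_root [Fintype F] {q : ℕ} (hq : Fintype.card F = q) (h2 : (2 : F) ≠ 0) {w : F}
    {s n : ℕ} (hn : n = s + s) (hs : s ≠ 0)
    (hv : padicValNat 2 n ≤ padicValNat 2 (q - 1)) (hws : w ^ s = 1)
    (hwh : w ^ (q / 2) = -1) : False := by
  have hF : ringChar F ≠ 2 := by
    intro h
    apply h2
    have h3 := ringChar.Nat.cast_ringChar (R := F)
    rw [h] at h3
    exact_mod_cast h3
  have hqodd : q % 2 = 1 := by rw [← hq]; exact FiniteField.odd_card_of_char_ne_two hF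
  have hq2 : 2 ≤ q := by rw [← hq]; exact Fintype.one_lt_card
  have hq1 : q - 1 ≠ 0 := by omega
  have hn0 : n ≠ 0 := by omega
  obtain ⟨e, m, hm, hnm⟩ := Nat.exists_eq_pow_mul_and_not_dvd hn0 2 (by norm_num)
  have hm0 : m ≠ 0 := by
    rintro rfl
    exact hm (dvd_zero 2)
  have hve : padicValNat 2 n = e := by
    rw [hnm, padicValNat.mul (pow_ne_zero _ (by norm_num)) hm0, padicValNat.prime_pow,
      padicValNat.eq_zero_of_not_dvd hm, add_zero]
  have he : e ≠ 0 := by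
    rintro rfl
    rw [pow_zero, one_mul] at hnm
    apply hm
    rw [← hnm, hn]
    exact ⟨s, by ring⟩
  obtain ⟨e', rfl⟩ : ∃ e', e = e' + 1 := ⟨e - 1, by omega⟩
  have hdvd : 2 ^ (e' + 1) ∣ q - 1 := (padicValNat_dvd_iff_le hq1).mpr (by rw [← hve]; exact hv)
  obtain ⟨h'', hh''⟩ := hdvd
  have hs' : s = 2 ^ e' * m := by
    have : s + s = 2 * (2 ^ e' * m) := by rw [← hn, hnm, pow_succ]; ring
    omega
  have hh : q / 2 = 2 ^ e' * h'' := by
    have : q - 1 = 2 * (2 ^ e' * h'') := by rw [hh'', pow_succ]; ring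
    omega
  have hmodd : Odd m := by
    rw [← Nat.not_even_iff_odd, even_iff_two_dvd]
    exact hm
  have h3 : w ^ (q / 2 * m) = -1 := by rw [pow_mul, hwh, hmodd.neg_one_pow]
  have h4 : w ^ (q / 2 * m) = 1 := by
    have h5 : q / 2 * m = s * h'' := by rw [hh, hs']; ring
    rw [h5, pow_mul, hws, one_pow]
  rw [h4] at h3
  apply h2
  linear_combination h3

end Cfsg.Agent.Helper2.SubfInv
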