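import Mathlib
import Cfsg.Prelude.Def_GeometricClasses
import Cfsg.Agent.Helper2.SubfInvA
import Cfsg.Agent.Helper2.SubfInvB

/-!
# Involutions of `PSL_n(q)` and subfield subgroups: the derangement and the main theorem (S5964)
-/

set_option autoImplicit false

namespace Cfsg.Agent.Helper2.SubfInv

open Module Matrix Cfsg.Geo

variable {F : Type*} [Field F] [Fintype F]

theorem exists_derange {q : ℕ} (hq : Fintype.card F = q) (hodd : Odd q) (F₀ : Subfield F)
    (hqk : Fintype.card F = Nat.card F₀ ^ 2) (n : ℕ) (hn : 1 ≤ n)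
    (hlt : padicValNat 2 (q - 1) < padicValNat 2 n) :
    ∃ x : Matrix.SpecialLinearGroup (Fin n) F,
      (∃ z : F, ((x ^ 2 : Matrix.SpecialLinearGroup (Fin n) F) : Matrix (Fin n) (Fin n) F) =
        z • (1 : Matrix (Fin n) (Fin n) F)) ∧
      (∀ z : F, (x : Matrix (Fin n) (Fin n) F) ≠ z • (1 : Matrix (Fin n) (Fin n) F)) ∧
      ¬ ∃ P : Matrix.SpecialLinearGroup (Fin n) F, P⁻¹ * x * P ∈
        (subfieldSubgroup F₀ (1 : GL (Fin n) F)).comap
          (Matrix.SpecialLinearGroup.toGL :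
            Matrix.SpecialLinearGroup (Fin n) F →* GL (Fin n) F) := by
  classical
  have hqodd : q % 2 = 1 := Nat.odd_iff.mp hodd
  have hFodd : Fintype.card F % 2 = 1 := by rw [hq]; exact hqodd
  have hF : ringChar F ≠ 2 := by
    intro h
    have := FiniteField.even_card_of_char_two h
    omega
  have h2 : (2 : F) ≠ 0 := by
    intro h2
    apply hF
    exact CharP.ringChar_of_prime_eq_zero Nat.prime_two (by exact_mod_cast h2)
  have hq2 : 2 ≤ q := by rw [← hq]; exact Fintype.one_lt_card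
  have hq1 : q - 1 ≠ 0 := by omega
  have hn0 : n ≠ 0 := by omega
  -- decomposition of `q - 1`
  obtain ⟨e, l, hl, hql⟩ := Nat.exists_eq_pow_mul_and_not_dvd hq1 2 (by norm_num)
  have hl0 : l ≠ 0 := by
    rintro rfl
    exact hl (dvd_zero 2)
  have hve : padicValNat 2 (q - 1) = e := by
    rw [hql, padicValNat.mul (pow_ne_zero _ (by norm_num)) hl0, padicValNat.prime_pow,
      padicValNat.eq_zero_of_not_dvd hl, add_zero]
  have hlodd : Odd l := by
    rw [← Nat.not_even_iff_odd, even_iff_two_dvd]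
    exact hl
  have hdvd : 2 ^ (e + 1) ∣ n := (padicValNat_dvd_iff_le hn0).mpr (by omega)
  obtain ⟨n', hn'⟩ := hdvd
  have hn'0 : n' ≠ 0 := by
    rintro rfl
    rw [mul_zero] at hn'
    exact hn0 hn'
  obtain ⟨s, hs⟩ : ∃ s, s = 2 ^ e * n' := ⟨_, rfl⟩
  have hns : n = s + s := by rw [hn', hs, pow_succ]; ring
  have hs0 : 0 < s := by
    rw [hs]
    exact Nat.mul_pos (pow_pos (by norm_num) _) (Nat.pos_of_ne_zero hn'0)
  -- a nonsquare of 2-power order
  obtain ⟨c0, hc0⟩ := FiniteField.exists_nonsquare hF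
  have hc00 : c0 ≠ 0 := by
    rintro rfl
    exact hc0 ⟨0, by ring⟩
  have hc0h : c0 ^ (q / 2) = -1 := by
    have h3 := (FiniteField.pow_dichotomy hF hc00).resolve_left
      (fun h => hc0 ((FiniteField.isSquare_iff hF hc00).mpr h))
    rw [hq] at h3
    exact h3
  obtain ⟨w, hw⟩ : ∃ w : F, w = c0 ^ l := ⟨_, rfl⟩
  have hwh : w ^ (q / 2) = -1 := by
    rw [hw, ← pow_mul, mul_comm, pow_mul, hc0h, hlodd.neg_one_pow]
  have hws : w ^ s = 1 := by
    have h3 : l * s = (q - 1) * n' := by rw [hs, hql]; ring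
    rw [hw, ← pow_mul, h3, pow_mul, ← hq, FiniteField.pow_card_sub_one_eq_one c0 hc00, one_pow]
  -- `-1` is a square
  obtain ⟨i, hi⟩ : ∃ i : F, i * i = -1 := by
    obtain ⟨i, hi⟩ := Cfsg.Agent.Helper7.SubF.isSquare_of_mem_subfield F₀ 2 hqk hFodd even_two
      (-1 : F₀)
    refine ⟨i, ?_⟩
    rw [← hi]
    simp
  obtain ⟨z, hz⟩ : ∃ z : F, z = -w := ⟨_, rfl⟩
  have hzns : ¬ IsSquare z := by
    rintro ⟨y, hy⟩
    have hwsq : IsSquare w := ⟨i * y, by rw [hz] at hy; linear_combination (-1 : F) * hy - (y * y) * hi⟩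
    have hw0 : w ≠ 0 := by
      rintro h0
      rw [h0, zero_pow (by omega)] at hws
      exact zero_ne_one hws
    have h3 := (FiniteField.isSquare_iff hF hw0).mp hwsq
    rw [hq, hwh] at h3
    apply h2
    linear_combination -h3
  -- the matrix
  obtain ⟨M, hM⟩ : ∃ M : Matrix (Fin s ⊕ Fin s) (Fin s ⊕ Fin s) F,
      M = Matrix.fromBlocks (0 : Matrix (Fin s) (Fin s) F) (z • (1 : Matrix (Fin s) (Fin s) F))
        (1 : Matrix (Fin s) (Fin s) F) (0 : Matrix (Fin s) (Fin s) F) := ⟨_, rfl⟩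
  have hMdet : M.det = 1 := by
    rw [hM, det_antidiag, hz, neg_neg, hws]
  have hMM : M * M = z • (1 : Matrix (Fin s ⊕ Fin s) (Fin s ⊕ Fin s) F) := by
    rw [hM, Matrix.fromBlocks_multiply, ← Matrix.fromBlocks_one, Matrix.fromBlocks_smul]
    simp
  obtain ⟨σ, -⟩ : ∃ σ : Fin s ⊕ Fin s ≃ Fin n, σ = finSumFinEquiv.trans (finCongr hns.symm) :=
    ⟨_, rfl⟩
  obtain ⟨xm, hxm⟩ : ∃ xm : Matrix (Fin n) (Fin n) F, xm = M.submatrix σ.symm σ.symm :=
    ⟨_, rfl⟩
  have hxdet : xm.det = 1 := by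
    rw [hxm, Matrix.det_submatrix_equiv_self, hMdet]
  have hxx : xm * xm = z • (1 : Matrix (Fin n) (Fin n) F) := by
    rw [hxm, Matrix.submatrix_mul_equiv, hMM]
    ext i j
    simp [Matrix.submatrix_apply, Matrix.one_apply]
  obtain ⟨x, hx⟩ : ∃ x : Matrix.SpecialLinearGroup (Fin n) F, x = ⟨xm, hxdet⟩ := ⟨_, rfl⟩
  have hx1 : x.1 = xm := by rw [hx]
  refine ⟨x, ⟨z, ?_⟩, ?_, ?_⟩
  · rw [Matrix.SpecialLinearGroup.coe_pow, pow_two]
    show x.1 * x.1 = _
    rw [hx1, hxx]
  · intro c hc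
    have hc' : xm = c • (1 : Matrix (Fin n) (Fin n) F) := by rw [← hx1]; exact hc
    obtain ⟨i0, -⟩ : ∃ i0 : Fin s, i0 = ⟨0, hs0⟩ := ⟨_, rfl⟩
    have h3 := congrFun (congrFun hc' (σ (Sum.inr i0))) (σ (Sum.inl i0))
    have hne : σ (Sum.inr i0) ≠ σ (Sum.inl i0) := fun h => by
      have := σ.injective h
      simp at this
    rw [hxm, Matrix.submatrix_apply, Equiv.symm_apply_apply, Equiv.symm_apply_apply, hM,
      Matrix.fromBlocks_apply₂₁, Matrix.one_apply_eq, Matrix.smul_apply,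
      Matrix.one_apply_ne hne, smul_zero] at h3
    exact one_ne_zero h3
  · rintro ⟨P, hP⟩
    obtain ⟨M₀, μ, hμ, hcoe⟩ := Cfsg.Agent.Helper7.SubF.exists_of_mem_subfieldH F₀ _ hP
    obtain ⟨y, hy⟩ : ∃ y : Matrix.SpecialLinearGroup (Fin n) F, y = P⁻¹ * x * P := ⟨_, rfl⟩
    rw [← hy] at hcoe
    have hyy : y * y = P⁻¹ * (x * x) * P := by rw [hy]; group
    have h3 : y.1 * y.1 = z • (1 : Matrix (Fin n) (Fin n) F) := by
      have h4 : ((y * y : Matrix.SpecialLinearGroup (Fin n) F) : Matrix (Fin n) (Fin n) F) =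
          (P⁻¹ : Matrix.SpecialLinearGroup (Fin n) F).1 * (x.1 * x.1) * P.1 := by
        rw [hyy]; rfl
      have h5 : (P⁻¹ : Matrix.SpecialLinearGroup (Fin n) F).1 * P.1 = 1 := by
        have h6 : ((P⁻¹ * P : Matrix.SpecialLinearGroup (Fin n) F) :
            Matrix (Fin n) (Fin n) F) = 1 := by
          rw [inv_mul_cancel]; rfl
        exact h6
      have h7 : ((y * y : Matrix.SpecialLinearGroup (Fin n) F) : Matrix (Fin n) (Fin n) F) =
          y.1 * y.1 := rfl
      rw [← h7, h4, hx1, hxx, Matrix.mul_smul, Matrix.smul_mul, Matrix.mul_one, h5]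
    have hcoe' : y.1 = μ • M₀.map F₀.subtype := hcoe
    rw [hcoe', Matrix.smul_mul, Matrix.mul_smul, smul_smul, ← Matrix.map_mul] at h3
    obtain ⟨j0, -⟩ : ∃ j0 : Fin n, j0 = ⟨0, by omega⟩ := ⟨_, rfl⟩
    have h4 := congrFun (congrFun h3 j0) j0
    rw [Matrix.smul_apply, Matrix.map_apply, Matrix.smul_apply, Matrix.one_apply_eq,
      smul_eq_mul, smul_eq_mul, mul_one] at h4
    obtain ⟨b, hb⟩ := Cfsg.Agent.Helper7.SubF.isSquare_of_mem_subfield F₀ 2 hqk hFodd even_two
      ((M₀ * M₀) j0 j0)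
    apply hzns
    refine ⟨μ * b, ?_⟩
    rw [← h4]
    have hb' : F₀.subtype ((M₀ * M₀) j0 j0) = b * b := hb
    rw [hb']
    ring

theorem main {q : ℕ} (hq : Fintype.card F = q) (n : ℕ) (hn : 2 ≤ n) (F₀ : Subfield F)
    (k q₀ : ℕ) (hk : k.Prime) (hF₀ : Nat.card ↥F₀ = q₀) (hqk : q = q₀ ^ k)
    (hΩ : 2 ∣ ((subfieldSubgroup F₀ (1 : GL (Fin n) F)).comap
      (Matrix.SpecialLinearGroup.toGL :
        Matrix.SpecialLinearGroup (Fin n) F →* GL (Fin n) F)).index) :
    (∀ x : Matrix.SpecialLinearGroup (Fin n) F,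
      (∃ z : F, ((x ^ 2 : Matrix.SpecialLinearGroup (Fin n) F) : Matrix (Fin n) (Fin n) F) =
        z • (1 : Matrix (Fin n) (Fin n) F)) →
      (∀ z : F, (x : Matrix (Fin n) (Fin n) F) ≠ z • (1 : Matrix (Fin n) (Fin n) F)) →
      ∃ P : Matrix.SpecialLinearGroup (Fin n) F, P⁻¹ * x * P ∈
        (subfieldSubgroup F₀ (1 : GL (Fin n) F)).comap
          (Matrix.SpecialLinearGroup.toGL :
            Matrix.SpecialLinearGroup (Fin n) F →* GL (Fin n) F)) ↔
    (Odd q → (k = 2 ∧ padicValNat 2 n ≤ padicValNat 2 (q - 1))) := by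
  classical
  have hcard : Fintype.card F = Nat.card F₀ ^ k := by rw [hq, hqk, hF₀]
  have hn0 : n ≠ 0 := by omega
  constructor
  · intro hall hodd
    by_cases hk2 : k = 2
    · refine ⟨hk2, ?_⟩
      by_contra hlt
      push Not at hlt
      rw [hk2] at hcard
      obtain ⟨x, hx1, hx2, hx3⟩ := exists_derange hq hodd F₀ hcard n (by omega) hlt
      exact hx3 (hall x hx1 hx2)
    · exfalso
      have hkodd : Odd k := hk.odd_of_ne_two hk2
      exact index_odd n (by omega) F₀ k hkodd hcard (by rw [hq]; exact hodd) hΩ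
  · intro h x hx1 hx2
    by_cases h2 : (2 : F) = 0
    · exact conj_char_two h2 (by omega) F₀ x hx1
    · have hF : ringChar F ≠ 2 := by
        intro h3
        apply h2
        have h4 := ringChar.Nat.cast_ringChar (R := F)
        rw [h3] at h4
        exact_mod_cast h4
      have hodd : Odd q := by
        rw [← hq, Nat.odd_iff]
        exact FiniteField.odd_card_of_char_ne_two hF
      obtain ⟨hk2, hv⟩ := h hodd
      rw [hk2] at hcard
      obtain ⟨z, hz⟩ := hx1
      have hxx : x.1 * x.1 = z • (1 : Matrix (Fin n) (Fin n) F) := by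
        rw [← hz, pow_two]; rfl
      have hz0 : z ≠ 0 := by
        rintro rfl
        have : Nonempty (Fin n) := ⟨⟨0, by omega⟩⟩
        have h1 := congrArg Matrix.det hxx
        rw [Matrix.det_mul, x.2, zero_smul, Matrix.det_zero] at h1
        simp at h1
      by_cases hsq : IsSquare z
      · obtain ⟨c, hc⟩ := hsq
        have hc0 : c ≠ 0 := by
          rintro rfl
          rw [mul_zero] at hc
          exact hz0 hc
        rw [hc] at hxx
        exact conj_of_eigen h2 (by omega) F₀ x hc0 hxx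
      · exfalso
        obtain ⟨X, hX⟩ : ∃ X : (Fin n → F) →ₗ[F] (Fin n → F), X = Matrix.toLin' x.1 :=
          ⟨_, rfl⟩
        have hXX : ∀ v, X (X v) = z • v := by
          intro v
          rw [hX, Matrix.toLin'_apply, Matrix.toLin'_apply, Matrix.mulVec_mulVec, hxx,
            Matrix.smul_mulVec, Matrix.one_mulVec]
        obtain ⟨s, bas, hb1, hb2⟩ := Cfsg.Agent.Helper2.FSub.exists_cyclic_basis hz0 hXX hsq
        have hdet := det_of_cyclic bas X z hb1 hb2
        rw [hX, LinearMap.det_toLin', x.2] at hdet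
        have hns : n = s + s := by
          have h3 := finrank_eq_card_basis bas
          rw [Module.finrank_fintype_fun_eq_card, Fintype.card_fin, Fintype.card_sum,
            Fintype.card_fin] at h3
          exact h3
        have hFodd : Fintype.card F % 2 = 1 := FiniteField.odd_card_of_char_ne_two hF
        obtain ⟨i, hi⟩ : ∃ i : F, i * i = -1 := by
          obtain ⟨i, hi⟩ := Cfsg.Agent.Helper7.SubF.isSquare_of_mem_subfield F₀ 2 hcard hFodd
            even_two (-1 : F₀)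
          refine ⟨i, ?_⟩
          rw [← hi]
          simp
        have hwns : ¬ IsSquare (-z) := by
          rintro ⟨y, hy⟩
          exact hsq ⟨i * y, by linear_combination (-1 : F) * hy - (y * y) * hi⟩
        have hw0 : -z ≠ 0 := neg_ne_zero.mpr hz0
        have hwh : (-z) ^ (q / 2) = -1 := by
          have h3 := (FiniteField.pow_dichotomy hF hw0).resolve_left
            (fun h => hwns ((FiniteField.isSquare_iff hF hw0).mpr h))
          rw [hq] at h3
          exact h3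
        exact no_nonsq_root hq h2 hns (by omega) hv hdet.symm hwh

end Cfsg.Agent.Helper2.SubfInv
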