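import Mathlib
import Cfsg.Agent.Helper2.SympInvol
import Cfsg.Agent.Helper13.QuadWitt

/-! Discriminants of symmetric bilinear forms and half-dimensional totally isotropic subspaces. -/

set_option autoImplicit false

namespace Cfsg.Agent.Helper2.SymDisc

open Cfsg.Agent.Helper2.SympInvol Module

variable {F V : Type*} [Field F] [AddCommGroup V] [Module F V]

section gram

variable (B : LinearMap.BilinForm F V)

/-- Gram matrix of a family. -/
def gramMat {ι : Type*} (v : ι → V) : Matrix ι ι F := Matrix.of fun i j => B (v i) (v j)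

/-- Gram determinant of a family. -/
noncomputable def gramDet {ι : Type*} [Fintype ι] [DecidableEq ι] (v : ι → V) : F := (gramMat B v).det

theorem gramMat_change {ι : Type*} [Fintype ι] [DecidableEq ι] (v w : ι → V) (P : Matrix ι ι F)
    (hP : ∀ i, w i = ∑ j, P i j • v j) : gramMat B w = P * gramMat B v * P.transpose := by
  ext i k
  simp only [gramMat, Matrix.of_apply, Matrix.mul_apply, Matrix.transpose_apply]
  rw [hP i, hP k]
  simp only [map_sum, map_smul, LinearMap.sum_apply, LinearMap.smul_apply, smul_eq_mul,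
    Finset.sum_mul, Finset.mul_sum]
  refine Finset.sum_congr rfl fun j _ => Finset.sum_congr rfl fun l _ => ?_
  ring

theorem gramDet_change {ι : Type*} [Fintype ι] [DecidableEq ι] (v w : ι → V) (P : Matrix ι ι F)
    (hP : ∀ i, w i = ∑ j, P i j • v j) : gramDet B w = P.det ^ 2 * gramDet B v := by
  unfold gramDet
  rw [gramMat_change B v w P hP, Matrix.det_mul, Matrix.det_mul, Matrix.det_transpose]
  ring

theorem gramDet_reindex {ι κ : Type*} [Fintype ι] [DecidableEq ι] [Fintype κ] [DecidableEq κ]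
    (e : κ ≃ ι) (v : ι → V) : gramDet B (v ∘ e) = gramDet B v := by
  unfold gramDet
  have : gramMat B (v ∘ e) = (gramMat B v).submatrix e e := by
    ext i j; rfl
  rw [this, Matrix.det_submatrix_equiv_self]

theorem gramDet_sum {ι κ : Type*} [Fintype ι] [DecidableEq ι] [Fintype κ] [DecidableEq κ]
    (v : ι → V) (w : κ → V) (h : ∀ i j, B (v i) (w j) = 0) (h' : ∀ i j, B (w j) (v i) = 0) :
    gramDet B (Sum.elim v w) = gramDet B v * gramDet B w := by
  unfold gramDet
  have : gramMat B (Sum.elim v w) = Matrix.fromBlocks (gramMat B v) 0 0 (gramMat B w) := by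
    ext i j
    rcases i with i | i <;> rcases j with j | j <;> simp [gramMat, h, h']
  rw [this, Matrix.det_fromBlocks_zero₂₁]

end gram

section basisfam

/-- `v` is a basis family of the subspace `M`. -/
def IsBasisOf (M : Submodule F V) {ι : Type*} (v : ι → V) : Prop :=
  LinearIndependent F v ∧ Submodule.span F (Set.range v) = M

theorem IsBasisOf.mem {M : Submodule F V} {ι : Type*} {v : ι → V} (hv : IsBasisOf M v) (i : ι) :
    v i ∈ M := by
  rw [← hv.2]; exact Submodule.subset_span ⟨i, rfl⟩

theorem IsBasisOf.card_eq {M : Submodule F V} {ι : Type*} [Fintype ι] {v : ι → V}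
    (hv : IsBasisOf M v) : finrank F M = Fintype.card ι := by
  rw [← hv.2]; exact finrank_span_eq_card hv.1

theorem exists_isBasisOf (M : Submodule F V) [FiniteDimensional F M] :
    ∃ v : Fin (finrank F M) → V, IsBasisOf M v := by
  let b := Module.finBasis F M
  refine ⟨fun i => (b i : V), ?_, ?_⟩
  · have := b.linearIndependent.map' M.subtype (Submodule.ker_subtype M)
    exact this
  · have h1 : Set.range (fun i => (b i : V)) = M.subtype '' Set.range b := by
      rw [← Set.range_comp]; rfl
    rw [h1, Submodule.span_image, b.span_eq, Submodule.map_subtype_top]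

theorem exists_change {M : Submodule F V} {ι : Type*} [Fintype ι] [DecidableEq ι] {v w : ι → V}
    (hv : IsBasisOf M v) (hw : IsBasisOf M w) :
    ∃ P : Matrix ι ι F, (∀ i, w i = ∑ j, P i j • v j) ∧ P.det ≠ 0 := by
  have h1 : ∀ i, ∃ c : ι → F, ∑ j, c j • v j = w i := by
    intro i
    have : w i ∈ Submodule.span F (Set.range v) := by rw [hv.2]; exact hw.mem i
    exact (Submodule.mem_span_range_iff_exists_fun F).mp this
  have h2 : ∀ i, ∃ c : ι → F, ∑ j, c j • w j = v i := by
    intro i
    have : v i ∈ Submodule.span F (Set.range w) := by rw [hw.2]; exact hv.mem i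
    exact (Submodule.mem_span_range_iff_exists_fun F).mp this
  choose P hP using h1
  choose Q hQ using h2
  refine ⟨Matrix.of P, fun i => (hP i).symm, ?_⟩
  have hQP : Matrix.of Q * Matrix.of P = 1 := by
    ext i l
    have h3 : ∑ l, ((Matrix.of Q * Matrix.of P) i l - (1 : Matrix ι ι F) i l) • v l = 0 := by
      simp only [sub_smul, Finset.sum_sub_distrib, Matrix.mul_apply, Matrix.of_apply,
        Finset.sum_smul, Matrix.one_apply, ite_smul, one_smul, zero_smul, Finset.sum_ite_eq,
        Finset.mem_univ, if_true]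
      rw [sub_eq_zero, Finset.sum_comm]
      rw [← hQ i]
      refine Finset.sum_congr rfl fun j _ => ?_
      rw [← hP j, Finset.smul_sum]
      refine Finset.sum_congr rfl fun l _ => ?_
      rw [smul_smul]
    have := Fintype.linearIndependent_iff.mp hv.1 _ h3 l
    exact sub_eq_zero.mp this
  intro hdet
  have := congrArg Matrix.det hQP
  rw [Matrix.det_mul, hdet, mul_zero, Matrix.det_one] at this
  exact zero_ne_one this

theorem gramDet_rel (B : LinearMap.BilinForm F V) {M : Submodule F V} {ι κ : Type*} [Fintype ι]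
    [DecidableEq ι] [Fintype κ] [DecidableEq κ] {v : ι → V} {w : κ → V} (hv : IsBasisOf M v)
    (hw : IsBasisOf M w) : ∃ s : F, s ≠ 0 ∧ gramDet B w = s ^ 2 * gramDet B v := by
  have hcard : Fintype.card κ = Fintype.card ι := by rw [← hv.card_eq, ← hw.card_eq]
  let e : κ ≃ ι := Fintype.equivOfCardEq hcard
  have hve : IsBasisOf M (v ∘ e) := by
    refine ⟨hv.1.comp e e.injective, ?_⟩
    rw [Set.range_comp, Set.range_eq_univ.mpr e.surjective, Set.image_univ, hv.2]
  obtain ⟨P, hP, hdet⟩ := exists_change hve hw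
  exact ⟨P.det, hdet, by rw [gramDet_change B _ _ P hP, gramDet_reindex]⟩

end basisfam

section split

variable (B : LinearMap.BilinForm F V) (hS : ∀ u v, B u v = B v u)

include hS in
lemma sdecomp (M : Submodule F V) {x y : V} (hx : x ∈ M) (hy : y ∈ M) (hxx : B x x = 0)
    (hyy : B y y = 0) (hxy : B x y = 1) {m : V} (hm : m ∈ M) :
    ∃ m' ∈ perp2 B M x y, m = B m y • x + B m x • y + m' := by
  have hyx : B y x = 1 := by rw [hS, hxy]
  refine ⟨m - B m y • x - B m x • y, ⟨?_, ?_, ?_⟩, by abel⟩
  · exact M.sub_mem (M.sub_mem hm (M.smul_mem _ hx)) (M.smul_mem _ hy)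
  · simp only [map_sub, map_smul, LinearMap.sub_apply, LinearMap.smul_apply, smul_eq_mul, hxx, hyx]
    ring
  · simp only [map_sub, map_smul, LinearMap.sub_apply, LinearMap.smul_apply, smul_eq_mul, hyy, hxy]
    ring

include hS in
lemma nondeg_perp2_sym (M : Submodule F V) (hM : Nondeg B M) {x y : V} (hx : x ∈ M) (hy : y ∈ M)
    (hxx : B x x = 0) (hyy : B y y = 0) (hxy : B x y = 1) : Nondeg B (perp2 B M x y) := by
  intro m hm hm0
  obtain ⟨v, hv, hmv⟩ := hM m hm.1 hm0
  obtain ⟨v', hv', hveq⟩ := sdecomp B hS M hx hy hxx hyy hxy hv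
  refine ⟨v', hv', ?_⟩
  intro h0
  apply hmv
  rw [hveq]
  simp [hm.2.1, hm.2.2, h0]

include hS in
lemma exists_partner (h2 : (2 : F) ≠ 0) (M : Submodule F V) (hM : Nondeg B M) {x : V}
    (hx : x ∈ M) (hx0 : x ≠ 0) (hxx : B x x = 0) : ∃ y ∈ M, B y y = 0 ∧ B x y = 1 := by
  obtain ⟨y₀, hy₀, h0⟩ := hM x hx hx0
  set y₁ := (B x y₀)⁻¹ • y₀ with hy₁
  have h1 : B x y₁ = 1 := by
    rw [hy₁, map_smul, smul_eq_mul, inv_mul_cancel₀ h0]
  have hy₁M : y₁ ∈ M := M.smul_mem _ hy₀
  refine ⟨y₁ - (B y₁ y₁ / 2) • x, M.sub_mem hy₁M (M.smul_mem _ hx), ?_, ?_⟩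
  · have h1' : B y₁ x = 1 := by rw [hS, h1]
    simp only [map_sub, map_smul, LinearMap.sub_apply, LinearMap.smul_apply, smul_eq_mul, hxx, h1,
      h1']
    field_simp
    ring
  · simp only [map_sub, map_smul, smul_eq_mul, hxx, h1]
    ring

include hS in
lemma isBasisOf_sum (M : Submodule F V) {x y : V} (hx : x ∈ M) (hy : y ∈ M) (hxx : B x x = 0)
    (hyy : B y y = 0) (hxy : B x y = 1) {κ : Type*} {v' : κ → V}
    (hv' : IsBasisOf (perp2 B M x y) v') : IsBasisOf M (Sum.elim ![x, y] v') := by
  have hyx : B y x = 1 := by rw [hS, hxy]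
  constructor
  · apply LinearIndependent.sum_type
    · rw [LinearIndependent.pair_iff]
      intro a b hab
      have e1 := congrArg (fun z => B z y) hab
      have e2 := congrArg (fun z => B z x) hab
      simp only [map_add, map_smul, LinearMap.add_apply, LinearMap.smul_apply, smul_eq_mul, hxy,
        hyy, hxx, hyx, map_zero, LinearMap.zero_apply, mul_zero, mul_one, add_zero, zero_add]
        at e1 e2
      exact ⟨e1, e2⟩
    · exact hv'.1
    · rw [hv'.2, Submodule.disjoint_def]
      intro z hz hz'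
      obtain ⟨c, hc⟩ := (Submodule.mem_span_range_iff_exists_fun F).mp hz
      rw [Fin.sum_univ_two] at hc
      obtain ⟨a, b, rfl⟩ : ∃ a b : F, a • x + b • y = z := ⟨c 0, c 1, hc⟩
      have e1 := hz'.2.2
      have e2 := hz'.2.1
      simp only [map_add, map_smul, LinearMap.add_apply, LinearMap.smul_apply, smul_eq_mul, hxy,
        hyy, hxx, hyx, mul_zero, mul_one, add_zero, zero_add] at e1 e2
      rw [e1, e2]; simp
  · apply le_antisymm
    · rw [Submodule.span_le]
      rintro _ ⟨i, rfl⟩
      rcases i with i | i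
      · fin_cases i
        · exact hx
        · exact hy
      · exact (hv'.mem i).1
    · intro m hm
      obtain ⟨m', hm', hmeq⟩ := sdecomp B hS M hx hy hxx hyy hxy hm
      rw [hmeq]
      have hxs : x ∈ Submodule.span F (Set.range (Sum.elim ![x, y] v')) :=
        Submodule.subset_span ⟨Sum.inl 0, rfl⟩
      have hys : y ∈ Submodule.span F (Set.range (Sum.elim ![x, y] v')) :=
        Submodule.subset_span ⟨Sum.inl 1, rfl⟩
      have hms : m' ∈ Submodule.span F (Set.range (Sum.elim ![x, y] v')) := by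
        rw [← hv'.2] at hm'
        refine Submodule.span_mono ?_ hm'
        rintro _ ⟨i, rfl⟩
        exact ⟨Sum.inr i, rfl⟩
      exact Submodule.add_mem _ (Submodule.add_mem _ (Submodule.smul_mem _ _ hxs)
        (Submodule.smul_mem _ _ hys)) hms

include hS in
lemma gramDet_sum_hyp {x y : V} (hxx : B x x = 0) (hyy : B y y = 0) (hxy : B x y = 1)
    {κ : Type*} [Fintype κ] [DecidableEq κ] {v' : κ → V}
    (hv' : ∀ i, B (v' i) x = 0 ∧ B (v' i) y = 0) :
    gramDet B (Sum.elim ![x, y] v') = - gramDet B v' := by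
  have hyx : B y x = 1 := by rw [hS, hxy]
  rw [gramDet_sum]
  · have : gramDet B ![x, y] = -1 := by
      unfold gramDet
      rw [Matrix.det_fin_two]
      simp [gramMat, hxx, hyy, hxy, hyx]
    rw [this]; ring
  · intro i j
    fin_cases i
    · show B x (v' j) = 0; rw [hS]; exact (hv' j).1
    · show B y (v' j) = 0; rw [hS]; exact (hv' j).2
  · intro i j
    fin_cases i
    · exact (hv' j).1
    · exact (hv' j).2

end split

section main

variable [FiniteDimensional F V] (B : LinearMap.BilinForm F V) (hS : ∀ u v, B u v = B v u)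

lemma isSquare_sq_mul_iff {s t : F} (hs : s ≠ 0) : IsSquare (s ^ 2 * t) ↔ IsSquare t := by
  constructor
  · rintro ⟨r, hr⟩
    refine ⟨r / s, ?_⟩
    field_simp
    linear_combination hr
  · rintro ⟨r, rfl⟩
    exact ⟨s * r, by ring⟩

include hS in
/-- hyperbolic pair data extracted once for both directions -/
lemma split_data (h2 : (2 : F) ≠ 0) (M : Submodule F V) (hM : Nondeg B M) {x : V} (hx : x ∈ M)
    (hx0 : x ≠ 0) (hxx : B x x = 0) {ι : Type*} [Fintype ι] [DecidableEq ι] {v : ι → V}
    (hv : IsBasisOf M v) :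
    ∃ y ∈ M, B y y = 0 ∧ B x y = 1 ∧ Nondeg B (perp2 B M x y) ∧
      finrank F M = 2 + finrank F (perp2 B M x y) ∧
      ∀ {κ : Type} [Fintype κ] [DecidableEq κ] (v' : κ → V), IsBasisOf (perp2 B M x y) v' →
        ∃ s : F, s ≠ 0 ∧ gramDet B v = s ^ 2 * (- gramDet B v') := by
  obtain ⟨y, hy, hyy, hxy⟩ := exists_partner B hS h2 M hM hx hx0 hxx
  refine ⟨y, hy, hyy, hxy, nondeg_perp2_sym B hS M hM hx hy hxx hyy hxy, ?_, ?_⟩
  · obtain ⟨v', hv'⟩ := exists_isBasisOf (perp2 B M x y)
    have hu := isBasisOf_sum B hS M hx hy hxx hyy hxy hv'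
    rw [hu.card_eq]
    simp
  · intro κ _ _ v' hv'
    have hu := isBasisOf_sum B hS M hx hy hxx hyy hxy hv'
    obtain ⟨s, hs, hrel⟩ := gramDet_rel B hu hv
    refine ⟨s, hs, ?_⟩
    rw [hrel, gramDet_sum_hyp B hS hxx hyy hxy (fun i => (hv'.mem i).2)]

include hS in
theorem disc_of_ti (h2 : (2 : F) ≠ 0) : ∀ (m : ℕ) (M : Submodule F V), Nondeg B M →
    finrank F M = 2 * m → ∀ X : Submodule F V, X ≤ M → (∀ a ∈ X, ∀ b ∈ X, B a b = 0) →
    finrank F X = m → ∀ {ι : Type} [Fintype ι] [DecidableEq ι] (v : ι → V), IsBasisOf M v →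
    IsSquare ((-1) ^ m * gramDet B v) := by
  intro m
  induction m with
  | zero =>
    intro M _ hfin X _ _ _ ι _ _ v hv
    have hc : Fintype.card ι = 0 := by rw [← hv.card_eq, hfin]
    have : IsEmpty ι := Fintype.card_eq_zero_iff.mp hc
    unfold gramDet
    rw [Matrix.det_isEmpty]
    exact ⟨1, by ring⟩
  | succ m ih =>
    intro M hM hfin X hXM hX hXfin ι _ _ v hv
    have hXne : X ≠ ⊥ := by
      intro h; rw [h, finrank_bot] at hXfin; omega
    obtain ⟨x, hxX, hx0⟩ := Submodule.exists_mem_ne_zero_of_ne_bot hXne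
    have hxx : B x x = 0 := hX x hxX x hxX
    obtain ⟨y, hy, hyy, hxy, hM', hfin', hgram⟩ :=
      split_data B hS h2 M hM (hXM hxX) hx0 hxx hv
    set M' := perp2 B M x y
    have hfinM' : finrank F M' = 2 * m := by omega
    set X' := X ⊓ M'
    have hX'le : X' ≤ M' := inf_le_right
    have hX'ti : ∀ a ∈ X', ∀ b ∈ X', B a b = 0 := fun a ha b hb => hX a ha.1 b hb.1
    have hlt : X' < X := by
      refine lt_of_le_of_ne inf_le_left ?_
      intro h
      have : x ∈ X' := by rw [h]; exact hxX
      have h1 := this.2.2.2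
      rw [hxy] at h1
      exact one_ne_zero h1
    have hle : X ≤ X' ⊔ Submodule.span F {x} := by
      intro z hz
      have hz' : z - B z y • x ∈ X' := by
        refine ⟨X.sub_mem hz (X.smul_mem _ hxX), M.sub_mem (hXM hz) (M.smul_mem _ (hXM hxX)), ?_, ?_⟩
        · simp only [map_sub, map_smul, LinearMap.sub_apply, LinearMap.smul_apply, smul_eq_mul,
            hxx, hX z hz x hxX]
          ring
        · simp only [map_sub, map_smul, LinearMap.sub_apply, LinearMap.smul_apply, smul_eq_mul,
            hxy]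
          ring
      have : z = (z - B z y • x) + B z y • x := by abel
      rw [this]
      exact Submodule.add_mem_sup hz' (Submodule.smul_mem _ _ (Submodule.mem_span_singleton_self x))
    have hX'fin : finrank F X' = m := by
      have h1 := Submodule.finrank_lt_finrank_of_lt hlt
      have h2' := Submodule.finrank_mono hle
      have h3 := Submodule.finrank_add_le_finrank_add_finrank X' (Submodule.span F {x})
      have h4 : finrank F (Submodule.span F {x}) = 1 := finrank_span_singleton hx0
      omega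
    obtain ⟨v', hv'⟩ := exists_isBasisOf M'
    have hIH := ih M' hM' hfinM' X' hX'le hX'ti hX'fin v' hv'
    obtain ⟨s, hs, hrel⟩ := hgram v' hv'
    rw [hrel]
    have : (-1 : F) ^ (m + 1) * (s ^ 2 * -gramDet B v') = s ^ 2 * ((-1) ^ m * gramDet B v') := by
      ring
    rw [this]
    exact (isSquare_sq_mul_iff hs).mpr hIH

include hS in
lemma exists_isotropic_two (h2 : (2 : F) ≠ 0) (M : Submodule F V) (hfin : finrank F M = 2)
    {ι : Type} [Fintype ι] [DecidableEq ι] (v : ι → V) (hv : IsBasisOf M v)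
    (hsq : IsSquare (-gramDet B v)) : ∃ x ∈ M, x ≠ 0 ∧ B x x = 0 := by
  have hc : Fintype.card ι = 2 := by rw [← hv.card_eq, hfin]
  let e : Fin 2 ≃ ι := (Fintype.equivFinOfCardEq hc).symm
  have hdet : gramDet B v = B (v (e 0)) (v (e 0)) * B (v (e 1)) (v (e 1))
      - B (v (e 0)) (v (e 1)) * B (v (e 0)) (v (e 1)) := by
    rw [← gramDet_reindex B e v]
    unfold gramDet
    rw [Matrix.det_fin_two]
    simp only [gramMat, Matrix.of_apply, Function.comp]
    rw [hS (v (e 1)) (v (e 0))]
  set a := B (v (e 0)) (v (e 0))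
  set b := B (v (e 0)) (v (e 1))
  set c := B (v (e 1)) (v (e 1))
  obtain ⟨s, hs⟩ := hsq
  have hli := hv.1
  have hne : e 0 ≠ e 1 := by
    intro h; have := e.injective h; simp at this
  by_cases ha : a = 0
  · exact ⟨v (e 0), hv.mem _, hli.ne_zero _, ha⟩
  · refine ⟨((-b + s) / a) • v (e 0) + v (e 1),
      M.add_mem (M.smul_mem _ (hv.mem _)) (hv.mem _), ?_, ?_⟩
    · intro h0
      have h1 := Fintype.linearIndependent_iff.mp hli
        (fun i => if i = e 0 then (-b + s) / a else if i = e 1 then 1 else 0) ?_ (e 1)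
      · simp [hne.symm] at h1
      · rw [← h0]
        rw [Finset.sum_eq_add (e 0) (e 1) hne]
        · simp [hne.symm]
        · intro i _ hi
          simp [hi.1, hi.2]
        · intro h; exact absurd (Finset.mem_univ _) h
        · intro h; exact absurd (Finset.mem_univ _) h
    · simp only [map_add, map_smul, LinearMap.add_apply, LinearMap.smul_apply, smul_eq_mul]
      rw [hS (v (e 1)) (v (e 0))]
      show (-b + s) / a * ((-b + s) / a * a + b) + ((-b + s) / a * b + c) = 0
      field_simp
      rw [hdet] at hs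
      linear_combination -hs

include hS in
lemma exists_isotropic [Finite F] (h2 : (2 : F) ≠ 0) (M : Submodule F V) (m : ℕ)
    (hfin : finrank F M = 2 * (m + 1))
    {ι : Type} [Fintype ι] [DecidableEq ι] (v : ι → V) (hv : IsBasisOf M v)
    (hsq : IsSquare ((-1) ^ (m + 1) * gramDet B v)) : ∃ x ∈ M, x ≠ 0 ∧ B x x = 0 := by
  rcases Nat.eq_zero_or_pos m with hm | hm
  · subst hm
    refine exists_isotropic_two B hS h2 M (by omega) v hv ?_
    simpa using hsq
  · let Q : QuadraticForm F M := (LinearMap.BilinMap.toQuadraticMap B).comp M.subtype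
    obtain ⟨z, hz0, hz⟩ := Cfsg.Agent.Helper13.exists_singular Q (by omega)
    refine ⟨z.1, z.2, fun h => hz0 (Subtype.ext h), ?_⟩
    simpa [Q] using hz

include hS in
theorem ti_of_disc [Finite F] (h2 : (2 : F) ≠ 0) : ∀ (m : ℕ) (M : Submodule F V), Nondeg B M →
    finrank F M = 2 * m → ∀ {ι : Type} [Fintype ι] [DecidableEq ι] (v : ι → V), IsBasisOf M v →
    IsSquare ((-1) ^ m * gramDet B v) →
    ∃ X : Submodule F V, X ≤ M ∧ (∀ a ∈ X, ∀ b ∈ X, B a b = 0) ∧ finrank F X = m := by
  intro m
  induction m with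
  | zero =>
    intro M _ _ ι _ _ v _ _
    exact ⟨⊥, bot_le, fun a ha b _ => by rw [(Submodule.mem_bot F).mp ha]; simp, finrank_bot F V⟩
  | succ m ih =>
    intro M hM hfin ι _ _ v hv hsq
    obtain ⟨x, hxM, hx0, hxx⟩ := exists_isotropic B hS h2 M m hfin v hv hsq
    obtain ⟨y, hy, hyy, hxy, hM', hfin', hgram⟩ := split_data B hS h2 M hM hxM hx0 hxx hv
    set M' := perp2 B M x y
    have hfinM' : finrank F M' = 2 * m := by omega
    obtain ⟨v', hv'⟩ := exists_isBasisOf M'
    obtain ⟨s, hs, hrel⟩ := hgram v' hv'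
    have hsq' : IsSquare ((-1) ^ m * gramDet B v') := by
      rw [hrel] at hsq
      have : (-1 : F) ^ (m + 1) * (s ^ 2 * -gramDet B v') = s ^ 2 * ((-1) ^ m * gramDet B v') := by
        ring
      rw [this] at hsq
      exact (isSquare_sq_mul_iff hs).mp hsq
    obtain ⟨X', hX'le, hX'ti, hX'fin⟩ := ih M' hM' hfinM' v' hv' hsq'
    refine ⟨Submodule.span F {x} ⊔ X', ?_, ?_, ?_⟩
    · exact sup_le ((Submodule.span_singleton_le_iff_mem x M).mpr hxM)
        (hX'le.trans (perp2_le B M x y))
    · intro a ha b hb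
      obtain ⟨a1, ha1, a2, ha2, rfl⟩ := Submodule.mem_sup.mp ha
      obtain ⟨b1, hb1, b2, hb2, rfl⟩ := Submodule.mem_sup.mp hb
      obtain ⟨α, rfl⟩ := Submodule.mem_span_singleton.mp ha1
      obtain ⟨β, rfl⟩ := Submodule.mem_span_singleton.mp hb1
      have e1 : B a2 x = 0 := (hX'le ha2).2.1
      have e2 : B x b2 = 0 := by rw [hS]; exact (hX'le hb2).2.1
      simp only [map_add, map_smul, LinearMap.add_apply, LinearMap.smul_apply, smul_eq_mul, hxx,
        e1, e2, hX'ti a2 ha2 b2 hb2]
      ring
    · have hlt : X' < Submodule.span F {x} ⊔ X' := by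
        refine lt_of_le_of_ne le_sup_right ?_
        intro h
        have : x ∈ X' := by
          rw [h]; exact Submodule.mem_sup_left (Submodule.mem_span_singleton_self x)
        have h1 := (hX'le this).2.2
        rw [hxy] at h1
        exact one_ne_zero h1
      have h1 := Submodule.finrank_lt_finrank_of_lt hlt
      have h3 := Submodule.finrank_add_le_finrank_add_finrank (Submodule.span F {x}) X'
      have h4 : finrank F (Submodule.span F {x}) = 1 := finrank_span_singleton hx0
      omega

end main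

section top

variable [FiniteDimensional F V] (B : LinearMap.BilinForm F V)

theorem nondeg_top (hB : B.Nondegenerate) : Nondeg B ⊤ := by
  intro m _ hm0
  by_contra h
  push Not at h
  exact hm0 (hB.1 m (fun v => h v trivial))

theorem isBasisOf_top {ι : Type*} (b : Basis ι F V) : IsBasisOf (⊤ : Submodule F V) b :=
  ⟨b.linearIndependent, b.span_eq⟩

theorem gramDet_ortho {ι : Type*} [Fintype ι] [DecidableEq ι] (b : ι → V)
    (hO : ∀ i j, i ≠ j → B (b i) (b j) = 0) : gramDet B b = ∏ i, B (b i) (b i) := by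
  unfold gramDet
  have : gramMat B b = Matrix.diagonal fun i => B (b i) (b i) := by
    ext i j
    by_cases hij : i = j
    · subst hij; simp [gramMat]
    · simp [gramMat, Matrix.diagonal_apply_ne _ hij, hO i j hij]
  rw [this, Matrix.det_diagonal]

/-- A half-dimensional totally isotropic subspace forces the signed discriminant to be a square. -/
theorem isSquare_of_ti (h2 : (2 : F) ≠ 0) (hS : B.IsSymm) (hB : B.Nondegenerate) {m : ℕ}
    (hfin : finrank F V = 2 * m) (X : Submodule F V) (hX : ∀ a ∈ X, ∀ b ∈ X, B a b = 0)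
    (hXfin : finrank F X = m) {ι : Type} [Fintype ι] [DecidableEq ι] (b : Basis ι F V) :
    IsSquare ((-1) ^ m * gramDet B b) :=
  disc_of_ti B hS.eq h2 m ⊤ (nondeg_top B hB) (by rw [finrank_top]; exact hfin) X le_top hX hXfin b
    (isBasisOf_top b)

/-- Over a finite field, a square signed discriminant yields a half-dimensional totally isotropic
subspace. -/
theorem exists_ti_of_isSquare [Finite F] (h2 : (2 : F) ≠ 0) (hS : B.IsSymm) (hB : B.Nondegenerate)
    {m : ℕ} (hfin : finrank F V = 2 * m) {ι : Type} [Fintype ι] [DecidableEq ι] (b : Basis ι F V)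
    (hsq : IsSquare ((-1) ^ m * gramDet B b)) :
    ∃ X : Submodule F V, finrank F X = m ∧ ∀ a ∈ X, ∀ b ∈ X, B a b = 0 := by
  obtain ⟨X, -, hX, hXfin⟩ := ti_of_disc B hS.eq h2 m ⊤ (nondeg_top B hB)
    (by rw [finrank_top]; exact hfin) b (isBasisOf_top b) hsq
  exact ⟨X, hXfin, hX⟩

end top

end Cfsg.Agent.Helper2.SymDisc
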