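import Mathlib
import Cfsg.Agent.Helper2.SymDisc

/-! Discriminant of a tensor product of symmetric bilinear forms. -/

set_option autoImplicit false

namespace Cfsg.Agent.Helper2.SymDisc

open Module TensorProduct

variable {F U W : Type*} [Field F] [AddCommGroup U] [Module F U] [FiniteDimensional F U]
  [AddCommGroup W] [Module F W] [FiniteDimensional F W]

theorem tensor_data (h2 : (2 : F) ≠ 0) (B₁ : LinearMap.BilinForm F U) (B₂ : LinearMap.BilinForm F W)
    (h₁ : B₁.Nondegenerate) (h₂ : B₂.Nondegenerate) (hS₁ : B₁.IsSymm) (hS₂ : B₂.IsSymm) :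
    ∃ (b : Basis (Fin (finrank F U)) F U) (c : Basis (Fin (finrank F W)) F W),
      LinearMap.BilinForm.IsSymm (B₁.tmul B₂) ∧ (B₁.tmul B₂).Nondegenerate ∧
      gramDet (B₁.tmul B₂) (b.tensorProduct c)
        = (gramDet B₁ b) ^ (finrank F W) * (gramDet B₂ c) ^ (finrank F U) ∧
      gramDet B₁ b ≠ 0 ∧ gramDet B₂ c ≠ 0 := by
  have : Invertible (2 : F) := invertibleOfNonzero h2
  obtain ⟨b, hb⟩ := LinearMap.BilinForm.exists_orthogonal_basis (LinearMap.BilinForm.isSymm_iff.mp hS₁)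
  obtain ⟨c, hc⟩ := LinearMap.BilinForm.exists_orthogonal_basis (LinearMap.BilinForm.isSymm_iff.mp hS₂)
  have ha : ∀ i, B₁ (b i) (b i) ≠ 0 := hb.not_isOrtho_basis_self_of_separatingLeft h₁.1
  have hd : ∀ j, B₂ (c j) (c j) ≠ 0 := hc.not_isOrtho_basis_self_of_separatingLeft h₂.1
  have hg₁ : gramDet B₁ b = ∏ i, B₁ (b i) (b i) := gramDet_ortho B₁ b (fun i j hij => hb hij)
  have hg₂ : gramDet B₂ c = ∏ j, B₂ (c j) (c j) := gramDet_ortho B₂ c (fun i j hij => hc hij)
  have hT : ∀ p q : Fin (finrank F U) × Fin (finrank F W),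
      (B₁.tmul B₂) (b.tensorProduct c p) (b.tensorProduct c q)
        = B₂ (c p.2) (c q.2) * B₁ (b p.1) (b q.1) := by
    intro p q
    rw [Basis.tensorProduct_apply', Basis.tensorProduct_apply']
    rfl
  have hO : ∀ p q : Fin (finrank F U) × Fin (finrank F W), p ≠ q →
      (B₁.tmul B₂) (b.tensorProduct c p) (b.tensorProduct c q) = 0 := by
    intro p q hpq
    rw [hT]
    by_cases h1 : p.1 = q.1
    · have h2' : p.2 ≠ q.2 := fun h => hpq (Prod.ext h1 h)
      rw [hc h2', zero_mul]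
    · rw [hb h1, mul_zero]
  have hne : ∀ p : Fin (finrank F U) × Fin (finrank F W),
      (B₁.tmul B₂) (b.tensorProduct c p) (b.tensorProduct c p) ≠ 0 := by
    intro p
    rw [hT]
    exact mul_ne_zero (hd _) (ha _)
  refine ⟨b, c, LinearMap.BilinForm.isSymm_iff.mpr (LinearMap.IsSymm.tmul (LinearMap.BilinForm.isSymm_iff.mp hS₁) (LinearMap.BilinForm.isSymm_iff.mp hS₂)), ?_, ?_, ?_, ?_⟩
  · exact LinearMap.IsOrthoᵢ.nondegenerate_of_not_isOrtho_basis_self (b.tensorProduct c)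
      (fun p q hpq => hO p q hpq) hne
  · rw [gramDet_ortho (B₁.tmul B₂) _ hO, hg₁, hg₂, Fintype.prod_prod_type]
    simp_rw [hT, Finset.prod_mul_distrib, Finset.prod_const, Finset.card_univ, Fintype.card_fin]
    rw [Finset.prod_pow]
    ring
  · rw [hg₁]; exact Finset.prod_ne_zero_iff.mpr (fun i _ => ha i)
  · rw [hg₂]; exact Finset.prod_ne_zero_iff.mpr (fun i _ => hd i)

end Cfsg.Agent.Helper2.SymDisc
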