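import Mathlib
import Cfsg.Agent.Helper2.SzOrder
import Cfsg.Agent.Helper2.SL2Cyclic

/-! Sylow `p`-subgroups of the Suzuki groups for odd `p` are cyclic. -/

set_option autoImplicit false
set_option linter.unusedSectionVars false
set_option linter.unusedVariables false

namespace Cfsg.Agent.Helper2.SzO

open Matrix

variable {F : Type*} [Field F] [Fintype F]

/-- Singer cycle: `GL_n(q)` has an element of order `q^n - 1`. -/
theorem exists_GL_orderOf (p : ℕ) [Fact p.Prime] [CharP F p] (n : ℕ) [NeZero n] :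
    ∃ Y : GL (Fin n) F, orderOf Y = Fintype.card F ^ n - 1 := by
  classical
  let K := FiniteField.Extension F p n
  let b : Module.Basis (Fin n) F K :=
    Module.finBasisOfFinrankEq F K (FiniteField.finrank_extension F p n)
  let φ : K →ₐ[F] Matrix (Fin n) (Fin n) F := Algebra.leftMulMatrix b
  have hφ : Function.Injective φ := Algebra.leftMulMatrix_injective b
  obtain ⟨ζ, hζ⟩ := IsCyclic.exists_generator (α := Kˣ)
  have hordζ : orderOf ζ = Fintype.card F ^ n - 1 := by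
    rw [orderOf_eq_card_of_forall_mem_zpowers hζ, Nat.card_units,
      FiniteField.natCard_extension, Nat.card_eq_fintype_card]
  let ψ : Kˣ →* GL (Fin n) F := Units.map (φ : K →* Matrix (Fin n) (Fin n) F)
  have hψ : Function.Injective ψ := by
    intro x y hxy
    apply Units.ext
    apply hφ
    exact congrArg Units.val hxy
  exact ⟨ψ ζ, by rw [orderOf_injective ψ hψ, hordζ]⟩

theorem zmod_facts {p q : ℕ} [Fact p.Prime] (hp2 : p ≠ 2) (hq1 : 1 ≤ q) (hp : p ∣ q ^ 2 + 1) :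
    ¬ p ∣ q ∧ ¬ p ∣ q - 1 ∧ ¬ p ∣ q ^ 2 - 1 ∧ ¬ p ∣ q ^ 3 - 1 := by
  have hpp : p.Prime := Fact.out
  have h : ((q : ZMod p)) ^ 2 = -1 := by
    have := (ZMod.natCast_eq_zero_iff (q ^ 2 + 1) p).mpr hp
    push_cast at this
    linear_combination this
  have h2 : (2 : ZMod p) ≠ 0 := by
    intro h2
    have : ((2 : ℕ) : ZMod p) = 0 := by exact_mod_cast h2
    rw [ZMod.natCast_eq_zero_iff] at this
    exact hp2 ((Nat.prime_dvd_prime_iff_eq hpp Nat.prime_two).mp this)
  have hq2 : 1 ≤ q ^ 2 := Nat.one_le_pow _ _ hq1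
  have hq3 : 1 ≤ q ^ 3 := Nat.one_le_pow _ _ hq1
  refine ⟨?_, ?_, ?_, ?_⟩
  · intro hd
    have h0 := (ZMod.natCast_eq_zero_iff q p).mpr hd
    rw [h0] at h
    apply h2
    linear_combination (2 : ZMod p) * h
  · intro hd
    have h0 := (ZMod.natCast_eq_zero_iff (q - 1) p).mpr hd
    rw [Nat.cast_sub hq1] at h0
    push_cast at h0
    apply h2
    linear_combination (1 : ZMod p) * h - ((q : ZMod p) + 1) * h0
  · intro hd
    have h0 := (ZMod.natCast_eq_zero_iff (q ^ 2 - 1) p).mpr hd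
    rw [Nat.cast_sub hq2] at h0
    push_cast at h0
    apply h2
    linear_combination (1 : ZMod p) * h - h0
  · intro hd
    have h0 := (ZMod.natCast_eq_zero_iff (q ^ 3 - 1) p).mpr hd
    rw [Nat.cast_sub hq3] at h0
    push_cast at h0
    apply h2
    linear_combination (1 - (q : ZMod p) ^ 2 + (q : ZMod p)) * h + ((q : ZMod p) - 1) * h0


/-- if the odd prime `p` divides `q^2 + 1`, every `p`-subgroup of `GL₄(q)` is cyclic -/
theorem isCyclic_of_isPGroup_GL4 {q : ℕ} (hF : Fintype.card F = q) {p : ℕ} [Fact p.Prime]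
    (hp2 : p ≠ 2) (hp : p ∣ q ^ 2 + 1) (H : Subgroup (GL (Fin 4) F)) (hH : IsPGroup p H) :
    IsCyclic H := by
  classical
  have hpp : p.Prime := Fact.out
  have hq2 : 2 ≤ q := by rw [← hF]; exact Fintype.one_lt_card
  obtain ⟨hn0, hn1, hn2, hn3⟩ := zmod_facts hp2 (by omega) hp
  obtain ⟨r, hr⟩ := CharP.exists F
  have : Fact r.Prime := ⟨CharP.char_is_prime F r⟩
  obtain ⟨Y, hY⟩ := exists_GL_orderOf (F := F) r 4
  obtain ⟨R, hR⟩ := hH.exists_le_sylow
  set v := (Nat.card (GL (Fin 4) F)).factorization p with hv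
  have hdvd : p ^ v ∣ (q ^ 4 - 1) * ((q * (q ^ 3 - 1)) * ((q ^ 2 * (q ^ 2 - 1)) * (q ^ 3 * (q - 1)))) := by
    have h1 : p ^ v ∣ Nat.card (GL (Fin 4) F) := Nat.ordProj_dvd _ _
    rw [Matrix.card_GL_field, hF] at h1
    simp only [Fin.prod_univ_four, Fin.val_zero, Fin.val_one, Fin.val_two, pow_zero, pow_one] at h1
    have e1 : q ^ 4 - q = q * (q ^ 3 - 1) := by
      rw [Nat.mul_sub, mul_one]; congr 1; ring
    have e2 : q ^ 4 - q ^ 2 = q ^ 2 * (q ^ 2 - 1) := by
      rw [Nat.mul_sub, mul_one]; congr 1; ring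
    have e3 : q ^ 4 - q ^ 3 = q ^ 3 * (q - 1) := by
      rw [Nat.mul_sub, mul_one]; congr 1
    have e4 : ((3 : Fin 4) : ℕ) = 3 := rfl
    rw [e4, e1, e2, e3] at h1
    convert h1 using 1
    ring
  have cop : ∀ {a : ℕ}, ¬ p ∣ a → Nat.Coprime (p ^ v) a := fun h =>
    Nat.Coprime.pow_left _ ((Nat.Prime.coprime_iff_not_dvd hpp).mpr h)
  have hc : Nat.Coprime (p ^ v) ((q * (q ^ 3 - 1)) * ((q ^ 2 * (q ^ 2 - 1)) * (q ^ 3 * (q - 1)))) := by
    apply Nat.Coprime.mul_right
    · exact (cop hn0).mul_right (cop hn3)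
    · apply Nat.Coprime.mul_right
      · exact ((cop hn0).pow_right 2).mul_right (cop hn2)
      · exact ((cop hn0).pow_right 3).mul_right (cop hn1)
  have h4 : p ^ v ∣ q ^ 4 - 1 := hc.dvd_of_dvd_mul_right hdvd
  have : IsCyclic R := by
    refine SL2C.isCyclic_sylow_of_subgroup (Subgroup.zpowers Y) ?_ R
    rw [Nat.card_zpowers, hY, hF]
    exact h4
  exact isCyclic_of_injective (Subgroup.inclusion hR) (Subgroup.inclusion_injective hR)

theorem isCyclic_sylow_odd {m : ℕ} (hm : 1 ≤ m) (hF : Fintype.card F = 2 ^ (2 * m + 1))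
    {p : ℕ} [Fact p.Prime] (hp : p ≠ 2) (P : Sylow p (Cfsg.Sz F m)) : IsCyclic P := by
  classical
  have hpp : p.Prime := Fact.out
  obtain ⟨q, hq⟩ : ∃ q, q = 2 ^ (2 * m + 1) := ⟨_, rfl⟩
  have hq2 : 2 ≤ q := by
    rw [hq]
    calc 2 = 2 ^ 1 := by norm_num
      _ ≤ 2 ^ (2 * m + 1) := Nat.pow_le_pow_right (by norm_num) (by omega)
  have hcard : Nat.card (Cfsg.Sz F m) = q ^ 2 * (q ^ 2 + 1) * (q - 1) := by
    rw [card_Sz hF hm, hq]
  have hpq : ¬ p ∣ q := by
    intro h
    rw [hq] at h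
    have := hpp.dvd_of_dvd_pow h
    exact hp ((Nat.prime_dvd_prime_iff_eq hpp Nat.prime_two).mp this)
  set v := (Nat.card (Cfsg.Sz F m)).factorization p with hv
  have hdvd : p ^ v ∣ q ^ 2 * (q ^ 2 + 1) * (q - 1) := by
    rw [← hcard]; exact Nat.ordProj_dvd _ _
  have cop : ∀ {a : ℕ}, ¬ p ∣ a → Nat.Coprime (p ^ v) a := fun h =>
    Nat.Coprime.pow_left _ ((Nat.Prime.coprime_iff_not_dvd hpp).mpr h)
  by_cases h1 : p ∣ q ^ 2 + 1
  · -- embed in `GL₄`
    let f : P →* GL (Fin 4) F :=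
      (Matrix.SpecialLinearGroup.toGL).comp ((Cfsg.Sz F m).subtype.comp (P : Subgroup (Cfsg.Sz F m)).subtype)
    have hf : Function.Injective f := by
      intro x y hxy
      apply Subtype.ext
      apply Subtype.ext
      apply Subtype.ext
      have := congrArg (fun g : GL (Fin 4) F => (g : Matrix (Fin 4) (Fin 4) F)) hxy
      exact this
    have hPp : IsPGroup p P := P.isPGroup'
    have hrange : IsPGroup p f.range := hPp.of_surjective f.rangeRestrict f.rangeRestrict_surjective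
    have : IsCyclic f.range := isCyclic_of_isPGroup_GL4 (by rw [hF, hq]) hp h1 f.range hrange
    exact isCyclic_of_injective f.rangeRestrict (by
      intro x y hxy
      exact hf (congrArg Subtype.val hxy))
  · -- use the torus
    have h2 : p ^ v ∣ q - 1 := by
      have hc : Nat.Coprime (p ^ v) (q ^ 2 * (q ^ 2 + 1)) :=
        ((cop hpq).pow_right 2).mul_right (cop h1)
      exact hc.dvd_of_dvd_mul_left hdvd
    obtain ⟨ζ, hζ⟩ := IsCyclic.exists_generator (α := Fˣ)
    have hordζ : orderOf ζ = q - 1 := by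
      rw [orderOf_eq_card_of_forall_mem_zpowers hζ, Nat.card_units, Nat.card_eq_fintype_card, hF, hq]
    let d : Cfsg.Sz F m := ⟨D m ζ, D_mem hF ζ⟩
    have hord : orderOf d = q - 1 := by
      rw [← hordζ]
      have e1 : orderOf d = orderOf (D m ζ) := Subgroup.orderOf_mk (D m ζ) (D_mem hF ζ)
      rw [e1]
      exact orderOf_injective (DHom m) D_injective ζ
    refine SL2C.isCyclic_sylow_of_subgroup (Subgroup.zpowers d) ?_ P
    rw [Nat.card_zpowers, hord]
    exact h2

end Cfsg.Agent.Helper2.SzO
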