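import Cfsg.Agent.Helper2.Isolated
import Cfsg.Agent.S0208

set_option autoImplicit false

namespace Cfsg.Agent.Helper2

open Pointwise

section
variable {G : Type*} [Group G] [Finite G]

omit [Finite G] in
theorem conj_mem_smul_sylow {p : ℕ} (Q : Sylow p G) (g x : G) (hx : x ∈ Q) :
    g * x * g⁻¹ ∈ g • Q := by
  show g * x * g⁻¹ ∈ ((g • Q : Sylow p G) : Subgroup G)
  rw [Sylow.coe_subgroup_smul, Subgroup.mem_pointwise_smul_iff_inv_smul_mem]
  have hx' : x ∈ (Q : Subgroup G) := hx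
  simpa [MulAut.smul_def, mul_assoc] using hx'

/-- in a TI situation, involutions in distinct Sylow 2-subgroups are conjugate -/
theorem ti_conj_of_ne (hTI : ∀ Q1 Q2 : Sylow 2 G, Q1 ≠ Q2 → (Q1 : Subgroup G) ⊓ Q2 = ⊥)
    (Q1 Q2 : Sylow 2 G) (hne : Q1 ≠ Q2) (s t : G) (hs : orderOf s = 2) (ht : orderOf t = 2)
    (hsQ : s ∈ Q1) (htQ : t ∈ Q2) : IsConj s t := by
  have : Fact (Nat.Prime 2) := ⟨Nat.prime_two⟩
  have hs2 := mul_self_of_orderOf_two hs
  have ht2 := mul_self_of_orderOf_two ht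
  rcases Nat.even_or_odd (orderOf (s * t)) with heven | hodd
  · exfalso
    obtain ⟨hz, hzs, hzt⟩ := invol_half_pow hs2 ht2 (orderOf_pos _) heven
    set z := (s * t) ^ (orderOf (s * t) / 2) with hzdef
    have hz2 := mul_self_of_orderOf_two hz
    -- z lies in any Sylow containing an involution commuting with it
    have key : ∀ (Q : Sylow 2 G) (r : G), orderOf r = 2 → r ∈ Q → Commute z r → z ∈ Q := by
      intro Q r hr hrQ hzr
      have hr2 := mul_self_of_orderOf_two hr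
      have hpow : (z * r) ^ (2 ^ 1) = 1 := by
        rw [pow_one, pow_two, mul_assoc, ← mul_assoc r, ← hzr.eq, mul_assoc, hr2, mul_one, hz2]
      have hK := isPGroup_closure_invol_pair hz2 hr2 1 hpow
      obtain ⟨Q', hQ'⟩ := hK.exists_le_sylow
      have hzm : z ∈ Q' := hQ' (Subgroup.subset_closure (by simp))
      have hrm : r ∈ Q' := hQ' (Subgroup.subset_closure (by simp))
      have : Q' = Q := by
        by_contra hne'
        have := hTI Q' Q hne'
        have hmem : r ∈ (Q' : Subgroup G) ⊓ Q := ⟨hrm, hrQ⟩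
        rw [this, Subgroup.mem_bot] at hmem
        exact ne_one_of_orderOf_two hr hmem
      rw [← this]; exact hzm
    have h1 := key Q1 s hs hsQ hzs
    have h2 := key Q2 t ht htQ hzt
    have hmem : z ∈ (Q1 : Subgroup G) ⊓ Q2 := ⟨h1, h2⟩
    rw [hTI Q1 Q2 hne, Subgroup.mem_bot] at hmem
    exact ne_one_of_orderOf_two hz hmem
  · obtain ⟨d, -, hd⟩ := Cfsg.Agent.S0208.result s t hs ht hodd
    exact isConj_iff.mpr ⟨d, hd⟩

theorem ti_one_class (T : Sylow 2 G) (hnn : ¬ (T : Subgroup G).Normal)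
    (hTI : ∀ g : G, MulAut.conj g • (T : Subgroup G) ≠ T → MulAut.conj g • (T : Subgroup G) ⊓ T = ⊥)
    (s t : G) (hs : orderOf s = 2) (ht : orderOf t = 2) : IsConj s t := by
  have : Fact (Nat.Prime 2) := ⟨Nat.prime_two⟩
  -- TI property for all pairs of Sylow subgroups
  have hTI' : ∀ Q1 Q2 : Sylow 2 G, Q1 ≠ Q2 → (Q1 : Subgroup G) ⊓ Q2 = ⊥ := by
    intro Q1 Q2 hne
    obtain ⟨g1, rfl⟩ := MulAction.exists_smul_eq G T Q1
    obtain ⟨g2, rfl⟩ := MulAction.exists_smul_eq G T Q2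
    have hne' : (g2⁻¹ * g1) • T ≠ T := by
      intro h
      apply hne
      rw [mul_smul] at h
      have := congrArg (g2 • ·) h
      simpa using this
    have hne'' : MulAut.conj (g2⁻¹ * g1) • (T : Subgroup G) ≠ T := by
      intro h
      apply hne'
      apply Sylow.ext
      rw [Sylow.coe_subgroup_smul]; exact h
    have h1 := hTI _ hne''
    rw [eq_bot_iff]
    intro x hx
    rw [Subgroup.mem_bot]
    obtain ⟨hx1, hx2⟩ := Subgroup.mem_inf.mp hx
    rw [Sylow.coe_subgroup_smul, Subgroup.mem_pointwise_smul_iff_inv_smul_mem] at hx1 hx2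
    have hx2' : g2⁻¹ * x * g2 ∈ (T : Subgroup G) := by
      simpa [MulAut.smul_def, mul_assoc] using hx2
    have hx1' : g2⁻¹ * x * g2 ∈ MulAut.conj (g2⁻¹ * g1) • (T : Subgroup G) := by
      rw [Subgroup.mem_pointwise_smul_iff_inv_smul_mem]
      have : g1⁻¹ * x * g1 ∈ (T : Subgroup G) := by
        simpa [MulAut.smul_def, mul_assoc] using hx1
      simpa [MulAut.smul_def, mul_assoc] using this
    have hmem : g2⁻¹ * x * g2 ∈ MulAut.conj (g2⁻¹ * g1) • (T : Subgroup G) ⊓ T := ⟨hx1', hx2'⟩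
    rw [h1, Subgroup.mem_bot] at hmem
    have : x = g2 * (g2⁻¹ * x * g2) * g2⁻¹ := by group
    rw [this, hmem]; group
  -- each involution lies in a Sylow 2-subgroup
  have hex : ∀ r : G, orderOf r = 2 → ∃ Q : Sylow 2 G, r ∈ Q := by
    intro r hr
    have hp : IsPGroup 2 (Subgroup.zpowers r) := by
      apply IsPGroup.of_card (n := 1)
      rw [Nat.card_zpowers, hr, pow_one]
    obtain ⟨Q, hQ⟩ := hp.exists_le_sylow
    exact ⟨Q, hQ (Subgroup.mem_zpowers r)⟩
  obtain ⟨Q1, hsQ⟩ := hex s hs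
  obtain ⟨Q2, htQ⟩ := hex t ht
  by_cases hne : Q1 = Q2
  · subst hne
    -- find another Sylow
    have hex2 : ∃ g : G, g • Q1 ≠ Q1 := by
      by_contra hall
      push Not at hall
      apply hnn
      obtain ⟨g0, rfl⟩ := MulAction.exists_smul_eq G Q1 T
      have : ∀ g : G, g • (g0 • Q1) = g0 • Q1 := by
        intro g
        rw [hall g0, hall g]
      rw [← Subgroup.normalizer_eq_top_iff, eq_top_iff]
      intro g _
      exact Sylow.smul_eq_iff_mem_normalizer.mp (this g)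
    obtain ⟨g, hg⟩ := hex2
    have hu : orderOf (g * s * g⁻¹) = 2 := by
      rw [← hs]
      exact (SemiconjBy.orderOf_eq g (show g * s = (g * s * g⁻¹) * g by group)).symm
    have h1 : IsConj t (g * s * g⁻¹) :=
      ti_conj_of_ne hTI' Q1 (g • Q1) hg.symm t _ ht hu htQ (conj_mem_smul_sylow Q1 g s hsQ)
    have h2 : IsConj s (g * s * g⁻¹) := isConj_iff.mpr ⟨g, rfl⟩
    exact h2.trans h1.symm
  · exact ti_conj_of_ne hTI' Q1 Q2 hne s t hs ht hsQ htQ

end

end Cfsg.Agent.Helper2
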