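import Mathlib
import Cfsg.Agent.Helper29.TV2Basic

/-! Board `tv2pieces`: core of piece PSI (the even-weight module map `ψ`), stated for an arbitrary finite clique-like set `K`
of transvections. -/

set_option autoImplicit false

namespace Cfsg.Agent.TV2

variable {P : Type*} [Group P] {W : Type*} [AddCommGroup W] [Module (ZMod 2) W] [DistribMulAction P W]

/-- the hypotheses on the set `K` of transvections and the base vector `z` used by the core of PSI. -/
structure PSIHyp (K : Set P) (z : W) : Prop where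
  tv : ∀ y ∈ K, Tv W y
  B1 : ∀ y ∈ K, ∀ y' ∈ K, y ≠ y' → B W y y' = 1
  even : Even (Nat.card ↥K)
  fz : ∀ y ∈ K, fn W y z = 1
  inj : ∀ y ∈ K, ∀ y' ∈ K, cen W y = cen W y' → y = y'

/-- the point map for a general set `K`. -/
noncomputable def PSI_aux_pt (K : Set P) (z : W) : Option ↥K → W :=
  fun δ => δ.elim z (fun y => z + cen W (y : P))

omit [Module (ZMod 2) W] [DistribMulAction P W] in
theorem PSI_aux_map_smul {M : Type*} [AddCommGroup M] [Module (ZMod 2) M] [Module (ZMod 2) W] (f : W →+ M) (a : ZMod 2) (w : W) :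
    f (a • w) = a • f w := by
  rcases zmod2_cases a with rfl | rfl
  · rw [zero_smul, zero_smul, map_zero]
  · rw [one_smul, one_smul]

theorem PSI_aux_zmod_add_self (a : ZMod 2) : a + a = 0 := CharTwo.add_self_eq_zero a

theorem PSI_aux_even_cast {k : ℕ} (h : Even k) : (k : ZMod 2) = 0 := by
  obtain ⟨m, rfl⟩ := h
  rw [Nat.cast_add]
  exact PSI_aux_zmod_add_self _

/-- the sum of the functionals. -/
noncomputable def PSI_aux_s (K : Set P) [Fintype ↥K] : W →+ ZMod 2 := ∑ y : ↥K, fn W (y : P)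

/-- the map `ψ`. -/
noncomputable def PSI_aux_psi (K : Set P) [Fintype ↥K] : W →+ (Option ↥K → ZMod 2) :=
  AddMonoidHom.pi (fun δ => δ.elim (PSI_aux_s (W := W) K) (fun y => PSI_aux_s (W := W) K + fn W (y : P)))

theorem PSI_aux_psi_none (K : Set P) [Fintype ↥K] (w : W) : PSI_aux_psi K w none = PSI_aux_s K w := rfl

theorem PSI_aux_psi_some (K : Set P) [Fintype ↥K] (w : W) (y : ↥K) :
    PSI_aux_psi K w (some y) = PSI_aux_s K w + fn W (y : P) w := rfl

theorem PSI_aux_s_apply (K : Set P) [Fintype ↥K] (w : W) : PSI_aux_s K w = ∑ y : ↥K, fn W (y : P) w := by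
  unfold PSI_aux_s
  rw [AddMonoidHom.finsetSum_apply]

theorem PSI_aux_B (K : Set P) {z : W} (h : PSIHyp K z) [DecidableEq ↥K] (y' y : ↥K) :
    B W (y' : P) (y : P) = 1 + (if y' = y then 1 else 0) := by
  by_cases hyy : y' = y
  · rw [if_pos hyy, hyy]
    rw [show (1 : ZMod 2) + 1 = 0 from rfl]
    exact (h.tv y y.2).fn_cen_self
  · rw [if_neg hyy, add_zero]
    apply h.B1 _ y'.2 _ y.2
    intro h0
    exact hyy (Subtype.ext h0)

theorem PSI_aux_s_cen (K : Set P) {z : W} (h : PSIHyp K z) [Fintype ↥K] (y : ↥K) : PSI_aux_s K (cen W (y : P)) = 1 := by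
  classical
  rw [PSI_aux_s_apply]
  have h1 : ∀ y' : ↥K, fn W (y' : P) (cen W (y : P)) = 1 + (if y' = y then 1 else 0) := fun y' => PSI_aux_B K h y' y
  rw [Finset.sum_congr rfl (fun y' _ => h1 y'), Finset.sum_add_distrib, Finset.sum_const, Finset.card_univ,
    Finset.sum_ite_eq' Finset.univ y, if_pos (Finset.mem_univ _), nsmul_eq_mul, mul_one]
  have : ((Fintype.card ↥K : ℕ) : ZMod 2) = 0 := by
    apply PSI_aux_even_cast
    rw [← Nat.card_eq_fintype_card]
    exact h.even
  rw [this, zero_add]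

theorem PSI_aux_psi_cen_none (K : Set P) {z : W} (h : PSIHyp K z) [Fintype ↥K] (y : ↥K) :
    PSI_aux_psi K (cen W (y : P)) none = 1 := by
  rw [PSI_aux_psi_none, PSI_aux_s_cen K h]

theorem PSI_aux_psi_cen_some (K : Set P) {z : W} (h : PSIHyp K z) [Fintype ↥K] [DecidableEq ↥K] (y y' : ↥K) :
    PSI_aux_psi K (cen W (y : P)) (some y') = if y' = y then 1 else 0 := by
  rw [PSI_aux_psi_some, PSI_aux_s_cen K h]
  have := PSI_aux_B K h y' y
  unfold B at this
  rw [this, ← add_assoc, show (1 : ZMod 2) + 1 = 0 from rfl, zero_add]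

/-- (1) the weight is even. -/
theorem PSI_aux_weight (K : Set P) {z : W} (h : PSIHyp K z) [Fintype ↥K] (w : W) :
    ∑ δ, PSI_aux_psi K w δ = 0 := by
  rw [Fintype.sum_option, PSI_aux_psi_none]
  simp only [PSI_aux_psi_some]
  rw [Finset.sum_add_distrib, Finset.sum_const, Finset.card_univ, ← PSI_aux_s_apply, nsmul_eq_mul]
  have : ((Fintype.card ↥K : ℕ) : ZMod 2) = 0 := by
    apply PSI_aux_even_cast
    rw [← Nat.card_eq_fintype_card]
    exact h.even
  rw [this, zero_mul, zero_add]
  exact PSI_aux_zmod_add_self _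

/-- (2) surjectivity onto the even-weight vectors, from `cspan K`. -/
theorem PSI_aux_surj (K : Set P) {z : W} (h : PSIHyp K z) [Fintype ↥K] (v : Option ↥K → ZMod 2) (hv : ∑ δ, v δ = 0) :
    ∃ u ∈ cspan W K, PSI_aux_psi K u = v := by
  classical
  refine ⟨∑ y : ↥K, v (some y) • cen W (y : P), ?_, ?_⟩
  · apply AddSubgroup.sum_mem
    intro y _
    rcases zmod2_cases (v (some y)) with h0 | h0
    · rw [h0, zero_smul]; exact AddSubgroup.zero_mem _
    · rw [h0, one_smul]
      exact AddSubgroup.subset_closure ⟨(y : P), y.2, rfl⟩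
  · have hnone : v none = ∑ y : ↥K, v (some y) := by
      rw [Fintype.sum_option] at hv
      have h2 : v none = -(∑ y : ↥K, v (some y)) := eq_neg_of_add_eq_zero_left hv
      rw [h2]
      exact neg_eq_of_add_eq_zero_left (PSI_aux_zmod_add_self _)
    rw [map_sum]
    funext δ
    rw [Finset.sum_apply]
    have h3 : ∀ y : ↥K, PSI_aux_psi K (v (some y) • cen W (y : P)) δ = v (some y) * PSI_aux_psi K (cen W (y : P)) δ := by
      intro y
      rw [PSI_aux_map_smul]
      rfl
    rw [Finset.sum_congr rfl (fun y _ => h3 y)]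
    cases δ with
    | none =>
      rw [hnone]
      apply Finset.sum_congr rfl
      intro y _
      rw [PSI_aux_psi_cen_none K h, mul_one]
    | some y' =>
      have h4 : ∀ y : ↥K, v (some y) * PSI_aux_psi K (cen W (y : P)) (some y') = if y' = y then v (some y) else 0 := by
        intro y
        rw [PSI_aux_psi_cen_some K h]
        split_ifs <;> simp
      rw [Finset.sum_congr rfl (fun y _ => h4 y), Finset.sum_ite_eq Finset.univ y', if_pos (Finset.mem_univ _)]

/-- (3) the kernel is the fixed space of `⟨K⟩`. -/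
theorem PSI_aux_ker (K : Set P) {z : W} (h : PSIHyp K z) [Fintype ↥K] (w : W) :
    PSI_aux_psi K w = 0 ↔ ∀ e ∈ Subgroup.closure K, e • w = w := by
  constructor
  · intro h0
    have hs : PSI_aux_s K w = 0 := by
      have := congrFun h0 none
      rwa [PSI_aux_psi_none] at this
    have hy : ∀ y ∈ K, y • w = w := by
      intro y hy
      have := congrFun h0 (some ⟨y, hy⟩)
      rw [PSI_aux_psi_some, hs, zero_add] at this
      exact ((h.tv y hy).fixed_iff w).mpr this
    have hle : Subgroup.closure K ≤ MulAction.stabilizer P w := by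
      rw [Subgroup.closure_le]
      intro y hyK
      exact hy y hyK
    intro e he
    exact hle he
  · intro h0
    have hy : ∀ y : ↥K, fn W (y : P) w = 0 := by
      intro y
      exact ((h.tv y y.2).fixed_iff w).mp (h0 y (Subgroup.subset_closure y.2))
    have hs : PSI_aux_s K w = 0 := by
      rw [PSI_aux_s_apply]
      exact Finset.sum_eq_zero (fun y _ => hy y)
    funext δ
    cases δ with
    | none => rw [PSI_aux_psi_none, hs]; rfl
    | some y => rw [PSI_aux_psi_some, hs, hy y, add_zero]; rfl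

/-- the point map is injective. -/
theorem PSI_aux_pt_inj (K : Set P) {z : W} (h : PSIHyp K z) : Function.Injective (PSI_aux_pt K z) := by
  intro δ δ' hδ
  cases δ with
  | none =>
    cases δ' with
    | none => rfl
    | some y' =>
      exfalso
      have h1 : z = z + cen W (y' : P) := hδ
      have h2 : cen W (y' : P) = 0 := by
        have := h1.symm
        rwa [add_eq_left] at this
      exact (h.tv y' y'.2).cen_ne_zero h2
  | some y =>
    cases δ' with
    | none =>
      exfalso
      have h1 : z + cen W (y : P) = z := hδ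
      have h2 : cen W (y : P) = 0 := by
        rwa [add_eq_left] at h1
      exact (h.tv y y.2).cen_ne_zero h2
    | some y' =>
      have h1 : z + cen W (y : P) = z + cen W (y' : P) := hδ
      have h2 := add_left_cancel h1
      have h3 := h.inj _ y.2 _ y'.2 h2
      rw [Subtype.ext h3]

/-- a generator `k ∈ K` acts on the points as the transposition `(none, some k)`. -/
theorem PSI_aux_gen_pt (K : Set P) {z : W} (h : PSIHyp K z) [DecidableEq ↥K] (k : ↥K) (δ : Option ↥K) :
    (k : P) • PSI_aux_pt K z δ = PSI_aux_pt K z (Equiv.swap none (some k) δ) := by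
  have hk := h.tv k k.2
  have hkz : (k : P) • z = z + cen W (k : P) := by
    rw [hk.act, h.fz k k.2, one_smul]
  cases δ with
  | none =>
    rw [Equiv.swap_apply_left]
    exact hkz
  | some y =>
    by_cases hyk : y = k
    · rw [hyk, Equiv.swap_apply_right]
      show (k : P) • (z + cen W (k : P)) = z
      rw [smul_add, hkz, hk.smul_cen_self, add_assoc, add_self_W, add_zero]
    · rw [Equiv.swap_apply_of_ne_of_ne (by simp) (by simpa using hyk)]
      show (k : P) • (z + cen W (y : P)) = z + cen W (y : P)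
      have hB : B W (k : P) (y : P) = 1 := by
        apply h.B1 _ k.2 _ y.2
        intro h0
        exact hyk (Subtype.ext h0.symm)
      rw [smul_add, hkz, hk.smul_cen, hB, one_smul]
      have := add_self_W (cen W (k : P))
      calc z + cen W (k : P) + (cen W (y : P) + cen W (k : P))
          = z + cen W (y : P) + (cen W (k : P) + cen W (k : P)) := by abel
        _ = z + cen W (y : P) := by rw [this, add_zero]

/-- the generator step of the equivariance. -/
theorem PSI_aux_gen_psi (K : Set P) {z : W} (h : PSIHyp K z) [Fintype ↥K] [DecidableEq ↥K] (k : ↥K) (w : W) (δ : Option ↥K) :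
    PSI_aux_psi K ((k : P) • w) δ = PSI_aux_psi K w (Equiv.swap none (some k) δ) := by
  have hk := h.tv k k.2
  have h1 : PSI_aux_psi K ((k : P) • w) δ = PSI_aux_psi K w δ + fn W (k : P) w * PSI_aux_psi K (cen W (k : P)) δ := by
    rw [hk.act, map_add, PSI_aux_map_smul]
    rfl
  rw [h1]
  cases δ with
  | none =>
    rw [Equiv.swap_apply_left, PSI_aux_psi_cen_none K h, mul_one, PSI_aux_psi_none, PSI_aux_psi_some]
  | some y =>
    by_cases hyk : y = k
    · rw [hyk, Equiv.swap_apply_right, PSI_aux_psi_cen_some K h, if_pos rfl, mul_one, PSI_aux_psi_none, PSI_aux_psi_some,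
        add_assoc, PSI_aux_zmod_add_self, add_zero]
    · rw [Equiv.swap_apply_of_ne_of_ne (by simp) (by simpa using hyk), PSI_aux_psi_cen_some K h, if_neg hyk, mul_zero, add_zero]

/-- (4) equivariance. -/
theorem PSI_aux_equiv (K : Set P) {z : W} (h : PSIHyp K z) [Fintype ↥K]
    (ρ : ↥(Subgroup.closure K) →* Equiv.Perm (Option ↥K))
    (hρ : ∀ (e : ↥(Subgroup.closure K)) (δ : Option ↥K), (e : P) • PSI_aux_pt K z δ = PSI_aux_pt K z (ρ e δ))
    (e : ↥(Subgroup.closure K)) (w : W) (δ : Option ↥K) :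
    PSI_aux_psi K ((e : P) • w) δ = PSI_aux_psi K w ((ρ e)⁻¹ δ) := by
  classical
  have hgen : ∀ (k : P) (hk : k ∈ K), ρ ⟨k, Subgroup.subset_closure hk⟩ = Equiv.swap none (some ⟨k, hk⟩) := by
    intro k hk
    ext1 δ
    apply PSI_aux_pt_inj K h
    rw [← hρ]
    exact PSI_aux_gen_pt K h ⟨k, hk⟩ δ
  have key : ∀ (g : P) (hg : g ∈ Subgroup.closure K), ∀ (w : W) (δ : Option ↥K),
      PSI_aux_psi K (g • w) δ = PSI_aux_psi K w ((ρ ⟨g, hg⟩)⁻¹ δ) := by
    intro g hg
    induction hg using Subgroup.closure_induction with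
    | mem k hk =>
      intro w δ
      rw [hgen k hk, Equiv.swap_inv]
      exact PSI_aux_gen_psi K h ⟨k, hk⟩ w δ
    | one =>
      intro w δ
      have : (⟨1, Subgroup.one_mem _⟩ : ↥(Subgroup.closure K)) = 1 := rfl
      rw [one_smul, this, map_one, inv_one, Equiv.Perm.one_apply]
    | mul x y hx hy ihx ihy =>
      intro w δ
      have : (⟨x * y, Subgroup.mul_mem _ hx hy⟩ : ↥(Subgroup.closure K)) = ⟨x, hx⟩ * ⟨y, hy⟩ := rfl
      rw [this, map_mul, mul_inv_rev, Equiv.Perm.mul_apply, mul_smul, ihx, ihy]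
    | inv x hx ihx =>
      intro w δ
      have : (⟨x⁻¹, Subgroup.inv_mem _ hx⟩ : ↥(Subgroup.closure K)) = (⟨x, hx⟩ : ↥(Subgroup.closure K))⁻¹ := rfl
      rw [this, map_inv, inv_inv]
      have h1 := ihx (x⁻¹ • w) (ρ ⟨x, hx⟩ δ)
      rw [smul_inv_smul, show (ρ ⟨x, hx⟩)⁻¹ (ρ ⟨x, hx⟩ δ) = δ from Equiv.Perm.inv_eq_iff_eq.mpr rfl] at h1
      exact h1.symm
  exact key (e : P) e.2 w δ

/-- the core of PSI. -/
theorem PSI_aux_core [Finite P] (K : Set P) {z : W} (h : PSIHyp K z)
    (ρ : ↥(Subgroup.closure K) →* Equiv.Perm (Option ↥K))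
    (hρ : ∀ (e : ↥(Subgroup.closure K)) (δ : Option ↥K), (e : P) • PSI_aux_pt K z δ = PSI_aux_pt K z (ρ e δ)) :
    ∃ ψ : W →+ (Option ↥K → ZMod 2),
      (∀ w : W, ∑ᶠ δ, ψ w δ = 0) ∧
      (∀ v : Option ↥K → ZMod 2, ∑ᶠ δ, v δ = 0 → ∃ u ∈ cspan W K, ψ u = v) ∧
      (∀ w : W, ψ w = 0 ↔ ∀ e ∈ Subgroup.closure K, e • w = w) ∧
      ∀ (e : ↥(Subgroup.closure K)) (w : W) (δ : Option ↥K), ψ ((e : P) • w) δ = ψ w ((ρ e)⁻¹ δ) := by
  classical
  have : Fintype ↥K := Fintype.ofFinite _
  refine ⟨PSI_aux_psi K, ?_, ?_, ?_, ?_⟩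
  · intro w
    rw [finsum_eq_sum_of_fintype]
    exact PSI_aux_weight K h w
  · intro v hv
    rw [finsum_eq_sum_of_fintype] at hv
    exact PSI_aux_surj K h v hv
  · exact PSI_aux_ker K h
  · exact PSI_aux_equiv K h ρ hρ

end Cfsg.Agent.TV2
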