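import Mathlib
import Cfsg.Agent.Helper2.UnitarySU
import Cfsg.Agent.Helper28.HermFrame
import Cfsg.Agent.Helper28.Norm
import Cfsg.Agent.S0837

/-! Isotropic frames of the standard Hermitian space and their number (for S0782). -/

set_option autoImplicit false
set_option linter.unusedSectionVars false
set_option linter.unusedVariables false

namespace Cfsg.Agent.Helper2.UFrames

open Matrix Module Submodule Cfsg.Agent.Helper2.Herm

variable {F : Type*} [Field F] [Fintype F] {q n : ℕ}

abbrev Gn (n : ℕ) (F : Type*) [Field F] (q : ℕ) := ↥(Cfsg.GU n F q)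

/-- the matrix of an element of `GU` -/
abbrev mat (g : Gn n F q) : Matrix (Fin n) (Fin n) F :=
  ((g : GL (Fin n) F) : Matrix (Fin n) (Fin n) F)

theorem mat_mul (g h : Gn n F q) : mat (g * h) = mat g * mat h := rfl

theorem mat_one : mat (1 : Gn n F q) = 1 := rfl

theorem mat_inv_mul (g : Gn n F q) : mat g⁻¹ * mat g = 1 := by
  rw [← mat_mul, inv_mul_cancel, mat_one]

theorem mat_mul_inv (g : Gn n F q) : mat g * mat g⁻¹ = 1 := by
  rw [← mat_mul, mul_inv_cancel, mat_one]

theorem mat_inv_mulVec (g : Gn n F q) (v : Fin n → F) : mat g⁻¹ *ᵥ (mat g *ᵥ v) = v := by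
  rw [Matrix.mulVec_mulVec, mat_inv_mul, Matrix.one_mulVec]

theorem mat_mulVec_inv (g : Gn n F q) (v : Fin n → F) : mat g *ᵥ (mat g⁻¹ *ᵥ v) = v := by
  rw [Matrix.mulVec_mulVec, mat_mul_inv, Matrix.one_mulVec]

theorem mulVec_injective (g : Gn n F q) : Function.Injective (fun v : Fin n → F => mat g *ᵥ v) := by
  intro v w h
  have h' := congrArg (fun z => mat g⁻¹ *ᵥ z) h
  simp only [mat_inv_mulVec] at h'
  exact h'

theorem preserves (g : Gn n F q) (u v : Fin n → F) :
    Cfsg.hermForm n F q (mat g *ᵥ u) (mat g *ᵥ v) = Cfsg.hermForm n F q u v := g.2 u v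

/-- isotropic frames -/
def Fr (F : Type*) [Field F] (q n k : ℕ) :=
  {x : Fin k → (Fin n → F) // LinearIndependent F x ∧
    ∀ i j, Cfsg.hermForm n F q (x i) (x j) = 0}

instance (k : ℕ) : MulAction (Gn n F q) (Fr F q n k) where
  smul g x := ⟨fun i => mat g *ᵥ x.1 i, by
    refine ⟨?_, fun i j => by rw [preserves]; exact x.2.2 i j⟩
    exact x.2.1.map' (Matrix.toLin' (mat g)) (by
      rw [LinearMap.ker_eq_bot]
      intro v w h
      rw [Matrix.toLin'_apply, Matrix.toLin'_apply] at h
      exact mulVec_injective g h)⟩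
  one_smul x := by
    apply Subtype.ext
    funext i
    show mat (1 : Gn n F q) *ᵥ x.1 i = x.1 i
    rw [mat_one, Matrix.one_mulVec]
  mul_smul g h x := by
    apply Subtype.ext
    funext i
    show mat (g * h) *ᵥ x.1 i = mat g *ᵥ (mat h *ᵥ x.1 i)
    rw [mat_mul, Matrix.mulVec_mulVec]

theorem smul_val {k : ℕ} (g : Gn n F q) (x : Fr F q n k) (i : Fin k) :
    (g • x).1 i = mat g *ᵥ x.1 i := rfl

theorem span_TI (hF : Fintype.card F = q ^ 2) {k : ℕ} (x : Fr F q n k) :
    ∀ u ∈ span F (Set.range x.1), ∀ v ∈ span F (Set.range x.1),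
      Cfsg.hermForm n F q u v = 0 := by
  intro u hu v hv
  induction hu using Submodule.span_induction with
  | mem u hu =>
    obtain ⟨i, rfl⟩ := hu
    induction hv using Submodule.span_induction with
    | mem v hv =>
      obtain ⟨j, rfl⟩ := hv
      exact x.2.2 i j
    | zero => exact hf_zero_right hF _
    | add a b _ _ ha hb => rw [hf_add_right hF, ha, hb, add_zero]
    | smul c a _ ha => rw [hf_smul_right hF, ha, mul_zero]
  | zero => exact hf_zero_left _
  | add a b _ _ ha hb => rw [hf_add_left, ha, hb, add_zero]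
  | smul c a _ ha => rw [hf_smul_left, ha, mul_zero]

/-- a linear isometry of the standard Hermitian space is given by an element of `GU` -/
theorem exists_GU_of_isometry (hF : Fintype.card F = q ^ 2)
    (f : (Fin n → F) →ₗ[F] (Fin n → F))
    (hf' : ∀ u w, Cfsg.hermForm n F q (f u) (f w) = Cfsg.hermForm n F q u w) :
    ∃ g : Gn n F q, ∀ v, mat g *ᵥ v = f v := by
  obtain ⟨A, hA⟩ : ∃ A : Matrix (Fin n) (Fin n) F, A = LinearMap.toMatrix' f := ⟨_, rfl⟩
  have hAv : ∀ v, A *ᵥ v = f v := by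
    intro v; rw [hA, LinearMap.toMatrix'_mulVec]
  have hON : IsON q (cols A) := by
    intro j k
    rw [← Cfsg.Agent.Helper2.Herm.mulVec_single, ← Cfsg.Agent.Helper2.Herm.mulVec_single, hAv, hAv, hf',
      hf_single hF]
  obtain ⟨g, hg⟩ := exists_unit_of_isON hF hON
  have hgA : (g : Matrix (Fin n) (Fin n) F) = A := by
    ext i j
    exact congrFun (congrFun hg j) i
  refine ⟨⟨g, (mem_GU_iff hF g).mpr (by rw [hg]; exact hON)⟩, ?_⟩
  intro v
  show (g : Matrix (Fin n) (Fin n) F) *ᵥ v = f v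
  rw [hgA, hAv]

/-- Witt: `GU` is transitive on isotropic frames. -/
theorem exists_smul_eq (hF : Fintype.card F = q ^ 2) {k : ℕ} (x y : Fr F q n k) :
    ∃ g : Gn n F q, g • x = y := by
  classical
  obtain ⟨σ, hσ⟩ : ∃ σ : F →+* F, σ = cj hF := ⟨_, rfl⟩
  have hσq : ∀ a, σ a = a ^ q := by intro a; rw [hσ]; rfl
  have hσ2 : ∀ a, σ (σ a) = a := by intro a; rw [hσ]; exact cj_cj hF a
  have hσid := Cfsg.Agent.S0837.frob_ne_id hF σ hσq
  set bx := Basis.span x.2.1 with hbx
  set by' := Basis.span y.2.1 with hby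
  set φ : span F (Set.range x.1) ≃ₗ[F] span F (Set.range y.1) :=
    bx.equiv by' (Equiv.refl _) with hφ
  obtain ⟨g₀, hg₀⟩ := LinearMap.exists_extend
    ((span F (Set.range y.1)).subtype ∘ₗ φ.toLinearMap)
  have hg₀a : ∀ a : span F (Set.range x.1), g₀ a = (φ a : Fin n → F) := by
    intro a
    have h := LinearMap.congr_fun hg₀ a
    simpa using h
  obtain ⟨g', hg'X, hg'⟩ := Cfsg.Agent.Helper28.HW.exists_isometry_ext
    (B := Cfsg.Agent.Helper28.HermFrame.hB σ n) hσid hσ2
    (Cfsg.Agent.Helper28.HermFrame.hB_isSymm σ hσ2 n)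
    (Cfsg.Agent.Helper28.HermFrame.hB_nondeg σ hσ2 n) n (span F (Set.range x.1)) g₀
    (by rw [Module.finrank_fin_fun]; omega)
    (by
      intro a ha b hb
      rw [Cfsg.Agent.Helper28.HermFrame.hB_eq_herm σ hσq,
        Cfsg.Agent.Helper28.HermFrame.hB_eq_herm σ hσq,
        hg₀a ⟨a, ha⟩, hg₀a ⟨b, hb⟩, span_TI hF y _ (φ ⟨b, hb⟩).2 _ (φ ⟨a, ha⟩).2,
        span_TI hF x b hb a ha])
    (by
      intro a ha h0
      rw [hg₀a ⟨a, ha⟩] at h0
      have h1 : φ ⟨a, ha⟩ = 0 := Subtype.ext h0
      have h2 := φ.map_eq_zero_iff.mp h1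
      exact congrArg Subtype.val h2)
  obtain ⟨g, hg⟩ := exists_GU_of_isometry hF g' (by
    intro u w
    rw [← Cfsg.Agent.Helper28.HermFrame.hB_eq_herm σ hσq,
      ← Cfsg.Agent.Helper28.HermFrame.hB_eq_herm σ hσq, hg'])
  refine ⟨g, ?_⟩
  apply Subtype.ext
  funext i
  show mat g *ᵥ x.1 i = y.1 i
  rw [hg]
  have hxi : x.1 i ∈ span F (Set.range x.1) := Submodule.subset_span ⟨i, rfl⟩
  have h1 : (bx i : Fin n → F) = x.1 i := congrArg Subtype.val (Basis.span_apply x.2.1 i)
  have h2 : (by' i : Fin n → F) = y.1 i := congrArg Subtype.val (Basis.span_apply y.2.1 i)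
  have h3 : (⟨x.1 i, hxi⟩ : span F (Set.range x.1)) = bx i := Subtype.ext h1.symm
  rw [hg'X _ hxi, hg₀a ⟨x.1 i, hxi⟩, h3, hφ, Basis.equiv_apply, Equiv.refl_apply, h2]

/-! ### fibres -/

/-- the fibre of `Fr (k+1) → Fr k` -/
abbrev Fib {k : ℕ} (x : Fr F q n k) :=
  {v : Fin n → F // (∀ i, Cfsg.hermForm n F q v (x.1 i) = 0) ∧ Cfsg.hermForm n F q v v = 0 ∧
    v ∉ span F (Set.range x.1)}

/-- Splitting off the first vector of a frame. -/
def frEquiv (hF : Fintype.card F = q ^ 2) (k : ℕ) :
    Fr F q n (k + 1) ≃ Σ x : Fr F q n k, Fib x where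
  toFun s := ⟨⟨Fin.tail s.1, (linearIndependent_finSucc.mp s.2.1).1,
      fun i j => s.2.2 i.succ j.succ⟩,
    ⟨s.1 0, fun i => s.2.2 0 i.succ, s.2.2 0 0, (linearIndependent_finSucc.mp s.2.1).2⟩⟩
  invFun p := ⟨Fin.cons p.2.1 p.1.1, linearIndependent_finCons.mpr ⟨p.1.2.1, p.2.2.2.2⟩, by
    intro i j
    refine Fin.cases ?_ (fun i' => ?_) i <;> refine Fin.cases ?_ (fun j' => ?_) j
    · simp only [Fin.cons_zero]
      exact p.2.2.2.1
    · simp only [Fin.cons_zero, Fin.cons_succ]
      exact p.2.2.1 j'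
    · simp only [Fin.cons_zero, Fin.cons_succ]
      exact hf_eq_zero_of_symm hF (p.2.2.1 i')
    · simp only [Fin.cons_succ]
      exact p.1.2.2 i' j'⟩
  left_inv s := by
    apply Subtype.ext
    simp only [Fin.cons_self_tail]
  right_inv := fun ⟨⟨x, hx⟩, ⟨v, hv⟩⟩ => by
    apply Sigma.subtype_ext
    · apply Subtype.ext
      show Fin.tail (Fin.cons v x : Fin (k + 1) → (Fin n → F)) = x
      exact Fin.tail_cons _ _
    · show (Fin.cons v x : Fin (k + 1) → (Fin n → F)) 0 = v
      exact Fin.cons_zero _ _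

instance (k : ℕ) : Finite (Fr F q n k) := Subtype.finite

instance {k : ℕ} (x : Fr F q n k) : Finite (Fib x) := Subtype.finite

theorem mem_span_smul_iff (g : Gn n F q) {k : ℕ} (x : Fr F q n k) (v : Fin n → F) :
    mat g *ᵥ v ∈ span F (Set.range (g • x).1) ↔ v ∈ span F (Set.range x.1) := by
  have hr : Set.range (g • x).1 = (Matrix.toLin' (mat g)) '' Set.range x.1 := by
    ext w
    constructor
    · rintro ⟨i, rfl⟩
      exact ⟨x.1 i, ⟨i, rfl⟩, rfl⟩
    · rintro ⟨_, ⟨i, rfl⟩, rfl⟩
      exact ⟨i, rfl⟩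
  rw [hr, ← Submodule.map_span, Submodule.mem_map]
  constructor
  · rintro ⟨w, hw, hwv⟩
    rw [Matrix.toLin'_apply] at hwv
    rw [← mulVec_injective g hwv]
    exact hw
  · intro hv
    exact ⟨v, hv, Matrix.toLin'_apply _ _⟩

/-- transport of fibres -/
def fibMap (g : Gn n F q) {k : ℕ} (x : Fr F q n k) (v : Fib x) : Fib (g • x) :=
  ⟨mat g *ᵥ v.1, fun i => by
      show Cfsg.hermForm n F q (mat g *ᵥ v.1) (mat g *ᵥ x.1 i) = 0
      rw [preserves]; exact v.2.1 i,
    by rw [preserves]; exact v.2.2.1,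
    fun hmem => v.2.2.2 ((mem_span_smul_iff g x v.1).mp hmem)⟩

theorem fibMap_injective (g : Gn n F q) {k : ℕ} (x : Fr F q n k) :
    Function.Injective (fibMap g x) := by
  intro v w h
  apply Subtype.ext
  exact mulVec_injective g (congrArg Subtype.val h)

theorem card_Fib_smul (g : Gn n F q) {k : ℕ} (x : Fr F q n k) :
    Nat.card (Fib (g • x)) = Nat.card (Fib x) := by
  apply le_antisymm
  · have h := Nat.card_le_card_of_injective (fibMap g⁻¹ (g • x)) (fibMap_injective g⁻¹ (g • x))
    rw [inv_smul_smul] at h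
    exact h
  · exact Nat.card_le_card_of_injective (fibMap g x) (fibMap_injective g x)

/-! ### the standard frame -/

section std

variable {k m : ℕ}

def pa (v : Fin (k + k + m) → F) : Fin k → F := fun j => v (Fin.castAdd m (Fin.castAdd k j))
def pb (v : Fin (k + k + m) → F) : Fin k → F := fun j => v (Fin.castAdd m (Fin.natAdd k j))
def pt (v : Fin (k + k + m) → F) : Fin m → F := fun i => v (Fin.natAdd (k + k) i)

def join (a b : Fin k → F) (t : Fin m → F) : Fin (k + k + m) → F :=
  Fin.append (Fin.append a b) t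

@[simp] theorem pa_join (a b : Fin k → F) (t : Fin m → F) : pa (join a b t) = a := by
  funext j; simp [pa, join]

@[simp] theorem pb_join (a b : Fin k → F) (t : Fin m → F) : pb (join a b t) = b := by
  funext j
  show Fin.append (Fin.append a b) t (Fin.castAdd m (Fin.natAdd k j)) = b j
  rw [Fin.append_left, Fin.append_right]

@[simp] theorem pt_join (a b : Fin k → F) (t : Fin m → F) : pt (join a b t) = t := by
  funext j; simp [pt, join]

theorem join_eta (v : Fin (k + k + m) → F) : join (pa v) (pb v) (pt v) = v := by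
  funext i
  refine Fin.addCases (fun i' => ?_) (fun i' => ?_) i
  · refine Fin.addCases (fun j => ?_) (fun j => ?_) i'
    · show Fin.append (Fin.append (pa v) (pb v)) (pt v) (Fin.castAdd m (Fin.castAdd k j)) = _
      rw [Fin.append_left, Fin.append_left]; rfl
    · show Fin.append (Fin.append (pa v) (pb v)) (pt v) (Fin.castAdd m (Fin.natAdd k j)) = _
      rw [Fin.append_left, Fin.append_right]; rfl
  · show Fin.append (Fin.append (pa v) (pb v)) (pt v) (Fin.natAdd (k + k) i') = _
    rw [Fin.append_right]; rfl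

theorem ext3 {v w : Fin (k + k + m) → F} (ha : pa v = pa w) (hb : pb v = pb w)
    (ht : pt v = pt w) : v = w := by
  rw [← join_eta v, ← join_eta w, ha, hb, ht]

theorem hf_split (u v : Fin (k + k + m) → F) :
    Cfsg.hermForm (k + k + m) F q u v = Cfsg.hermForm k F q (pa u) (pa v) +
      Cfsg.hermForm k F q (pb u) (pb v) + Cfsg.hermForm m F q (pt u) (pt v) := by
  unfold Cfsg.hermForm
  rw [Fin.sum_univ_add, Fin.sum_univ_add]
  rfl

theorem hf_single_right (hF : Fintype.card F = q ^ 2) (u : Fin k → F) (j : Fin k) (c : F) :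
    Cfsg.hermForm k F q u (Pi.single j c) = u j * c ^ q := by
  have hq := two_le_q hF
  unfold Cfsg.hermForm
  rw [Finset.sum_eq_single j]
  · rw [Pi.single_eq_same]
  · intro i _ hij
    rw [Pi.single_eq_of_ne hij, zero_pow (by omega), mul_zero]
  · intro h; exact absurd (Finset.mem_univ j) h

/-- the standard isotropic frame -/
def x0 (lam : F) (j : Fin k) : Fin (k + k + m) → F := join (Pi.single j 1) (Pi.single j lam) 0

theorem pa_x0 (lam : F) (j : Fin k) : pa (x0 (m := m) lam j) = Pi.single j 1 := pa_join _ _ _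
theorem pb_x0 (lam : F) (j : Fin k) : pb (x0 (m := m) lam j) = Pi.single j lam := pb_join _ _ _
theorem pt_x0 (lam : F) (j : Fin k) : pt (x0 (m := m) lam j) = 0 := pt_join _ _ _

theorem hf_x0 (hF : Fintype.card F = q ^ 2) (lam : F) (v : Fin (k + k + m) → F) (j : Fin k) :
    Cfsg.hermForm (k + k + m) F q v (x0 lam j) = pa v j + pb v j * lam ^ q := by
  rw [hf_split, pa_x0, pb_x0, pt_x0, hf_single_right hF, hf_single_right hF, hf_zero_right hF,
    one_pow, mul_one, add_zero]

theorem x0_orth (hF : Fintype.card F = q ^ 2) {lam : F} (hlam : lam ^ (q + 1) = -1)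
    (i j : Fin k) :
    Cfsg.hermForm (k + k + m) F q (x0 (m := m) lam i) (x0 lam j) = 0 := by
  rw [hf_x0 hF, pa_x0, pb_x0]
  by_cases h : j = i
  · subst h
    rw [Pi.single_eq_same, Pi.single_eq_same, ← pow_succ', hlam]
    ring
  · rw [Pi.single_eq_of_ne h, Pi.single_eq_of_ne h]
    ring

theorem x0_li (lam : F) : LinearIndependent F (x0 (F := F) (k := k) (m := m) lam) := by
  have h : LinearIndependent F
      ((LinearMap.funLeft F F (fun j : Fin k => Fin.castAdd m (Fin.castAdd k j))) ∘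
        (x0 (m := m) lam)) := by
    have e : (LinearMap.funLeft F F (fun j : Fin k => Fin.castAdd m (Fin.castAdd k j))) ∘
        (x0 (m := m) lam) = fun j => Pi.single j (1 : F) := by
      funext j
      show pa (x0 lam j) = _
      rw [pa_x0]
    rw [e]
    have h0 := (Pi.basisFun F (Fin k)).linearIndependent
    have e2 : (⇑(Pi.basisFun F (Fin k)) : Fin k → (Fin k → F)) = fun j => Pi.single j (1 : F) := by
      funext j
      rw [Pi.basisFun_apply]
    rw [e2] at h0
    exact h0
  exact LinearIndependent.of_comp _ h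

/-- the standard frame as an element of `Fr` -/
def X0 (hF : Fintype.card F = q ^ 2) {lam : F} (hlam : lam ^ (q + 1) = -1) :
    Fr F q (k + k + m) k := ⟨x0 lam, x0_li lam, x0_orth hF hlam⟩

theorem pt_add (a b : Fin (k + k + m) → F) : pt (a + b) = pt a + pt b := rfl
theorem pt_smul (c : F) (a : Fin (k + k + m) → F) : pt (c • a) = c • pt a := rfl

theorem pt_eq_zero_of_mem_span {lam : F} {v : Fin (k + k + m) → F}
    (hv : v ∈ span F (Set.range (x0 (k := k) (m := m) lam))) : pt v = 0 := by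
  induction hv using Submodule.span_induction with
  | mem u hu =>
    obtain ⟨j, rfl⟩ := hu
    exact pt_x0 lam j
  | zero => rfl
  | add a b _ _ ha hb => rw [pt_add, ha, hb, add_zero]
  | smul c a _ ha => rw [pt_smul, ha, smul_zero]

theorem x0_apply_a (lam : F) (j i : Fin k) :
    x0 (m := m) lam j (Fin.castAdd m (Fin.castAdd k i)) = if i = j then 1 else 0 := by
  have h := congrFun (pa_x0 (m := m) lam j) i
  rw [Pi.single_apply] at h
  exact h

theorem x0_apply_b (lam : F) (j i : Fin k) :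
    x0 (m := m) lam j (Fin.castAdd m (Fin.natAdd k i)) = if i = j then lam else 0 := by
  have h := congrFun (pb_x0 (m := m) lam j) i
  rw [Pi.single_apply] at h
  exact h

theorem x0_apply_t (lam : F) (j : Fin k) (i : Fin m) :
    x0 (m := m) lam j (Fin.natAdd (k + k) i) = 0 := by
  have h := congrFun (pt_x0 (m := m) lam j) i
  exact h

theorem mem_span_of (hF : Fintype.card F = q ^ 2) {lam : F} (hlam : lam ^ (q + 1) = -1)
    {v : Fin (k + k + m) → F} (ho : ∀ j, pa v j = -(pb v j * lam ^ q)) (ht : pt v = 0) :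
    v ∈ span F (Set.range (x0 (k := k) (m := m) lam)) := by
  have hL : lam * lam ^ q = -1 := by rw [← pow_succ']; exact hlam
  have hb : ∀ j, pb v j = pa v j * lam := by
    intro j
    rw [ho j]
    linear_combination (pb v j) * hL
  have hv : v = ∑ j, pa v j • x0 (m := m) lam j := by
    apply ext3
    · funext i
      show pa v i = (∑ j, pa v j • x0 (m := m) lam j) (Fin.castAdd m (Fin.castAdd k i))
      rw [Finset.sum_apply]
      simp only [Pi.smul_apply, smul_eq_mul, x0_apply_a, mul_ite, mul_one, mul_zero,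
        Finset.sum_ite_eq, Finset.mem_univ, if_true]
    · funext i
      show pb v i = (∑ j, pa v j • x0 (m := m) lam j) (Fin.castAdd m (Fin.natAdd k i))
      rw [Finset.sum_apply]
      simp only [Pi.smul_apply, smul_eq_mul, x0_apply_b, mul_ite, mul_zero,
        Finset.sum_ite_eq, Finset.mem_univ, if_true]
      exact hb i
    · funext i
      show pt v i = (∑ j, pa v j • x0 (m := m) lam j) (Fin.natAdd (k + k) i)
      rw [Finset.sum_apply]
      simp only [Pi.smul_apply, smul_eq_mul, x0_apply_t, mul_zero, Finset.sum_const_zero]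
      exact congrFun ht i
  rw [hv]
  exact Submodule.sum_mem _ (fun j _ => Submodule.smul_mem _ _ (Submodule.subset_span ⟨j, rfl⟩))

theorem orth_iff (hF : Fintype.card F = q ^ 2) (lam : F) (v : Fin (k + k + m) → F) :
    (∀ j, Cfsg.hermForm (k + k + m) F q v (x0 lam j) = 0) ↔
      ∀ j, pa v j = -(pb v j * lam ^ q) := by
  constructor
  · intro h j
    have h1 := h j
    rw [hf_x0 hF] at h1
    exact eq_neg_of_add_eq_zero_left h1
  · intro h j
    rw [hf_x0 hF, h j]
    ring

theorem hf_self_of_orth (hF : Fintype.card F = q ^ 2) {lam : F} (hlam : lam ^ (q + 1) = -1)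
    {v : Fin (k + k + m) → F} (ho : ∀ j, pa v j = -(pb v j * lam ^ q)) :
    Cfsg.hermForm (k + k + m) F q v v = Cfsg.hermForm m F q (pt v) (pt v) := by
  have hL : lam * lam ^ q = -1 := by rw [← pow_succ']; exact hlam
  have hpa : pa v = (-(lam ^ q)) • pb v := by
    funext j
    rw [ho j, Pi.smul_apply, smul_eq_mul]
    ring
  have hc : cj hF (-(lam ^ q)) = -lam := by
    rw [map_neg, ← cj_apply hF lam, cj_cj]
  rw [hf_split, hpa, hf_smul_left, hf_smul_right hF, hc]
  linear_combination (Cfsg.hermForm k F q (pb v) (pb v)) * hL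

/-- the fibre over the standard frame -/
def fibFun (hF : Fintype.card F = q ^ 2) {lam : F} (hlam : lam ^ (q + 1) = -1)
    (v : Fib (X0 (k := k) (m := m) hF hlam)) :
    (Fin k → F) × {t : Fin m → F // Cfsg.hermForm m F q t t = 0 ∧ t ≠ 0} :=
  (pb v.1, ⟨pt v.1, by
    have ho := (orth_iff hF lam v.1).mp v.2.1
    rw [← hf_self_of_orth hF hlam ho]
    exact v.2.2.1, by
    intro h0
    have ho := (orth_iff hF lam v.1).mp v.2.1
    exact v.2.2.2 (mem_span_of hF hlam ho h0)⟩)

theorem fibFun_bijective (hF : Fintype.card F = q ^ 2) {lam : F} (hlam : lam ^ (q + 1) = -1) :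
    Function.Bijective (fibFun (k := k) (m := m) hF hlam) := by
  constructor
  · intro v w h
    have hb : pb v.1 = pb w.1 := congrArg Prod.fst h
    have ht : pt v.1 = pt w.1 := congrArg (fun p => (p.2 : Fin m → F)) h
    have hov := (orth_iff hF lam v.1).mp v.2.1
    have how := (orth_iff hF lam w.1).mp w.2.1
    apply Subtype.ext
    apply ext3 _ hb ht
    funext j
    rw [hov j, how j, hb]
  · rintro ⟨b, ⟨t, ht0, htne⟩⟩
    have ho : ∀ j, pa (join (fun j => -(b j * lam ^ q)) b t) j =
        -(pb (join (fun j => -(b j * lam ^ q)) b t) j * lam ^ q) := by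
      intro j
      rw [pa_join, pb_join]
    refine ⟨⟨join (fun j => -(b j * lam ^ q)) b t, (orth_iff hF lam _).mpr ho, ?_, ?_⟩, ?_⟩
    · rw [hf_self_of_orth hF hlam ho, pt_join]
      exact ht0
    · intro hmem
      have := pt_eq_zero_of_mem_span hmem
      rw [pt_join] at this
      exact htne this
    · unfold fibFun
      apply Prod.ext
      · exact pb_join _ _ _
      · apply Subtype.ext
        exact pt_join _ _ _

theorem card_iso_ne_zero (m : ℕ) :
    Nat.card {t : Fin m → F // Cfsg.hermForm m F q t t = 0 ∧ t ≠ 0} = T q m (0 : F) - 1 := by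
  rw [← card_hermForm_eq m (0 : F)]
  have h0 : (0 : Fin m → F) ∈ {t : Fin m → F | Cfsg.hermForm m F q t t = 0} := hf_zero_left _
  have e1 : Nat.card {t : Fin m → F // Cfsg.hermForm m F q t t = 0 ∧ t ≠ 0} =
      ({t : Fin m → F | Cfsg.hermForm m F q t t = 0} \ {0}).ncard := by
    rw [← Nat.card_coe_set_eq]
    rfl
  have e2 : Nat.card {t : Fin m → F // Cfsg.hermForm m F q t t = 0} =
      {t : Fin m → F | Cfsg.hermForm m F q t t = 0}.ncard := by
    rw [← Nat.card_coe_set_eq]
    rfl
  rw [e1, e2, Set.ncard_sdiff_singleton_of_mem h0]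

theorem card_Fib_X0 (hF : Fintype.card F = q ^ 2) {lam : F} (hlam : lam ^ (q + 1) = -1) :
    Nat.card (Fib (X0 (k := k) (m := m) hF hlam)) = q ^ (2 * k) * (T q m (0 : F) - 1) := by
  rw [Nat.card_congr (Equiv.ofBijective _ (fibFun_bijective hF hlam)), Nat.card_prod,
    card_iso_ne_zero, Nat.card_fun, Nat.card_eq_fintype_card, Nat.card_eq_fintype_card, hF,
    Fintype.card_fin, ← pow_mul]

end std

theorem exists_lam (hF : Fintype.card F = q ^ 2) : ∃ lam : F, lam ^ (q + 1) = -1 := by
  obtain ⟨a, ha⟩ := Cfsg.Agent.Helper28.exists_norm_eq (cj hF)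
    (Cfsg.Agent.S0837.frob_ne_id hF (cj hF) (fun x => rfl)) (cj_cj hF) (-1)
    (neg_ne_zero.mpr one_ne_zero) (by rw [map_neg, map_one])
  refine ⟨a, ?_⟩
  rw [pow_succ', ← cj_apply hF]
  exact ha

theorem card_Fib (hF : Fintype.card F = q ^ 2) {k : ℕ} (hk : 2 * k ≤ n) (x : Fr F q n k) :
    Nat.card (Fib x) = q ^ (2 * k) * (T q (n - 2 * k) (0 : F) - 1) := by
  obtain ⟨m, rfl⟩ : ∃ m, n = k + k + m := ⟨n - 2 * k, by omega⟩
  obtain ⟨lam, hlam⟩ := exists_lam hF
  obtain ⟨g, hg⟩ := exists_smul_eq hF (X0 hF hlam) x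
  have e : k + k + m - 2 * k = m := by omega
  rw [← hg, card_Fib_smul, card_Fib_X0 hF hlam, e]

theorem card_Fr (hF : Fintype.card F = q ^ 2) (k : ℕ) (hk : 2 * k ≤ n) :
    Nat.card (Fr F q n k) =
      ∏ j ∈ Finset.range k, (q ^ (2 * j) * (T q (n - 2 * j) (0 : F) - 1)) := by
  classical
  induction k with
  | zero =>
    rw [Finset.range_zero, Finset.prod_empty]
    haveI : Subsingleton (Fr F q n 0) := ⟨fun a b => Subtype.ext (Subsingleton.elim _ _)⟩
    haveI : Nonempty (Fr F q n 0) := ⟨⟨fun i => i.elim0, linearIndependent_empty_type,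
      fun i => i.elim0⟩⟩
    exact Nat.card_unique
  | succ k ih =>
    haveI : Fintype (Fr F q n k) := Fintype.ofFinite _
    have hk' : 2 * k ≤ n := by omega
    rw [Nat.card_congr (frEquiv hF k), Nat.card_sigma, Finset.prod_range_succ, ← ih hk']
    simp only [card_Fib hF hk', Finset.sum_const, Finset.card_univ, smul_eq_mul,
      Nat.card_eq_fintype_card]

end Cfsg.Agent.Helper2.UFrames
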