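import Mathlib
import Cfsg.Agent.Helper2.UFrames

/-! The stabiliser of a totally isotropic subspace in `GU` and `SU` (for S0782). -/

set_option autoImplicit false
set_option linter.unusedSectionVars false
set_option linter.unusedVariables false

namespace Cfsg.Agent.Helper2.UStab

open Matrix Module Submodule Cfsg.Agent.Helper2.Herm Cfsg.Agent.Helper2.UFrames

variable {F : Type*} [Field F] [Fintype F] {q n : ℕ}

/-! ### orbit-stabiliser -/

theorem card_G_eq (hF : Fintype.card F = q ^ 2) {k : ℕ} (y₀ : Fr F q n k) :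
    Nat.card (Gn n F q) =
      Nat.card (Fr F q n k) * Nat.card (MulAction.stabilizer (Gn n F q) y₀) := by
  rw [← Nat.card_congr (MulAction.orbitProdStabilizerEquivGroup (Gn n F q) y₀), Nat.card_prod]
  congr 1
  have : MulAction.orbit (Gn n F q) y₀ = Set.univ := by
    ext y
    simp only [Set.mem_univ, iff_true]
    obtain ⟨g, hg⟩ := exists_smul_eq hF y₀ y
    exact ⟨g, hg⟩
  rw [this]
  exact Nat.card_congr (Equiv.Set.univ _)

/-- `GU` as matrices -/
abbrev toMatGU (n : ℕ) (F : Type*) [Field F] (q : ℕ) : Gn n F q →* Matrix (Fin n) (Fin n) F :=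
  (Units.coeHom (Matrix (Fin n) (Fin n) F)).comp (Cfsg.GU n F q).subtype

/-- the stabiliser of a subspace in `GU` -/
abbrev HW (q : ℕ) (W : Submodule F (Fin n → F)) : Subgroup (Gn n F q) :=
  Cfsg.stabilizing (toMatGU n F q) (W : Set (Fin n → F))

theorem mem_HW_iff (W : Submodule F (Fin n → F)) (g : Gn n F q) :
    g ∈ HW q W ↔ ∀ v, v ∈ W ↔ mat g *ᵥ v ∈ W := Iff.rfl

theorem toLin_injective (g : Gn n F q) : Function.Injective (Matrix.toLin' (mat g)) := by
  intro v w h
  rw [Matrix.toLin'_apply, Matrix.toLin'_apply] at h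
  exact mulVec_injective g h

theorem mem_HW_of_le (W : Submodule F (Fin n → F)) (g : Gn n F q)
    (h : ∀ v ∈ W, mat g *ᵥ v ∈ W) : g ∈ HW q W := by
  have hmap : W.map (Matrix.toLin' (mat g)) = W := by
    apply Submodule.eq_of_le_of_finrank_eq
    · rintro _ ⟨v, hv, rfl⟩
      rw [Matrix.toLin'_apply]
      exact h v hv
    · exact (Submodule.equivMapOfInjective _ (toLin_injective g) W).finrank_eq.symm
  rw [mem_HW_iff]
  intro v
  constructor
  · intro hv
    exact h v hv
  · intro hv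
    rw [← hmap] at hv
    obtain ⟨w, hw, hwv⟩ := hv
    rw [Matrix.toLin'_apply] at hwv
    have := mulVec_injective g hwv
    rw [← this]
    exact hw

theorem span_eq_of_mem {k : ℕ} (W : Submodule F (Fin n → F)) (hWk : finrank F W = k)
    (y : Fr F q n k) (hy : ∀ i, y.1 i ∈ W) : span F (Set.range y.1) = W := by
  apply Submodule.eq_of_le_of_finrank_eq
  · rw [Submodule.span_le]
    rintro _ ⟨i, rfl⟩
    exact hy i
  · rw [finrank_span_eq_card y.2.1, Fintype.card_fin, hWk]

theorem mem_HW_of_smul {k : ℕ} (W : Submodule F (Fin n → F)) (hWk : finrank F W = k)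
    (y₀ y : Fr F q n k) (hy₀ : ∀ i, y₀.1 i ∈ W) (hy : ∀ i, y.1 i ∈ W) (g : Gn n F q)
    (hg : g • y₀ = y) : g ∈ HW q W := by
  have h0 := span_eq_of_mem W hWk y₀ hy₀
  apply mem_HW_of_le
  intro v hv
  rw [← h0] at hv
  induction hv using Submodule.span_induction with
  | mem v hv =>
    obtain ⟨i, rfl⟩ := hv
    have : mat g *ᵥ y₀.1 i = y.1 i := by rw [← hg, smul_val]
    rw [this]
    exact hy i
  | zero => rw [Matrix.mulVec_zero]; exact W.zero_mem
  | add a b _ _ ha hb => rw [Matrix.mulVec_add]; exact W.add_mem ha hb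
  | smul c a _ ha => rw [Matrix.mulVec_smul]; exact W.smul_mem c ha

theorem stab_le_HW {k : ℕ} (W : Submodule F (Fin n → F)) (hWk : finrank F W = k)
    (y₀ : Fr F q n k) (hy₀ : ∀ i, y₀.1 i ∈ W) :
    MulAction.stabilizer (Gn n F q) y₀ ≤ HW q W := by
  intro g hg
  rw [MulAction.mem_stabilizer_iff] at hg
  exact mem_HW_of_smul W hWk y₀ y₀ hy₀ hy₀ g hg

/-- frames inside `W` correspond to linearly independent tuples of `W` -/
def frameEquiv {k : ℕ} (W : Submodule F (Fin n → F))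
    (hW : ∀ u ∈ W, ∀ v ∈ W, Cfsg.hermForm n F q u v = 0) :
    {y : Fr F q n k // ∀ i, y.1 i ∈ W} ≃ {s : Fin k → W // LinearIndependent F s} where
  toFun y := ⟨fun i => ⟨y.1.1 i, y.2 i⟩, by
    apply LinearIndependent.of_comp W.subtype
    exact y.1.2.1⟩
  invFun s := ⟨⟨fun i => (s.1 i : Fin n → F), s.2.map' W.subtype (Submodule.ker_subtype W),
    fun i j => hW _ (s.1 i).2 _ (s.1 j).2⟩, fun i => (s.1 i).2⟩
  left_inv y := by
    apply Subtype.ext
    apply Subtype.ext
    rfl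
  right_inv s := by
    apply Subtype.ext
    rfl

theorem Fr_nonempty {k : ℕ} (W : Submodule F (Fin n → F))
    (hWk : finrank F W = k) (hW : ∀ u ∈ W, ∀ v ∈ W, Cfsg.hermForm n F q u v = 0) :
    Nonempty (Fr F q n k) := by
  obtain ⟨b, hb⟩ : ∃ b : Basis (Fin k) F W, b = Module.finBasisOfFinrankEq F W hWk := ⟨_, rfl⟩
  have hli : LinearIndependent F (fun i => (b i : Fin n → F)) :=
    b.linearIndependent.map' W.subtype (Submodule.ker_subtype W)
  exact ⟨⟨fun i => (b i : Fin n → F), hli, fun i j => hW _ (b i).2 _ (b j).2⟩⟩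

theorem card_HW (hF : Fintype.card F = q ^ 2) {k : ℕ} (W : Submodule F (Fin n → F))
    (hWk : finrank F W = k) (hW : ∀ u ∈ W, ∀ v ∈ W, Cfsg.hermForm n F q u v = 0) :
    Nat.card (HW q W) * Nat.card (Fr F q n k) =
      (∏ i : Fin k, ((q ^ 2) ^ k - (q ^ 2) ^ (i : ℕ))) * Nat.card (Gn n F q) := by
  classical
  obtain ⟨b, hb⟩ : ∃ b : Basis (Fin k) F W, b = Module.finBasisOfFinrankEq F W hWk := ⟨_, rfl⟩
  have hli : LinearIndependent F (fun i => (b i : Fin n → F)) :=
    b.linearIndependent.map' W.subtype (Submodule.ker_subtype W)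
  obtain ⟨y₀, hy₀⟩ : ∃ y₀ : Fr F q n k, y₀ =
    ⟨fun i => (b i : Fin n → F), hli, fun i j => hW _ (b i).2 _ (b j).2⟩ := ⟨_, rfl⟩
  have hy₀W : ∀ i, y₀.1 i ∈ W := by
    intro i
    rw [hy₀]
    exact (b i).2
  obtain ⟨C, hC⟩ : ∃ C : Subgroup (Gn n F q), C = MulAction.stabilizer (Gn n F q) y₀ := ⟨_, rfl⟩
  have hCH : C ≤ HW q W := by
    rw [hC]
    exact stab_le_HW W hWk y₀ hy₀W
  have h1 := card_G_eq hF y₀
  have horb : MulAction.orbit (HW q W) y₀ = {y : Fr F q n k | ∀ i, y.1 i ∈ W} := by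
    ext y
    constructor
    · rintro ⟨h, rfl⟩ i
      have : (h • y₀).1 i = mat (h : Gn n F q) *ᵥ y₀.1 i := rfl
      rw [this]
      exact ((mem_HW_iff W h.1).mp h.2 _).mp (hy₀W i)
    · intro hy
      obtain ⟨g, hg⟩ := exists_smul_eq hF y₀ y
      exact ⟨⟨g, mem_HW_of_smul W hWk y₀ y hy₀W hy g hg⟩, hg⟩
  have hstab : MulAction.stabilizer (HW q W) y₀ = C.subgroupOf (HW q W) := by
    ext h
    rw [MulAction.mem_stabilizer_iff, Subgroup.mem_subgroupOf, hC, MulAction.mem_stabilizer_iff]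
    rfl
  have h2 : Nat.card (HW q W) = Nat.card (MulAction.orbit (HW q W) y₀) *
      Nat.card (MulAction.stabilizer (HW q W) y₀) := by
    rw [← Nat.card_congr (MulAction.orbitProdStabilizerEquivGroup (HW q W) y₀), Nat.card_prod]
  have h3 : Nat.card (MulAction.stabilizer (HW q W) y₀) = Nat.card C := by
    rw [hstab]
    exact Nat.card_congr (Subgroup.subgroupOfEquivOfLe hCH).toEquiv
  have h4 : Nat.card (MulAction.orbit (HW q W) y₀) =
      ∏ i : Fin k, ((q ^ 2) ^ k - (q ^ 2) ^ (i : ℕ)) := by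
    rw [horb]
    have := card_linearIndependent (K := F) (V := W) (k := k) (by rw [hWk])
    rw [hWk, hF] at this
    rw [← this]
    exact Nat.card_congr (frameEquiv W hW)
  rw [h2, h3, h4, h1, ← hC]
  ring

/-! ### Hilbert 90 for `F / F₀` -/

theorem range_pow_sub (hF : Fintype.card F = q ^ 2) :
    (powMonoidHom (q - 1) : Fˣ →* Fˣ).range = (powMonoidHom (q + 1) : Fˣ →* Fˣ).ker := by
  have hq := two_le_q hF
  have hle : (powMonoidHom (q - 1) : Fˣ →* Fˣ).range ≤
      (powMonoidHom (q + 1) : Fˣ →* Fˣ).ker := by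
    rintro _ ⟨u, rfl⟩
    rw [MonoidHom.mem_ker, powMonoidHom_apply, powMonoidHom_apply, ← pow_mul, mul_comm,
      ← factor hq, ← card_units hF]
    exact pow_card_eq_one'
  apply Subgroup.eq_of_le_of_card_ge hle
  rw [IsCyclic.card_powMonoidHom_range, IsCyclic.card_powMonoidHom_ker, card_units hF, factor hq,
    Nat.gcd_mul_right_left, Nat.gcd_mul_left_left, Nat.mul_div_cancel _ (by omega : 0 < q - 1)]

theorem exists_pow_sub_eq (hF : Fintype.card F = q ^ 2) (z : Fˣ) (hz : z ^ (q + 1) = 1) :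
    ∃ ν : Fˣ, ν ^ (q - 1) = z := by
  have : z ∈ (powMonoidHom (q - 1) : Fˣ →* Fˣ).range := by
    rw [range_pow_sub hF, MonoidHom.mem_ker, powMonoidHom_apply]
    exact hz
  obtain ⟨ν, hν⟩ := this
  exact ⟨ν, hν⟩

/-! ### hyperbolic partner -/

theorem exists_partner (hF : Fintype.card F = q ^ 2) (x : Fin n → F) (hx0 : x ≠ 0)
    (hxx : Cfsg.hermForm n F q x x = 0) :
    ∃ y : Fin n → F, Cfsg.hermForm n F q y y = 0 ∧ Cfsg.hermForm n F q x y = 1 := by
  have hσid := Cfsg.Agent.S0837.frob_ne_id hF (cj hF) (fun a => rfl)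
  obtain ⟨i, hi⟩ : ∃ i, x i ≠ 0 := by
    by_contra hcon
    push Not at hcon
    exact hx0 (funext hcon)
  -- a vector pairing to 1 with x
  have h0 : Cfsg.hermForm n F q x (Pi.single i 1) = x i := by
    unfold Cfsg.hermForm
    rw [Finset.sum_eq_single i]
    · rw [Pi.single_eq_same, one_pow, mul_one]
    · intro j _ hji
      rw [Pi.single_eq_of_ne hji, zero_pow (by have := two_le_q hF; omega), mul_zero]
    · intro h; exact absurd (Finset.mem_univ i) h
  obtain ⟨w, hw⟩ : ∃ w : Fin n → F, w = (cj hF (x i))⁻¹ • Pi.single i 1 := ⟨_, rfl⟩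
  have hxw : Cfsg.hermForm n F q x w = 1 := by
    rw [hw, hf_smul_right hF, h0, map_inv₀, cj_cj]
    exact inv_mul_cancel₀ hi
  have hwx : Cfsg.hermForm n F q w x = 1 := by
    rw [← hf_symm hF, hxw, map_one]
  have hfix : cj hF (-(Cfsg.hermForm n F q w w)) = -(Cfsg.hermForm n F q w w) := by
    rw [map_neg, hf_symm hF]
  obtain ⟨c, hc⟩ := Cfsg.Agent.Helper28.HW.exists_trace_eq hσid (cj_cj hF) _ hfix
  refine ⟨w + c • x, ?_, ?_⟩
  · rw [hf_add_left, hf_add_right hF, hf_add_right hF, hf_smul_left, hf_smul_left,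
      hf_smul_right hF, hf_smul_right hF, hxx, hwx, hxw]
    linear_combination hc
  · rw [hf_add_right hF, hf_smul_right hF, hxx, hxw]
    ring

/-! ### torus elements -/

section torus

variable (q) (x y : Fin n → F) (a b : F)

def tU : Matrix (Fin n) (Fin 2) F := Matrix.of fun i c => if c = 0 then a * x i else b * y i

def tV : Matrix (Fin 2) (Fin n) F := Matrix.of fun c j => if c = 0 then y j ^ q else x j ^ q

def tA : Matrix (Fin n) (Fin n) F := 1 + tU x y a b * tV q x y

theorem tV_mulVec (v : Fin n → F) (c : Fin 2) :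
    (tV q x y *ᵥ v) c = Cfsg.hermForm n F q v (if c = 0 then y else x) := by
  show ∑ j, tV q x y c j * v j = _
  unfold Cfsg.hermForm
  apply Finset.sum_congr rfl
  intro j _
  simp only [tV, Matrix.of_apply]
  split_ifs <;> ring

theorem tA_mulVec (v : Fin n → F) :
    tA q x y a b *ᵥ v = v + (a * Cfsg.hermForm n F q v y) • x +
      (b * Cfsg.hermForm n F q v x) • y := by
  unfold tA
  rw [Matrix.add_mulVec, Matrix.one_mulVec, ← Matrix.mulVec_mulVec, add_assoc]
  congr 1
  funext i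
  show ∑ c, tU x y a b i c * (tV q x y *ᵥ v) c = _
  rw [Fin.sum_univ_two, tV_mulVec, tV_mulVec]
  have h10 : (1 : Fin 2) ≠ 0 := by decide
  simp only [tU, Matrix.of_apply, if_neg h10, if_true, Pi.add_apply, Pi.smul_apply, smul_eq_mul]
  ring

theorem tVU_apply (c d : Fin 2) : (tV q x y * tU x y a b) c d =
    (if d = 0 then a else b) *
      Cfsg.hermForm n F q (if d = 0 then x else y) (if c = 0 then y else x) := by
  rw [Matrix.mul_apply]
  unfold Cfsg.hermForm
  rw [Finset.mul_sum]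
  apply Finset.sum_congr rfl
  intro i _
  simp only [tU, tV, Matrix.of_apply]
  split_ifs <;> ring

theorem det_tA (hxx : Cfsg.hermForm n F q x x = 0) (hyy : Cfsg.hermForm n F q y y = 0)
    (hxy : Cfsg.hermForm n F q x y = 1) (hyx : Cfsg.hermForm n F q y x = 1) :
    (tA q x y a b).det = (1 + a) * (1 + b) := by
  unfold tA
  rw [Matrix.det_one_add_mul_comm, Matrix.det_fin_two]
  simp [tVU_apply, hxx, hyy, hxy, hyx]

theorem tA_preserves (hF : Fintype.card F = q ^ 2) (hxx : Cfsg.hermForm n F q x x = 0)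
    (hyy : Cfsg.hermForm n F q y y = 0) (hxy : Cfsg.hermForm n F q x y = 1)
    (hab : a + cj hF b + a * cj hF b = 0) (u w : Fin n → F) :
    Cfsg.hermForm n F q (tA q x y a b *ᵥ u) (tA q x y a b *ᵥ w) = Cfsg.hermForm n F q u w := by
  have hyx : Cfsg.hermForm n F q y x = 1 := by rw [← hf_symm hF, hxy, map_one]
  have hab' : cj hF a + b + cj hF a * b = 0 := by
    have := congrArg (cj hF) hab
    rw [map_add, map_add, map_mul, cj_cj, map_zero] at this
    exact this
  have e1 : cj hF (Cfsg.hermForm n F q w y) = Cfsg.hermForm n F q y w := hf_symm hF w y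
  have e2 : cj hF (Cfsg.hermForm n F q w x) = Cfsg.hermForm n F q x w := hf_symm hF w x
  rw [tA_mulVec, tA_mulVec]
  simp only [hf_add_left, hf_add_right hF, hf_smul_left, hf_smul_right hF, map_mul, e1, e2, hxx,
    hyy, hxy, hyx]
  linear_combination (Cfsg.hermForm n F q u y * Cfsg.hermForm n F q x w) * hab +
    (Cfsg.hermForm n F q u x * Cfsg.hermForm n F q y w) * hab'

end torus

/-- the determinant on the stabiliser -/
noncomputable def detHW (q : ℕ) (W : Submodule F (Fin n → F)) : ↥(HW q W) →* Fˣ :=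
  (detGU F q n).comp (HW q W).subtype

theorem detHW_val (W : Submodule F (Fin n → F)) (g : ↥(HW q W)) :
    ((detHW q W g : Fˣ) : F) = (mat (g : Gn n F q)).det := rfl

theorem exists_det_eq (hF : Fintype.card F = q ^ 2) (hn : 1 ≤ n) (W : Submodule F (Fin n → F))
    (hW : ∀ u ∈ W, ∀ v ∈ W, Cfsg.hermForm n F q u v = 0) (z : Fˣ) (hz : z ^ (q + 1) = 1) :
    ∃ g : ↥(HW q W), detHW q W g = z := by
  have hq := two_le_q hF
  by_cases hbot : W = ⊥
  · -- everything stabilises `⊥`
    obtain ⟨n', rfl⟩ : ∃ n', n = n' + 1 := ⟨n - 1, by omega⟩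
    have hz' : z ∈ (detGU F q (n' + 1)).range := by
      rw [range_detGU hF, MonoidHom.mem_ker, powMonoidHom_apply]
      exact hz
    obtain ⟨g, hg⟩ := hz'
    refine ⟨⟨g, mem_HW_of_le W g ?_⟩, hg⟩
    intro v hv
    rw [hbot, Submodule.mem_bot] at hv
    rw [hv, Matrix.mulVec_zero]
    exact W.zero_mem
  · obtain ⟨x, hxW, hx0⟩ := Submodule.exists_mem_ne_zero_of_ne_bot hbot
    have hxx := hW x hxW x hxW
    obtain ⟨y, hyy, hxy⟩ := exists_partner hF x hx0 hxx
    have hyx : Cfsg.hermForm n F q y x = 1 := by rw [← hf_symm hF, hxy, map_one]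
    obtain ⟨ν, hν⟩ := exists_pow_sub_eq hF z hz
    have hν0 : (ν : F) ≠ 0 := ν.ne_zero
    obtain ⟨a, ha⟩ : ∃ a : F, a = (ν : F)⁻¹ - 1 := ⟨_, rfl⟩
    obtain ⟨b, hb⟩ : ∃ b : F, b = (ν : F) ^ q - 1 := ⟨_, rfl⟩
    have hcb : cj hF b = (ν : F) - 1 := by
      rw [hb, map_sub, map_one, ← cj_apply hF (ν : F), cj_cj]
    have hab : a + cj hF b + a * cj hF b = 0 := by
      rw [hcb, ha]
      field_simp
      ring
    obtain ⟨g, hg⟩ := exists_GU_of_isometry hF (Matrix.toLin' (tA q x y a b)) (by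
      intro u w
      rw [Matrix.toLin'_apply, Matrix.toLin'_apply]
      exact tA_preserves q x y a b hF hxx hyy hxy hab u w)
    have hgA : mat g = tA q x y a b := by
      apply Matrix.toLin'.injective
      apply LinearMap.ext
      intro v
      rw [Matrix.toLin'_apply, hg]
    have hgW : g ∈ HW q W := by
      apply mem_HW_of_le
      intro v hv
      rw [hgA, tA_mulVec, hW v hv x hxW, mul_zero, zero_smul, add_zero]
      exact W.add_mem hv (W.smul_mem _ hxW)
    refine ⟨⟨g, hgW⟩, ?_⟩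
    apply Units.ext
    rw [detHW_val]
    show (mat g).det = (z : F)
    rw [hgA, det_tA q x y a b hxx hyy hxy hyx, ← hν, Units.val_pow_eq_pow_val, ha, hb]
    obtain ⟨r, hr⟩ : ∃ r, q = r + 1 := ⟨q - 1, by omega⟩
    rw [hr, Nat.add_sub_cancel, pow_succ]
    field_simp
    ring

theorem range_detHW (hF : Fintype.card F = q ^ 2) (hn : 1 ≤ n) (W : Submodule F (Fin n → F))
    (hW : ∀ u ∈ W, ∀ v ∈ W, Cfsg.hermForm n F q u v = 0) :
    (detHW q W).range = (powMonoidHom (q + 1) : Fˣ →* Fˣ).ker := by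
  ext z
  constructor
  · rintro ⟨g, rfl⟩
    rw [MonoidHom.mem_ker, powMonoidHom_apply]
    exact det_pow_eq_one hF g.1.2
  · intro hz
    rw [MonoidHom.mem_ker, powMonoidHom_apply] at hz
    exact exists_det_eq hF hn W hW z hz

/-! ### the stabiliser in `SU` -/

theorem card_stabSU (W : Submodule F (Fin n → F)) :
    Nat.card ↥((Cfsg.stabilizing (Cfsg.slToMat n F) (W : Set (Fin n → F))).subgroupOf
      (Cfsg.SU n F q)) = Nat.card (detHW q W).ker := by
  apply Nat.card_congr
  refine Equiv.ofBijective (fun s => ⟨⟨⟨SpecialLinearGroup.toGL s.1.1,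
    (mem_SU_iff s.1.1).mp s.1.2⟩, ?_⟩, ?_⟩) ⟨?_, ?_⟩
  · exact s.2
  · rw [MonoidHom.mem_ker]
    change Matrix.GeneralLinearGroup.det (SpecialLinearGroup.toGL s.1.1) = 1
    apply Units.ext
    rw [Matrix.GeneralLinearGroup.val_det_apply]
    exact s.1.1.2
  · intro s s' h
    have h1 : SpecialLinearGroup.toGL s.1.1 = SpecialLinearGroup.toGL s'.1.1 :=
      congrArg (fun x : (detHW q W).ker => (((x : ↥(HW q W)) : Gn n F q) : GL (Fin n) F)) h
    exact Subtype.ext (Subtype.ext (SpecialLinearGroup.toGL_injective h1))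
  · rintro ⟨⟨⟨g, hg⟩, hgW⟩, hdet⟩
    rw [MonoidHom.mem_ker] at hdet
    have hdet' : (g : Matrix (Fin n) (Fin n) F).det = 1 := by
      have := congrArg Units.val hdet
      rw [detHW_val] at this
      exact this
    let s : SpecialLinearGroup (Fin n) F := ⟨(g : Matrix (Fin n) (Fin n) F), hdet'⟩
    have hs : SpecialLinearGroup.toGL s = g := by
      apply Units.ext
      rfl
    have hsSU : s ∈ Cfsg.SU n F q := by
      rw [mem_SU_iff, hs]; exact hg
    refine ⟨⟨⟨s, hsSU⟩, hgW⟩, ?_⟩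
    apply Subtype.ext
    apply Subtype.ext
    apply Subtype.ext
    exact hs

theorem card_stabSU_mul (hF : Fintype.card F = q ^ 2) (hn : 1 ≤ n) (W : Submodule F (Fin n → F))
    (hW : ∀ u ∈ W, ∀ v ∈ W, Cfsg.hermForm n F q u v = 0) :
    (q + 1) * Nat.card ↥((Cfsg.stabilizing (Cfsg.slToMat n F) (W : Set (Fin n → F))).subgroupOf
      (Cfsg.SU n F q)) = Nat.card (HW q W) := by
  rw [card_stabSU, ← Subgroup.card_mul_index (detHW q W).ker, Subgroup.index_ker,
    range_detHW hF hn W hW, card_ker_norm hF, mul_comm]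

/-! ### arithmetic -/

/-- the factor `q^(i+1) - (-1)^(i+1)` -/
def ff (q i : ℕ) : ℕ := if Even i then q ^ (i + 1) + 1 else q ^ (i + 1) - 1

def PP (q n : ℕ) : ℕ := ∏ i ∈ Finset.range n, ff q i

def tri (n : ℕ) : ℕ := n * (n - 1) / 2

theorem tri_add_two (n : ℕ) : tri (n + 2) = tri n + (2 * n + 1) := by
  unfold tri
  have h1 := Nat.triangle_succ (n + 1)
  have h2 := Nat.triangle_succ n
  have e : n + 1 + 1 = n + 2 := rfl
  rw [e] at h1
  rw [h1, h2]
  ring

theorem T_sub_one (hF : Fintype.card F = q ^ 2) (d : ℕ) :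
    T q (d + 2) (0 : F) - 1 = ff q d * ff q (d + 1) := by
  rw [T_zero hF, Nat.add_sub_cancel]
  have e : d + 2 - 1 = d + 1 := by omega
  have e2 : d + 1 + 1 = d + 2 := rfl
  rw [e]
  unfold ff
  rw [e2]
  by_cases hev : Even d
  · have h2 : Even (d + 2) := by
      rw [Nat.even_add]
      simp [hev]
    have h1 : ¬ Even (d + 1) := by
      rw [Nat.even_add_one]
      exact not_not.mpr hev
    rw [if_pos h2, if_pos hev, if_neg h1]
    exact mul_comm _ _
  · have h2 : ¬ Even (d + 2) := by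
      rw [Nat.even_add]
      simp [hev]
    have h1 : Even (d + 1) := by
      rw [Nat.even_add_one]
      exact hev
    rw [if_neg h2, if_neg hev, if_pos h1]
    exact mul_comm _ _

theorem PP_add_two (n : ℕ) : PP q (n + 2) = PP q n * (ff q n * ff q (n + 1)) := by
  unfold PP
  rw [Finset.prod_range_succ, Finset.prod_range_succ]
  ring

theorem key_arith (hF : Fintype.card F = q ^ 2) (m : ℕ) : ∀ k : ℕ,
    q ^ (k * (k + 2 * m)) * (q ^ tri m * PP q m) *
      ∏ j ∈ Finset.range k, (q ^ (2 * j) * (T q (2 * k + m - 2 * j) (0 : F) - 1)) =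
    q ^ tri (2 * k + m) * PP q (2 * k + m) := by
  intro k
  induction k with
  | zero => simp
  | succ k ih =>
    rw [Finset.prod_range_succ']
    have e : ∀ j, q ^ (2 * (j + 1)) * (T q (2 * (k + 1) + m - 2 * (j + 1)) (0 : F) - 1) =
        q ^ 2 * (q ^ (2 * j) * (T q (2 * k + m - 2 * j) (0 : F) - 1)) := by
      intro j
      have : 2 * (k + 1) + m - 2 * (j + 1) = 2 * k + m - 2 * j := by omega
      rw [this]
      ring
    simp only [e]
    rw [Finset.prod_mul_distrib, Finset.prod_const, Finset.card_range]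
    have e0 : 2 * (k + 1) + m - 2 * 0 = (2 * k + m) + 2 := by omega
    have eN : 2 * (k + 1) + m = (2 * k + m) + 2 := by omega
    rw [e0, T_sub_one hF, eN, tri_add_two, PP_add_two]
    calc _ = (q ^ (k * (k + 2 * m)) * (q ^ tri m * PP q m) *
          ∏ j ∈ Finset.range k, (q ^ (2 * j) * (T q (2 * k + m - 2 * j) (0 : F) - 1))) *
          (q ^ (2 * (2 * k + m) + 1) * (ff q (2 * k + m) * ff q (2 * k + m + 1))) := by ring
      _ = _ := by rw [ih]; ring

theorem result_gen (hF : Fintype.card F = q ^ 2) (n k : ℕ) (hn : 1 ≤ n) (hk : 2 * k ≤ n)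
    (W : Submodule F (Fin n → F)) (hWk : Module.finrank F W = k)
    (hW : ∀ u ∈ W, ∀ v ∈ W, Cfsg.hermForm n F q u v = 0) :
    (q + 1) * Nat.card ↥((Cfsg.stabilizing (Cfsg.slToMat n F) (W : Set (Fin n → F))).subgroupOf
      (Cfsg.SU n F q)) =
    q ^ (k * (2 * n - 3 * k)) * (∏ i : Fin k, ((q ^ 2) ^ k - (q ^ 2) ^ (i : ℕ))) *
      (q ^ ((n - 2 * k) * ((n - 2 * k) - 1) / 2) *
        ∏ i ∈ Finset.range (n - 2 * k), (if Even i then q ^ (i + 1) + 1 else q ^ (i + 1) - 1)) := by
  have h1 := card_stabSU_mul hF hn W hW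
  have h2 := card_HW hF W hWk hW
  have h3 := card_Fr (F := F) (n := n) hF k hk
  have h4 := card_GU_closed hF n
  obtain ⟨m, rfl⟩ : ∃ m, n = 2 * k + m := ⟨n - 2 * k, by omega⟩
  have h5 := key_arith hF m k
  have hne := Fr_nonempty W hWk hW
  have hpos : 0 < Nat.card (Fr F q (2 * k + m) k) := Nat.card_pos
  apply Nat.eq_of_mul_eq_mul_right hpos
  rw [h1, h2, h4, h3]
  have e1 : 2 * (2 * k + m) - 3 * k = k + 2 * m := by omega
  have e2 : 2 * k + m - 2 * k = m := by omega
  rw [e1, e2]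
  change _ * (q ^ tri (2 * k + m) * PP q (2 * k + m)) =
    q ^ (k * (k + 2 * m)) * _ * (q ^ tri m * PP q m) * _
  rw [← h5]
  ring

end Cfsg.Agent.Helper2.UStab
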