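import Mathlib

set_option autoImplicit false

namespace Cfsg.Agent.Helper2.UPart

open Equiv Equiv.Perm

section general
variable {α : Type*} [Fintype α] [DecidableEq α]

theorem all_eq_of_pow {r : ℕ} (hr : r.Prime) (σ : Perm α) (hσ : σ ^ r = 1) :
    ∀ c ∈ σ.cycleType, c = r := by
  have : Fact r.Prime := ⟨hr⟩
  exact Equiv.Perm.pow_prime_eq_one_iff.mp hσ

theorem card_support_eq {r : ℕ} (hr : r.Prime) (σ : Perm α) (hσ : σ ^ r = 1) :
    σ.support.card = Multiset.card σ.cycleType * r := by
  have h1 := all_eq_of_pow hr σ hσ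
  have h2 : σ.cycleType = Multiset.replicate (Multiset.card σ.cycleType) r :=
    Multiset.eq_replicate_card.mpr h1
  rw [← Equiv.Perm.sum_cycleType]
  conv_lhs => rw [h2]
  rw [Multiset.sum_replicate, smul_eq_mul]

theorem cycleType_eq_replicate {r : ℕ} (hr : r.Prime) (σ : Perm α) (hσ : σ ^ r = 1) :
    σ.cycleType = Multiset.replicate (σ.support.card / r) r := by
  have h1 := all_eq_of_pow hr σ hσ
  have h2 : σ.cycleType = Multiset.replicate (Multiset.card σ.cycleType) r :=
    Multiset.eq_replicate_card.mpr h1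
  rw [card_support_eq hr σ hσ, Nat.mul_div_cancel _ hr.pos]
  exact h2

theorem permCongr_pow {β : Type*} (e : α ≃ β) (σ : Perm α) (k : ℕ) :
    (e.permCongr σ) ^ k = e.permCongr (σ ^ k) := by
  have h := map_pow e.permCongrHom σ k
  rw [Equiv.permCongrHom_coe] at h
  exact h.symm

theorem card_support_permCongr {β : Type*} [Fintype β] [DecidableEq β] (e : α ≃ β)
    (σ : Perm α) : (e.permCongr σ).support.card = σ.support.card := by
  have : (e.permCongr σ).support = σ.support.map e.toEmbedding := by
    ext y
    simp only [Equiv.Perm.mem_support, Finset.mem_map, Equiv.coe_toEmbedding,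
      Equiv.permCongr_apply]
    constructor
    · intro h
      refine ⟨e.symm y, ?_, by simp⟩
      intro h2
      apply h
      rw [h2]; simp
    · rintro ⟨x, hx, rfl⟩
      simpa using hx
  rw [this, Finset.card_map]

theorem exists_equiv_conj {β : Type*} [Fintype β] [DecidableEq β] {r : ℕ} (hr : r.Prime)
    (σ : Perm α) (τ : Perm β) (hσ : σ ^ r = 1) (hτ : τ ^ r = 1)
    (hcard : Fintype.card α = Fintype.card β) (hs : σ.support.card = τ.support.card) :
    ∃ Φ : α ≃ β, ∀ x, Φ (σ x) = τ (Φ x) := by
  obtain ⟨e⟩ : Nonempty (α ≃ β) := Fintype.card_eq.mp hcard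
  have hσ₁ : (e.permCongr σ) ^ r = 1 := by
    rw [permCongr_pow, hσ]
    apply Equiv.Perm.ext
    intro y
    simp
  have hct : (e.permCongr σ).cycleType = τ.cycleType := by
    rw [cycleType_eq_replicate hr _ hσ₁, cycleType_eq_replicate hr _ hτ,
      card_support_permCongr, hs]
  obtain ⟨g, hg⟩ := isConj_iff.mp (Equiv.Perm.isConj_iff_cycleType_eq.mpr hct)
  refine ⟨e.trans g, fun x => ?_⟩
  have h1 : τ (g (e x)) = g (e.permCongr σ (g⁻¹ (g (e x)))) := by
    rw [← hg]; rfl
  rw [Equiv.trans_apply, Equiv.trans_apply, h1]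
  simp [Equiv.permCongr_apply]

theorem exists_distribution {ι : Type*} [DecidableEq ι] (S : Finset ι) (A : ℕ) :
    ∀ N : ℕ, N ≤ S.card * A → ∃ c : ι → ℕ, (∀ j, c j ≤ A) ∧ ∑ j ∈ S, c j = N := by
  induction S using Finset.induction_on with
  | empty =>
    intro N hN
    have : N = 0 := by simpa using hN
    exact ⟨fun _ => 0, fun _ => Nat.zero_le _, by simp [this]⟩
  | insert i S hi ih =>
    intro N hN
    rw [Finset.card_insert_of_notMem hi] at hN
    have hN' : N ≤ S.card * A + A := by
      have : (S.card + 1) * A = S.card * A + A := by ring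
      omega
    obtain ⟨c, hc, hsum⟩ := ih (N - min N A) (by
      rcases le_total N A with h | h
      · rw [min_eq_left h]; omega
      · rw [min_eq_right h]; omega)
    refine ⟨Function.update c i (min N A), ?_, ?_⟩
    · intro j
      by_cases hj : j = i
      · subst hj; simp
      · rw [Function.update_of_ne hj]; exact hc j
    · rw [Finset.sum_insert hi, Function.update_self]
      have : ∑ j ∈ S, Function.update c i (min N A) j = ∑ j ∈ S, c j := by
        apply Finset.sum_congr rfl
        intro j hj
        rw [Function.update_of_ne]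
        rintro rfl; exact hi hj
      rw [this, hsum]
      have : min N A ≤ N := min_le_left _ _
      omega

/-- If `σ` (with `σ ^ r = 1`) permutes the fibres of `f`, all of size `a`, then the support of `σ`
has a restricted size. -/
theorem counts_of_fixes {b a r : ℕ} (hr : r.Prime) (ha : 1 ≤ a) (σ : Perm α) (hσ : σ ^ r = 1)
    (f : α → Fin b) (hf : ∀ j : Fin b, (Finset.univ.filter (fun x => f x = j)).card = a)
    (π : Perm (Fin b)) (hπ : ∀ x, f (σ x) = π (f x)) :
    ∃ t s, t * r ≤ b ∧ s ≤ (b - t * r) * (a / r) ∧ σ.support.card = r * (t * a + s) := by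
  have : Fact r.Prime := ⟨hr⟩
  have hsurj : ∀ j : Fin b, ∃ x, f x = j := by
    intro j
    have hpos : 0 < (Finset.univ.filter (fun x => f x = j)).card := by rw [hf j]; exact ha
    obtain ⟨x, hx⟩ := Finset.card_pos.mp hpos
    exact ⟨x, (Finset.mem_filter.mp hx).2⟩
  have hpowf : ∀ k : ℕ, ∀ x, f ((σ ^ k) x) = (π ^ k) (f x) := by
    intro k
    induction k with
    | zero => intro x; simp
    | succ k ih =>
      intro x
      rw [pow_succ', Equiv.Perm.mul_apply, hπ, ih, pow_succ' π k, Equiv.Perm.mul_apply]
  have hπr : π ^ r = 1 := by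
    apply Equiv.Perm.ext
    intro j
    obtain ⟨x, rfl⟩ := hsurj j
    rw [← hpowf, hσ]; simp
  obtain ⟨t, ht⟩ : ∃ t, t = Multiset.card π.cycleType := ⟨_, rfl⟩
  have hπs : π.support.card = t * r := by rw [ht]; exact card_support_eq hr π hπr
  have htb : t * r ≤ b := by
    rw [← hπs]; simpa using Finset.card_le_univ π.support
  have hfib : ∀ j : Fin b, ∃ cj, cj ≤ a / r ∧
      ((σ.support).filter (fun x => f x = j)).card = if π j = j then cj * r else a := by
    intro j
    by_cases hj : π j = j
    · obtain ⟨T, hTdef⟩ : ∃ T, T = (σ.support).filter (fun x => f x = j) := ⟨_, rfl⟩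
      have hT : ∀ x, σ x ∈ T ↔ x ∈ T := by
        intro x
        simp only [hTdef, Finset.mem_filter, Equiv.Perm.mem_support]
        rw [hπ]
        constructor
        · rintro ⟨h1, h2⟩
          exact ⟨fun h => h1 (congrArg σ h), π.injective (h2.trans hj.symm)⟩
        · rintro ⟨h1, h2⟩
          refine ⟨fun h => h1 (σ.injective h), ?_⟩
          rw [h2, hj]
      have hτ : (σ.subtypePerm hT) ^ r ^ 1 = 1 := by
        rw [pow_one, Equiv.Perm.subtypePerm_pow]
        simp only [hσ]
        exact Equiv.Perm.subtypePerm_one _ _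
      have h1 := Equiv.Perm.card_compl_support_modEq (p := r) (n := 1) hτ
      have h2 : (σ.subtypePerm hT).supportᶜ = ∅ := by
        ext ⟨x, hx⟩
        simp only [Finset.mem_compl, Equiv.Perm.mem_support, not_not, Finset.notMem_empty,
          iff_false]
        intro h
        have hx' : σ x ≠ x := by
          rw [hTdef] at hx
          exact Equiv.Perm.mem_support.mp (Finset.mem_filter.mp hx).1
        apply hx'
        have := congrArg Subtype.val h
        simpa using this
      rw [h2, Finset.card_empty, Fintype.card_coe] at h1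
      have hdvd : r ∣ T.card := Nat.modEq_zero_iff_dvd.mp h1.symm
      obtain ⟨cj, hcj⟩ := hdvd
      have hle : T.card ≤ a := by
        rw [← hf j, hTdef]
        exact Finset.card_le_card (fun x hx => by
          simp only [Finset.mem_filter] at hx
          simp [hx.2])
      refine ⟨cj, ?_, ?_⟩
      · rw [Nat.le_div_iff_mul_le hr.pos]
        rw [hcj] at hle
        rw [mul_comm]; exact hle
      · rw [if_pos hj, ← hTdef, hcj, mul_comm]
    · refine ⟨0, Nat.zero_le _, ?_⟩
      rw [if_neg hj]
      refine Eq.trans ?_ (hf j)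
      congr 1
      ext x
      simp only [Finset.mem_filter, Equiv.Perm.mem_support, Finset.mem_univ, true_and]
      constructor
      · exact fun h => h.2
      · intro h
        refine ⟨fun h2 => hj ?_, h⟩
        rw [← h, ← hπ, h2]
  choose c hcA hcfib using hfib
  refine ⟨t, ∑ j ∈ π.supportᶜ, c j, htb, ?_, ?_⟩
  · calc ∑ j ∈ π.supportᶜ, c j ≤ ∑ j ∈ π.supportᶜ, a / r :=
          Finset.sum_le_sum (fun j _ => hcA j)
      _ = (b - t * r) * (a / r) := by
        rw [Finset.sum_const, smul_eq_mul, Finset.card_compl, hπs, Fintype.card_fin]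
  · rw [Finset.card_eq_sum_card_fiberwise (f := f) (t := Finset.univ)
      (fun _ _ => Finset.mem_coe.mpr (Finset.mem_univ _))]
    simp_rw [hcfib]
    rw [Finset.sum_ite]
    have e1 : Finset.univ.filter (fun j => π j = j) = π.supportᶜ := by
      ext j; simp
    have e2 : Finset.univ.filter (fun j => ¬ π j = j) = π.support := by
      ext j; simp
    rw [e1, e2, ← Finset.sum_mul, Finset.sum_const, smul_eq_mul, hπs]
    ring

end general

/-- A block-permuting model permutation with prescribed support. -/
theorem exists_model (a b r t s : ℕ) (hr : r.Prime) (htb : t * r ≤ b)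
    (hs : s ≤ (b - t * r) * (a / r)) :
    ∃ (τ : Perm (Fin b × Fin a)) (π : Perm (Fin b)), τ ^ r = 1 ∧
      τ.support.card = r * (t * a + s) ∧ ∀ p, (τ p).1 = π p.1 := by
  have : Fact r.Prime := ⟨hr⟩
  obtain ⟨π, hπ⟩ := (Equiv.Perm.exists_with_cycleType_iff (α := Fin b)
    (m := Multiset.replicate t r)).mpr (by
      constructor
      · rw [Multiset.sum_replicate, smul_eq_mul, Fintype.card_fin]; exact htb
      · intro x hx; rw [Multiset.eq_of_mem_replicate hx]; exact hr.two_le)
  have hπr : π ^ r = 1 := by
    rw [Equiv.Perm.pow_prime_eq_one_iff, hπ]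
    intro c hc; exact Multiset.eq_of_mem_replicate hc
  have hπs : π.support.card = t * r := by
    rw [← Equiv.Perm.sum_cycleType, hπ, Multiset.sum_replicate, smul_eq_mul]
  have hSc : (π.supportᶜ).card = b - t * r := by
    rw [Finset.card_compl, hπs, Fintype.card_fin]
  obtain ⟨c, hcA, hcs⟩ := exists_distribution (π.supportᶜ) (a / r) s (by rw [hSc]; exact hs)
  have hρ : ∀ j : Fin b, ∃ ρ : Perm (Fin a), ρ ^ r = 1 ∧ ρ.support.card = c j * r := by
    intro j
    obtain ⟨ρ, hρ⟩ := (Equiv.Perm.exists_with_cycleType_iff (α := Fin a)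
      (m := Multiset.replicate (c j) r)).mpr (by
        constructor
        · rw [Multiset.sum_replicate, smul_eq_mul, Fintype.card_fin]
          exact Nat.mul_le_of_le_div r (c j) a (hcA j)
        · intro x hx; rw [Multiset.eq_of_mem_replicate hx]; exact hr.two_le)
    refine ⟨ρ, ?_, ?_⟩
    · rw [Equiv.Perm.pow_prime_eq_one_iff, hρ]
      intro c hc; exact Multiset.eq_of_mem_replicate hc
    · rw [← Equiv.Perm.sum_cycleType, hρ, Multiset.sum_replicate, smul_eq_mul]
  choose ρ hρr hρs using hρ
  obtain ⟨τ, hτdef⟩ : ∃ τ : Perm (Fin b × Fin a),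
      τ = Equiv.prodShear π (fun j => if π j = j then ρ j else 1) := ⟨_, rfl⟩
  have hτ_apply : ∀ j y, τ (j, y) = (π j, (if π j = j then ρ j else 1) y) := by
    intro j y; rw [hτdef]; rfl
  have hfix : ∀ j, π j = j → ∀ k : ℕ, ∀ y, (τ ^ k) (j, y) = (j, ((ρ j) ^ k) y) := by
    intro j hj k
    induction k with
    | zero => intro y; simp
    | succ k ih =>
      intro y
      rw [pow_succ', Equiv.Perm.mul_apply, ih, hτ_apply, if_pos hj, hj, pow_succ' (ρ j) k,
        Equiv.Perm.mul_apply]
  have hmove : ∀ j, π j ≠ j → ∀ k : ℕ, ∀ y, (τ ^ k) (j, y) = ((π ^ k) j, y) := by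
    intro j hj k
    induction k with
    | zero => intro y; simp
    | succ k ih =>
      intro y
      have hne : π ((π ^ k) j) ≠ (π ^ k) j := by
        intro h
        apply hj
        have h2 : (π ^ k) (π j) = (π ^ k) j := by
          rw [← Equiv.Perm.mul_apply, ← pow_succ, pow_succ', Equiv.Perm.mul_apply]; exact h
        exact (π ^ k).injective h2
      rw [pow_succ', Equiv.Perm.mul_apply, ih, hτ_apply, if_neg hne, pow_succ' π k,
        Equiv.Perm.mul_apply]
      rfl
  have hτr : τ ^ r = 1 := by
    apply Equiv.Perm.ext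
    rintro ⟨j, y⟩
    by_cases hj : π j = j
    · rw [hfix j hj, hρr j]; rfl
    · rw [hmove j hj, hπr]; rfl
  have hfib : ∀ j : Fin b, ((τ.support).filter (fun p => p.1 = j)).card =
      if π j = j then c j * r else a := by
    intro j
    by_cases hj : π j = j
    · rw [if_pos hj, ← hρs j]
      have : (τ.support).filter (fun p => p.1 = j) =
          (ρ j).support.map ⟨fun y => (j, y), fun y1 y2 h => by simpa using h⟩ := by
        ext ⟨j', y⟩
        simp only [Finset.mem_filter, Equiv.Perm.mem_support, Finset.mem_map]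
        constructor
        · rintro ⟨h1, rfl⟩
          refine ⟨y, ?_, rfl⟩
          intro h2
          apply h1
          rw [hτ_apply, if_pos hj, hj, h2]
        · rintro ⟨y', hy', h⟩
          have h' : (j, y') = (j', y) := h
          obtain ⟨rfl, rfl⟩ := Prod.mk.inj h'
          refine ⟨?_, rfl⟩
          rw [hτ_apply, if_pos hj, hj]
          intro h2
          exact hy' (by simpa using h2)
      rw [this, Finset.card_map]
    · rw [if_neg hj]
      have : (τ.support).filter (fun p => p.1 = j) =
          Finset.univ.map ⟨fun y : Fin a => (j, y), fun y1 y2 h => by simpa using h⟩ := by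
        ext ⟨j', y⟩
        simp only [Finset.mem_filter, Equiv.Perm.mem_support, Finset.mem_map, Finset.mem_univ,
          true_and]
        constructor
        · rintro ⟨_, rfl⟩; exact ⟨y, rfl⟩
        · rintro ⟨y', h⟩
          have h' : (j, y') = (j', y) := h
          obtain ⟨rfl, rfl⟩ := Prod.mk.inj h'
          refine ⟨?_, rfl⟩
          rw [hτ_apply]
          intro h2
          exact hj (by simpa using congrArg Prod.fst h2)
      rw [this, Finset.card_map, Finset.card_univ, Fintype.card_fin]
  have hsupp : τ.support.card = r * (t * a + s) := by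
    rw [Finset.card_eq_sum_card_fiberwise (f := Prod.fst) (t := Finset.univ)
      (fun _ _ => Finset.mem_coe.mpr (Finset.mem_univ _))]
    simp_rw [hfib]
    rw [Finset.sum_ite]
    have e1 : Finset.univ.filter (fun j => π j = j) = π.supportᶜ := by
      ext j; simp
    have e2 : Finset.univ.filter (fun j => ¬ π j = j) = π.support := by
      ext j; simp
    rw [e1, e2, ← Finset.sum_mul, hcs, Finset.sum_const, smul_eq_mul, hπs]
    ring
  refine ⟨τ, π, hτr, hsupp, ?_⟩
  rintro ⟨j, y⟩
  rw [hτ_apply]

theorem bridge (a b r : ℕ) (ha : 2 ≤ a) (hr : r.Prime) :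
    (∀ σ : Equiv.Perm (Fin (a * b)), orderOf σ = r →
        ∃ f : Fin (a * b) → Fin b, (∀ j : Fin b, Nat.card {x : Fin (a * b) // f x = j} = a) ∧
          ∃ π : Equiv.Perm (Fin b), ∀ x : Fin (a * b), f (σ x) = π (f x)) ↔
    (∀ j : ℕ, 1 ≤ j → j * r ≤ a * b →
        ∃ t s, t * r ≤ b ∧ s ≤ (b - t * r) * (a / r) ∧ j = t * a + s) := by
  have : Fact r.Prime := ⟨hr⟩
  constructor
  · intro H j hj1 hjr
    obtain ⟨σ, hσ⟩ := (Equiv.Perm.exists_with_cycleType_iff (α := Fin (a * b))
      (m := Multiset.replicate j r)).mpr (by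
        constructor
        · rw [Multiset.sum_replicate, smul_eq_mul, Fintype.card_fin]; exact hjr
        · intro x hx; rw [Multiset.eq_of_mem_replicate hx]; exact hr.two_le)
    have hσr : σ ^ r = 1 := by
      rw [Equiv.Perm.pow_prime_eq_one_iff, hσ]
      intro c hc; exact Multiset.eq_of_mem_replicate hc
    have hσ1 : σ ≠ 1 := by
      intro e
      rw [← Equiv.Perm.cycleType_eq_zero, hσ] at e
      have := congrArg Multiset.card e
      rw [Multiset.card_replicate, Multiset.card_zero] at this
      omega
    have hord : orderOf σ = r := orderOf_eq_prime hσr hσ1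
    obtain ⟨f, hf, π, hπ⟩ := H σ hord
    have hf' : ∀ j : Fin b, (Finset.univ.filter (fun x => f x = j)).card = a := by
      intro j
      have h := hf j
      rw [Nat.card_eq_fintype_card, Fintype.card_subtype] at h
      exact h
    obtain ⟨t, s, h1, h2, h3⟩ := counts_of_fixes hr (by omega) σ hσr f hf' π hπ
    refine ⟨t, s, h1, h2, ?_⟩
    have h4 : σ.support.card = j * r := by
      rw [← Equiv.Perm.sum_cycleType, hσ, Multiset.sum_replicate, smul_eq_mul]
    rw [h4, mul_comm] at h3
    exact Nat.eq_of_mul_eq_mul_left hr.pos h3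
  · intro H σ hord
    have hσr : σ ^ r = 1 := by rw [← hord]; exact pow_orderOf_eq_one σ
    have hσ1 : σ ≠ 1 := by
      intro e; rw [e, orderOf_one] at hord; exact hr.one_lt.ne hord
    have hsc := card_support_eq hr σ hσr
    obtain ⟨j, hj⟩ : ∃ j, j = Multiset.card σ.cycleType := ⟨_, rfl⟩
    rw [← hj] at hsc
    have hj1 : 1 ≤ j := by
      rw [Nat.one_le_iff_ne_zero, hj]
      intro h0
      exact hσ1 (Equiv.Perm.card_cycleType_eq_zero.mp h0)
    have hjr : j * r ≤ a * b := by
      rw [← hsc]; simpa using Finset.card_le_univ σ.support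
    obtain ⟨t, s, h1, h2, h3⟩ := H j hj1 hjr
    obtain ⟨τ, π, hτr, hτs, hτπ⟩ := exists_model a b r t s hr h1 h2
    obtain ⟨Φ, hΦ⟩ := exists_equiv_conj hr σ τ hσr hτr (by simp [mul_comm]) (by
      rw [hsc, hτs, h3]; ring)
    refine ⟨fun x => (Φ x).1, ?_, π, ?_⟩
    · intro j
      have e : {x : Fin (a * b) // (Φ x).1 = j} ≃ Fin a :=
        { toFun := fun x => (Φ x.1).2
          invFun := fun y => ⟨Φ.symm (j, y), by simp⟩
          left_inv := by
            rintro ⟨x, hx⟩
            apply Subtype.ext
            show Φ.symm (j, (Φ x).2) = x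
            have h : (j, (Φ x).2) = Φ x := by rw [← hx]
            rw [h, Equiv.symm_apply_apply]
          right_inv := by intro y; simp }
      rw [Nat.card_congr e, Nat.card_eq_fintype_card, Fintype.card_fin]
    · intro x
      show (Φ (σ x)).1 = π (Φ x).1
      rw [hΦ, hτπ]

end Cfsg.Agent.Helper2.UPart
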