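import Mathlib

set_option autoImplicit false

namespace Cfsg.Agent.Helper2.UPart

theorem P_iff (A ℓ B k r j : ℕ) (hr : 0 < r) (hk : k < r) :
    (∃ t s, t * r ≤ B * r + k ∧ s ≤ (B * r + k - t * r) * A ∧ j = t * (A * r + ℓ) + s) ↔
    (∃ t, t ≤ B ∧ t * (A * r + ℓ) ≤ j ∧ j ≤ (B * r + k) * A + t * ℓ) := by
  constructor
  · rintro ⟨t, s, h1, h2, h3⟩
    have htB : t ≤ B := by
      by_contra hcon
      push Not at hcon
      have h4 : (B + 1) * r ≤ t * r := Nat.mul_le_mul_right r hcon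
      have h5 : (B + 1) * r = B * r + r := by ring
      omega
    refine ⟨t, htB, by omega, ?_⟩
    obtain ⟨d, rfl⟩ := Nat.exists_eq_add_of_le htB
    have e1 : (t + d) * r + k - t * r = d * r + k := by
      have : (t + d) * r = t * r + d * r := by ring
      omega
    rw [e1] at h2
    rw [h3]
    nlinarith [h2]
  · rintro ⟨t, h1, h2, h3⟩
    refine ⟨t, j - t * (A * r + ℓ), ?_, ?_, by omega⟩
    · calc t * r ≤ B * r := Nat.mul_le_mul_right r h1
        _ ≤ B * r + k := Nat.le_add_right _ _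
    · obtain ⟨d, rfl⟩ := Nat.exists_eq_add_of_le h1
      have e1 : (t + d) * r + k - t * r = d * r + k := by
        have : (t + d) * r = t * r + d * r := by ring
        omega
      rw [e1]
      have e2 : ((t + d) * r + k) * A + t * ℓ = t * (A * r + ℓ) + (d * r + k) * A := by ring
      omega

theorem arith (A ℓ B k r : ℕ) (hr : 2 ≤ r) (hℓ : ℓ < r) (hk : k < r)
    (ha : 2 ≤ A * r + ℓ) (hrab : r ≤ (A * r + ℓ) * (B * r + k)) :
    (∀ j : ℕ, 1 ≤ j → j * r ≤ (A * r + ℓ) * (B * r + k) →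
        ∃ t s, t * r ≤ B * r + k ∧ s ≤ (B * r + k - t * r) * A ∧ j = t * (A * r + ℓ) + s) ↔
    (1 ≤ A ∧ k * ℓ < r ∧ (B = 0 ∨ ℓ ≤ k * A + 1)) := by
  have hab : (A * r + ℓ) * (B * r + k) = r * ((B * r + k) * A + B * ℓ) + k * ℓ := by ring
  constructor
  · intro H
    have H' : ∀ j, 1 ≤ j → j * r ≤ (A * r + ℓ) * (B * r + k) →
        ∃ t, t ≤ B ∧ t * (A * r + ℓ) ≤ j ∧ j ≤ (B * r + k) * A + t * ℓ :=
      fun j h1 h2 => (P_iff A ℓ B k r j (by omega) hk).mp (H j h1 h2)
    refine ⟨?_, ?_, ?_⟩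
    · by_contra hA
      have hA0 : A = 0 := by omega
      subst hA0
      obtain ⟨t, h1, h2, h3⟩ := H' 1 le_rfl (by rw [one_mul]; exact hrab)
      simp only [zero_mul, zero_add, mul_zero] at h2 h3 ha
      have h4 : t * ℓ = 1 := by omega
      have h5 : ℓ ∣ 1 := ⟨t, by rw [mul_comm]; exact h4.symm⟩
      have h6 := Nat.dvd_one.mp h5
      omega
    · by_contra hcon
      push Not at hcon
      obtain ⟨t, h1, h2, h3⟩ := H' ((B * r + k) * A + B * ℓ + 1) (by omega)
        (by rw [hab]; nlinarith [hcon])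
      have h4 : t * ℓ ≤ B * ℓ := Nat.mul_le_mul_right ℓ h1
      omega
    · by_contra hcon
      push Not at hcon
      obtain ⟨hB, hℓ2⟩ := hcon
      obtain ⟨B', rfl⟩ : ∃ B', B = B' + 1 := ⟨B - 1, by omega⟩
      have hrl : r ≤ r * ℓ := Nat.le_mul_of_pos_right r (by omega)
      obtain ⟨t, h1, h2, h3⟩ := H' (((B' + 1) * r + k) * A + B' * ℓ + 1) (by omega)
        (by rw [hab]; nlinarith [hrl, Nat.zero_le (k * ℓ)])
      rcases Nat.lt_or_ge t (B' + 1) with hlt | hge
      · have h4 : t * ℓ ≤ B' * ℓ := Nat.mul_le_mul_right ℓ (by omega)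
        omega
      · have ht : t = B' + 1 := by omega
        subst ht
        nlinarith [h2, hℓ2]
  · rintro ⟨hA, hkl, hBℓ⟩ j hj1 hjr
    rw [P_iff A ℓ B k r j (by omega) hk]
    have hjle : j ≤ (B * r + k) * A + B * ℓ := by
      by_contra hcon
      push Not at hcon
      have h4 : ((B * r + k) * A + B * ℓ + 1) * r ≤ j * r := Nat.mul_le_mul_right r hcon
      rw [hab] at hjr
      nlinarith [h4, hjr, hkl]
    have hex : ∃ t, j ≤ (B * r + k) * A + t * ℓ := ⟨B, hjle⟩
    classical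
    have ht1 := Nat.find_spec hex
    have htB := Nat.find_min' hex hjle
    have hmin : ∀ m, m < Nat.find hex → ¬ (j ≤ (B * r + k) * A + m * ℓ) :=
      fun m hm => Nat.find_min hex hm
    generalize Nat.find hex = t at ht1 htB hmin
    refine ⟨t, htB, ?_, ht1⟩
    rcases Nat.eq_zero_or_pos t with h0 | hpos
    · rw [h0]; simp
    · obtain ⟨t', rfl⟩ : ∃ t', t = t' + 1 := ⟨t - 1, by omega⟩
      have hm := hmin t' (by omega)
      push Not at hm
      have hrA : r ≤ r * A := Nat.le_mul_of_pos_right r hA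
      rcases Nat.lt_or_ge (t' + 1) B with hlt | hge
      · obtain ⟨e, rfl⟩ := Nat.exists_eq_add_of_lt hlt
        nlinarith [hm, hrA, hℓ, Nat.zero_le (e * r * A), Nat.zero_le (k * A)]
      · have hBt : B = t' + 1 := by omega
        have hℓ' : ℓ ≤ k * A + 1 := by
          rcases hBℓ with h | h
          · omega
          · exact h
        subst hBt
        nlinarith [hm, hℓ']

theorem rhs_iff (a b r : ℕ) (ha : 2 ≤ a) (hb : 2 ≤ b) (hr : 2 ≤ r) :
    (r ≤ a ∧ (a % r = 0 ∨ (b % r = 0 ∧ a % r = 1) ∨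
        (a % r ≠ 0 ∧ b % r ≠ 0 ∧ (b % r) * (a % r) < r ∧
          (b < r ∨ (b % r + r) * (a % r) ≤ (b % r) * a + r)))) ↔
    (1 ≤ a / r ∧ (b % r) * (a % r) < r ∧ (b / r = 0 ∨ a % r ≤ (b % r) * (a / r) + 1)) := by
  have hA := Nat.div_add_mod a r
  have hB := Nat.div_add_mod b r
  have hℓ := Nat.mod_lt a (show 0 < r by omega)
  have hk := Nat.mod_lt b (show 0 < r by omega)
  generalize a / r = A at *
  generalize a % r = ℓ at *
  generalize b / r = B at *
  generalize b % r = k at *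
  subst hA hB
  have e1 : r ≤ r * A + ℓ ↔ 1 ≤ A := by
    constructor
    · intro h
      by_contra hcon
      have : A = 0 := by omega
      subst this
      omega
    · intro h
      have : r ≤ r * A := Nat.le_mul_of_pos_right r h
      omega
  have e2 : r * B + k < r ↔ B = 0 := by
    constructor
    · intro h
      by_contra hcon
      have : r ≤ r * B := Nat.le_mul_of_pos_right r (Nat.pos_of_ne_zero hcon)
      omega
    · intro h
      subst h
      omega
  have e3 : (k + r) * ℓ ≤ k * (r * A + ℓ) + r ↔ ℓ ≤ k * A + 1 := by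
    constructor
    · intro h
      by_contra hcon
      push Not at hcon
      have h2 : r * (k * A + 2) ≤ r * ℓ := Nat.mul_le_mul_left r hcon
      nlinarith [h, h2]
    · intro h
      have h2 : r * ℓ ≤ r * (k * A + 1) := Nat.mul_le_mul_left r h
      nlinarith [h2]
  rw [e1, e2, e3]
  constructor
  · rintro ⟨hA1, h | ⟨h1, h2⟩ | ⟨h1, h2, h3, h4⟩⟩
    · subst h
      refine ⟨hA1, by simpa using (show 0 < r by omega), Or.inr (Nat.zero_le _)⟩
    · subst h1 h2
      refine ⟨hA1, by simpa using (show 0 < r by omega), Or.inr (by simp)⟩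
    · exact ⟨hA1, h3, h4⟩
  · rintro ⟨hA1, h3, h4⟩
    refine ⟨hA1, ?_⟩
    by_cases hℓ0 : ℓ = 0
    · exact Or.inl hℓ0
    · by_cases hk0 : k = 0
      · subst hk0
        right; left
        refine ⟨rfl, ?_⟩
        rcases h4 with h | h
        · subst h
          omega
        · simp at h
          omega
      · right; right
        exact ⟨hℓ0, hk0, h3, h4⟩

theorem fact_dvd (a : ℕ) (ha : 1 ≤ a) :
    ∀ b : ℕ, a.factorial ^ b * b.factorial ∣ (a * b).factorial := by
  intro b
  induction b with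
  | zero => simp
  | succ b ih =>
    obtain ⟨a', rfl⟩ : ∃ a', a = a' + 1 := ⟨a - 1, by omega⟩
    have h1 := Nat.add_one_mul_choose_eq ((a' + 1) * b + a') a'
    have h2 : ((a' + 1) * b + a' + 1).choose (a' + 1) =
        (b + 1) * ((a' + 1) * b + a').choose a' := by
      apply Nat.eq_of_mul_eq_mul_right (show 0 < a' + 1 by omega)
      rw [← h1]; ring
    have h5 := Nat.add_choose_mul_factorial_mul_factorial ((a' + 1) * b) (a' + 1)
    have e : (a' + 1) * b + (a' + 1) = (a' + 1) * b + a' + 1 := by ring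
    rw [e] at h5
    have h6 : (a' + 1) * (b + 1) = (a' + 1) * b + a' + 1 := by ring
    obtain ⟨m, hm⟩ := ih
    refine ⟨m * ((a' + 1) * b + a').choose a', ?_⟩
    rw [h6, ← h5, h2, hm, pow_succ, Nat.factorial_succ b]
    ring

theorem le_of_dvd_count (a b r : ℕ) (ha : 1 ≤ a) (hr : r.Prime)
    (hrd : r ∣ (a * b).factorial / (a.factorial ^ b * b.factorial)) : r ≤ a * b := by
  obtain ⟨N, hN⟩ := fact_dvd a ha b
  have hpos : 0 < a.factorial ^ b * b.factorial :=
    Nat.mul_pos (pow_pos (Nat.factorial_pos a) b) (Nat.factorial_pos b)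
  rw [hN, Nat.mul_div_cancel_left _ hpos] at hrd
  have : r ∣ (a * b).factorial := by rw [hN]; exact dvd_mul_of_dvd_right hrd _
  exact hr.dvd_factorial.mp this

end Cfsg.Agent.Helper2.UPart
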