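import Mathlib
import Cfsg.Agent.Helper26.WEDefs

set_option autoImplicit false

/-! S5271 piece EXT: if `Aut_F(E C_S(E))` is a `p`-group and `E` is receptive then `Aut_F(E)` is
a `p`-group. -/

namespace Cfsg.Agent.S5271P

open Cfsg Cfsg.FusionSystem Cfsg.Agent.Helper25 Cfsg.Agent.Helper26.MasterRed

theorem ext {Ω : Type*} [Group Ω] {S : Subgroup Ω} [Finite S] (p : ℕ) [Fact p.Prime]
    (F : FusionSystem S) (hR1 : R1Concl p F) {E : Subgroup Ω} (hErec : F.IsReceptive E)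
    (hbig : IsPGroup p (F.autGroup (E ⊔ centralizerIn S E))) : IsPGroup p (F.autGroup E) := by
  have hES : E ≤ S := hErec.1
  have hCN : centralizerIn S E ≤ Subgroup.normalizer (E : Set Ω) :=
    fun c hc => Subgroup.centralizer_le_normalizer _ hc.2
  have hVN : E ⊔ centralizerIn S E ≤ normalizerIn S E := by
    apply sup_le
    · intro x hx
      exact ⟨hES hx, Subgroup.le_normalizer hx⟩
    · intro c hc
      exact ⟨hc.1, hCN hc⟩
  intro g
  obtain ⟨α, hα⟩ := g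
  have hnorm : ∀ v ∈ E ⊔ centralizerIn S E, ∃ w ∈ E ⊔ centralizerIn S E,
      ∀ (x : E) (hx : v * (x : Ω) * v⁻¹ ∈ E),
        ((α ⟨v * (x : Ω) * v⁻¹, hx⟩ : E) : Ω) = w * ((α x : E) : Ω) * w⁻¹ := by
    intro v hv
    have hv' : v ∈ ((E ⊔ centralizerIn S E : Subgroup Ω) : Set Ω) := hv
    rw [Subgroup.coe_mul_of_right_le_normalizer_left E (centralizerIn S E) hCN] at hv'
    obtain ⟨e, he, c, hc, rfl⟩ := hv'
    refine ⟨((α ⟨e, he⟩ : E) : Ω), (le_sup_left : E ≤ E ⊔ centralizerIn S E) (α ⟨e, he⟩).2, ?_⟩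
    intro x hx
    have hc2 : c ∈ Subgroup.centralizer (E : Set Ω) := hc.2
    have hcx : c * (x : Ω) * c⁻¹ = (x : Ω) := by
      have := (Subgroup.mem_centralizer_iff.mp hc2) (x : Ω) x.2
      rw [← this, mul_inv_cancel_right]
    have h1 : (⟨e * c * (x : Ω) * (e * c)⁻¹, hx⟩ : E) = ⟨e, he⟩ * x * (⟨e, he⟩ : E)⁻¹ := by
      apply Subtype.ext
      show e * c * (x : Ω) * (e * c)⁻¹ = e * (x : Ω) * e⁻¹
      have h2 : e * c * (x : Ω) * (e * c)⁻¹ = e * (c * (x : Ω) * c⁻¹) * e⁻¹ := by group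
      rw [h2, hcx]
    rw [h1, map_mul, map_mul, map_inv]
    rfl
  obtain ⟨k, hk⟩ := hR1 E (E ⊔ centralizerIn S E) hErec le_sup_left le_sup_right hVN hbig α hα hnorm
  refine ⟨k, ?_⟩
  apply Subtype.ext
  rw [Subgroup.coe_pow]
  exact hk

end Cfsg.Agent.S5271P
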