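import Mathlib
import Cfsg.Agent.Helper26.WEDefs

set_option autoImplicit false

/-! S5271 piece FWD: an inner system on a `p`-group of order at least `p²` satisfies the
criterion with `D` any subgroup of index `p`. -/

namespace Cfsg.Agent.S5271P

open Cfsg Cfsg.FusionSystem Cfsg.Agent.Helper25 Cfsg.Agent.Helper26.MasterRed

namespace FWD

/-- a subgroup of index `p` of a group of order `p ^ (k + 1)` is normal -/
theorem le_normalizer_of_card {Ω : Type*} [Group Ω] {S : Subgroup Ω} [Finite S] (p : ℕ)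
    [hp : Fact p.Prime] {k : ℕ} (hSc : Nat.card S = p ^ (k + 1)) {Q : Subgroup Ω} (hQS : Q ≤ S)
    (hQc : Nat.card Q = p ^ k) : S ≤ Subgroup.normalizer (Q : Set Ω) := by
  have h1 : Nat.card (Q.subgroupOf S) = p ^ k := by
    rw [← hQc]
    exact Nat.card_congr (Subgroup.subgroupOfEquivOfLe hQS).toEquiv
  have h2 := Subgroup.card_mul_index (Q.subgroupOf S)
  rw [h1, hSc, pow_succ] at h2
  have hpk : 0 < p ^ k := pow_pos hp.out.pos k
  have h3 : (Q.subgroupOf S).index = p := Nat.eq_of_mul_eq_mul_left hpk h2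
  have h4 : (Q.subgroupOf S).Normal := by
    apply Subgroup.normal_of_index_eq_minFac_card
    rw [h3, hSc, Nat.Prime.pow_minFac hp.out (Nat.succ_ne_zero k)]
  intro g hg
  rw [Subgroup.mem_normalizer_iff]
  intro x
  constructor
  · intro hx
    have := h4.conj_mem ⟨x, hQS hx⟩ (Subgroup.mem_subgroupOf.mpr hx) ⟨g, hg⟩
    exact Subgroup.mem_subgroupOf.mp this
  · intro hx
    have hxS : x ∈ S := by
      have := S.mul_mem (S.mul_mem (S.inv_mem hg) (hQS hx)) hg
      simpa [mul_assoc] using this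
    have := h4.conj_mem ⟨g * x * g⁻¹, hQS hx⟩ (Subgroup.mem_subgroupOf.mpr hx) ⟨g, hg⟩⁻¹
    have h5 := Subgroup.mem_subgroupOf.mp this
    simpa [mul_assoc] using h5

/-- in an inner system, `S`-normal subgroups are strongly closed -/
theorem stronglyClosed_of_normal {Ω : Type*} [Group Ω] {S : Subgroup Ω} (F : FusionSystem S)
    (hin : Inner F) {Q : Subgroup Ω} (hQS : Q ≤ S)
    (hN : S ≤ Subgroup.normalizer (Q : Set Ω)) : F.StronglyClosed Q := by
  refine ⟨hQS, ?_⟩
  intro R hRQ φ hφ x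
  obtain ⟨g, hg, hgx⟩ := hin R φ hφ
  rw [hgx x]
  exact ((Subgroup.mem_normalizer_iff.mp (hN hg)) (x : Ω)).mp (hRQ x.2)

end FWD

theorem fwd {Ω : Type*} [Group Ω] {S : Subgroup Ω} [Finite S] (p : ℕ) [Fact p.Prime]
    (hS : IsPGroup p S) (F : FusionSystem S) (hcard : p ^ 2 ≤ Nat.card S) (hin : Inner F) :
    ∃ D : Subgroup Ω, ⊥ < D ∧ D < S ∧ WE F (Nat.card D) ∧ NI F (Nat.card D) := by
  have hp : p.Prime := Fact.out
  obtain ⟨n, hn⟩ := IsPGroup.exists_card_eq hS
  have hn2 : 2 ≤ n := by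
    rw [hn] at hcard
    exact (Nat.pow_le_pow_iff_right hp.one_lt).mp hcard
  obtain ⟨k, rfl⟩ : ∃ k, n = k + 1 := ⟨n - 1, by omega⟩
  have hk1 : 1 ≤ k := by omega
  obtain ⟨D', hD'⟩ := Sylow.exists_subgroup_card_pow_prime (G := S) p (n := k)
    (by rw [hn]; exact pow_dvd_pow p (Nat.le_succ k))
  have hDc : Nat.card (D'.map S.subtype) = p ^ k := by
    rw [Subgroup.card_map_of_injective S.subtype_injective, hD']
  have hDS : D'.map S.subtype ≤ S := Subgroup.map_subtype_le D'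
  have hfinD : Finite (D'.map S.subtype) := Finite.of_injective (Subgroup.inclusion hDS)
    (Subgroup.inclusion_injective _)
  refine ⟨D'.map S.subtype, ?_, ?_, ?_, ?_⟩
  · rw [bot_lt_iff_ne_bot]
    intro hbot
    rw [hbot, Subgroup.card_bot] at hDc
    have : 1 < p ^ k := Nat.one_lt_pow (by omega) hp.one_lt
    omega
  · refine lt_of_le_of_ne hDS ?_
    intro heq
    rw [heq, hn] at hDc
    have : p ^ k < p ^ (k + 1) := Nat.pow_lt_pow_right hp.one_lt (Nat.lt_succ_self k)
    omega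
  · rw [hDc]
    intro Q hQS hQc
    have hN := FWD.le_normalizer_of_card p hn hQS hQc
    have hsc := FWD.stronglyClosed_of_normal F hin hQS hN
    refine ⟨Q, hsc, ?_, ?_⟩
    · rw [sup_idem]; exact hsc
    · rw [inf_idem]; exact hsc
  · rw [hDc]
    intro H hH hHc
    have hN := FWD.le_normalizer_of_card p hn hH.1 hHc
    intro P φ hφ
    obtain ⟨g, hg, hgx⟩ := hin P φ hφ.1
    exact ⟨g, ⟨hg, hN hg⟩, hgx⟩

end Cfsg.Agent.S5271P
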