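import Mathlib
import Cfsg.Agent.Helper26.WEDefs

set_option autoImplicit false

/-! S5271 piece XM: inner normalizer system of a strongly closed subgroup gives inner modulo it. -/

namespace Cfsg.Agent.S5271P

open Cfsg Cfsg.FusionSystem Cfsg.Agent.Helper25 Cfsg.Agent.Helper26.MasterRed

theorem xm {Ω : Type*} [Group Ω] {S : Subgroup Ω} [Finite S] (F : FusionSystem S)
    {X : Subgroup Ω} (hX : F.StronglyClosed X) (h : NInner F X) : InnerMod F X := by
  intro P hXP φ hφ
  have hPS : P ≤ S := (F.le_of_mem hφ).1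
  have hSN : S ≤ Subgroup.normalizer (X : Set Ω) :=
    Cfsg.Agent.Helper25.le_normalizer_of_stronglyClosed F hX
  have hfinX : Finite X := Finite.of_injective (Subgroup.inclusion hX.1)
    (Subgroup.inclusion_injective _)
  have hPN : P ≤ normalizerIn S X := fun x hx => ⟨hPS hx, hSN (hPS hx)⟩
  have hval : ∀ x : P, φ x ∈ normalizerIn S X := fun x =>
    ⟨(F.le_of_mem hφ).2 x, hSN ((F.le_of_mem hφ).2 x)⟩
  have hle : (X.subgroupOf P).map φ ≤ X := by
    rintro _ ⟨x, hx, rfl⟩
    have h1 := restrict_mem F hXP hφ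
    exact hX.2 X le_rfl _ h1 ⟨(x : Ω), hx⟩
  have hmap : (X.subgroupOf P).map φ = X :=
    map_eq_of_map_le (F.injective_of_mem hφ) hle hXP
  have hmem := mem_normalizerHom_of_le F hXP hφ hPN hval hmap
  obtain ⟨g, hg, hgx⟩ := h P φ hmem
  refine ⟨g, hg.1, fun x => ?_⟩
  rw [hgx x, mul_inv_cancel]
  exact X.one_mem

end Cfsg.Agent.S5271P
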