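import Mathlib
import Cfsg.Agent.Helper2.Zassenhaus

/-! Zassenhaus groups of odd degree are simple. -/

set_option autoImplicit false
set_option linter.unusedSectionVars false
set_option linter.unusedVariables false

namespace Cfsg.Agent.Helper2.Zass

open MulAction

variable {G Ω : Type*} [Group G] [MulAction G Ω]

/-- an involution of a group acting on a set of odd size in which non-identity elements fix at most
two points has a unique fixed point -/
theorem involution_unique_fix [Fintype Ω] (hodd : Odd (Fintype.card Ω))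
    (h3 : ∀ g : G, ∀ a b c : Ω, a ≠ b → b ≠ c → a ≠ c → g • a = a → g • b = b → g • c = c → g = 1)
    (u : G) (hu : u * u = 1) (hu1 : u ≠ 1) :
    ∃ p : Ω, u • p = p ∧ ∀ x : Ω, u • x = x → x = p := by
  classical
  set σ : Equiv.Perm Ω := MulAction.toPerm u with hσ
  have hσ2 : σ ^ 2 ^ 1 = 1 := by
    rw [pow_one, sq, hσ, ← MulAction.toPermHom_apply, ← map_mul, hu, map_one]
  have : Fact (Nat.Prime 2) := ⟨Nat.prime_two⟩
  have hmod := Equiv.Perm.card_compl_support_modEq hσ2
  have hmem : ∀ x, x ∈ σ.supportᶜ ↔ u • x = x := by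
    intro x
    rw [Finset.mem_compl, Equiv.Perm.notMem_support]
    rfl
  have hoddS : σ.supportᶜ.card % 2 = 1 := by
    rw [hmod, ← Nat.odd_iff]; exact hodd
  have hle : σ.supportᶜ.card ≤ 2 := by
    by_contra hlt
    push Not at hlt
    obtain ⟨a, ha, b, hb, c, hc, hab, hac, hbc⟩ := Finset.two_lt_card.mp hlt
    rw [hmem] at ha hb hc
    exact hu1 (h3 u a b c hab hbc hac ha hb hc)
  have h1 : σ.supportᶜ.card = 1 := by omega
  obtain ⟨p, hp⟩ := Finset.card_eq_one.mp h1
  refine ⟨p, ?_, ?_⟩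
  · rw [← hmem, hp]; exact Finset.mem_singleton_self p
  · intro x hx
    rw [← hmem, hp, Finset.mem_singleton] at hx
    exact hx

theorem pow_swap {ν : G} {a b : Ω} (hνa : ν • a = b) (hνb : ν • b = a) (k : ℕ) :
    (ν ^ (2 * k)) • a = a ∧ (ν ^ (2 * k)) • b = b ∧ (ν ^ (2 * k + 1)) • a = b ∧
      (ν ^ (2 * k + 1)) • b = a := by
  have h2a : (ν ^ 2) • a = a := by rw [sq, mul_smul, hνa, hνb]
  have h2b : (ν ^ 2) • b = b := by rw [sq, mul_smul, hνb, hνa]
  have hka : ∀ k : ℕ, (ν ^ (2 * k)) • a = a := by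
    intro k
    induction k with
    | zero => simp
    | succ k ih => rw [mul_add, mul_one, pow_add, mul_smul, h2a, ih]
  have hkb : ∀ k : ℕ, (ν ^ (2 * k)) • b = b := by
    intro k
    induction k with
    | zero => simp
    | succ k ih => rw [mul_add, mul_one, pow_add, mul_smul, h2b, ih]
  refine ⟨hka k, hkb k, ?_, ?_⟩
  · rw [pow_succ, mul_smul, hνa, hkb]
  · rw [pow_succ, mul_smul, hνb, hka]

/-- a Zassenhaus group of odd degree is simple -/
theorem isSimpleGroup_of_odd [Fintype Ω] (hZ : Cfsg.IsZassenhausGroup G Ω)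
    (hodd : Odd (Fintype.card Ω)) : IsSimpleGroup G := by
  classical
  have hZ' := hZ
  obtain ⟨hf, h2, h3, ⟨g₀, hg₀, a, b, hab, hfa, hfb⟩, hreg⟩ := hZ
  have hfin : Finite G := finite_of_faithful (G := G) (Ω := Ω)
  have hnt : Nontrivial G := ⟨⟨g₀, 1, hg₀⟩⟩
  refine { exists_pair_ne := hnt.exists_pair_ne, eq_bot_or_eq_top_of_normal := ?_ }
  intro N hNn
  by_cases hN : N = ⊥
  · exact Or.inl hN
  right
  have h2N : ∀ {a b c d : Ω}, a ≠ b → c ≠ d → ∃ g : N, g • a = c ∧ g • b = d :=
    is_two_pretransitive_iff.mp (two_pretransitive_of_normal hZ' N hN)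
  set H : Subgroup G := stabilizer G a ⊓ stabilizer G b with hH
  have hHmem : ∀ x : G, x ∈ H ↔ x • a = a ∧ x • b = b := by
    intro x
    rw [hH, Subgroup.mem_inf, mem_stabilizer_iff, mem_stabilizer_iff]
  -- `H` has odd order
  have hHodd : Odd (Nat.card H) := by
    by_contra hev
    rw [Nat.not_odd_iff_even] at hev
    have : Fact (Nat.Prime 2) := ⟨Nat.prime_two⟩
    obtain ⟨u, hu⟩ := exists_prime_orderOf_dvd_card' (G := H) 2 hev.two_dvd
    have hu2 : (u : G) * (u : G) = 1 := by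
      have : u ^ 2 = 1 := by rw [← hu]; exact pow_orderOf_eq_one u
      rw [← sq]
      exact_mod_cast congrArg Subtype.val this
    have hu1 : (u : G) ≠ 1 := by
      intro h
      have : u = 1 := Subtype.ext h
      rw [this, orderOf_one] at hu
      norm_num at hu
    obtain ⟨p, -, hp⟩ := involution_unique_fix hodd h3 (u : G) hu2 hu1
    have := (hHmem u).mp u.2
    exact hab ((hp a this.1).trans (hp b this.2).symm)
  -- an involution in `N` interchanging `a` and `b`
  obtain ⟨ν, hνa, hνb⟩ := h2N hab hab.symm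
  have hν2 : (ν : G) ^ 2 ∈ H := by
    rw [hHmem, sq, mul_smul, mul_smul]
    change ν • ν • a = a ∧ ν • ν • b = b
    rw [hνa, hνb, hνa]
    exact ⟨rfl, rfl⟩
  set m := orderOf ((ν : G) ^ 2) with hm
  have hmodd : Odd m := by
    have h1 : orderOf (⟨(ν : G) ^ 2, hν2⟩ : H) = m := Subgroup.orderOf_mk _ _
    have h2 : m ∣ Nat.card H := by rw [← h1]; exact orderOf_dvd_natCard _
    exact hHodd.of_dvd_nat h2
  obtain ⟨k, hk⟩ := hmodd
  set t : G := (ν : G) ^ m with ht
  have htN : t ∈ N := N.pow_mem ν.2 m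
  have htt : t * t = 1 := by
    rw [ht, ← pow_add, ← two_mul, pow_mul, hm, pow_orderOf_eq_one]
  have hsw := pow_swap (ν := (ν : G)) (a := a) (b := b) hνa hνb k
  have hta : t • a = b := by rw [ht, hk]; exact hsw.2.2.1
  have htb : t • b = a := by rw [ht, hk]; exact hsw.2.2.2
  have ht1 : t ≠ 1 := by
    intro h
    rw [h, one_smul] at hta
    exact hab hta
  have htinv : t⁻¹ = t := inv_eq_of_mul_eq_one_left htt
  obtain ⟨p, hpfix, hpuniq⟩ := involution_unique_fix hodd h3 t htt ht1
  have hpa : p ≠ a := by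
    rintro rfl
    exact hab (hpfix.symm.trans hta)
  have hpb : p ≠ b := by
    rintro rfl
    exact hab (htb.symm.trans hpfix)
  -- the map `h ↦ t h t h⁻¹` on `H`
  have hφmem : ∀ h : H, t * (h : G) * t * (h : G)⁻¹ ∈ H := by
    intro h
    have hh := (hHmem h).mp h.2
    have hhi : (h : G)⁻¹ • a = a ∧ (h : G)⁻¹ • b = b := by
      rw [inv_smul_eq_iff, inv_smul_eq_iff, hh.1, hh.2]; exact ⟨rfl, rfl⟩
    rw [hHmem]
    constructor
    · rw [mul_smul, mul_smul, mul_smul, hhi.1, hta, hh.2, htb]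
    · rw [mul_smul, mul_smul, mul_smul, hhi.2, htb, hh.1, hta]
  let φ : H → H := fun h => ⟨t * (h : G) * t * (h : G)⁻¹, hφmem h⟩
  have hφinj : Function.Injective φ := by
    intro h h' hhh
    have e1 : t * (h : G) * t * (h : G)⁻¹ = t * (h' : G) * t * (h' : G)⁻¹ :=
      congrArg Subtype.val hhh
    set c : G := (h' : G)⁻¹ * (h : G) with hc
    have hct : c * t = t * c := by
      have e2 : (h : G) * t * (h : G)⁻¹ = (h' : G) * t * (h' : G)⁻¹ := by
        have := congrArg (fun z => t⁻¹ * z) e1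
        simpa [mul_assoc] using this
      have e3 : c * t = (h' : G)⁻¹ * ((h : G) * t * (h : G)⁻¹) * (h : G) := by rw [hc]; group
      rw [e3, e2, hc]; group
    have hcp : c • p = p := by
      apply hpuniq
      rw [← mul_smul, ← hct, mul_smul, hpfix]
    have hcH : c ∈ H := H.mul_mem (H.inv_mem h'.2) h.2
    have hcab := (hHmem c).mp hcH
    have hc1 : c = 1 := h3 c a b p hab hpb.symm hpa.symm hcab.1 hcab.2 hcp
    apply Subtype.ext
    have : (h : G) = (h' : G) * c := by rw [hc]; group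
    rw [this, hc1, mul_one]
  have hφsurj : Function.Surjective φ := Finite.injective_iff_surjective.mp hφinj
  have hHN : H ≤ N := by
    intro h hh
    obtain ⟨h₀, hh₀⟩ := hφsurj ⟨h, hh⟩
    have e : h = t * ((h₀ : G) * t * (h₀ : G)⁻¹) := by
      have := congrArg Subtype.val hh₀
      change t * (h₀ : G) * t * (h₀ : G)⁻¹ = h at this
      rw [← this]; group
    rw [e]
    exact N.mul_mem htN (hNn.conj_mem t htN _)
  rw [Subgroup.eq_top_iff']
  intro g
  have hgab : g • a ≠ g • b := fun h => hab (smul_left_cancel g h)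
  obtain ⟨ν', hν'a, hν'b⟩ := h2N hab hgab
  have hmemH : (ν' : G)⁻¹ * g ∈ H := by
    rw [hHmem, mul_smul, mul_smul, inv_smul_eq_iff, inv_smul_eq_iff]
    exact ⟨hν'a.symm, hν'b.symm⟩
  have : g = (ν' : G) * ((ν' : G)⁻¹ * g) := by group
  rw [this]
  exact N.mul_mem ν'.2 (hHN hmemH)

end Cfsg.Agent.Helper2.Zass
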